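import Cfsg.Agent.H27.SL2c
import Cfsg.Agent.H4.Integral
import Cfsg.Prelude.Def_DegreeGraph

/-! Character degrees of `SL₂(q)` and `PSL₂(q)`. -/

set_option autoImplicit false
set_option linter.dupNamespace false
set_option linter.style.haveILetI false

namespace Cfsg.Agent.H7.Pd

open Matrix Cfsg.Agent.H27 Cfsg.Agent.H4 Cfsg.Agent.H5
open scoped MatrixGroups

theorem mem_charDegrees_of_surj {G H : Type*} [Group G] [Group H] (f : G →* H)
    (hf : Function.Surjective f) {d : ℕ} (h : d ∈ charDegrees H) : d ∈ charDegrees G := by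
  obtain ⟨χ, rfl⟩ := h
  exact ⟨⟨_, χ.2.comp_of_surjective f hf⟩, by simp [charDegree]⟩

theorem exists_pow_four_ne {A : Type*} [Group A] [Finite A] [IsCyclic A] (h : ¬ Nat.card A ∣ 4) :
    ∃ a : A, a ^ 4 ≠ 1 := by
  obtain ⟨g, hg⟩ := IsCyclic.exists_ofOrder_eq_natCard (α := A)
  exact ⟨g, fun h1 => h (hg ▸ orderOf_dvd_of_pow_eq_one h1)⟩

variable {F : Type*} [Field F] [Finite F]

theorem sl_cases {d : ℕ} (h : d ∈ charDegrees SL(2, F)) :
    d = 1 ∨ d = Nat.card F ∨ d = Nat.card F + 1 ∨ d + 1 = Nat.card F ∨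
      ((2 : F) ≠ 0 ∧ (2 * d = Nat.card F + 1 ∨ 2 * d + 1 = Nat.card F)) := by
  haveI := Fintype.ofFinite (G2 F)
  haveI := Fintype.ofFinite SL(2, F)
  obtain ⟨e, he⟩ := exists_ell F
  obtain ⟨χ, rfl⟩ := h
  have hd := χ.2.isCharacter.charDegree_cast
  rcases sl_irr_cases he χ.2 with h1 | h1 | h1 | h1 | h1 | h1
  · left
    rw [congrFun h1 1] at hd
    exact_mod_cast hd
  · right; left
    rw [congrFun h1 1, stS_one] at hd
    exact_mod_cast hd
  · right; right; left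
    rw [famPS_deg h1] at hd
    exact_mod_cast hd
  · right; right; right; left
    rw [famCS_deg h1, eq_sub_iff_add_eq] at hd
    exact_mod_cast hd
  · refine Or.inr (Or.inr (Or.inr (Or.inr ⟨two_ne_zero_of_famHP h1, Or.inl ?_⟩)))
    have := famHP_deg h1
    rw [← hd] at this
    exact_mod_cast this
  · refine Or.inr (Or.inr (Or.inr (Or.inr ⟨two_ne_zero_of_famHC h1, Or.inr ?_⟩)))
    have := famHC_deg h1
    rw [← hd, eq_sub_iff_add_eq] at this
    exact_mod_cast this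

omit [Finite F] in
theorem mk_surj : Function.Surjective (QuotientGroup.mk' (Subgroup.center SL(2, F))) :=
  QuotientGroup.mk'_surjective _

theorem exists_psl {χ : SL(2, F) → ℂ} (hχ : IsIrrCharacter _ χ)
    (h : ∀ a : Mu2 F, χ (triS a.1 0) = χ 1) :
    ∃ ξ : PSL(2, F) → ℂ, IsIrrCharacter _ ξ ∧ χ = fun g : SL(2, F) => ξ g :=
  exists_irr_inflate (QuotientGroup.mk' (Subgroup.center SL(2, F))) mk_surj hχ fun k hk => by
    obtain ⟨a, rfl⟩ := exists_mu2 (scal_iff_mem_center.2 ((QuotientGroup.eq_one_iff k).1 hk))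
    exact h a

theorem mem_psl {χ : SL(2, F) → ℂ} (hχ : IsIrrCharacter _ χ)
    (h : ∀ a : Mu2 F, χ (triS a.1 0) = χ 1) {d : ℕ} (hd : χ 1 = d) :
    d ∈ charDegrees PSL(2, F) := by
  obtain ⟨ξ, hξ, rfl⟩ := exists_psl hχ h
  exact ⟨⟨ξ, hξ⟩, charDegree_eq_of hd⟩

theorem q_mem : Nat.card F ∈ charDegrees PSL(2, F) := by
  haveI := Fintype.ofFinite SL(2, F)
  exact mem_psl isIrr_stS (fun a => by rw [stS_scal, stS_one]) stS_one

theorem succ_mem (h : ¬ Nat.card F - 1 ∣ 4) : Nat.card F + 1 ∈ charDegrees PSL(2, F) := by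
  haveI := Fintype.ofFinite SL(2, F)
  obtain ⟨e⟩ := MulChar.mulEquiv_units F ℂ
  obtain ⟨a, ha⟩ := exists_pow_four_ne (A := Fˣ) (by rwa [Nat.card_units])
  refine mem_psl (χ := psS (e.symm a ^ 2)) (isIrr_psS_iff.2 fun h1 => ha ?_) (fun b => ?_)
    (by rw [psS_one]; push_cast; rfl)
  · rw [← pow_mul, ← map_pow, MulEquiv.map_eq_one_iff] at h1
    exact h1
  · rw [psS_scal, psS_one, MulChar.pow_apply' _ two_ne_zero, ← map_pow, ← Units.val_pow_eq_pow_val,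
      b.2, Units.val_one, map_one, mul_one]

theorem pred_mem (h : ¬ Nat.card F + 1 ∣ 4) : Nat.card F - 1 ∈ charDegrees PSL(2, F) := by
  haveI := Fintype.ofFinite SL(2, F)
  haveI := Fintype.ofFinite (G2 F)
  obtain ⟨e, he⟩ := exists_ell F
  haveI := isCyclic_C1 he
  letI : CommGroup (C1 e) := { (inferInstance : Group (C1 e)) with mul_comm := C1_comm he }
  obtain ⟨f⟩ := CommGroup.monoidHom_mulEquiv_of_hasEnoughRootsOfUnity (C1 e) ℂ
  obtain ⟨a, ha⟩ := exists_pow_four_ne (A := C1 e) (by rwa [card_C1 he])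
  refine mem_psl (χ := cuS he (f.symm a ^ 2)) (isIrr_cuS he fun h1 => ha ?_) (fun b => ?_)
    (by rw [cuS_one, Nat.cast_sub Nat.card_pos, Nat.cast_one])
  · have h2 : (f.symm a ^ 2) * (f.symm a ^ 2) = 1 := by
      nth_rewrite 2 [h1]
      exact mul_inv_cancel _
    rw [← pow_add, ← map_pow, MulEquiv.map_eq_one_iff] at h2
    exact h2
  · have h2 : scC e b ^ 2 = 1 := by
      rw [sq]; nth_rewrite 1 [← scC_inv]; exact inv_mul_cancel _
    rw [cuS_scal, cuS_one, MonoidHom.pow_apply, ← map_pow, h2, map_one, Units.val_one, mul_one]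

variable {S : Type*} [Group S]

theorem cases (hS : Nonempty (S ≃* PSL(2, F)) ∨ Nonempty (S ≃* SL(2, F))) {d : ℕ}
    (h : d ∈ charDegrees S) :
    d = 1 ∨ d = Nat.card F ∨ d = Nat.card F + 1 ∨ d + 1 = Nat.card F ∨
      ((2 : F) ≠ 0 ∧ (2 * d = Nat.card F + 1 ∨ 2 * d + 1 = Nat.card F)) := by
  rcases hS with ⟨⟨e⟩⟩ | ⟨⟨e⟩⟩
  · exact sl_cases (mem_charDegrees_of_surj _ mk_surj
      (mem_charDegrees_of_surj e.symm.toMonoidHom e.symm.surjective h))
  · exact sl_cases (mem_charDegrees_of_surj e.symm.toMonoidHom e.symm.surjective h)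

omit [Finite F] in
theorem mem_of_psl (hS : Nonempty (S ≃* PSL(2, F)) ∨ Nonempty (S ≃* SL(2, F))) {d : ℕ}
    (h : d ∈ charDegrees PSL(2, F)) : d ∈ charDegrees S := by
  rcases hS with ⟨⟨e⟩⟩ | ⟨⟨e⟩⟩
  · exact mem_charDegrees_of_surj e.toMonoidHom e.surjective h
  · exact mem_charDegrees_of_surj e.toMonoidHom e.surjective (mem_charDegrees_of_surj _ mk_surj h)

/-- Every degree divides `q`, `q + 1` or `q - 1`. -/
theorem dvd_cases (hS : Nonempty (S ≃* PSL(2, F)) ∨ Nonempty (S ≃* SL(2, F))) {d : ℕ}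
    (h : d ∈ charDegrees S) : d = Nat.card F ∨ d ∣ Nat.card F + 1 ∨ d ∣ Nat.card F - 1 := by
  rcases cases hS h with h | h | h | h | ⟨-, h | h⟩
  · exact Or.inr (Or.inl (by rw [h]; exact one_dvd _))
  · exact Or.inl h
  · exact Or.inr (Or.inl (h ▸ dvd_rfl))
  · exact Or.inr (Or.inr (by rw [← h]; simp))
  · exact Or.inr (Or.inl (Dvd.intro_left _ h))
  · exact Or.inr (Or.inr (Dvd.intro_left 2 (by omega)))

theorem primes_eq (hS : Nonempty (S ≃* PSL(2, F)) ∨ Nonempty (S ≃* SL(2, F)))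
    (h1 : ¬ Nat.card F - 1 ∣ 4) (h2 : ¬ Nat.card F + 1 ∣ 4) :
    degreePrimes S = {r : ℕ | r.Prime ∧ r ∣ Nat.card F * (Nat.card F ^ 2 - 1)} := by
  have hsq : Nat.card F ^ 2 - 1 = (Nat.card F + 1) * (Nat.card F - 1) := by
    simpa using Nat.sq_sub_sq (Nat.card F) 1
  ext r
  rw [hsq]
  refine ⟨fun ⟨hr, d, hd, h⟩ => ⟨hr, ?_⟩, fun ⟨hr, h⟩ => ⟨hr, ?_⟩⟩
  · rcases dvd_cases hS hd with h3 | h3 | h3
    · exact (h3 ▸ h).mul_right _
    · exact ((h.trans h3).mul_right _).mul_left _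
    · exact ((h.trans h3).mul_left _).mul_left _
  · rcases (hr.dvd_mul).1 h with h | h
    · exact ⟨_, mem_of_psl hS q_mem, h⟩
    · rcases (hr.dvd_mul).1 h with h | h
      · exact ⟨_, mem_of_psl hS (succ_mem h1), h⟩
      · exact ⟨_, mem_of_psl hS (pred_mem h2), h⟩

theorem adj_iff (hS : Nonempty (S ≃* PSL(2, F)) ∨ Nonempty (S ≃* SL(2, F)))
    (h1 : ¬ Nat.card F - 1 ∣ 4) (h2 : ¬ Nat.card F + 1 ∣ 4) (r s : ℕ) :
    (degreeGraph S).Adj r s ↔ (r ≠ s ∧ r.Prime ∧ s.Prime ∧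
      ((r ∣ Nat.card F + 1 ∧ s ∣ Nat.card F + 1) ∨ (r ∣ Nat.card F - 1 ∧ s ∣ Nat.card F - 1))) := by
  refine ⟨fun ⟨hrs, hr, hs, d, hd, h⟩ => ⟨hrs, hr, hs, ?_⟩, fun ⟨hrs, hr, hs, h⟩ => ⟨hrs, hr, hs, ?_⟩⟩
  · rcases dvd_cases hS hd with h3 | h3 | h3
    · exfalso
      haveI := Fintype.ofFinite F
      obtain ⟨p, hp⟩ := CharP.exists F
      obtain ⟨n, hp', hn⟩ := FiniteField.card F p
      rw [h3, Nat.card_eq_fintype_card, hn] at h
      have e1 := (Nat.prime_dvd_prime_iff_eq hr hp').1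
        (hr.dvd_of_dvd_pow ((dvd_mul_right r s).trans h))
      have e2 := (Nat.prime_dvd_prime_iff_eq hs hp').1
        (hs.dvd_of_dvd_pow ((dvd_mul_left s r).trans h))
      exact hrs (e1.trans e2.symm)
    · exact Or.inl ⟨(dvd_mul_right r s).trans (h.trans h3), (dvd_mul_left s r).trans (h.trans h3)⟩
    · exact Or.inr ⟨(dvd_mul_right r s).trans (h.trans h3), (dvd_mul_left s r).trans (h.trans h3)⟩
  · have hc := (Nat.coprime_primes hr hs).2 hrs
    rcases h with h | h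
    · exact ⟨_, mem_of_psl hS (succ_mem h1), hc.mul_dvd_of_dvd_of_dvd h.1 h.2⟩
    · exact ⟨_, mem_of_psl hS (pred_mem h2), hc.mul_dvd_of_dvd_of_dvd h.1 h.2⟩

end Cfsg.Agent.H7.Pd
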