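import Cfsg.Agent.H7.Rank

/-!
# Blocks with abelian defect group: elements fixed by the inertial group
-/

set_option autoImplicit false
set_option linter.unusedSectionVars false
set_option linter.style.haveILetI false
set_option warn.classDefReducibility false

namespace Cfsg.Agent.H7

open MonoidAlgebra Cfsg Cfsg.Agent.H3 Cfsg.Agent.H4
open Cfsg.Agent.H6 (Res locRing redC redA eB fB intAlg classSum omega chiL red blocks)
open scoped Pointwise ComplexConjugate

theorem eq_zero_of_invariant_linear {G : Type*} [Group G] [Finite G] {p : ℕ} [hp : Fact p.Prime]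
    {P T : Subgroup G} [Fintype P] (hP : IsPGroup p P) (hab : P ≤ Subgroup.centralizer (P : Set G))
    (hT : T ≤ Subgroup.normalizer (P : Set G))
    (hi : ¬ p ∣ (Subgroup.centralizer (P : Set G)).relIndex T) {δ : P → ℂ}
    (h1 : ∀ v : P, (∃ t ∈ T, t * v * t⁻¹ ≠ v) → δ v = 0)
    (h2 : ∀ lam : P →* ℂˣ, (∀ t ∈ T, ∀ u v : P, t * u * t⁻¹ = v → lam u = lam v) →
      ∑ v, (lam v : ℂ) * δ v = 0) : δ 1 = 0 := by
  classical
  let ρ : T →* MulAut P := P.normalizerMonoidHom.comp (Subgroup.inclusion hT)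
  have hρ : ∀ (t : T) (v : P), (ρ t v : G) = t * v * (t : G)⁻¹ := fun _ _ => rfl
  haveI := Fintype.ofFinite ρ.range
  have hc : Nat.card ρ.range = (Subgroup.centralizer (P : Set G)).relIndex T := by
    rw [← Subgroup.index_ker, ← MonoidHom.comap_ker, Subgroup.normalizerMonoidHom_ker]
    rfl
  choose lam hlam using fun χ : IrrCharacter P => χ.2.exists_linear_of_comm fun a b =>
    Subtype.ext ((hab b.2) a a.2)
  let L : IrrCharacter P → P →* ℂˣ := fun χ =>
    ∏ a : ρ.range, (lam χ).comp (a : MulAut P).toMonoidHom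
  have hL : ∀ χ v, L χ v = ∏ a : ρ.range, lam χ ((a : MulAut P) v) := fun χ v =>
    MonoidHom.finsetProd_apply ..
  have h3 := Finset.sum_eq_zero (s := Finset.univ) fun χ _ => h2 (L χ) fun t ht u v huv => by
    obtain rfl : v = ρ ⟨t, ht⟩ u := Subtype.ext huv.symm
    rw [hL, hL]
    exact (Fintype.prod_equiv (Equiv.mulRight (⟨ρ ⟨t, ht⟩, _, rfl⟩ : ρ.range)) _ _
      fun _ => rfl).symm
  rw [Finset.sum_comm, Finset.sum_eq_single_of_mem 1 (Finset.mem_univ _)] at h3
  · simpa using h3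
  intro v _ hv
  by_cases h4 : ∃ t ∈ T, t * v * t⁻¹ ≠ v
  · simp [h1 v h4]
  push Not at h4
  have h5 : v ^ Nat.card ρ.range ≠ 1 := fun h => by
    obtain ⟨n, hn⟩ := hP v
    refine hv (orderOf_eq_one_iff.1 (Nat.eq_one_of_dvd_coprimes (Nat.Coprime.pow_left n
      (hp.out.coprime_iff_not_dvd.2 (hc ▸ hi))) (orderOf_dvd_of_pow_eq_one hn)
        (orderOf_dvd_of_pow_eq_one h)))
  rw [← Finset.sum_mul, ← zero_mul (δ v), ← sum_irr_degree_mul h5]
  congr 1
  refine Finset.sum_congr rfl fun χ _ => ?_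
  rw [hL, Finset.prod_congr rfl (g := fun _ => lam χ v) fun ⟨_, t, rfl⟩ _ =>
    congrArg _ (Subtype.ext (h4 t t.2)), hlam]
  simp

section abstract
variable {k G : Type*} [Field k] [Group G] [Finite G] {p : ℕ} [Fact p.Prime] [CharP k p]
  {L P : Subgroup G} {b e : k[G]} (S : MaxP p L L b P e)
  (hab : P ≤ Subgroup.centralizer (P : Set G))
include S hab

theorem MaxP.le_CK {v : G} (hv : v ∈ P) : P ≤ CK L (Subgroup.zpowers v) :=
  le_inf (hab.trans (Subgroup.centralizer_le (Subgroup.zpowers_le.2 hv))) S.isDef.le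

theorem MaxP.exists_up {v : G} (hv : v ∈ P) :
    ∃ g, Blk (CK L (Subgroup.zpowers v)) g ∧ br P g * e = e := by
  obtain ⟨g, hg⟩ := exists_ple S.pair (Subgroup.zpowers_le.2 hv)
  exact ⟨g, (hg.isPair S.pair).blk,
    (hg.nle S.pair ((S.le_CK hab hv).trans (CK_le_normalizer _ _))).br_absorb⟩

theorem MaxP.local_up {v : G} (hv : v ∈ P) {g : k[G]} (hg : Blk (CK L (Subgroup.zpowers v)) g)
    (h : br P g * e = e) :
    MaxP p (CK L (Subgroup.zpowers v)) (CK L (Subgroup.zpowers v)) g P e :=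
  have h1 := ple_of_br_mul S.pair (Subgroup.zpowers_le.2 hv) (S.le_CK hab hv) hg h
  S.local h1 le_rfl ((h1.isPair S.pair).CK_le_NS le_rfl) (S.le_CK hab hv)

theorem MaxP.not_dvd_of_abelian [IsAlgClosed k] :
    ¬ p ∣ (Subgroup.centralizer (P : Set G)).relIndex (NS L P e) := by
  have h := S.not_dvd_relIndex S.pair S.isDef_NS
  rwa [sup_eq_left.2 (le_inf hab S.isDef.le), ← Subgroup.inf_relIndex_right, inf_assoc,
    inf_eq_right.2 (NS_le L P e), Subgroup.inf_relIndex_right] at h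

end abstract

theorem mem_CK_zpowers {G : Type*} [Group G] {L : Subgroup G} {v g : G} :
    g ∈ CK L (Subgroup.zpowers v) ↔ g * v * g⁻¹ = v ∧ g ∈ L := by
  rw [Subgroup.mem_inf, centralizer_zpowers, H6.mem_centralizer_singleton, mul_inv_eq_iff_eq_mul]
  exact and_congr_left' eq_comm

theorem card_fus_mul {G : Type*} [Group G] {P T : Subgroup G} (z v : P)
    (hz : ∀ t ∈ T, t * z * t⁻¹ = z) : Nat.card {w : P // ∃ t ∈ T, t * (z * v : P) * t⁻¹ = w} =
      Nat.card {w : P // ∃ t ∈ T, t * v * t⁻¹ = w} := by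
  refine (Nat.card_congr ((Equiv.mulLeft z).subtypeEquiv fun w => exists_congr fun t =>
    and_congr_right fun ht => ?_)).symm
  have h : t * (z * v : P) * t⁻¹ = z * (t * v * t⁻¹) := by
    conv_rhs => rw [← hz t ht]
    simp [mul_assoc]
  rw [h]
  simp

variable {M : Ideal AlgInt} [hMm : M.IsMaximal] {G : Type*} [Group G] [Fintype G] {p : ℕ}
  [Fact p.Prime] (hM : IsPModular p M) {P : Subgroup G} {e : (Res M)[G]}
  (hab : P ≤ Subgroup.centralizer (P : Set G))
include hM hab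

attribute [local instance] H8.subFintype

theorem MaxP.watanabe_rank {L : Subgroup G} {b : (Res M)[G]} (S : MaxP p L L b P e) {z : G}
    (hz : z ∈ P) (hT : ∀ t ∈ NS L P e, t * z * t⁻¹ = z) {f : (Res M)[G]}
    (hf : Blk (CK L (Subgroup.zpowers z)) f) (hbr : br P f * e = e) :
    (kl M p (CK L (Subgroup.zpowers z)) f).2 = (kl M p L b).2 := by
  classical
  haveI := H6.charP_res hM
  induction hn : Nat.card L using Nat.strong_induction_on generalizing L b f with
  | _ n ih =>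
  choose! g hg hg' using fun v hv => S.exists_up hab (v := v) hv
  let a : P → ℂ := fun v => (kl M p (CK L (Subgroup.zpowers (v : G))) (g v)).2 /
    Nat.card {w : P // ∃ t ∈ NS L P e, t * v * t⁻¹ = w}
  have hlt : ∀ v : G, (∃ t ∈ NS L P e, t * v * t⁻¹ ≠ v) →
      Nat.card (CK L (Subgroup.zpowers v)) < n := fun v ⟨t, ht, h⟩ =>
    hn ▸ card_lt_of_lt' (lt_of_le_of_ne inf_le_right fun h1 =>
      h (mem_CK_zpowers.1 (h1.ge ht.2.1)).1)
  have hN : ∀ v : G, ∀ t ∈ NS (CK L (Subgroup.zpowers v)) P e, t * z * t⁻¹ = z :=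
    fun v t ht => hT t ⟨ht.1, ht.2.1.2, ht.2.2⟩
  have h := eq_zero_of_invariant_linear S.pair.isPGroup hab inf_le_left (S.not_dvd_of_abelian hab)
    (δ := fun v => a (⟨z, hz⟩ * v) - a v) (fun v hv => ?_) fun lam hlam => ?_
  · have h1 : g 1 = b := Blk.eq_of_br_mul S.pair.isPGroup S.isDef.le
      (by simpa [CK_bot] using hg 1 P.one_mem) S.prim S.blk.ne_zero (hg' 1 P.one_mem) S.br_mul
    have h2 : g z = f := Blk.eq_of_br_mul S.pair.isPGroup (S.le_CK hab hz) (hg z hz) hf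
      S.blk.ne_zero (hg' z hz) hbr
    rw [sub_eq_zero] at h
    simp only [a] at h
    rw [card_fus_mul _ _ hT, div_left_inj' (Nat.cast_ne_zero.2 (Nat.card_ne_zero.2
      ⟨⟨⟨1, 1, Subgroup.one_mem _, by simp⟩⟩, inferInstance⟩))] at h
    simpa [h1, h2, CK_bot] using h
  · have S1 := S.local_up hab v.2 (hg v v.2) (hg' v v.2)
    have hzv := P.mul_mem hz v.2
    have S2 := S.local_up hab hzv (hg _ hzv) (hg' _ hzv)
    obtain ⟨f', h1, h2⟩ := S1.exists_up hab hz
    have h3 : CK (CK L (Subgroup.zpowers (z * v))) (Subgroup.zpowers z) =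
        CK (CK L (Subgroup.zpowers (v : G))) (Subgroup.zpowers z) := by
      ext x
      simp only [mem_CK_zpowers]
      refine and_congr_right fun hx => and_congr_left' ?_
      rw [show x * (z * v) * x⁻¹ = x * z * x⁻¹ * (x * v * x⁻¹) by group, hx, mul_right_inj]
    have h4 := ih _ (hlt _ hv) S1 (hN _) h1 h2 rfl
    have h5 := ih _ (hlt (z * v) (by
      obtain ⟨t, ht, h⟩ := hv
      refine ⟨t, ht, fun h5 => h ?_⟩
      rwa [show t * (z * v) * t⁻¹ = t * z * t⁻¹ * (t * v * t⁻¹) by group, hT t ht,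
        mul_right_inj] at h5)) S2 (hN _) (h3 ▸ h1) h2 rfl
    simp only [a]
    rw [card_fus_mul _ _ hT, Subgroup.coe_mul, ← h4, ← h5, h3, sub_self]
  · have h1 := S.sum_linear_kl hM hab hlam g fun v hv => ⟨hg v hv, hg' v hv⟩
    have h2 : ∑ v, (lam v : ℂ) * a (⟨z, hz⟩ * v) =
        (lam ⟨z, hz⟩⁻¹ : ℂ) * ∑ v, (lam v : ℂ) * a v := by
      rw [← Equiv.sum_comp (Equiv.mulLeft (⟨z, hz⟩ : P)) fun v => (lam v : ℂ) * a v,
        Finset.mul_sum]
      refine Finset.sum_congr rfl fun v _ => ?_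
      rw [← mul_assoc, ← Units.val_mul, ← map_mul, Equiv.coe_mulLeft, inv_mul_cancel_left]
    simp only [mul_sub, Finset.sum_sub_distrib, h2]
    simp only [a, ← mul_div_assoc, h1]
    split_ifs with h3
    · simp [h3]
    · simp

theorem MaxP.watanabe_card {L : Subgroup G} {b : (Res M)[G]} (S : MaxP p L L b P e) {z : G}
    (hz : z ∈ P) (hT : ∀ t ∈ NS L P e, t * z * t⁻¹ = z) {f : (Res M)[G]}
    (hf : Blk (CK L (Subgroup.zpowers z)) f) (hbr : br P f * e = e) :
    (kl M p (CK L (Subgroup.zpowers z)) f).1 = (kl M p L b).1 := by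
  haveI := H6.charP_res hM
  have S' := S.local_up hab hz hf hbr
  choose! g hg hg' using fun v hv => S.exists_up hab (v := v) hv
  choose! g₁ hg₁ hg₁' using fun v hv => S'.exists_up hab (v := v) hv
  have h1 := S.sum_linear_kl hM hab (lam := 1) (fun _ _ _ _ _ => rfl) g
    fun v hv => ⟨hg v hv, hg' v hv⟩
  have h2 := S'.sum_linear_kl hM hab (lam := 1) (fun _ _ _ _ _ => rfl) g₁
    fun v hv => ⟨hg₁ v hv, hg₁' v hv⟩
  have h3 : NS (CK L (Subgroup.zpowers z)) P e = NS L P e :=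
    le_antisymm (fun t ht => ⟨ht.1, ht.2.1.2, ht.2.2⟩)
      fun t ht => ⟨ht.1, mem_CK_zpowers.2 ⟨hT t ht, ht.2.1⟩, ht.2.2⟩
  rw [if_pos rfl] at h1 h2
  refine Nat.cast_injective (R := ℂ) ?_
  rw [← h1, ← h2, h3]
  refine Finset.sum_congr rfl fun v _ => ?_
  have h4 : CK (CK L (Subgroup.zpowers z)) (Subgroup.zpowers (v : G)) =
      CK (CK L (Subgroup.zpowers (v : G))) (Subgroup.zpowers z) := inf_left_comm _ _ _
  rw [← (S.local_up hab v.2 (hg v v.2) (hg' v v.2)).watanabe_rank hM hab hz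
    (fun t ht => hT t ⟨ht.1, ht.2.1.2, ht.2.2⟩) (h4 ▸ hg₁ v v.2) (hg₁' v v.2), h4]

end Cfsg.Agent.H7
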