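import Cfsg.Agent.H1.Generation
import Cfsg.Agent.H3.SylowIn
import Cfsg.Agent.H26.BT5
import Cfsg.Agent.H26.HolAct

/-! Vectors which are not fixed by any conjugate of an element of a normal `p`-subgroup. -/

set_option autoImplicit false

namespace Cfsg.Agent.H7

open Subgroup
open scoped commutatorElement Pointwise

universe u

variable {V : Type u} [CommGroup V]

/-- The fixed points of a group of automorphisms. -/
def avFix (B : Subgroup (MulAut V)) : Subgroup V where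
  carrier := {v | ∀ b ∈ B, b v = v}
  one_mem' := fun b _ => map_one b
  mul_mem' := fun ha hb b h => by rw [map_mul, ha b h, hb b h]
  inv_mem' := fun ha b h => by rw [map_inv, ha b h]

theorem avFix_anti {B C : Subgroup (MulAut V)} (h : B ≤ C) : avFix C ≤ avFix B :=
  fun _ hv b hb => hv b (h hb)

theorem apply_mem_avFix {B : Subgroup (MulAut V)} {v : V} (hv : v ∈ avFix B) (x : MulAut V) :
    x v ∈ avFix (MulAut.conj x • B) := fun b hb => by
  have := congrArg x (hv _ (H3.mem_conj_smul.mp hb))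
  simpa using this

theorem mem_avFix_zpowers {z : MulAut V} {v : V} : v ∈ avFix (zpowers z) ↔ z v = v :=
  ⟨fun h => h z (mem_zpowers z), fun h _ hb =>
    (zpowers_le (H := MulAction.stabilizer (MulAut V) v)).mpr h hb⟩

variable [Finite V]

/-- The norm map. -/
noncomputable def avN (C : Subgroup (MulAut V)) : V →* V :=
  ∏ b ∈ (Set.toFinite (C : Set (MulAut V))).toFinset, (b : V →* V)

theorem avN_apply (C : Subgroup (MulAut V)) (v : V) :
    avN C v = ∏ b ∈ (Set.toFinite (C : Set (MulAut V))).toFinset, b v := by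
  simp [avN, MonoidHom.finsetProd_apply]

theorem avN_of_mem {C : Subgroup (MulAut V)} {v : V} (hv : v ∈ avFix C) :
    avN C v = v ^ Nat.card C := by
  rw [avN_apply, Finset.prod_congr rfl fun b hb => hv b (by simpa using hb), Finset.prod_const,
    ← Set.ncard_eq_toFinset_card]
  rfl

theorem avN_conj (C : Subgroup (MulAut V)) (x : MulAut V) (v : V) :
    x (avN C v) = avN (MulAut.conj x • C) (x v) := by
  rw [avN_apply, avN_apply, map_prod]
  refine Finset.prod_bij (fun b _ => x * b * x⁻¹) (fun b hb => by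
    rw [Set.Finite.mem_toFinset, SetLike.mem_coe] at hb ⊢
    exact H3.conj_mem_conj_smul.mpr hb) (fun a _ b _ h => by simpa using h)
    (fun b hb => ⟨x⁻¹ * b * x, by
      rw [Set.Finite.mem_toFinset, SetLike.mem_coe] at hb ⊢
      exact H3.mem_conj_smul.mp hb, by group⟩) fun b _ => by simp

theorem avN_apply_mem {C : Subgroup (MulAut V)} {c : MulAut V} (hc : c ∈ C) (v : V) :
    avN C (c v) = avN C v := by
  rw [avN_apply, avN_apply]
  refine Finset.prod_bij (fun b _ => b * c) (fun b hb => by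
    simpa [mul_mem_cancel_right hc] using hb) (fun a _ b _ h => by simpa using h)
    (fun b hb => ⟨b * c⁻¹, by simpa [mul_mem_cancel_right (inv_mem hc)] using hb, by group⟩)
    fun b _ => by simp

theorem avN_mem (C : Subgroup (MulAut V)) (v : V) : avN C v ∈ avFix C := fun c hc => by
  rw [avN_conj, H3.conj_smul_eq_of_mem hc, avN_apply_mem hc]

theorem av_pow_inj {n : ℕ} (hn : n.Coprime (Nat.card V)) {v w : V} (h : v ^ n = w ^ n) : v = w :=
  (powCoprime hn.symm).injective h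

theorem av_key {ι : Type*} (s : Finset ι) (C : ι → Subgroup (MulAut V)) (w : ι → V)
    (hw : ∀ i ∈ s, w i ∈ avFix (C i)) (Ω : Set (Subgroup (MulAut V)))
    (h1 : ∀ C ∈ Ω, ∀ D ∈ Ω, C ≠ D → avFix C ⊓ avFix D = ⊥)
    (h2 : ∀ C ∈ Ω, ∀ D ∈ Ω, ∀ c ∈ C, ∀ d ∈ D, c * d = d * c)
    (h3 : ∀ C ∈ Ω, (Nat.card C).Coprime (Nat.card V)) (hC : ∀ i ∈ s, C i ∈ Ω)
    (hinj : Set.InjOn C s) {x : MulAut V} (hv : x (∏ i ∈ s, w i) = ∏ i ∈ s, w i) {i : ι}
    (hi : i ∈ s) (hx : MulAut.conj x • C i ∈ Ω) (hwi : w i ≠ 1) :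
    (∏ i ∈ s, w i) ≠ 1 ∧ ∃ j ∈ s, C j = MulAut.conj x • C i ∧ x (w i) = w j := by
  classical
  have h4 : ∀ D ∈ Ω, ∀ j ∈ s, C j ≠ D → avN D (w j) = 1 := fun D hD j hj hne => by
    rw [← mem_bot, ← h1 _ (hC j hj) D hD hne]
    refine ⟨fun c hc => ?_, avN_mem D _⟩
    rw [avN_conj, hw j hj c hc, H3.mem_normalizer_iff_conj_smul.mp
      (centralizer_le_normalizer _ fun d hd => (h2 _ (hC j hj) D hD c hc d hd).symm)]
  have h5 : ∀ j ∈ s, avN (C j) (∏ i ∈ s, w i) = w j ^ Nat.card (C j) := fun j hj => by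
    rw [map_prod, Finset.prod_eq_single_of_mem j hj fun k hk hkj =>
      h4 _ (hC j hj) k hk fun h => hkj (hinj hk hj h), avN_of_mem (hw j hj)]
  have h6 := avN_conj (C i) x (∏ i ∈ s, w i)
  rw [hv, h5 i hi, map_pow] at h6
  refine ⟨fun h0 => hwi (av_pow_inj (h3 _ (hC i hi)) (by rw [← h5 i hi, h0, map_one, one_pow])), ?_⟩
  by_contra hne
  push Not at hne
  by_cases h7 : ∃ j ∈ s, C j = MulAut.conj x • C i
  · obtain ⟨j, hj, h7⟩ := h7
    rw [← h7, h5 j hj, h7, H3.card_conj_smul] at h6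
    exact hne j hj h7 (av_pow_inj (h3 _ (hC i hi)) h6)
  · push Not at h7
    rw [map_prod, Finset.prod_eq_one fun j hj => h4 _ hx j hj (h7 j hj), ← one_pow (Nat.card (C i))]
      at h6
    exact hwi (x.injective ((av_pow_inj (h3 _ (hC i hi)) h6).trans (map_one x).symm))

theorem av_exists_fixed {B : Subgroup (MulAut V)} (hB : ∀ a ∈ B, ∀ b ∈ B, a * b = b * a)
    (hnc : ¬ IsCyclic B) (hcop : (Nat.card B).Coprime (Nat.card V)) {W : Subgroup V}
    (hW : ∀ b ∈ B, ∀ v ∈ W, b v ∈ W) (h0 : W ≠ ⊥) : ∃ b ∈ B, b ≠ 1 ∧ ∃ v ∈ W, v ≠ 1 ∧ b v = v := by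
  by_contra h
  push Not at h
  have : IsMulCommutative (H26.ambA B V) := H9.isMulCommutative_iff'.mpr (by
    rintro _ ⟨a, -, rfl⟩ _ ⟨b, -, rfl⟩
    rw [← map_mul, ← map_mul, show a * b = b * a from Subtype.ext (hB a a.2 b b.2)])
  have := H1.le_of_forall_centralizer_singleton_le (A := H26.ambA B V) (K := W.map (H26.ambL B V))
    (D := ⊥) (fun hc => hnc ((topEquiv.symm.trans (equivMapOfInjective ⊤ (H26.ambR B V)
      SemidirectProduct.inr_injective)).isCyclic.mpr hc))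
    (H26.ambA_le_normalizer_iff.mpr fun a => hW a a.2)
    (by rw [H26.card_ambA, H26.card_ambL]; exact hcop.coprime_dvd_right W.card_subgroup_dvd_card)
    (by
      rintro _ ⟨a, -, rfl⟩ ha _ ⟨⟨v, hv, rfl⟩, hc⟩
      rw [mem_bot, map_eq_one_iff _ H26.ambL_inj]
      by_contra hv1
      exact h a a.2 (fun h1 => ha (by rw [show a = 1 from Subtype.ext h1, map_one])) v hv hv1
        ((H21.Hol.comm_iff _).mp (mem_centralizer_singleton_iff.mp hc)))
  exact h0 ((map_eq_bot_iff_of_injective _ H26.ambL_inj).mp (le_bot_iff.mp this))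

variable {p : ℕ} [hp : Fact p.Prime]

theorem av_le_zpowers {G : Type*} [Group G] [Finite G] {A : Subgroup G} (hA : IsCyclic A)
    (h : ∀ x ∈ A, x ^ p = 1) {z : G} (hz : z ∈ A) (hz1 : z ≠ 1) : A ≤ zpowers z := by
  refine (eq_of_le_of_card_ge (zpowers_le.mpr hz) ?_).ge
  rw [Nat.card_zpowers, orderOf_eq_prime (h z hz) hz1, ← IsCyclic.exponent_eq_card]
  exact Nat.le_of_dvd hp.out.pos (Monoid.exponent_dvd_of_forall_pow_eq_one fun x =>
    Subtype.ext (h x x.2))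

theorem av_class_two (hp2 : p ≠ 2) (hV : (Nat.card V).Coprime p) {Z : Subgroup (MulAut V)}
    (hZ : ∀ z ∈ Z, z ≠ 1 → ∀ v, z v = v → v = 1) (hZ1 : ∀ z ∈ Z, z ≠ 1 → Z ≤ zpowers z)
    (T : Subgroup (MulAut V)) : Z ≤ T → (∀ z ∈ Z, ∀ x ∈ T, Commute z x) → (∀ x ∈ T, x ^ p = 1) →
      (∀ x ∈ T, ∀ y ∈ T, ⁅x, y⁆ ∈ Z) → ∀ W : Subgroup V, (∀ x ∈ T, ∀ v ∈ W, x v ∈ W) → W ≠ ⊥ →
      ∃ v ∈ W, v ≠ 1 ∧ ∀ x ∈ T, x v = v → ∀ y ∈ T, Commute x y := by
  classical
  induction T using WellFoundedLT.induction with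
  | ind T ih =>
  intro hZT hZc hexp hcom W hW h0
  by_cases hab : ∀ x ∈ T, ∀ y ∈ T, Commute x y
  · obtain ⟨⟨v, hv⟩, hv1⟩ := ne_bot_iff_exists_ne_one.mp h0
    exact ⟨v, hv, fun h => hv1 (Subtype.ext h), fun x hx _ => hab x hx⟩
  push Not at hab
  obtain ⟨y₀, hy₀, y', hy', hne₀⟩ := hab
  have hcop : ∀ C ≤ T, (Nat.card C).Coprime (Nat.card V) := fun C hC =>
    H1.coprime_card_of_isPGroup_of_coprime (p := p)
      (fun x => ⟨1, Subtype.ext (by simpa using hexp x (hC x.2))⟩) hV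
  have hc : ∀ x ∈ T, ∀ y ∈ T, ∀ t ∈ T, Commute ⁅x, y⁆ t := fun x hx y hy => hZc _ (hcom x hx y hy)
  have hBT : Z ⊔ zpowers y₀ ≤ T := sup_le hZT (zpowers_le.mpr hy₀)
  have hBy : Z ⊔ zpowers y₀ ≤ centralizer {y₀} := sup_le
    (fun z hz => mem_centralizer_singleton_iff.mpr (hZc z hz y₀ hy₀))
    (zpowers_le.mpr (mem_centralizer_singleton_iff.mpr rfl))
  obtain ⟨y, hy, hy1, v₁, hv₁, hv₁1, hyv⟩ := av_exists_fixed (B := Z ⊔ zpowers y₀) (W := W)
    (fun a ha => (sup_le (fun z hz => mem_centralizer_singleton_iff.mpr (hZc z hz a (hBT ha)))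
      (zpowers_le.mpr (mem_centralizer_singleton_iff.mpr
        (mem_centralizer_singleton_iff.mp (hBy ha)).symm)) : _ ≤ centralizer {a}) |>.trans' le_rfl
      |> fun h b hb => (mem_centralizer_singleton_iff.mp (h hb)).symm)
    (fun hcyc => hne₀ (by
      have h1 : ⁅y₀, y'⁆ ∈ Z ⊔ zpowers y₀ := mem_sup_left (hcom _ hy₀ _ hy')
      by_contra hne
      have h2 := (av_le_zpowers hcyc (fun x hx => hexp x (hBT hx)) h1
        (mt commutatorElement_eq_one_iff_commute.mp hne)) (mem_sup_right (mem_zpowers y₀))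
      exact hne (hZc _ (zpowers_le.mpr (hcom _ hy₀ _ hy') h2) _ hy')))
    (hcop _ hBT) (fun b hb => hW b (hBT hb)) h0
  have hyT := hBT hy
  have hne : ¬ Commute y' y := fun hcm => hne₀ (by
    have hZn : zpowers y₀ ≤ normalizer (Z : Set (MulAut V)) := zpowers_le.mpr
      (centralizer_le_normalizer _ fun z hz => hZc z hz y₀ hy₀)
    obtain ⟨z, hz, _, ⟨k, rfl⟩, rfl⟩ := (H1.mem_sup_of_le_normalizer_left hZn).mp hy
    have h1 : Commute (y₀ ^ k) y' := by
      have := (hZc z hz y' hy').inv_left.mul_left hcm.symm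
      rwa [inv_mul_cancel_left] at this
    have h2 : y₀ ^ k ≠ 1 := fun h => hv₁1 (hZ z hz (fun h' => hy1 (by simp [h, h'])) v₁
      (by simpa [h] using hyv))
    have := av_le_zpowers (A := zpowers y₀) inferInstance (fun x hx => hexp x (zpowers_le.mpr hy₀ hx))
      ⟨k, rfl⟩ h2 (mem_zpowers y₀)
    exact mem_centralizer_singleton_iff.mp (zpowers_le (H := centralizer {y'}).mpr
      (mem_centralizer_singleton_iff.mpr h1) this))
  have hM : T ⊓ centralizer {y} < T := inf_lt_left.mpr fun h =>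
    hne (mem_centralizer_singleton_iff.mp (h hy'))
  obtain ⟨v₀, hv₀, hv₀1, hv₀2⟩ := ih _ hM
    (le_inf hZT fun z hz => mem_centralizer_singleton_iff.mpr (hZc z hz y hyT))
    (fun z hz x hx => hZc z hz x hx.1) (fun x hx => hexp x hx.1)
    (fun x hx y hy => hcom x hx.1 y hy.1) (W ⊓ avFix (zpowers y))
    (fun x hx v hv => ⟨hW x hx.1 v hv.1, mem_avFix_zpowers.mpr (by
      rw [← MulAut.mul_apply, ← mem_centralizer_singleton_iff.mp hx.2, MulAut.mul_apply,
        mem_avFix_zpowers.mp hv.2])⟩)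
    (ne_bot_iff_exists_ne_one.mpr ⟨⟨v₁, hv₁, mem_avFix_zpowers.mpr hyv⟩,
      fun h => hv₁1 (congrArg Subtype.val h)⟩)
  have hconj : ∀ t : MulAut V, MulAut.conj t • zpowers y = zpowers (⁅t, y⁆ * y) := fun t => by
    rw [← H3.map_conj_eq_smul, MonoidHom.map_zpowers]
    simp [commutatorElement_def]
  have hdis : ∀ t ∈ T, ∀ t' ∈ T, ⁅t, y⁆ ≠ ⁅t', y⁆ →
      avFix (MulAut.conj t • zpowers y) ⊓ avFix (MulAut.conj t' • zpowers y) = ⊥ := by
    intro t ht t' ht' hne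
    rw [hconj, hconj, eq_bot_iff]
    rintro v ⟨h1, h2⟩
    refine hZ (⁅t, y⁆ * ⁅t', y⁆⁻¹) (mul_mem (hcom _ ht _ hyT) (inv_mem (hcom _ ht' _ hyT)))
      (by rwa [Ne, mul_inv_eq_one]) v ?_
    have h3 := mul_mem (show _ ∈ MulAction.stabilizer (MulAut V) v from mem_avFix_zpowers.mp h1)
      (inv_mem (show _ ∈ MulAction.stabilizer (MulAut V) v from mem_avFix_zpowers.mp h2))
    rw [mul_inv_rev, mul_assoc, mul_inv_cancel_left] at h3
    exact h3
  have hy'y : ⁅y', y⁆ ≠ 1 := mt commutatorElement_eq_one_iff_commute.mp hne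
  have hw : ∀ t ∈ T, t v₀ ∈ avFix (MulAut.conj t • zpowers y) := fun t _ => apply_mem_avFix hv₀.2 t
  have huniq : ∀ t ∈ T, ∀ t' ∈ T, MulAut.conj t • zpowers y = MulAut.conj t' • zpowers y →
      ⁅t, y⁆ = ⁅t', y⁆ := fun t ht t' ht' h => by
    by_contra hne
    have := hdis t ht t' ht' hne
    rw [← h, inf_idem] at this
    exact hv₀1 (t.injective ((mem_bot.mp (this ▸ hw t ht)).trans (map_one t).symm))
  let τ : Bool → MulAut V := fun b => if b then y' else 1
  have hτ : ∀ b, τ b ∈ T := fun b => by cases b <;> simp [τ, hy', one_mem]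
  have hτi : ∀ a b, ⁅τ a, y⁆ = ⁅τ b, y⁆ → a = b := fun a b h => by
    cases a <;> cases b
    · rfl
    · exact absurd (by simpa [τ] using h.symm) hy'y
    · exact absurd (by simpa [τ] using h) hy'y
    · rfl
  have key := fun (x : MulAut V) hv (i : Bool) hx hwi => av_key (Finset.univ : Finset Bool)
    (fun b => MulAut.conj (τ b) • zpowers y) (fun b => τ b v₀) (fun b _ => hw _ (hτ b))
    {C | ∃ t ∈ T, C = MulAut.conj t • zpowers y}
    (by
      rintro _ ⟨t, ht, rfl⟩ _ ⟨t', ht', rfl⟩ hne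
      exact hdis t ht t' ht' fun h => hne (by rw [hconj, hconj, h]))
    (by
      rintro _ ⟨t, ht, rfl⟩ _ ⟨t', ht', rfl⟩ c hc' d hd
      rw [hconj] at hc' hd
      obtain ⟨k, rfl⟩ := hc'
      obtain ⟨l, rfl⟩ := hd
      exact (((hc _ ht _ hyT _ (mul_mem (hZT (hcom _ ht' _ hyT)) hyT)).mul_left
        ((hc _ ht' _ hyT _ hyT).symm.mul_right (Commute.refl y))).zpow_zpow k l).eq)
    (by
      rintro _ ⟨t, ht, rfl⟩
      rw [H3.card_conj_smul]
      exact hcop _ (zpowers_le.mpr hyT))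
    (fun b _ => ⟨_, hτ b, rfl⟩) (fun a _ b _ h => by
      exact hτi a b (huniq _ (hτ a) _ (hτ b) h))
    (x := x) hv (i := i) (Finset.mem_univ i) hx hwi
  have hw1 : ∀ b, τ b v₀ ≠ 1 := fun b h => hv₀1 ((τ b).injective (h.trans (map_one _).symm))
  refine ⟨∏ b, τ b v₀, prod_mem fun b _ => hW _ (hτ b) _ hv₀.1,
    (key 1 rfl false ⟨1, one_mem _, by simp [τ]⟩ (hw1 _)).1, fun x hx hxv => ?_⟩
  have hk : ∀ i, ∃ j, ⁅τ j, y⁆ = ⁅x * τ i, y⁆ ∧ x (τ i v₀) = τ j v₀ := fun i => by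
    obtain ⟨j, -, h1, h2⟩ := (key x hxv i ⟨x * τ i, mul_mem hx (hτ i),
      H3.conj_smul_conj_smul _ _ _⟩ (hw1 i)).2
    exact ⟨j, huniq _ (hτ j) _ (mul_mem hx (hτ i)) (h1.trans (H3.conj_smul_conj_smul _ _ _)), h2⟩
  have hmul : ∀ a ∈ T, ∀ b ∈ T, ⁅a * b, y⁆ = ⁅a, y⁆ * ⁅b, y⁆ := fun a ha b hb => by
    have := (hc _ hb _ hyT a ha).eq
    calc ⁅a * b, y⁆ = a * ⁅b, y⁆ * a⁻¹ * ⁅a, y⁆ := by simp only [commutatorElement_def]; group
      _ = _ := by rw [← this, mul_inv_cancel_right, (hc _ hb _ hyT _ (hZT (hcom _ ha _ hyT))).eq]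
  have hxy : ⁅x, y⁆ = 1 := by
    obtain ⟨j, h1, -⟩ := hk false
    obtain ⟨j', h2, -⟩ := hk true
    cases j
    · simpa [τ] using h1.symm
    simp only [τ, if_true, Bool.false_eq_true, if_false, mul_one, hmul x hx y' hy'] at h1 h2
    cases j'
    · simp only [Bool.false_eq_true, if_false, commutatorElement_one_left, ← h1] at h2
      have h3 := Nat.dvd_gcd (orderOf_dvd_of_pow_eq_one (hexp _ (hZT (hcom _ hy' _ hyT))))
        (orderOf_dvd_of_pow_eq_one (n := 2) (by rw [sq, ← h2]))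
      rw [(Nat.coprime_primes hp.out Nat.prime_two).mpr hp2, Nat.dvd_one, orderOf_eq_one_iff] at h3
      exact absurd h3 hy'y
    · simpa using h2
  have hxM : x ∈ T ⊓ centralizer {y} :=
    ⟨hx, mem_centralizer_singleton_iff.mpr (commutatorElement_eq_one_iff_commute.mp hxy)⟩
  have hfix : ∀ i, x (τ i v₀) = τ i v₀ := fun i => by
    obtain ⟨j, h1, h2⟩ := hk i
    rw [hmul x hx _ (hτ i), hxy, one_mul] at h1
    rw [h2, hτi _ _ h1]
  have h1 : x v₀ = v₀ := by simpa [τ] using hfix false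
  have h2 : Commute x y' := by
    rw [← commutatorElement_eq_one_iff_commute]
    by_contra h
    refine hv₀1 (y'.injective ((hZ _ (hcom x hx y' hy') h (y' v₀) ?_).trans (map_one _).symm))
    have h3 : x (y' v₀) = y' v₀ := by simpa [τ] using hfix true
    have h4 : x⁻¹ v₀ = v₀ := by rw [MulAut.inv_apply, MulEquiv.symm_apply_eq, h1]
    rw [commutatorElement_def, MulAut.mul_apply, MulAut.mul_apply, MulAut.mul_apply,
      MulAut.inv_apply_self, h4, h3]
  intro t ht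
  obtain ⟨k, hk⟩ := hZ1 _ (hcom _ hy' _ hyT) hy'y (hcom _ ht _ hyT)
  have h3 : (y' ^ k)⁻¹ * t ∈ T ⊓ centralizer {y} := by
    refine mem_inf.mpr ⟨mul_mem (inv_mem (zpow_mem hy' k)) ht, mem_centralizer_singleton_iff.mpr
      (commutatorElement_eq_one_iff_commute.mp ?_)⟩
    let f : T →* MulAut V :=
      { toFun := fun a => ⁅(a : MulAut V), y⁆
        map_one' := by simp
        map_mul' := fun a b => hmul a a.2 b b.2 }
    have h4 : f (((⟨y', hy'⟩ : T) ^ k)⁻¹ * ⟨t, ht⟩) = 1 := by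
      rw [map_mul, map_inv, map_zpow, inv_mul_eq_one]
      exact hk
    exact h4
  have := (h2.zpow_right k).mul_right (hv₀2 x hxM h1 _ h3)
  rwa [mul_inv_cancel_left] at this

end Cfsg.Agent.H7
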