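import Cfsg.Agent.H7.Av1
import Cfsg.Agent.H22.Sp1
import Cfsg.Agent.H26.Subn
import Cfsg.Agent.H9.OpMod
import Cfsg.Agent.H9.Repl

/-! A subnormality criterion for `p`-subgroups of solvable groups, `p` odd. -/

set_option autoImplicit false

namespace Cfsg.Agent.H7

open Subgroup
open scoped commutatorElement Pointwise

universe u

theorem av_gluck {P : Type u} [Group P] [Finite P] (ho : Odd (Nat.card P)) {X : Type*}
    [MulAction P X] : ∃ Δ : Set X, ∀ (k : P) (x : X),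
      (∀ g : P, k • g • x ∈ Δ ↔ g • x ∈ Δ) → k • x = x := by
  choose D hD1 hD2 using fun x : X => H26.BT.St.gluck (H26.BT.st _) _ ho
    (MulAction.stabilizer P x) rfl (Nat.lt_succ_self _)
  let r : X → X := fun x => (Quotient.mk (MulAction.orbitRel P X) x).out
  have hr : ∀ x, ∃ g : P, g • r x = x := fun x =>
    (MulAction.orbitRel P X).symm (Quotient.mk_out (s := MulAction.orbitRel P X) x)
  have hr' : ∀ (g : P) x, r (g • x) = r x := fun g x =>
    congrArg Quotient.out (Quotient.sound ⟨g, rfl⟩)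
  refine ⟨{x | ∃ g ∈ D (r x), g • r x = x}, fun k x h => ?_⟩
  obtain ⟨t, ht⟩ := hr x
  have h1 : ∀ g : P, g • r x ∈ {x | ∃ g ∈ D (r x), g • r x = x} ↔ g ∈ D (r x) := fun g => by
    have h2 : r (g • r x) = r x := by rw [hr', ← hr' t (r x), ht]
    rw [Set.mem_ofPred_eq, h2]
    refine ⟨fun ⟨g', hg', h⟩ => ?_, fun hg => ⟨g, hg, rfl⟩⟩
    rw [← hD1 _ g (g⁻¹ * g') (by rw [MulAction.mem_stabilizer_iff, mul_smul, h, inv_smul_smul]),
      mul_inv_cancel_left]
    exact hg'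
  have := hD2 (r x) k (fun g => by
    rw [← h1, ← h1, mul_smul]
    have := h (g * t⁻¹)
    rwa [mul_smul, show t⁻¹ • x = r x by rw [inv_smul_eq_iff, ht]] at this) t
  rw [MulAction.mem_stabilizer_iff, mul_smul, mul_smul, ht, inv_smul_eq_iff, ht] at this
  exact this

/-- Restriction of automorphisms to an invariant subgroup. -/
def avRes {V : Type*} [Group V] (S : Subgroup (MulAut V)) (W : Subgroup V)
    (h : ∀ g ∈ S, ∀ v ∈ W, g v ∈ W) : S →* MulAut W where
  toFun g :=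
    { toFun := fun v => ⟨(g : MulAut V) v, h g g.2 v v.2⟩
      invFun := fun v => ⟨(g : MulAut V)⁻¹ v, h _ (inv_mem g.2) v v.2⟩
      left_inv := fun v => by simp
      right_inv := fun v => by simp
      map_mul' := fun a b => by simp }
  map_one' := by ext; simp
  map_mul' a b := by ext; simp

variable {p : ℕ} [hp : Fact p.Prime]

theorem av_main (hp2 : p ≠ 2) (n : ℕ) : ∀ (V : Type u) [CommGroup V] [Finite V], Nat.card V = n →
    (Nat.card V).Coprime p → ∀ H P : Subgroup (MulAut V), P ≤ H →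
      H ≤ normalizer (P : Set (MulAut V)) → IsPGroup p P → ∀ a ∈ P, a ≠ 1 →
        ∃ v, ∀ h ∈ H, (h * a * h⁻¹) v ≠ v := by
  classical
  induction n using Nat.strong_induction_on with
  | _ n ih =>
  intro V _ _ hn hV H P₀ hPH₀ hHP₀ hP₀ a₀ ha₀ ha₀1
  obtain ⟨a, ⟨m, ham⟩, hap⟩ : ∃ a ∈ zpowers a₀, orderOf a = p := by
    obtain ⟨k, hk⟩ := hP₀ ⟨a₀, ha₀⟩
    obtain ⟨k, -, hk⟩ := (Nat.dvd_prime_pow hp.out).mp (orderOf_dvd_of_pow_eq_one
      (show a₀ ^ p ^ k = 1 from congrArg Subtype.val hk))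
    obtain ⟨a, ha⟩ := exists_prime_orderOf_dvd_card' (G := zpowers a₀) p (by
      rw [Nat.card_zpowers, hk]
      exact dvd_pow_self p fun h0 => ha₀1 (by rwa [h0, pow_zero, orderOf_eq_one_iff] at hk))
    exact ⟨a, a.2, by rwa [orderOf_coe]⟩
  suffices h : ∃ v, ∀ h ∈ H, (h * a * h⁻¹) v ≠ v by
    obtain ⟨v, hv⟩ := h
    refine ⟨v, fun h hh h0 => hv h hh ?_⟩
    rw [← ham, ← conj_zpow]
    exact zpow_mem (show _ ∈ MulAction.stabilizer (MulAut V) v from h0) m
  have ha1 : a ≠ 1 := fun h => hp.out.ne_one (by rw [← hap, h, orderOf_one])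
  obtain ⟨P, hPdef⟩ : ∃ P, P = closure {x | ∃ h ∈ H, x = h * a * h⁻¹} := ⟨_, rfl⟩
  have hmem : ∀ h ∈ H, h * a * h⁻¹ ∈ P := fun h hh => hPdef ▸ subset_closure ⟨h, hh, rfl⟩
  have ha : a ∈ P := by simpa using hmem 1 (one_mem _)
  have hPP : P ≤ P₀ := hPdef ▸ (closure_le _).mpr (by
    rintro _ ⟨h, hh, rfl⟩
    exact (mem_normalizer_iff.mp (hHP₀ hh) _).mp (ham ▸ zpow_mem ha₀ m))
  have hP := hP₀.to_le hPP
  have hPH := hPP.trans hPH₀
  have hHP : H ≤ normalizer (P : Set (MulAut V)) := fun h hh => H3.mem_normalizer_of_conj_mem (by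
    rw [← H3.conj_smul_le_iff, ← H3.map_conj_eq_smul, map_le_iff_le_comap]
    refine hPdef.le.trans ((closure_le _).mpr ?_)
    rintro _ ⟨k, hk, rfl⟩
    have := hmem _ (mul_mem hh hk)
    simpa [mul_assoc] using this)
  have hcop : ∀ C ≤ P, (Nat.card C).Coprime (Nat.card V) := fun C hC =>
    H1.coprime_card_of_isPGroup_of_coprime (hP.to_le hC) hV
  have step : ∀ S ≤ H, ∀ W : Subgroup V, W ≠ ⊤ → (∀ g ∈ S, ∀ v ∈ W, g v ∈ W) → a ∈ S →
      (∃ v ∈ W, a v ≠ v) → ∃ v ∈ W, ∀ h ∈ S, (h * a * h⁻¹) v ≠ v := by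
    rintro S hS W hW hSW haS ⟨v, hv, hav⟩
    obtain ⟨w, hw⟩ := ih _ (hn ▸ lt_of_le_of_ne W.card_le_card_group
      (mt (card_eq_iff_eq_top W).mp hW)) W rfl
      (hV.coprime_dvd_left W.card_subgroup_dvd_card) (avRes S W hSW).range
      ((P.subgroupOf S).map (avRes S W hSW)) (map_le_range _ _) (by
        rintro _ ⟨h, rfl⟩
        exact le_normalizer_map _ ⟨h, mem_normalizer_iff.mpr fun x =>
          mem_normalizer_iff.mp (hHP (hS h.2)) x, rfl⟩) (hP.comap_subtype.map _)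
      (avRes S W hSW ⟨a, haS⟩) ⟨_, ha, rfl⟩
      fun h => hav (congrArg Subtype.val (MulEquiv.congr_fun h ⟨v, hv⟩))
    exact ⟨w, w.2, fun h hh h0 => hw _ ⟨⟨h, hh⟩, rfl⟩ (by
      rw [← map_inv, ← map_mul, ← map_mul]; exact Subtype.ext h0)⟩
  by_contra hcon
  have hfix : ∀ W : Subgroup V, W ≠ ⊤ → (∀ g ∈ H, ∀ v ∈ W, g v ∈ W) → W ≤ avFix P := by
    intro W hW hHW v hv
    have h1 : ∀ v ∈ W, a v = v := by
      by_contra h
      push Not at h
      obtain ⟨v, -, hv⟩ := step H le_rfl W hW hHW (hPH ha) h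
      exact hcon ⟨v, hv⟩
    refine hPdef.le.trans ((closure_le (MulAction.stabilizer (MulAut V) v)).mpr ?_)
    rintro _ ⟨h, hh, rfl⟩
    change h (a (h⁻¹ v)) = v
    rw [h1 _ (hHW _ (inv_mem hh) v hv), MulAut.apply_inv_self]
  have hF : avFix P = ⊥ := by
    by_cases h : (avN P).ker = ⊤
    · refine eq_bot_iff.mpr fun v hv => av_pow_inj (hcop P le_rfl) ?_
      rw [← avN_of_mem hv, one_pow]
      exact h.ge (mem_top v)
    · refine absurd (MulEquiv.ext fun v => ?_) ha1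
      have h1 : a v * v⁻¹ ∈ (avN P).ker := by
        rw [MonoidHom.mem_ker, map_mul, map_inv, avN_apply_mem ha, mul_inv_cancel]
      have h2 := avN_of_mem (hfix _ h (fun g hg v hv => by
        rw [MonoidHom.mem_ker, ← H3.mem_normalizer_iff_conj_smul.mp (hHP hg), ← avN_conj,
          MonoidHom.mem_ker.mp hv, map_one]) h1)
      rw [MonoidHom.mem_ker.mp h1, ← one_pow (Nat.card P)] at h2
      exact mul_inv_eq_one.mp (av_pow_inj (hcop P le_rfl) h2).symm
  have hirr : ∀ W : Subgroup V, W ≠ ⊤ → (∀ g ∈ H, ∀ v ∈ W, g v ∈ W) → W = ⊥ := fun W h1 h2 =>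
    eq_bot_iff.mpr (hF ▸ hfix W h1 h2)
  have htop : ∀ C : Subgroup (MulAut V), avFix C = ⊤ → C = ⊥ := fun C h =>
    eq_bot_iff.mpr fun c hc => MulEquiv.ext fun v => h.ge (mem_top v) c hc
  have hV1 : (⊤ : Subgroup V) ≠ ⊥ := fun h => ha1 (MulEquiv.ext fun v =>
    (mem_bot.mp (h.le (mem_top _))).trans (mem_bot.mp (h.le (mem_top _))).symm)
  by_cases hcase : ∀ B ≤ P, H ≤ normalizer (B : Set (MulAut V)) →
      (∀ a ∈ B, ∀ b ∈ B, a * b = b * a) → IsCyclic B
  · obtain ⟨E, R, h1, h2, h3, h4⟩ := H22.Sp.hall hP fun A hA hAc =>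
      (equivMapOfInjective A P.subtype P.subtype_injective).isCyclic.mpr (hcase _ (map_subtype_le A)
        (hHP.trans (H1.normalizer_le_normalizer_map_subtype_of_characteristic P A)) (by
          rintro _ ⟨a, ha, rfl⟩ _ ⟨b, hb, rfl⟩
          exact congrArg Subtype.val (H9.isMulCommutative_iff'.mp hAc a ha b hb)))
    have h4 := h4.resolve_right fun h => hp2 h.1
    have hcen : ∀ z : P, (∀ e ∈ E, e * z = z * e) → (∀ r ∈ R, r * z = z * r) → z ∈ center P :=
      fun z hz hz' => mem_center_iff.mpr fun g => mem_centralizer_singleton_iff.mp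
        ((h2.ge.trans (sup_le (fun e he => mem_centralizer_singleton_iff.mpr (hz e he))
          fun r hr => mem_centralizer_singleton_iff.mpr (hz' r hr))) (mem_top g))
    have hR : R ≤ center P := fun r hr => hcen r (fun e he => h1 e he r hr)
      fun s hs => H9.isMulCommutative_iff'.mp inferInstance s hs r hr
    have hc : ∀ x ∈ P, ∀ y ∈ P, ∀ t ∈ P, Commute ⁅x, y⁆ t := fun x hx y hy t ht => by
      obtain ⟨e, he, z, hz, hx'⟩ := mem_sup_of_normal_right.mp
        ((h2.ge.trans (sup_le_sup_left hR E)) (mem_top (⟨x, hx⟩ : P)))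
      obtain ⟨e', he', z', hz', hy'⟩ := mem_sup_of_normal_right.mp
        ((h2.ge.trans (sup_le_sup_left hR E)) (mem_top (⟨y, hy⟩ : P)))
      have h5 : ⁅e * z, e' * z'⁆ = ⁅e, e'⁆ := by
        have a1 := mem_center_iff.mp hz
        have a2 := mem_center_iff.mp hz'
        simp only [commutatorElement_def, mul_inv_rev, ← mul_assoc]
        rw [mul_assoc e z, ← a1, ← mul_assoc, mul_assoc _ z, ← a1, ← mul_assoc,
          mul_inv_cancel_right, mul_assoc _ z', ← a2, ← mul_assoc, mul_inv_cancel_right]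
      have h6 : ⁅e, e'⁆ ∈ center P := by
        rcases h3 with rfl | h3
        · rw [mem_bot.mp he, commutatorElement_one_left]; exact one_mem _
        · have h7 : ⁅(⟨e, he⟩ : E), ⟨e', he'⟩⁆ ∈ center E :=
            h3.1.2.2 ▸ commutator_mem_commutator (mem_top _) (mem_top _)
          exact hcen _ (fun g hg => congrArg Subtype.val (mem_center_iff.mp h7 ⟨g, hg⟩))
            fun r hr => (h1 _ (commutator_le_self E (commutator_mem_commutator he he')) r hr).symm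
      rw [← h5, hx', hy'] at h6
      exact (congrArg Subtype.val (mem_center_iff.mp h6 ⟨t, ht⟩)).symm
    have hexp : ∀ x ∈ P, x ^ p = 1 := fun x hx => by
      let T : Subgroup (MulAut V) :=
        { carrier := {x | x ∈ P ∧ x ^ p = 1}
          one_mem' := ⟨one_mem P, one_pow p⟩
          mul_mem' := fun {a b} ha hb => ⟨mul_mem ha.1 hb.1, H9.mul_pow_eq_one_of_odd
            (hc _ hb.1 _ ha.1 _ hb.1) (hc _ hb.1 _ ha.1 _ ha.1) (hp.out.odd_of_ne_two hp2) ha.2 hb.2⟩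
          inv_mem' := fun {a} ha => ⟨inv_mem ha.1, by rw [inv_pow, ha.2, inv_one]⟩ }
      refine ((hPdef.le.trans ((closure_le T).mpr ?_)) hx).2
      rintro _ ⟨h, hh, rfl⟩
      exact ⟨hmem h hh, by rw [conj_pow, ← hap, pow_orderOf_eq_one, mul_one, mul_inv_cancel]⟩
    have hZn : H ≤ normalizer ((P ⊓ centralizer (P : Set (MulAut V)) : Subgroup _) : Set (MulAut V)) :=
      H1.le_normalizer_inf hHP (H1.le_normalizer_centralizer hHP)
    have hZ1 : ∀ z ∈ P ⊓ centralizer (P : Set (MulAut V)), z ≠ 1 →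
        P ⊓ centralizer (P : Set (MulAut V)) ≤ zpowers z := fun z hz => av_le_zpowers
      (hcase _ inf_le_left hZn fun a ha b hb => hb.2 a ha.1) (fun x hx => hexp x hx.1) hz
    have hZ : ∀ z ∈ P ⊓ centralizer (P : Set (MulAut V)), z ≠ 1 → ∀ v, z v = v → v = 1 :=
      fun z hz hz1 v hv => by
        rw [← mem_bot, ← hirr (avFix (P ⊓ centralizer (P : Set (MulAut V))))
          (fun h => hz1 (mem_bot.mp (htop _ h ▸ hz))) fun g hg v hv =>
            H3.mem_normalizer_iff_conj_smul.mp (hZn hg) ▸ apply_mem_avFix hv g]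
        exact avFix_anti (hZ1 z hz hz1) (mem_avFix_zpowers.mpr hv)
    obtain ⟨v, -, hv1, hv⟩ := av_class_two hp2 hV hZ hZ1 P inf_le_left
      (fun z hz x hx => (hz.2 x hx).symm) hexp
      (fun x hx y hy => ⟨commutator_le_self P (commutator_mem_commutator hx hy),
        fun t ht => (hc x hx y hy t ht).eq.symm⟩) ⊤ (fun _ _ _ _ => mem_top _) hV1
    exact hcon ⟨v, fun h hh h0 => hv1 (hZ _ ⟨hmem h hh, fun t ht =>
      (hv _ (hmem h hh) h0 t ht).eq.symm⟩ (by simpa using ha1) v h0)⟩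
  push Not at hcase
  obtain ⟨B, hBP, hHB, hB, hnc⟩ := hcase
  let Ω : Set (Subgroup (MulAut V)) := {C | Maximal (fun C => C ≤ B ∧ avFix C ≠ ⊥) C}
  have hconj : ∀ h ∈ H, ∀ C : Subgroup (MulAut V), C ≤ B ∧ avFix C ≠ ⊥ →
      MulAut.conj h • C ≤ B ∧ avFix (MulAut.conj h • C) ≠ ⊥ := fun h hh C hC => by
    refine ⟨H1.conj_smul_le_of_le_normalizer hC.1 (hHB hh), fun h0 => hC.2 (eq_bot_iff.mpr
      fun v hv => h.injective ((mem_bot.mp (h0 ▸ apply_mem_avFix hv h)).trans (map_one h).symm))⟩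
  have hΩ : ∀ h ∈ H, ∀ C ∈ Ω, MulAut.conj h • C ∈ Ω := fun h hh C hC =>
    ⟨hconj h hh C hC.1, fun D hD hle => by
      have := H3.conj_smul_mono h⁻¹ hle
      rw [H3.conj_inv_smul_conj_smul] at this
      have := H3.conj_smul_mono h (hC.2 (hconj _ (inv_mem hh) D hD) this)
      rwa [H3.conj_smul_conj_inv_smul] at this⟩
  have key := fun (s : Finset (Subgroup (MulAut V))) w hw hC x hv C hCs hx hwi =>
    (av_key s id w hw Ω (fun C hC D hD hne => by
      by_contra h0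
      have h1 : C ⊔ D ≤ B ∧ avFix (C ⊔ D) ≠ ⊥ := ⟨sup_le hC.1.1 hD.1.1, fun h => h0 (eq_bot_iff.mpr
        fun v hv => h ▸ (sup_le hv.1 hv.2 : C ⊔ D ≤ MulAction.stabilizer (MulAut V) v))⟩
      exact hne (le_antisymm (le_sup_left.trans (hD.2 h1 le_sup_right))
        (le_sup_right.trans (hC.2 h1 le_sup_left))))
      (fun C hC D hD c hc d hd => hB c (hC.1.1 hc) d (hD.1.1 hd))
      (fun C hC => hcop C (hC.1.1.trans hBP)) hC (Set.injOn_id _) (x := x) hv (i := C) hCs hx hwi).2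
  obtain ⟨b, hb, hb1, v₁, -, hv₁, hbv⟩ := av_exists_fixed hB hnc (hcop B hBP) (W := ⊤)
    (fun _ _ _ _ => mem_top _) hV1
  have hb2 : zpowers b ≤ B ∧ avFix (zpowers b) ≠ ⊥ := ⟨zpowers_le.mpr hb,
    fun h => hv₁ (mem_bot.mp (h ▸ mem_avFix_zpowers.mpr hbv))⟩
  by_cases hfixΩ : ∀ C ∈ Ω, MulAut.conj a • C = C
  · obtain ⟨C, hC, hCa⟩ : ∃ C ∈ Ω, ∃ v ∈ avFix C, a v ≠ v := by
      by_contra h0
      push Not at h0
      obtain ⟨C, -, hC⟩ := Finite.exists_le_maximal (p := fun C => C ≤ B ∧ avFix C ≠ ⊥) hb2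
      refine hC.1.2 (eq_bot_iff.mpr ((le_iSup₂ (f := fun C (_ : C ∈ Ω) => avFix C) C hC).trans
        (hirr _ (fun h => ha1 (MulEquiv.ext fun v => mem_avFix_zpowers.mp ((h.ge.trans
          (iSup₂_le fun C hC v hv => mem_avFix_zpowers.mpr (h0 C hC v hv))) (mem_top v))))
          fun g hg => ?_).le))
      exact iSup₂_le (a := (⨆ C ∈ Ω, avFix C).comap g.toMonoidHom) fun C hC v hv =>
        le_iSup₂ (f := fun C (_ : C ∈ Ω) => avFix C) _ (hΩ g hg C hC) (apply_mem_avFix hv g)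
    obtain ⟨v₀, hv₀, hv₀a⟩ := step (H ⊓ normalizer (C : Set (MulAut V))) inf_le_left (avFix C)
      (fun h => hb1 (mem_bot.mp (htop C h ▸ hC.2 hb2 (htop C h ▸ bot_le) (mem_zpowers b))))
      (fun g hg v hv => H3.mem_normalizer_iff_conj_smul.mp hg.2 ▸ apply_mem_avFix hv g)
      ⟨hPH ha, H3.mem_normalizer_iff_conj_smul.mpr (hfixΩ C hC)⟩ hCa
    have hv₀1 : v₀ ≠ 1 := fun h => hv₀a 1 (one_mem _) (by simp [h])
    let s := (Set.toFinite {D | ∃ t ∈ H, D = MulAut.conj t • C}).toFinset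
    have hs : ∀ D, D ∈ s ↔ ∃ t ∈ H, D = MulAut.conj t • C := fun D => Set.Finite.mem_toFinset _
    choose! t ht ht' using fun D => (hs D).mp
    refine hcon ⟨∏ D ∈ s, t D v₀, fun h hh h0 => ?_⟩
    have hD : MulAut.conj h • C ∈ s := (hs _).mpr ⟨h, hh, rfl⟩
    have hx : MulAut.conj (h * a * h⁻¹) • MulAut.conj h • C = MulAut.conj h • C := by
      rw [H3.conj_smul_conj_smul, inv_mul_cancel_right, ← H3.conj_smul_conj_smul, hfixΩ C hC]
    obtain ⟨D, -, h1, h2⟩ := key s (fun D => t D v₀)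
      (fun D hD => by simpa only [id, ← ht' D hD] using apply_mem_avFix hv₀ (t D))
      (fun D hD => ht' D hD ▸ hΩ _ (ht D hD) C hC) _ h0 _ hD (hx.symm ▸ hΩ h hh C hC)
      fun h => hv₀1 ((t _).injective (h.trans (map_one _).symm))
    simp only [id, hx] at h1
    subst h1
    refine hv₀a ((t (MulAut.conj h • C))⁻¹ * h) (mem_inf.mpr ⟨mul_mem (inv_mem (ht _ hD)) hh,
      H3.mem_normalizer_iff_conj_smul.mpr ?_⟩) ?_
    · rw [← H3.conj_smul_conj_smul, map_inv, inv_smul_eq_iff]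
      exact ht' _ hD
    · refine (t (MulAut.conj h • C)).injective (Eq.trans ?_ h2)
      simp
  · push Not at hfixΩ
    obtain ⟨C, hC, hCa⟩ := hfixΩ
    let _ : MulAction P (Subgroup (MulAut V)) :=
      MulAction.compHom _ (MulAut.conj.comp P.subtype)
    obtain ⟨Δ, hΔ⟩ := av_gluck (P := P) (X := Subgroup (MulAut V)) (by
      obtain ⟨k, hk⟩ := IsPGroup.iff_card.mp hP
      exact hk ▸ (hp.out.odd_of_ne_two hp2).pow)
    choose! w hw hw1 using fun C (hC : C ∈ Ω) => (avFix C).bot_or_exists_ne_one.resolve_left hC.1.2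
    let s := (Set.toFinite (Ω ∩ Δ)).toFinset
    have hs : ∀ D, D ∈ s ↔ D ∈ Ω ∧ D ∈ Δ := fun D => Set.Finite.mem_toFinset _
    refine hcon ⟨∏ D ∈ s, w D, fun h hh h0 => hCa ?_⟩
    have h1 : ∀ x ∈ H, x (∏ D ∈ s, w D) = ∏ D ∈ s, w D → ∀ D ∈ Ω, D ∈ Δ → MulAut.conj x • D ∈ Δ :=
      fun x hx h0 D hD hD' => by
        obtain ⟨D', h1, h2, -⟩ := key s w (fun D hD => hw D ((hs D).mp hD).1)
          (fun D hD => ((hs D).mp hD).1) x h0 D ((hs D).mpr ⟨hD, hD'⟩) (hΩ x hx D hD) (hw1 D hD)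
        exact h2 ▸ ((hs D').mp h1).2
    have hxH := hPH (hmem h hh)
    have h2 := hΔ ⟨_, hmem h hh⟩ (MulAut.conj h • C) fun g => by
      have hD := hΩ g (hPH g.2) _ (hΩ h hh C hC)
      refine ⟨fun h3 => ?_, h1 _ hxH h0 _ hD⟩
      have := h1 _ (inv_mem hxH) (by rw [MulAut.inv_apply, MulEquiv.symm_apply_eq, h0]) _
        (hΩ _ hxH _ hD) h3
      rwa [H3.conj_inv_smul_conj_smul] at this
    have h3 : MulAut.conj (h * a * h⁻¹) • MulAut.conj h • C = MulAut.conj h • C := h2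
    rw [H3.conj_smul_conj_smul, inv_mul_cancel_right, ← H3.conj_smul_conj_smul] at h3
    exact smul_left_cancel _ h3

theorem le_pCore_of_forall_conj (hp2 : p ≠ 2) (n : ℕ) : ∀ (G : Type u) [Group G] [Finite G],
    Nat.card G = n → Group.IsSolvable G → ∀ A : Subgroup G,
      (∀ c : G, ∃ g : G, IsConj c g ∧ IsPGroup p (A ⊔ MulAut.conj g • A : Subgroup G)) →
      A ≤ pCore p G := by
  induction n using Nat.strong_induction_on with
  | _ n ih =>
  intro G _ _ hn hG A h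
  have hA : IsPGroup p A := by
    obtain ⟨g, -, hg⟩ := h 1
    exact hg.to_le le_sup_left
  have step : ∀ (N : Subgroup G) [N.Normal], N ≠ ⊥ → A ≤ H9.opMod p N := fun N _ hN =>
    map_le_iff_le_comap.mp (ih _ (hn ▸ H1.card_quotient_lt hN) (G ⧸ N) rfl inferInstance _ fun c => by
      obtain ⟨c, rfl⟩ := QuotientGroup.mk'_surjective N c
      obtain ⟨g, hg, h1⟩ := h c
      refine ⟨_, (QuotientGroup.mk' N).map_isConj hg, ?_⟩
      have := h1.map (QuotientGroup.mk' N)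
      rwa [Subgroup.map_sup, ← H3.map_conj_eq_smul, map_map, show (QuotientGroup.mk' N).comp
        (MulAut.conj g).toMonoidHom = (MulAut.conj (QuotientGroup.mk' N g)).toMonoidHom.comp
          (QuotientGroup.mk' N) from by ext; simp, ← map_map] at this)
  by_cases hO : pCore p G = ⊥
  swap
  · exact (step _ hO).trans (H9.opMod_eq_pCore (H1.isPGroup_pCore p G)).le
  rcases subsingleton_or_nontrivial G with h0 | h0
  · exact fun x _ => Subsingleton.elim 1 x ▸ one_mem _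
  obtain ⟨q, hq, hq0⟩ := H1.exists_pCore_ne_bot hG
  have := Fact.mk hq
  have hpq : q ≠ p := fun h => hq0 (h ▸ hO)
  obtain ⟨N, hNdef⟩ : ∃ N, N = pCore q G ⊓ centralizer (pCore q G : Set G) := ⟨_, rfl⟩
  have : N.Normal := hNdef ▸ inferInstance
  have hN0 : N ≠ ⊥ := hNdef ▸ H1.inf_centralizer_ne_bot_of_isPGroup (H1.isPGroup_pCore q G)
    (H1.isPGroup_pCore q G) le_normalizer hq0
  have hNc : ∀ a ∈ N, ∀ b ∈ N, a * b = b * a := fun a ha b hb =>
    (hNdef.le hb).2 a (hNdef.le ha).1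
  have hNp : (Nat.card N).Coprime p := H1.coprime_card_of_isPGroup_of_coprime
    ((H1.isPGroup_pCore q G).to_le (hNdef.le.trans inf_le_left))
    ((Nat.coprime_primes hp.out hq).mpr hpq.symm)
  have hAL := step N hN0
  by_cases hC : A ≤ centralizer (N : Set G)
  · refine H1.le_pCore_of_le_fittingSubgroup hA ((le_inf hAL hC).trans (H1.le_fittingSubgroup ?_))
    have h1 : IsPGroup p ((QuotientGroup.mk' N).comp
        (H9.opMod p N ⊓ centralizer (N : Set G)).subtype).range :=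
      (H1.isPGroup_pCore p (G ⧸ N)).to_le (by rintro _ ⟨x, rfl⟩; exact x.2.1)
    have := h1.isNilpotent
    refine Subgroup.isNilpotent_of_ker_le_center ((QuotientGroup.mk' N).comp
        (H9.opMod p N ⊓ centralizer (N : Set G)).subtype).rangeRestrict fun x hx => ?_
    rw [MonoidHom.ker_rangeRestrict] at hx
    exact mem_center_iff.mpr fun g => Subtype.ext (g.2.2 x ((QuotientGroup.eq_one_iff _).mp hx)).symm
  exfalso
  obtain ⟨a, ha, haC⟩ := SetLike.not_le_iff_exists.mp hC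
  let _ : CommGroup N := { (inferInstance : Group N) with
    mul_comm := fun a b => Subtype.ext (hNc a a.2 b b.2) }
  let φ : G →* MulAut N := MulAut.conjNormal
  obtain ⟨v, hv⟩ := av_main hp2 _ N rfl hNp φ.range ((H9.opMod p N).map φ) (map_le_range _ _)
    (by
      rintro _ ⟨g, rfl⟩
      exact le_normalizer_map φ ⟨g, le_normalizer_of_normal (K := ⊤) (mem_top g), rfl⟩)
    (by
      rintro ⟨_, x, hx, rfl⟩
      obtain ⟨k, hk⟩ := H9.pow_mem_of_mem_opMod hx
      refine ⟨k, Subtype.ext (MulEquiv.ext fun v => Subtype.ext ?_)⟩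
      rw [SubmonoidClass.coe_pow, ← map_pow, MulAut.conjNormal_apply, hNc _ hk _ v.2]
      simp)
    (φ a) ⟨a, hAL ha, rfl⟩ fun h1 => haC fun v hv => by
      have := congrArg Subtype.val (MulEquiv.congr_fun h1 ⟨v, hv⟩)
      exact (mul_inv_eq_iff_eq_mul.mp this).symm
  obtain ⟨g, hg, h1⟩ := h v
  obtain ⟨k, rfl⟩ := isConj_iff.mp hg
  have hgN : k * v * k⁻¹ ∈ N := this.conj_mem _ v.2 k
  have h2 : ⁅k * v * k⁻¹, a⁆ ∈ (A ⊔ MulAut.conj (k * v * k⁻¹) • A) ⊓ N :=
    ⟨mul_mem (mem_sup_right (H3.conj_mem_conj_smul.mpr ha)) (mem_sup_left (inv_mem ha)),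
      commutator_le_left N ⊤ (commutator_mem_commutator hgN (mem_top a))⟩
  rw [disjoint_iff.mp (disjoint_of_coprime_natCard
    (H1.coprime_card_of_isPGroup_of_coprime h1 hNp)), mem_bot,
    commutatorElement_eq_one_iff_mul_comm] at h2
  refine hv (φ k⁻¹) ⟨_, rfl⟩ (Subtype.ext ?_)
  rw [← map_inv, ← map_mul, ← map_mul, MulAut.conjNormal_apply]
  calc k⁻¹ * a * k⁻¹⁻¹ * v * (k⁻¹ * a * k⁻¹⁻¹)⁻¹ = k⁻¹ * (a * (k * v * k⁻¹)) * a⁻¹ * k := by group
    _ = v := by rw [← h2]; group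

end Cfsg.Agent.H7
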