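import Cfsg.Agent.H7.Star4

/-!
# The numbers `k` and `l` as functions of block idempotents
-/

set_option autoImplicit false
set_option linter.unusedSectionVars false
set_option linter.style.haveILetI false
set_option warn.classDefReducibility false

namespace Cfsg.Agent.H7

open MonoidAlgebra Cfsg Cfsg.Agent.H3 Cfsg.Agent.H4
open Cfsg.Agent.H6 (Res locRing redC redA eB fB intAlg classSum omega chiL red blocks)
open Cfsg.Agent.H8 (SecData sec sub bspan bfin indBlocks msub)
open scoped Pointwise ComplexConjugate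

theorem cj_eq_push {k G : Type*} [CommRing k] [Group G] (g : G) (a : k[G]) :
    cj g a = push k (MulAut.conj g).toMonoidHom a := by
  induction a using MonoidAlgebra.induction_linear with
  | zero => simp
  | add a b ha hb => rw [map_add, map_add, ha, hb]
  | single x c => rw [cj_single, push_single]; rfl

theorem sum_card_centralizer_mul {G : Type*} [Group G] [Fintype G] (Φ : G → Prop) [DecidablePred Φ]
    (hc : ∀ x y, IsConj x y → Φ x → Φ y) (X : Finset G) (hX : ∀ x ∈ X, Φ x)
    (hXrep : ∀ g, Φ g → ∃! x, x ∈ X ∧ IsConj g x) (F : G → ℕ)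
    (hF : ∀ x g, F (g * x * g⁻¹) = F x) :
    ∑ u with Φ u, Nat.card (Subgroup.centralizer ({u} : Set G)) * F u =
      Nat.card G * ∑ x ∈ X, F x := by
  classical
  choose! φ hφ hu using hXrep
  rw [← Finset.sum_fiberwise_of_maps_to (t := X) (g := φ)
    fun u hu => (hφ u (Finset.mem_filter.1 hu).2).1, Finset.mul_sum]
  refine Finset.sum_congr rfl fun x hx => ?_
  have e1 : (Finset.univ.filter Φ).filter (fun u => φ u = x) = Finset.univ.filter (IsConj x) := by
    ext u
    simp only [Finset.mem_filter, Finset.mem_univ, true_and]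
    exact ⟨fun h => (h.2 ▸ (hφ u h.1).2).symm, fun h =>
      ⟨hc _ _ h (hX x hx), (hu u (hc _ _ h (hX x hx)) x ⟨hx, h.symm⟩).symm⟩⟩
  rw [e1, Finset.sum_congr rfl (g := fun _ => Nat.card (Subgroup.centralizer ({x} : Set G)) * F x)
    fun u hu => by
      have h := (Finset.mem_filter.1 hu).2
      rw [← card_centralizer_of_isConj h]
      obtain ⟨g, rfl⟩ := isConj_iff.1 h
      rw [hF], Finset.sum_const, smul_eq_mul, ← card_centralizer_mul_card_isConj x,
    Nat.card_eq_fintype_card (α := {y // IsConj x y}), Fintype.card_subtype]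
  ring

section abstract
variable {k G : Type*} [Field k] [Group G] [Finite G] {p : ℕ} [Fact p.Prime] [CharP k p]
  {K H P : Subgroup G} {b e : k[G]}

theorem MaxP.burnside (S : MaxP p K H b P e) {Q : Subgroup G} {f : k[G]} (h : PLe p K Q f P e)
    {y : G} (hy : y ∈ H) (h' : PLe p K (MulAut.conj y • Q) (cj y f) P e)
    (hP : P ≤ Subgroup.centralizer (Q : Set G))
    (hP' : P ≤ Subgroup.centralizer ((MulAut.conj y • Q : Subgroup G) : Set G)) :
    ∃ t ∈ Subgroup.centralizer ((MulAut.conj y • Q : Subgroup G) : Set G), t * y ∈ NS H P e := by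
  have key : ∀ {Q : Subgroup G} {f : k[G]}, PLe p K Q f P e → P ≤ Subgroup.centralizer (Q : Set G) →
      P ≤ Subgroup.centralizer (Q : Set G) ⊓ NS H Q f := fun h hP =>
    le_inf hP ((le_inf le_rfl (hP.trans (Subgroup.centralizer_le_normalizer _))).trans
      (h.inf_le_NS S.pair S.isDef.le))
  have h1 := h'.nle S.pair (hP'.trans (Subgroup.centralizer_le_normalizer _))
  have h2 := (h.nle S.pair (hP.trans (Subgroup.centralizer_le_normalizer _))).conj y
  rw [mem_normalizer_iff_conj_smul.1 (S.norm hy)] at h2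
  have hC := le_inf inf_le_left ((h'.isPair S.pair).CK_le_NS S.le)
  obtain ⟨t, ht, h3⟩ := local_sylow hC (inf_le_right.trans inf_le_left)
    ((inf_le_right.trans (NS_le _ _ _)).trans S.norm) ((invt_NS H _ _).mono inf_le_right)
    (S.isDef_of_le h' hC inf_le_right (key h' hP')) h1 h2 (by
      refine (conj_smul_mono y (key h hP)).trans ?_
      rw [conj_smul_inf, centralizer_conj_smul, conj_smul_NS_mem _ _ hy])
  rw [conj_smul_conj_smul, cj_cj] at h3
  exact ⟨t, ht.1, h3.mem_NS_of_conj S.pair (H.mul_mem ht.2.2.1 hy)⟩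

theorem Blk.eq_of_br_mul {L : Subgroup G} (hP : IsPGroup p P) (hPL : P ≤ L) {f f' : k[G]}
    (hf : Blk L f) (hf' : Blk L f') (h0 : e ≠ 0) (h : br P f * e = e) (h' : br P f' * e = e) :
    f = f' := by
  refine hf.eq_of_mul_ne_zero hf' fun h1 => h0 ?_
  rw [← h, ← h', ← mul_assoc, ← br_mul p hP (hf.mem.2.mono hPL) (hf'.mem.2.mono hPL), h1, map_zero,
    zero_mul]

theorem ple_of_br_mul {Q : Subgroup G} {f : k[G]} (he : IsPair p K P e) (hQP : Q ≤ P)
    (hP : P ≤ CK K Q) (hf : Blk (CK K Q) f) (h : br P f * e = e) : PLe p K Q f P e :=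
  NLe.ple ⟨⟨he.isPGroup.to_le hQP, hQP.trans he.norm, hf⟩, he, hQP,
    hP.trans (CK_le_normalizer K Q), hf.mem.2.mono hP, h⟩

omit [Finite G] [Fact p.Prime] [CharP k p] in
theorem maxP_of_push {L : Type*} [Group L] [Finite L] {φ : L →* G} (hφ : Function.Injective φ)
    {K H P : Subgroup L} {b e : k[L]}
    (S : MaxP p (K.map φ) (H.map φ) (push k φ b) (P.map φ) (push k φ e)) : MaxP p K H b P e :=
  ⟨(Subgroup.map_le_map_iff_of_injective hφ).1 S.le,
    fun x hx => (mem_normalizer_map_iff hφ).1 (S.norm ⟨x, hx, rfl⟩),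
    (isPrimIn_push_iff hφ).1 S.prim, (isDef_push_iff hφ).1 S.isDef,
    (blk_push_iff hφ).1 (CK_map hφ K P ▸ S.blk),
    push_injective hφ (by rw [map_mul, ← br_push hφ, S.br_mul])⟩

omit [Finite G] [Fact p.Prime] [CharP k p] in
theorem mem_NS_push {L : Type*} [Group L] {φ : L →* G} (hφ : Function.Injective φ)
    {H P : Subgroup L} {e : k[L]} {x : L} :
    φ x ∈ NS (H.map φ) (P.map φ) (push k φ e) ↔ x ∈ NS H P e := by
  rw [mem_NS, mem_NS, mem_normalizer_map_iff hφ, Subgroup.mem_map_iff_mem hφ, ← push_cj,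
    (push_injective hφ).eq_iff]

theorem br_mul_eq_iff_of_le {H Q : Subgroup G} (hQ : IsPGroup p Q) (hQH : Q ≤ H) {j f g : k[G]}
    (hj : j ∈ Fix k H H) (hi : IsIdempotentElem j) (hf : Blk H f) (hg : g ≠ 0)
    (h : br Q f * g = g) : br Q j * g = g ↔ j * f = f := by
  have h1 : br Q j * g = br Q (j * f) * g := by
    rw [br_mul p hQ (hj.2.mono hQH) (hf.mem.2.mono hQH), mul_assoc, h]
  rcases hf.mul_eq_or hj hi with h2 | h2
  · rw [h1, h2, map_zero, zero_mul]
    exact ⟨fun h => (hg h.symm).elim, fun h => (hf.ne_zero h.symm).elim⟩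
  · rw [h1, h2, h]
    exact ⟨fun _ => rfl, fun _ => rfl⟩

end abstract

variable {M : Ideal AlgInt} [hMm : M.IsMaximal] {G : Type*} [Group G] [Finite G] {p : ℕ}

open Classical in
variable (M p) in
/-- the numbers `k` and `l` of a block of the subgroup `L`, given by its idempotent -/
noncomputable def kl (L : Subgroup G) (f : (Res M)[G]) : ℕ × ℕ :=
  if h : ∃ b, IsPBlock M b ∧ eb M L b = f then (Nat.card h.choose, blockRank p h.choose) else 0

theorem kl_eb {L : Subgroup G} {b : Set (IrrCharacter L)} (hb : IsPBlock M b) :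
    kl M p L (eb M L b) = (Nat.card b, blockRank p b) := by
  have h : ∃ b', IsPBlock M b' ∧ eb M L b' = eb M L b := ⟨b, hb, rfl⟩
  rw [kl, dif_pos h, eb_injective h.choose_spec.1 hb h.choose_spec.2]

section push
variable {L : Type*} [Group L] [Finite L] {φ : L →* G} (hφ : Function.Injective φ)
include hφ

theorem kl_push_eB {B : Set (IrrCharacter L)} (hB : IsPBlock M B) :
    kl M p φ.range (push (Res M) φ (eB M B)) = (Nat.card B, blockRank p B) := by
  rw [← card_image_irrMap (MonoidHom.ofInjective hφ), ← blockRank_image p (MonoidHom.ofInjective hφ),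
    ← kl_eb (isPBlock_image _ hB), eb, eB_image, push_push]
  rfl

theorem kl_push {K : Subgroup L} {f : (Res M)[L]} (hf : Blk K f) :
    kl M p (K.map φ) (push (Res M) φ f) = kl M p K f := by
  obtain ⟨b, hb, rfl⟩ := exists_eb_eq hf
  rw [kl_eb hb, eb, push_push, ← kl_push_eB (φ := φ.comp K.subtype)
    (hφ.comp K.subtype_injective) hb, MonoidHom.range_comp, Subgroup.range_subtype]

end push

theorem kl_eB {B : Set (IrrCharacter G)} (hB : IsPBlock M B) :
    kl M p ⊤ (eB M B) = (Nat.card B, blockRank p B) := by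
  rw [← kl_push_eB (φ := MonoidHom.id G) Function.injective_id hB, push_id,
    MonoidHom.range_eq_top.2 Function.surjective_id]

open Classical in
variable (M p) in
/-- the sum of the numbers `k` and `l` over the blocks of `L` below `j` -/
noncomputable def klS (L : Subgroup G) (j : (Res M)[G]) : ℕ × ℕ :=
  ∑ f ∈ prims (Fix (Res M) L L), if j * f = f then kl M p L f else 0

theorem klS_push {L : Type*} [Group L] [Finite L] {φ : L →* G} (hφ : Function.Injective φ)
    (K : Subgroup L) (j : (Res M)[L]) :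
    klS M p (K.map φ) (push (Res M) φ j) = klS M p K j := by
  symm
  refine Finset.sum_bij (fun f _ => push (Res M) φ f) (fun f hf => ?_)
    (fun _ _ _ _ h => push_injective hφ h) (fun f hf => ?_) fun f hf => ?_
  · exact (isCommSub_Z _).mem_prims.2 ((blk_push_iff hφ).2 ((isCommSub_Z _).mem_prims.1 hf))
  · obtain ⟨a, ha, rfl⟩ := exists_blk_push_eq hφ ((isCommSub_Z _).mem_prims.1 hf)
    exact ⟨a, (isCommSub_Z _).mem_prims.2 ha, rfl⟩
  · rw [← map_mul (push (Res M) φ), kl_push hφ ((isCommSub_Z _).mem_prims.1 hf)]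
    by_cases h : j * f = f
    · rw [if_pos h, if_pos (congrArg _ h)]
    · rw [if_neg h, if_neg fun h' => h (push_injective hφ h')]

theorem klS_cj (g : G) (K : Subgroup G) (j : (Res M)[G]) :
    klS M p (MulAut.conj g • K) (cj g j) = klS M p K j := by
  rw [cj_eq_push]
  exact klS_push (MulAut.conj g).injective K j

open Classical in
theorem klS_eq_sum_blocks (L : Subgroup G) (j : (Res M)[G]) : klS M p L j =
    ∑ b ∈ (blocks M L).filter fun b => j * eb M L b = eb M L b, (Nat.card b, blockRank p b) := by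
  rw [klS, sum_prims_eq_sum_blocks, Finset.sum_filter]
  exact Finset.sum_congr rfl fun b hb => by rw [kl_eb (H6.mem_blocks.1 hb)]

theorem klS_blk {L : Subgroup G} {f : (Res M)[G]} (hf : Blk L f) : klS M p L f = kl M p L f := by
  rw [klS, Finset.sum_eq_single_of_mem f ((isCommSub_Z _).mem_prims.2 hf), if_pos hf.mul_self]
  intro g hg hne
  have hg' := (isCommSub_Z _).mem_prims.1 hg
  exact if_neg fun h => hne (Blk.eq_of_mul_ne_zero hf hg' (by rw [h]; exact hg'.ne_zero)).symm

variable [Fact p.Prime] (hM : IsPModular p M)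
include hM

open Classical in
theorem card_mul_card_block {G : Type*} [Group G] [Fintype G] {B : Set (IrrCharacter G)}
    (hB : IsPBlock M B) : Nat.card G * Nat.card B = ∑ u : G with ∃ n, orderOf u = p ^ n,
      Nat.card (Subgroup.centralizer ({u} : Set G)) *
        (klS M p (Subgroup.centralizer ({u} : Set G)) (br (Subgroup.zpowers u) (eB M B))).2 := by
  obtain ⟨X, hX, hXrep⟩ := H8.exists_pClass_reps G p
  rw [sum_card_centralizer_mul _ (fun x y h hx => by
      obtain ⟨g, rfl⟩ := isConj_iff.1 h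
      rwa [H6.orderOf_conj']) X hX hXrep _ fun x g => by
      rw [centralizer_singleton_conj, ← conj_smul_zpowers, ← (eB_mem_Fix B).2 g trivial, ← cj_br,
        klS_cj, (eB_mem_Fix B).2 g trivial],
    H8.card_eq_sum_blockRank hM hB X hX hXrep]
  congr 1
  refine Finset.sum_congr rfl fun x hx => ?_
  rw [klS_eq_sum_blocks, Prod.snd_sum]
  refine Finset.sum_congr (Finset.filter_congr fun b hb => ?_) fun _ _ => rfl
  exact isInducedBlock_iff_br hM (hX x hx) hB (H6.mem_blocks.1 hb)

open Classical in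
theorem card_mul_kl [Fintype G] {H : Subgroup G} {f : (Res M)[G]} (hf : Blk H f) :
    Nat.card H * (kl M p H f).1 = ∑ u : G with u ∈ H ∧ ∃ n, orderOf u = p ^ n,
      Nat.card (CK H (Subgroup.zpowers u)) *
        (klS M p (CK H (Subgroup.zpowers u)) (br (Subgroup.zpowers u) f)).2 := by
  obtain ⟨b, hb, rfl⟩ := exists_eb_eq hf
  rw [kl_eb hb, card_mul_card_block hM hb]
  refine Finset.sum_bij (fun u _ => (u : G)) (fun u hu => ?_) (fun _ _ _ _ h => Subtype.ext h)
    (fun u hu => ?_) fun u _ => ?_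
  · simpa using hu
  · obtain ⟨h1, h2⟩ := (Finset.mem_filter.1 hu).2
    exact ⟨⟨u, h1⟩, by simpa using h2, rfl⟩
  · have h1 : (Subgroup.zpowers u).map H.subtype = Subgroup.zpowers (u : G) :=
      MonoidHom.map_zpowers _ _
    have h2 := CK_map H.subtype_injective ⊤ (Subgroup.zpowers u)
    rw [map_subtype_top, h1, CK_top_zpowers] at h2
    rw [h2, eb, ← h1, br_push H.subtype_injective, klS_push H.subtype_injective,
      Subgroup.card_map_of_injective H.subtype_injective]

theorem sum_klS_br {H Q : Subgroup G} (hQ : IsPGroup p Q) (hQH : Q ≤ H) {j : (Res M)[G]}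
    (hj : j ∈ Fix (Res M) H H) (hi : IsIdempotentElem j) [∀ f, Decidable (j * f = f)] :
    ∑ f ∈ prims (Fix (Res M) H H), (if j * f = f then klS M p (CK H Q) (br Q f) else 0) =
      klS M p (CK H Q) (br Q j) := by
  classical
  haveI := H6.charP_res hM
  simp only [klS, Finset.ite_sum_zero]
  rw [Finset.sum_comm]
  refine Finset.sum_congr rfl fun g hg => ?_
  have hg' := (isCommSub_Z _).mem_prims.1 hg
  obtain ⟨f, h1, h2⟩ := exists_ind_CK hQ hQH hg'
  rw [Finset.sum_eq_single_of_mem f ((isCommSub_Z _).mem_prims.2 h1.right), if_pos h2]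
  · simp only [br_mul_eq_iff_of_le hQ hQH hj hi h1.right hg'.ne_zero h2]
  · intro f' hf' hne
    rw [if_neg fun h => hne (Blk.eq_of_br_mul hQ hQH ((isCommSub_Z _).mem_prims.1 hf') h1.right
      hg'.ne_zero h h2), ite_self]

open Classical in
theorem card_mul_klS [Fintype G] {H : Subgroup G} {j : (Res M)[G]} (hj : j ∈ Fix (Res M) H H)
    (hi : IsIdempotentElem j) :
    Nat.card H * (klS M p H j).1 = ∑ u : G with u ∈ H ∧ ∃ n, orderOf u = p ^ n,
      Nat.card (CK H (Subgroup.zpowers u)) *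
        (klS M p (CK H (Subgroup.zpowers u)) (br (Subgroup.zpowers u) j)).2 := by
  rw [Finset.sum_congr rfl fun u hu => by
    rw [← sum_klS_br hM (H6.isPGroup_zpowers hM.1 (Finset.mem_filter.1 hu).2.2)
      (Subgroup.zpowers_le.2 (Finset.mem_filter.1 hu).2.1) hj hi, Prod.snd_sum, Finset.mul_sum],
    Finset.sum_comm, klS, Prod.fst_sum, Finset.mul_sum]
  refine Finset.sum_congr rfl fun f hf => ?_
  split_ifs
  · exact card_mul_kl hM ((isCommSub_Z _).mem_prims.1 hf)
  · simp

open Classical in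
theorem card_mul_klS_sub [Fintype G] {H : Subgroup G} {j : (Res M)[G]} (hj : j ∈ Fix (Res M) H H)
    (hi : IsIdempotentElem j) :
    (Nat.card H : ℤ) * (((klS M p H j).1 : ℤ) - (klS M p H j).2) =
      ∑ u : G with u ≠ 1 ∧ ∃ n, orderOf u = p ^ n, if u ∈ H then
        ((Nat.card (CK H (Subgroup.zpowers u)) *
          (klS M p (CK H (Subgroup.zpowers u)) (br (Subgroup.zpowers u) j)).2 : ℕ) : ℤ) else 0 := by
  have h := card_mul_klS hM hj hi
  rw [← Finset.add_sum_erase _ _ (a := 1) (Finset.mem_filter.2 ⟨Finset.mem_univ _, H.one_mem, 0,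
    by simp⟩), Subgroup.zpowers_one_eq_bot, CK_bot, br_bot] at h
  rw [mul_sub, ← Nat.cast_mul, h, ← Finset.sum_filter, Finset.filter_filter, Nat.cast_add,
    Nat.cast_mul, add_sub_cancel_left, Nat.cast_sum]
  refine Finset.sum_congr ?_ fun _ _ => rfl
  ext u
  simp only [Finset.mem_erase, Finset.mem_filter, Finset.mem_univ, true_and]
  tauto

omit [Finite G] in
theorem card_blockRank_union {G : Type*} [Group G] [Fintype G] (Φ : Set (IrrCharacter G) → Prop)
    (hΦ : ∀ b, Φ b → IsPBlock M b) [DecidablePred Φ] :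
    (Nat.card {ψ | ∃ β, ψ ∈ β ∧ Φ β}, blockRank p {ψ | ∃ β, ψ ∈ β ∧ Φ β}) =
      ∑ b ∈ (blocks M G).filter Φ, (Nat.card b, blockRank p b) := by
  classical
  have h1 : bfin {ψ | ∃ β, ψ ∈ β ∧ Φ β} = ((blocks M G).filter Φ).biUnion bfin := by
    ext ψ
    simp only [H8.mem_bfin, Set.mem_ofPred_eq, Finset.mem_biUnion, Finset.mem_filter, H6.mem_blocks]
    exact ⟨fun ⟨β, h1, h2⟩ => ⟨β, ⟨hΦ β h2, h2⟩, h1⟩, fun ⟨β, h1, h2⟩ => ⟨β, h2, h1.2⟩⟩
  have h2 : (((blocks M G).filter Φ : Finset _) : Set (Set (IrrCharacter G))).PairwiseDisjoint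
      bfin := fun b hb b' hb' hne => Finset.disjoint_left.2 fun ψ h h' => hne
        (H8.block_eq_of_mem (hΦ b (Finset.mem_filter.1 hb).2) (hΦ b' (Finset.mem_filter.1 hb').2)
          (H8.mem_bfin.1 h) (H8.mem_bfin.1 h'))
  refine Prod.ext ?_ (Nat.cast_injective (R := ℂ) ?_)
  · rw [Prod.fst_sum, ← H8.card_bfin, h1, Finset.card_biUnion h2]
    exact Finset.sum_congr rfl fun b _ => H8.card_bfin b
  · rw [Prod.snd_sum, Nat.cast_sum, Finset.sum_congr rfl fun b hb =>
      H8.blockRank_eq_sum hM (hΦ b (Finset.mem_filter.1 hb).2), ← Finset.sum_biUnion h2, ← h1]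
    refine H8.finrank_eq_sum_of_idem _ (H8.pRegL p G) ?_ fun χ _ => H8.pReg_pReg _
    rintro χ ⟨β, h3, h4⟩
    have h5 : β ⊆ {ψ | ∃ β, ψ ∈ β ∧ Φ β} := fun ψ hψ => ⟨β, hψ, h4⟩
    exact Submodule.span_mono (Set.image_mono h5) (H8.pReg_mem_bspan hM (hΦ β h4) h3)

attribute [local instance] H8.subFintype

section abelian
variable {G : Type*} [Group G] [Fintype G] {P : Subgroup G} {e : (Res M)[G]}
  {B : Set (IrrCharacter G)} (hB : IsPBlock M B) (S : MaxP p ⊤ ⊤ (eB M B) P e)
include S

theorem MaxP.fus_iff_of_central {u v : G} (hu : u ∈ P) (hv : v ∈ P)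
    (hu' : u ∈ Subgroup.centralizer (P : Set G)) (hv' : v ∈ Subgroup.centralizer (P : Set G)) :
    Fus M p P e u v ↔ ∃ t ∈ NS ⊤ P e, t * u * t⁻¹ = v := by
  haveI := H6.charP_res hM
  refine ⟨fun h => ?_, fun ⟨t, ht, h⟩ => h ▸ fus_conj hM S.pair hu ht⟩
  obtain ⟨g, rfl, h2⟩ := (fus_iff hM S.pair hv).1 h
  obtain ⟨t, ht, h3⟩ := S.burnside (bsec_spec hM S.pair hu).2 (Subgroup.mem_top g) h2
    (Subgroup.le_centralizer_iff.1 (Subgroup.zpowers_le.2 hu'))
    (by rw [conj_smul_zpowers]; exact Subgroup.le_centralizer_iff.1 (Subgroup.zpowers_le.2 hv'))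
  refine ⟨_, h3, ?_⟩
  rw [conj_smul_zpowers] at ht
  rw [← mem_centralizer_iff_conj.1 ht _ (Subgroup.mem_zpowers _)]
  group

include hB

open Classical in
theorem MaxP.sum_linear_rank {lam : P →* ℂˣ} (h : Stable M p P e fun u => (lam u : ℂ))
    (hab : P ≤ Subgroup.centralizer (P : Set G)) :
    ∑ u : P, (lam u : ℂ) * blockRank p (bsec M p P e u) / Nat.card {v : P // Fus M p P e u v} =
      if lam = 1 then (Nat.card B : ℂ) else 0 := by
  have h1 : ∑ u : P, (lam u : ℂ) * blockRank p (bsec M p P e u) /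
      Nat.card {v : P // Fus M p P e u v} =
      ∑ χ ∈ bfin B, classInner (starP M p P e (fun u => (lam u : ℂ)) χ) χ := by
    have h2 := fun (χ : IrrCharacter G) (hχ : χ ∈ bfin B) =>
      (congrArg (classInner _) (S.starP_one hM hB (H8.mem_bspan_of_mem
        (H8.mem_bfin.1 hχ))).symm).trans (S.inner_starP hM hB h (stable_const 1)
          (H8.mem_bspan_of_mem (H8.mem_bfin.1 hχ)) χ.2.isClassFunction)
    rw [Finset.sum_congr rfl h2, Finset.sum_comm]
    refine Finset.sum_congr rfl fun u _ => ?_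
    rw [← (S.secData hM u.2).sum_inner_sub_self hM (S.bsec_induced hM hB u.2), Finset.mul_sum,
      Finset.sum_div]
    simp
  rw [h1]
  split_ifs with h2
  · subst h2
    simp only [MonoidHom.one_apply, Units.val_one]
    rw [Finset.sum_congr rfl fun (χ : IrrCharacter G) hχ => (congrArg (classInner · (χ : G → ℂ))
      (S.starP_one hM hB (H8.mem_bspan_of_mem (H8.mem_bfin.1 hχ)))).trans χ.2.classInner_self,
      Finset.sum_const, H8.card_bfin, nsmul_eq_mul, mul_one]
  · refine Finset.sum_eq_zero fun χ hχ => ?_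
    obtain ⟨ψ, -, -, h3⟩ := S.exists_starP_linear hM hB h (H8.mem_bfin.1 hχ)
    rw [← h3]
    refine ψ.2.classInner_of_ne χ.2 fun h4 => h2 (MonoidHom.ext fun u => Units.ext ?_)
    exact S.eq_one_of_starP_eq hM hB h (h3.symm.trans h4)
      (S.sub_ne_zero_of_central hM hB (H8.mem_bfin.1 hχ) u.2 (hab u.2))

end abelian

open Classical in
theorem MaxP.sum_linear_kl {G : Type*} [Group G] [Fintype G] {L P : Subgroup G} 
    {b e : (Res M)[G]} (S : MaxP p L L b P e) (hab : P ≤ Subgroup.centralizer (P : Set G)) {lam : P →* ℂˣ}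
    (hlam : ∀ t ∈ NS L P e, ∀ u v : P, t * u * t⁻¹ = v → lam u = lam v) (g : G → (Res M)[G])
    (hg : ∀ v ∈ P, Blk (CK L (Subgroup.zpowers v)) (g v) ∧ br P (g v) * e = e) :
    ∑ u : P, (lam u : ℂ) * (kl M p (CK L (Subgroup.zpowers (u : G))) (g u)).2 /
      Nat.card {v : P // ∃ t ∈ NS L P e, t * u * t⁻¹ = v} =
        if lam = 1 then ((kl M p L b).1 : ℂ) else 0 := by
  haveI := H6.charP_res hM
  have hφ := L.subtype_injective
  obtain ⟨B, hB, rfl⟩ := exists_eb_eq S.prim
  obtain ⟨P, rfl⟩ : ∃ P' : Subgroup L, P'.map L.subtype = P :=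
    ⟨_, Subgroup.map_subgroupOf_eq_of_le S.isDef.le⟩
  have hC := CK_map hφ ⊤
  rw [map_subtype_top] at hC
  obtain ⟨e, -, rfl⟩ := exists_blk_push_eq hφ (hC P ▸ S.blk)
  have S' : MaxP p ⊤ ⊤ (eB M B) P e := maxP_of_push hφ (by rw [map_subtype_top]; exact S)
  have hab' : P ≤ Subgroup.centralizer (P : Set L) := fun x hx =>
    (mem_centralizer_map_iff hφ).1 (hab ⟨x, hx, rfl⟩)
  let E := P.equivMapOfInjective L.subtype hφ
  have hF : ∀ u v : P, Fus M p P e u v ↔
      ∃ t ∈ NS L (P.map L.subtype) (push _ L.subtype e), t * (E u : G) * t⁻¹ = E v := fun u v => by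
    rw [S'.fus_iff_of_central hM u.2 v.2 (hab' u.2) (hab' v.2)]
    constructor
    · rintro ⟨t, ht, h⟩
      have h1 := (mem_NS_push hφ).2 ht
      rw [map_subtype_top] at h1
      exact ⟨t, h1, congrArg Subtype.val h⟩
    · rintro ⟨t, ht, h⟩
      exact ⟨⟨t, ht.2.1⟩, (mem_NS_push hφ).1 (by rw [map_subtype_top]; exact ht), Subtype.ext h⟩
  have h := S'.sum_linear_rank hM hB (lam := lam.comp E.toMonoidHom) (fun u v huv => by
    obtain ⟨t, ht, h⟩ := (hF u v).1 huv
    exact congrArg Units.val (hlam t ht _ _ h)) hab'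
  have h1 : lam.comp E.toMonoidHom = 1 ↔ lam = 1 :=
    ⟨fun h => MonoidHom.ext fun x => by
      obtain ⟨y, rfl⟩ := E.surjective x
      exact DFunLike.congr_fun h y, fun h => by rw [h, MonoidHom.one_comp]⟩
  simp only [h1] at h
  rw [kl_eb hB, ← h]
  refine (E.toEquiv.sum_comp _).symm.trans (Finset.sum_congr rfl fun u _ => ?_)
  have h2 := bsec_spec hM S'.pair u.2
  have h3 : (Subgroup.zpowers (u : L)).map L.subtype = Subgroup.zpowers (E u : G) :=
    MonoidHom.map_zpowers _ _
  have h4 : P ≤ Subgroup.centralizer ({(u : L)} : Set L) :=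
    hab'.trans (Subgroup.centralizer_le (Set.singleton_subset_iff.2 u.2))
  have h5 : g (E u) = push _ L.subtype (eb M _ (bsec M p P e u)) := by
    refine Blk.eq_of_br_mul S.pair.isPGroup ?_ (hg _ (E u).2).1 ?_ S.blk.ne_zero (hg _ (E u).2).2 ?_
    · rw [← h3, hC, CK_top_zpowers]; exact Subgroup.map_mono h4
    · rw [← h3, hC, CK_top_zpowers]; exact (blk_push_iff hφ).2 (blk_eb h2.1)
    · rw [br_push hφ, ← map_mul, (h2.2.nle S'.pair ((h4.trans (centralizer_zpowers _).ge).trans
        (Subgroup.centralizer_le_normalizer _))).br_absorb]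
  congr 2
  · change ((kl M p (CK L (Subgroup.zpowers (E u : G))) (g (E u))).2 : ℂ) = _
    rw [h5, ← h3, hC, CK_top_zpowers, kl_push hφ (blk_eb h2.1), kl_eb h2.1]
  · exact (Nat.card_congr (E.toEquiv.subtypeEquiv fun v => hF u v)).symm

end Cfsg.Agent.H7
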