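import Cfsg.Agent.H7.Pim2
import Cfsg.Agent.H7.Rank

/-!
Blocks with one Brauer character and decomposition numbers one; blocks whose characters have
equal degrees.
-/

set_option linter.style.haveILetI false

namespace Cfsg.Agent.H7

open MonoidAlgebra Cfsg Cfsg.Agent.H3 Cfsg.Agent.H4 Module
open Cfsg.Agent.H6 (Res locRing redC redA eB fB intAlg classSum omega chiL red blocks liftA liftC)
open Cfsg.Agent.H8 (bspan bfin pRegL lat qf cm rdeg SecData sec sub)
open scoped Pointwise ComplexConjugate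

variable {M : Ideal AlgInt} [hMm : M.IsMaximal] {G : Type*} [Group G] [Fintype G] {p : ℕ}
  [Fact p.Prime] (hM : IsPModular p M) {B : Set (IrrCharacter G)} (hB : IsPBlock M B)
include hM hB

theorem qf_rank_one {f g f' g' : G → ℂ} (hf : f ∈ lat p B) (hg : g ∈ lat p B) (hf' : f' ∈ lat p B)
    (hg' : g' ∈ lat p B) : (qf p B f g : Res M) * qf p B f' g' = qf p B f g' * qf p B f' g := by
  obtain ⟨c, -, hc⟩ := H8.exists_cm_const hM hB
  have key : ∀ a a' : IrrCharacter G → ℤ,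
      (qf p B (∑ ξ ∈ bfin B, (a ξ : ℂ) • pRegularPart p (ξ : G → ℂ))
        (∑ ξ ∈ bfin B, (a' ξ : ℂ) • pRegularPart p (ξ : G → ℂ)) : Res M) =
        c * (∑ ξ ∈ bfin B, a ξ * (rdeg p B ξ : Res M)) *
          ∑ ξ ∈ bfin B, a' ξ * (rdeg p B ξ : Res M) := by
    intro a a'
    have h1 := H8.qf_cast (H8.mem_lat_iff.mpr ⟨a, rfl⟩ : _ ∈ lat p B) (H8.mem_lat_iff.mpr ⟨a', rfl⟩)
    rw [H8.pow_inner_sum] at h1
    rw [Int.cast_injective h1, mul_assoc, Finset.sum_mul_sum, Finset.mul_sum]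
    push_cast
    refine Finset.sum_congr rfl fun ξ hξ => ?_
    rw [Finset.mul_sum]
    refine Finset.sum_congr rfl fun ζ hζ => ?_
    rw [hc ξ (H8.mem_bfin.mp hξ) ζ (H8.mem_bfin.mp hζ)]; ring
  obtain ⟨a, rfl⟩ := H8.mem_lat_iff.mp hf
  obtain ⟨b, rfl⟩ := H8.mem_lat_iff.mp hg
  obtain ⟨a', rfl⟩ := H8.mem_lat_iff.mp hf'
  obtain ⟨b', rfl⟩ := H8.mem_lat_iff.mp hg'
  rw [key, key, key, key]; ring

theorem nonempty_IBr : Nonempty (IBr M B) := by
  rw [← Fintype.card_pos_iff, card_IBr hM hB]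
  exact H8.blockRank_pos hM.1 (H6.block_nonempty hB)

/-- a block whose Cartan invariants are all divisible by `p ^ d` has one Brauer character -/
theorem blockRank_eq_one_of_dvd (h : ∀ j l : IBr M B,
    p ^ blockDefect p B ∣ ∑ χ ∈ bfin B, dnat M χ (pim j) * dnat M χ (pim l)) :
    blockRank p B = 1 := by
  choose c hc using h
  have h0 := H8.pow_cast_ne_zero (p := p) (blockDefect p B)
  have hf : ∀ j, ∑ l, (c j l : ℂ) • ibr hM hB l ∈ lat p B := fun j => sum_mem fun l _ => by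
    exact_mod_cast H8.intCast_smul_mem_lat (c j l) (ibr_mem_lat hM hB l)
  have hq : ∀ j l, qf p B (ibr hM hB l) (∑ l, (c j l : ℂ) • ibr hM hB l) =
      if l = j then 1 else 0 := by
    intro j l
    have h1 := H8.qf_cast (ibr_mem_lat hM hB l) (hf j)
    have h2 : prj M (pim j) =
        ((p ^ blockDefect p B : ℕ) : ℂ) • ∑ l, (c j l : ℂ) • ibr hM hB l := by
      rw [prj_eq_sum_ibr hM hB (pim_idem j) (eB_mul_pim j), Finset.smul_sum]
      exact Finset.sum_congr rfl fun l _ => by rw [hc, Nat.cast_mul, mul_smul]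
    have h3 := inner_ibr_prj hM hB l j
    rw [h2, classInner_smul_right, map_natCast, ← h1] at h3
    split_ifs at h3 ⊢ <;> exact_mod_cast h3
  rw [← card_IBr hM hB, Fintype.card_eq_one_iff]
  obtain ⟨j⟩ := nonempty_IBr hM hB
  refine ⟨j, fun l => by_contra fun hne => ?_⟩
  have := qf_rank_one hM hB (ibr_mem_lat hM hB l) (hf l) (ibr_mem_lat hM hB j) (hf j)
  simp [hq, hne] at this

theorem exists_dnat_ne_zero (j : IBr M B) : ∃ χ ∈ B, dnat M χ (pim j) ≠ 0 := by
  by_contra h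
  push Not at h
  have h2 := inner_ibr_prj hM hB j j
  rw [prj_eq_sum hB (pim_idem j) (eB_mul_pim j), Finset.sum_eq_zero fun χ hχ => by
    rw [h χ (H8.mem_bfin.1 hχ), Nat.cast_zero, zero_smul], classInner_zero_right,
    if_pos rfl] at h2
  exact zero_ne_one h2

theorem exists_unique_of_eq_degree {n : ℕ} (hn : ∀ χ ∈ B, charDegree (χ : G → ℂ) = n) :
    ∃ j : IBr M B, (∀ l, l = j) ∧ ∀ χ ∈ B, dnat M χ (pim j) = 1 := by
  obtain ⟨χ₀, h₀, h₀'⟩ := H8.exists_height_zero (p := p) (H6.block_nonempty hB)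
  have hn0 : 0 < n := hn χ₀ h₀ ▸ H8.irr_charDegree_pos χ₀
  have h1 : ∀ χ ∈ B, ∃ j : IBr M B, ∀ l, dnat M χ (pim l) = if l = j then 1 else 0 := by
    intro χ hχ
    have e := charDegree_eq_sum hM hB hχ
    rw [hn χ hχ] at e
    have hle : ∑ j : IBr M B, dnat M χ (pim j) ≤ 1 := by
      refine Nat.le_of_mul_le_mul_right ?_ hn0
      rw [one_mul, Finset.sum_mul]
      refine le_of_le_of_eq (Finset.sum_le_sum fun j _ => Nat.mul_le_mul_left _ ?_) e.symm
      exact Nat.le_of_dvd (ideg_pos hM hB j) (dvd_ideg hM hB (fun χ hχ => (hn χ hχ).ge.antisymm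
        (hn χ hχ).le ▸ dvd_rfl) j)
    obtain ⟨j, -, hj⟩ := Finset.exists_ne_zero_of_sum_ne_zero (e ▸ hn0.ne')
    have hj' := left_ne_zero_of_mul hj
    refine ⟨j, fun l => ?_⟩
    split_ifs with hl
    · subst hl
      have := Finset.single_le_sum (f := fun j : IBr M B => dnat M χ (pim j))
        (fun _ _ => Nat.zero_le _) (Finset.mem_univ l)
      omega
    · have := Finset.add_le_sum (f := fun j : IBr M B => dnat M χ (pim j))
        (fun _ _ => Nat.zero_le _) (Finset.mem_univ l) (Finset.mem_univ j) hl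
      omega
  obtain ⟨j, hj⟩ := h1 χ₀ h₀
  have h2 : ∀ χ ∈ B, dnat M χ (pim j) = 1 := by
    intro χ hχ
    obtain ⟨l, hl⟩ := h1 χ hχ
    by_contra hne
    have hjl : j ≠ l := fun h => hne (by rw [hl, if_pos h])
    have e1 : ∀ {ψ : IrrCharacter G} {i : IBr M B}, ψ ∈ B →
        (∀ l, dnat M ψ (pim l) = if l = i then 1 else 0) →
          pRegularPart p (ψ : G → ℂ) = ibr hM hB i := by
      intro ψ i hψ h
      rw [pReg_irr_eq_sum_ibr hM hB hψ]
      simp [h]
    have e2 := inner_ibr_prj hM hB j l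
    rw [if_neg hjl, prj_eq_sum_ibr hM hB (pim_idem l) (eB_mul_pim l), Finset.sum_eq_single l,
      classInner_smul_right, map_natCast] at e2
    · have e3 : ∑ ψ ∈ bfin B, dnat M ψ (pim l) * dnat M ψ (pim l) ≠ 0 := by
        rw [Ne, Finset.sum_eq_zero_iff]
        intro h
        simpa [hl] using h χ (H8.mem_bfin.2 hχ)
      have e4 := (mul_eq_zero.1 e2).resolve_left (Nat.cast_ne_zero.2 e3)
      apply H8.cm_ne_zero_of_height_zero hM hB h₀ h₀' hχ
      have e5 := H8.cm_cast (p := p) h₀ χ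
      rw [← H8.classInner_pReg_pReg, e1 h₀ hj, e1 hχ hl, e4, mul_zero] at e5
      exact_mod_cast e5
    · intro i _ hi
      rw [Finset.sum_eq_zero, Nat.cast_zero, zero_smul]
      intro ψ hψ
      obtain ⟨t, ht⟩ := h1 ψ (H8.mem_bfin.1 hψ)
      rw [ht, ht]
      split_ifs with h h'
      · exact absurd (h'.trans h.symm) hi
      all_goals rfl
    · simp
  refine ⟨j, fun l => ?_, h2⟩
  obtain ⟨χ, hχ, h⟩ := exists_dnat_ne_zero hM hB l
  obtain ⟨t, ht⟩ := h1 χ hχ
  have e1 := h2 χ hχ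
  rw [ht] at h e1
  have e2 : l = t := by by_contra h'; exact h (if_neg h')
  have e3 : j = t := by by_contra h'; rw [if_neg h'] at e1; exact zero_ne_one e1
  exact e2.trans e3.symm

section one
variable {j : IBr M B} (hj : ∀ l, l = j)
include hj

theorem pReg_eq_smul_ibr {χ : IrrCharacter G} (hχ : χ ∈ B) :
    pRegularPart p (χ : G → ℂ) = (dnat M χ (pim j) : ℂ) • ibr hM hB j := by
  rw [pReg_irr_eq_sum_ibr hM hB hχ, Finset.sum_eq_single j fun l _ hl => absurd (hj l) hl]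
  simp

theorem dnat_ne_zero {χ : IrrCharacter G} (hχ : χ ∈ B) : dnat M χ (pim j) ≠ 0 := by
  intro h
  have := congrFun (pReg_eq_smul_ibr hM hB hj hχ) 1
  rw [h, H8.pReg_one_apply hM.1, Nat.cast_zero, zero_smul] at this
  exact χ.2.apply_one_ne_zero this

/-- the Cartan invariant of a block with one Brauer character -/
theorem sum_dnat_sq : ∑ χ ∈ bfin B, dnat M χ (pim j) * dnat M χ (pim j) = p ^ blockDefect p B := by
  obtain ⟨χ₀, h₀, h₀'⟩ := H8.exists_height_zero (p := p) (H6.block_nonempty hB)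
  have e2 := inner_ibr_prj hM hB j j
  rw [if_pos rfl, prj_eq_sum_ibr hM hB (pim_idem j) (eB_mul_pim j),
    Finset.sum_eq_single j (fun l _ hl => absurd (hj l) hl) (by simp),
    classInner_smul_right, map_natCast] at e2
  set c := ∑ χ ∈ bfin B, dnat M χ (pim j) * dnat M χ (pim j)
  have e3 := H8.qf_cast (ibr_mem_lat hM hB j) (ibr_mem_lat hM hB j)
  set q := qf p B (ibr hM hB j) (ibr hM hB j)
  have e4 : (c : ℤ) * q = (p ^ blockDefect p B : ℕ) := by
    have : ((c * q : ℤ) : ℂ) = ((p ^ blockDefect p B : ℕ) : ℤ) := by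
      rw [Int.cast_mul, e3, Int.cast_natCast, Int.cast_natCast, mul_left_comm, e2, mul_one]
    exact Int.cast_injective this
  have e5 := H8.cm_cast (p := p) h₀ χ₀
  rw [← H8.classInner_pReg_pReg, pReg_eq_smul_ibr hM hB hj h₀, classInner_smul_left,
    classInner_smul_right, map_natCast, mul_left_comm, mul_left_comm ((p ^ _ : ℕ) : ℂ), ← e3] at e5
  have e6 : cm p B χ₀ χ₀ = dnat M χ₀ (pim j) * (dnat M χ₀ (pim j) * q) := by exact_mod_cast e5
  have e7 : ¬ (p : ℤ) ∣ q := fun h => H8.not_dvd_cm_self hM hB h₀ h₀' h₀ h₀'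
    (e6 ▸ (h.mul_left _).mul_left _)
  have e8 := congrArg Int.natAbs e4
  rw [Int.natAbs_mul, Int.natAbs_natCast, Int.natAbs_natCast] at e8
  obtain ⟨i, -, hi⟩ := (Nat.dvd_prime_pow hM.1).1 (Dvd.intro_left c e8)
  rcases i with _ | i
  · rw [← e8, hi, pow_zero, mul_one]
  · exact absurd (Int.natCast_dvd.2 (hi ▸ dvd_pow_self p i.succ_ne_zero)) e7

omit [Fact p.Prime] hM in
theorem exists_eB_eq_sum : ∃ (n : ℕ) (a b : Fin n → (Res M)[G]),
    eB M B = ∑ t, a t * pim j * b t :=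
  exists_sum_eq_of_eqv (k := Res M) (H6.eB_mul_self hB) (H6.center_comm (H6.eB_mem_center B))
    (pim_idem j) fun i hi h => by
      obtain ⟨l, hl⟩ := exists_eqv_pim hi h
      exact hj l ▸ hl

variable (h1 : ∀ χ ∈ B, dnat M χ (pim j) = 1)
include h1

theorem card_eq_of_dnat : Nat.card B = p ^ blockDefect p B := by
  rw [← sum_dnat_sq hM hB hj, ← H8.card_bfin, Finset.card_eq_sum_ones]
  exact Finset.sum_congr rfl fun χ hχ => by rw [h1 χ (H8.mem_bfin.1 hχ)]

theorem exists_center_omega_eq {y : ℂ[G]} (hy : y ∈ intAlg M G) :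
    ∃ w ∈ Subalgebra.center ℂ ℂ[G], w ∈ intAlg M G ∧ fB B * w = w ∧
      ∀ χ ∈ B, omega (χ : G → ℂ) w = chiL (χ : G → ℂ) y := by
  classical
  haveI := Fintype.ofFinite B
  obtain ⟨x, x1, x2, x3⟩ := exists_lift (pim_idem j)
  have hx : ∀ χ : IrrCharacter G, chiL (χ : G → ℂ) x = dnat M χ (pim j) := fun χ => by
    rw [dnat_cast, ← x3, dn_redA χ.2.isClassFunction x1 x2]
  obtain ⟨n, a, b, hab⟩ := exists_eB_eq_sum hB hj
  obtain ⟨a, b, ha, hb, hab⟩ := exists_fB_eq_sum hB x1 (x3 ▸ hab)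
  let V := LinearMap.range (mulLR ℂ x x)
  have hV : finrank ℂ V = Fintype.card B := by
    have := finrank_mulLR_complex x2 x2
    simp only [hx] at this
    rw [H8.sum_eq_sum_bfin B _ fun χ hχ => by
      rw [dnat_eq_zero hB (pim_idem j) (eB_mul_pim j) hχ, Nat.cast_zero, zero_mul],
      Finset.sum_congr rfl fun χ hχ => by rw [h1 χ (H8.mem_bfin.1 hχ)]] at this
    simp only [Nat.cast_one, mul_one, Finset.sum_const, nsmul_eq_mul, H8.card_bfin] at this
    rw [← Nat.card_eq_fintype_card]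
    exact_mod_cast this
  let v : B → V := fun χ => ⟨fB {χ.1} * x, (mem_range_mulLR x2 x2).2
    ⟨by rw [← mul_assoc, ← H6.center_comm (H6.fB_mem_center _), mul_assoc, x2.eq],
      by rw [mul_assoc, x2.eq]⟩⟩
  have hv : LinearIndependent ℂ v := by
    rw [Fintype.linearIndependent_iff]
    intro c hc ψ
    have := congrArg (fun z : V => chiL (ψ.1 : G → ℂ) z) hc
    simp only [Submodule.coe_sum, Submodule.coe_smul, map_sum, map_smul, Submodule.coe_zero,
      map_zero, v] at this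
    rw [Finset.sum_eq_single ψ, H6.chiL_fB_mul_of_mem (Set.mem_singleton _), hx, h1 _ ψ.2] at this
    · simpa using this
    · intro χ _ hχ
      rw [H6.chiL_fB_mul_of_not_mem fun h => hχ (Subtype.ext h.symm), smul_zero]
    · simp
  have hsp := hv.span_eq_top_of_card_eq_finrank' hV.symm
  have hy' : ∑ t, x * (b t * y * a t * x) ∈ V :=
    Submodule.sum_mem _ fun t _ => ⟨b t * y * a t, rfl⟩
  obtain ⟨c, hc⟩ := (Submodule.mem_span_range_iff_exists_fun ℂ).1
    (hsp ▸ Submodule.mem_top : (⟨_, hy'⟩ : V) ∈ Submodule.span ℂ (Set.range v))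
  have hz : ∑ χ : B, c χ • fB {χ.1} ∈ Subalgebra.center ℂ ℂ[G] :=
    sum_mem fun χ _ => Subalgebra.smul_mem _ (H6.fB_mem_center _) _
  set z := ∑ χ : B, c χ • fB {χ.1} with hz'
  have hzx : z * x = ∑ t, x * (b t * y * a t * x) := by
    have := congrArg Subtype.val hc
    simp only [Submodule.coe_sum, Submodule.coe_smul, v] at this
    rw [← this, hz', Finset.sum_mul]
    simp only [smul_mul_assoc]
  refine ⟨fB B * z, mul_mem (H6.fB_mem_center B) hz, ?_, by rw [← mul_assoc, H6.fB_mul_self],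
    fun χ hχ => ?_⟩
  · have : fB B * z = ∑ t, a t * (z * x) * b t := by
      rw [hab, Finset.sum_mul]
      refine Finset.sum_congr rfl fun t _ => ?_
      rw [← H6.center_comm hz, ← mul_assoc, ← mul_assoc, ← mul_assoc, H6.center_comm hz]
    rw [this, hzx]
    exact sum_mem fun t _ => mul_mem (mul_mem (ha t) (sum_mem fun s _ =>
      mul_mem x1 (mul_mem (mul_mem (mul_mem (hb s) hy) (ha s)) x1))) (hb t)
  · have e := H6.chiL_center_mul χ.2 hz x
    rw [hx, h1 χ hχ, Nat.cast_one, mul_one] at e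
    rw [H6.omega_center_mul χ.2 (H6.fB_mem_center B), H6.omega_fB_of_mem hχ, one_mul, ← e, hzx,
      ← H6.chiL_fB_mul_of_mem hχ y, hab, Finset.sum_mul, map_sum, map_sum]
    refine Finset.sum_congr rfl fun t _ => ?_
    rw [H6.chiL_mul_comm χ.2.isClassFunction x, mul_assoc _ x x, x2.eq, mul_assoc (b t * y),
      H6.chiL_mul_comm χ.2.isClassFunction (b t * y), mul_assoc (a t * x)]

theorem sum_chiL_mul_div_mem {x y : ℂ[G]} (hx : x ∈ intAlg M G) (hy : y ∈ intAlg M G) :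
    (∑ χ ∈ bfin B, chiL (χ : G → ℂ) x * chiL (χ : G → ℂ) y) / ((p ^ blockDefect p B : ℕ) : ℂ) ∈
      locRing M := by
  obtain ⟨w, w1, w2, w3, w4⟩ := exists_center_omega_eq hM hB hj h1 hx
  obtain ⟨χ₀, h₀, h₀'⟩ := H8.exists_height_zero (p := p) (H6.block_nonempty hB)
  have hdeg : ∀ χ ∈ B, (χ : G → ℂ) 1 = (χ₀ : G → ℂ) 1 := by
    intro χ hχ
    rw [← H8.pReg_one_apply hM.1 (χ : G → ℂ), pReg_eq_smul_ibr hM hB hj hχ, h1 χ hχ,
      ← H8.pReg_one_apply hM.1 (χ₀ : G → ℂ), pReg_eq_smul_ibr hM hB hj h₀, h1 χ₀ h₀]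
  have e1 : chiL (regChar G) (w * y) = Nat.card G * (w * y).coeff 1 := by
    rw [H6.chiL_apply, sum_mul_regChar]
  rw [regChar_eq_sum, H6.chiL_sum_fun, H8.sum_eq_sum_bfin B _ fun χ hχ => by
      rw [H6.chiL_smul_fun, ← w3, mul_assoc, H6.chiL_fB_mul_of_not_mem hχ, mul_zero],
    Finset.sum_congr rfl fun χ hχ => by
      rw [H6.chiL_smul_fun, H6.chiL_center_mul χ.2 w1, w4 χ (H8.mem_bfin.1 hχ),
        hdeg χ (H8.mem_bfin.1 hχ)], ← Finset.mul_sum, ← H8.irr_coe_charDegree] at e1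
  have hp0 := H8.pow_cast_ne_zero (p := p) (blockDefect p B)
  have hd0 : (charDegree (χ₀ : G → ℂ) : ℂ) ≠ 0 := Nat.cast_ne_zero.2 (H8.irr_charDegree_ne_zero _)
  have e2 : (∑ χ ∈ bfin B, chiL (χ : G → ℂ) x * chiL (χ : G → ℂ) y) /
      ((p ^ blockDefect p B : ℕ) : ℂ) = (Nat.card G : ℂ) /
        ((charDegree (χ₀ : G → ℂ) * p ^ blockDefect p B : ℕ) : ℂ) * (w * y).coeff 1 := by
    rw [Nat.cast_mul, div_mul_eq_mul_div, ← e1, mul_div_mul_left _ _ hd0]
  rw [e2]
  refine mul_mem ((H6.natCast_div_mem_iff hM Nat.card_pos.ne' (mul_ne_zero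
    (H8.irr_charDegree_ne_zero _) (pow_ne_zero _ hM.1.ne_zero))).2 ?_) (mul_mem w2 hy 1)
  rw [Nat.factorization_mul (H8.irr_charDegree_ne_zero _) (pow_ne_zero _ hM.1.ne_zero),
    Finsupp.add_apply, hM.1.factorization_pow, Finsupp.single_eq_same,
    (H8.height_eq_zero_iff h₀).1 h₀', add_comm, H8.defect_add_bmin ⟨χ₀, h₀⟩]

theorem blockRank_eq_one_of_major {u : G} {C : Subgroup G} [Fintype C] (h : SecData p u C)
    {b : Set (IrrCharacter C)} (hind : IsInducedBlock M C b B)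
    (hd : blockDefect p b = blockDefect p B) : blockRank p b = 1 := by
  have hb := hind.1
  refine blockRank_eq_one_of_dvd hM hb fun i l => ?_
  obtain ⟨x, x1, x2, x3⟩ := exists_lift (pim_idem i)
  obtain ⟨y, y1, y2, y3⟩ := exists_lift (pim_idem l)
  have e1 := h.sum_inner_sub hM hind (prj_mem_bspan hb (pim_idem i) (eB_mul_pim i))
    (prj_mem_bspan hb (pim_idem l) (eB_mul_pim l))
  rw [pReg_prj hM, inner_prj_prj hb (pim_idem i) (eB_mul_pim i)] at e1
  have key : ∀ {v : G}, SecData p v C → ∀ {θ : G → ℂ}, IsClassFunction G θ → ∀ {z : ℂ[C]},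
      z ∈ intAlg M C → IsIdempotentElem z → classInner (sec v C θ) (prj M (redA M z)) =
        chiL θ (single v 1 * H6.incl ℂ C z) := by
    intro v hv θ hθ z z1 z2
    rw [inner_prj (hv.isClassFunction_sec hθ), dn_redA (hv.isClassFunction_sec hθ) z1 z2,
      H6.eq_sum_smul_single z]
    simp only [map_sum, map_smul, Finset.mul_sum, mul_smul_comm, H6.incl_single,
      single_mul_single, H6.chiL_single, H8.sec_apply, one_mul]
  have key2 : ∀ (χ : IrrCharacter G) (t : IBr M b), classInner (sub p u b χ) (prj M (pim t)) =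
      classInner (sec u C χ) (prj M (pim t)) := fun χ t => by
    rw [h.inner_sub_left hM hb χ.2.isClassFunction (prj_mem_bspan hb (pim_idem t) (eB_mul_pim t)),
      h.inner_lift_right χ.2.isClassFunction, pReg_prj hM]
  have e2 : ∀ χ ∈ bfin B, classInner (prj M (pim i)) (sub p u b χ) *
      classInner (sub p u b χ) (prj M (pim l)) = chiL (χ : G → ℂ) (single u⁻¹ 1 * H6.incl ℂ C x) *
        chiL (χ : G → ℂ) (single u 1 * H6.incl ℂ C y) := by
    intro χ _
    rw [← classInner_conj_symm, key2, key2, ← key h χ.2.isClassFunction y1 y2, y3,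
      ← key h.inv χ.2.isClassFunction x1 x2, x3, classInner_conj_symm, classInner_def,
      classInner_def (sec u⁻¹ C χ), ← Equiv.sum_comp (Equiv.inv C)]
    congr 2
    refine Finset.sum_congr rfl fun c _ => ?_
    rw [Equiv.inv_apply, (isCharacter_prj _).apply_inv, H8.sec_apply, H8.sec_apply, ← H8.irr_inv,
      mul_comm, mul_inv_rev, Subgroup.coe_inv, inv_inv, χ.2.isClassFunction.mul_comm]
  rw [Finset.sum_congr rfl e2] at e1
  have e3 := sum_chiL_mul_div_mem hM hB hj h1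
    (mul_mem (H6.single_mem_intAlg u⁻¹ (one_mem _)) (H6.incl_mem_intAlg C x1))
    (mul_mem (H6.single_mem_intAlg u (one_mem _)) (H6.incl_mem_intAlg C y1))
  rw [e1, ← hd] at e3
  by_cases h0 : ∑ χ ∈ bfin b, dnat M χ (pim i) * dnat M χ (pim l) = 0
  · rw [h0]; exact dvd_zero _
  · rw [H6.natCast_div_mem_iff hM h0 (pow_ne_zero _ hM.1.ne_zero), hM.1.factorization_pow,
      Finsupp.single_eq_same] at e3
    exact (hM.1.pow_dvd_iff_le_factorization h0).2 e3

end one

theorem MaxP.nilB_of_card_eq {P : Subgroup G} {e : (Res M)[G]} (S : MaxP p ⊤ ⊤ (eB M B) P e)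
    (hab : P ≤ Subgroup.centralizer (P : Set G)) (hc : Nat.card B = Nat.card P)
    (h : ∀ u ∈ P, blockRank p (bsec M p P e u) = 1) : NilB p ⊤ ⊤ (eB M B) := by
  letI := H8.subFintype P
  haveI := H6.charP_res hM
  refine S.nilB_of_central hab fun t ht => mem_centralizer_iff_conj.2 fun u hu => ?_
  have e1 := S.card_eq_sum hM hB
  have hpos : ∀ u : P, 1 ≤ Nat.card {v : P // Fus M p P e u v} := fun u =>
    haveI : Nonempty {v : P // Fus M p P e u v} := ⟨⟨u, Fus.refl _⟩⟩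
    Nat.card_pos
  have e2 : ∑ u : P, (1 : ℝ) / Nat.card {v : P // Fus M p P e u v} = ∑ u : P, 1 := by
    rw [Finset.sum_congr rfl fun u _ => by rw [h u u.2], hc, Nat.card_eq_fintype_card] at e1
    rw [Finset.sum_const, Finset.card_univ, nsmul_eq_mul, mul_one]
    apply Complex.ofReal_injective
    push_cast
    exact_mod_cast e1.symm
  have e3 := (Finset.sum_eq_sum_iff_of_le fun u _ => div_le_self zero_le_one
    (by exact_mod_cast hpos u)).1 e2 ⟨u, hu⟩ (Finset.mem_univ _)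
  have e4 : Nat.card {v : P // Fus M p P e u v} = 1 := by
    rw [one_div, inv_eq_one] at e3
    exact_mod_cast e3
  haveI := (Nat.card_eq_one_iff_unique.1 e4).1
  have h1 : t * u * t⁻¹ ∈ P := (Subgroup.mem_normalizer_iff.1 (mem_NS.1 ht).1 u).1 hu
  exact congrArg (fun v : {v : P // Fus M p P e u v} => (v.1 : G))
    (Subsingleton.elim ⟨⟨_, h1⟩, fus_conj hM S.pair hu ht⟩ ⟨⟨u, hu⟩, Fus.refl _⟩)

theorem nilB_of_dnat_eq_one {j : IBr M B} (hj : ∀ l, l = j) (h1 : ∀ χ ∈ B, dnat M χ (pim j) = 1)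
    {P : Subgroup G} (hP : IsDefectGroup p M B P) (hab : P ≤ Subgroup.centralizer (P : Set G)) :
    NilB p ⊤ ⊤ (eB M B) := by
  haveI := H6.charP_res hM
  obtain ⟨e, S⟩ := exists_maxP le_rfl Subgroup.le_normalizer (blk_eB hB)
    ((isDefectGroup_iff hM hB).1 hP)
  refine S.nilB_of_card_eq hM hB hab
    (by rw [card_eq_of_dnat hM hB hj h1, H6.card_defectGroup hM hB hP]) fun u hu => ?_
  haveI := Fintype.ofFinite (Subgroup.centralizer ({u} : Set G))
  exact blockRank_eq_one_of_major hM hB hj h1 (S.secData hM hu) (S.bsec_induced hM hB hu)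
    (S.blockDefect_bsec hM hB hu (hab hu))

end Cfsg.Agent.H7
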