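import Mathlib

/-! Finite field lemmas and the model groups for maximal Schmidt groups. -/

set_option autoImplicit false

namespace Cfsg.Agent.H7.Gf

section field
variable {K : Type*} [Field K]

/-- multipliers of an additive subgroup -/
def mult (L : AddSubgroup K) : Subring K where
  carrier := {r | ∀ v ∈ L, r * v ∈ L}
  mul_mem' := fun ha hb v hv => by rw [mul_assoc]; exact ha _ (hb v hv)
  one_mem' := fun v hv => by rwa [one_mul]
  add_mem' := fun ha hb v hv => by rw [add_mul]; exact L.add_mem (ha v hv) (hb v hv)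
  zero_mem' := fun v _ => by rw [zero_mul]; exact L.zero_mem
  neg_mem' := fun ha v hv => by rw [neg_mul]; exact L.neg_mem (ha v hv)

variable [Finite K]

/-- a subring of a finite field is a subfield -/
def toSF (R : Subring K) : Subfield K :=
  { R with
    inv_mem' := fun x hx => by
      rcases eq_or_ne x 0 with rfl | h
      · rw [inv_zero]; exact R.zero_mem
      · have := Fintype.ofFinite K
        have h1 := FiniteField.pow_card_sub_one_eq_one x h
        have h2 : 1 < Fintype.card K := Fintype.one_lt_card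
        have : x⁻¹ = x ^ (Fintype.card K - 2) := by
          refine inv_eq_of_mul_eq_one_right ?_
          rw [← pow_succ', show Fintype.card K - 2 + 1 = Fintype.card K - 1 by omega, h1]
        rw [this]; exact R.pow_mem hx _ }

theorem card_pow (R : Subring K) : ∃ d, Nat.card K = Nat.card R ^ d :=
  ⟨_, Module.natCard_eq_pow_finrank (K := toSF R) (V := K)⟩

theorem pow_card_sub (R : Subring K) {x : K} (hx : x ∈ R) (h : x ≠ 0) : x ^ (Nat.card R - 1) = 1 := by
  have := Fintype.ofFinite (toSF R)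
  have h1 := FiniteField.pow_card_sub_one_eq_one (⟨x, hx⟩ : toSF R) (fun e => h (congrArg Subtype.val e))
  rw [← Nat.card_eq_fintype_card] at h1
  exact congrArg Subtype.val h1

variable {p q a : ℕ} [hp : Fact p.Prime] [hq : Fact q.Prime] {ζ : K}

theorem card_eq_pow (hK : Nat.card K = p ^ a) (R : Subring K) : ∃ e, 0 < e ∧ Nat.card R = p ^ e := by
  have h1 : Nat.card R ∣ p ^ a := hK ▸ R.toAddSubgroup.card_addSubgroup_dvd_card
  obtain ⟨e, -, he⟩ := (Nat.dvd_prime_pow hp.out).1 h1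
  refine ⟨e, Nat.pos_of_ne_zero ?_, he⟩
  rintro rfl
  have : 1 < Nat.card R := Finite.one_lt_card
  rw [he] at this; simp at this

theorem subring_top (hK : Nat.card K = p ^ a) (ha : a = orderOf (p : ZMod q)) (hζ : IsPrimitiveRoot ζ q)
    (R : Subring K) (h : ζ ∈ R) : R = ⊤ := by
  obtain ⟨e, he0, he⟩ := card_eq_pow hK R
  have h1 := pow_card_sub R h (hζ.ne_zero hq.out.ne_zero)
  rw [he, hζ.pow_eq_one_iff_dvd] at h1
  have h2 : (p : ZMod q) ^ e = 1 := by
    have := (ZMod.natCast_eq_zero_iff _ _).2 h1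
    rwa [Nat.cast_sub (Nat.one_le_pow _ _ hp.out.pos), Nat.cast_pow, Nat.cast_one, sub_eq_zero] at this
  have h3 : a ≤ e := Nat.le_of_dvd he0 (ha ▸ orderOf_dvd_of_pow_eq_one h2)
  have h4 : R.toAddSubgroup = ⊤ := AddSubgroup.eq_top_of_le_card _ (by
    rw [hK]; exact (Nat.pow_le_pow_right hp.out.pos h3).trans he.ge)
  exact eq_top_iff.2 fun x _ => (h4 ▸ AddSubgroup.mem_top x : x ∈ R.toAddSubgroup)

theorem add_top (hK : Nat.card K = p ^ a) (ha : a = orderOf (p : ZMod q)) (hζ : IsPrimitiveRoot ζ q)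
    (L : AddSubgroup K) (hL : ∀ v ∈ L, ζ * v ∈ L) {v : K} (hv : v ∈ L) (hv0 : v ≠ 0) : L = ⊤ := by
  have h1 := subring_top hK ha hζ (mult L) hL
  refine eq_top_iff.2 fun x _ => ?_
  have : x * v⁻¹ ∈ mult L := h1 ▸ Subring.mem_top _
  simpa [hv0] using this v hv

theorem half (hK : Nat.card K = p ^ a) (ha : a = orderOf (p : ZMod q)) (hζ : IsPrimitiveRoot ζ q)
    (L : AddSubgroup K) (h1 : (1 : K) ∈ L) (hk : ∀ k : ℤ, ζ ^ k + ζ ^ (-k) ∈ L) :
    L = ⊤ ∨ (a % 2 = 0 ∧ p ^ (a / 2) ≤ Nat.card L) := by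
  have h0 := hζ.ne_zero hq.out.ne_zero
  set L₀ := AddSubgroup.closure ({1} ∪ Set.range fun k : ℤ => ζ ^ k + ζ ^ (-k)) with hL₀
  have hle : L₀ ≤ L := (AddSubgroup.closure_le _).2 (by
    rintro _ (rfl | ⟨k, rfl⟩)
    exacts [h1, hk k])
  have hm : ∀ k : ℤ, ζ ^ k + ζ ^ (-k) ∈ L₀ := fun k => AddSubgroup.subset_closure (Or.inr ⟨k, rfl⟩)
  have h1' : (1 : K) ∈ L₀ := AddSubgroup.subset_closure (Or.inl rfl)
  have hs : ζ + ζ⁻¹ ∈ mult L₀ := fun v hv => by
    induction hv using AddSubgroup.closure_induction with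
    | mem x hx =>
      rcases hx with rfl | ⟨k, rfl⟩
      · simpa using hm 1
      · have := L₀.add_mem (hm (k + 1)) (hm (k - 1))
        convert this using 1
        simp only [neg_add, neg_sub, zpow_add₀ h0, zpow_sub₀ h0, zpow_neg, zpow_one]
        field_simp
        ring
    | zero => simp
    | add x y _ _ hx hy => rw [mul_add]; exact L₀.add_mem hx hy
    | neg x _ hx => rw [mul_neg]; exact L₀.neg_mem hx
  set R := mult L₀
  have hRL : ∀ r ∈ R, r ∈ L := fun r hr => hle (by simpa using hr 1 h1')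
  let φ : R × R →+ K := AddMonoidHom.mk' (fun x => x.1 + x.2 * ζ) (fun x y => by simp; ring)
  have hφ : φ.range = ⊤ := by
    refine add_top hK ha hζ _ ?_ (v := 1) ⟨(1, 0), by simp [φ]⟩ one_ne_zero
    rintro _ ⟨⟨r, r'⟩, rfl⟩
    refine ⟨(-r', r + r' * ⟨_, hs⟩), ?_⟩
    simp only [φ, AddMonoidHom.mk'_apply, Subring.coe_neg, Subring.coe_add, Subring.coe_mul]
    field_simp
    ring
  have h2 : Nat.card K ≤ Nat.card R ^ 2 := by
    rw [sq, ← Nat.card_prod]
    exact Nat.card_le_card_of_surjective φ (AddMonoidHom.range_eq_top.1 hφ)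
  obtain ⟨d, hd⟩ := card_pow R
  obtain ⟨e, he0, he⟩ := card_eq_pow hK R
  have hcl : Nat.card R ≤ Nat.card L :=
    Nat.card_le_card_of_injective (fun r => (⟨r.1, hRL _ r.2⟩ : L)) fun x y h =>
      Subtype.ext (congrArg (Subtype.val : L → K) h)
  rw [hK, he, ← pow_mul] at hd h2
  have hd' := Nat.pow_right_injective hp.out.two_le hd
  have h2' := (Nat.pow_le_pow_iff_right hp.out.one_lt).1 h2
  have hd2 : d ≤ 2 := by rw [hd'] at h2'; exact Nat.le_of_mul_le_mul_left h2' he0
  have hK1 : 1 < Nat.card K := Finite.one_lt_card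
  interval_cases d
  · simp only [mul_zero] at hd'; rw [hK, hd'] at hK1; simp at hK1
  · left
    refine AddSubgroup.eq_top_of_le_card _ ?_
    rw [hK, hd', mul_one, ← he]; exact hcl
  · right
    refine ⟨by omega, ?_⟩
    rw [show a / 2 = e by omega, ← he]; exact hcl

end field

/-- data for the model groups -/
structure Dat (K W C : Type*) [Field K] [AddCommGroup W] [CommGroup C] where
  χ : C →* K
  β : K →+ K →+ W
  inv : ∀ c u v, β (χ c * u) (χ c * v) = β u v

variable {K W C : Type*} [Field K] [AddCommGroup W] [CommGroup C]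

/-- the model groups -/
@[ext] structure GG (D : Dat K W C) where
  u : K
  w : W
  c : C

variable {D : Dat K W C}

instance : Mul (GG D) := ⟨fun x y => ⟨x.u + D.χ x.c * y.u, x.w + y.w + D.β x.u (D.χ x.c * y.u), x.c * y.c⟩⟩
instance : One (GG D) := ⟨⟨0, 0, 1⟩⟩
instance : Inv (GG D) := ⟨fun x => ⟨-(D.χ x.c⁻¹ * x.u), -x.w + D.β x.u x.u, x.c⁻¹⟩⟩

@[simp] theorem mul_u (x y : GG D) : (x * y).u = x.u + D.χ x.c * y.u := rfl
@[simp] theorem mul_w (x y : GG D) : (x * y).w = x.w + y.w + D.β x.u (D.χ x.c * y.u) := rfl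
@[simp] theorem mul_c (x y : GG D) : (x * y).c = x.c * y.c := rfl
@[simp] theorem one_u : (1 : GG D).u = 0 := rfl
@[simp] theorem one_w : (1 : GG D).w = 0 := rfl
@[simp] theorem one_c : (1 : GG D).c = 1 := rfl
@[simp] theorem inv_u (x : GG D) : x⁻¹.u = -(D.χ x.c⁻¹ * x.u) := rfl
@[simp] theorem inv_w (x : GG D) : x⁻¹.w = -x.w + D.β x.u x.u := rfl
@[simp] theorem inv_c (x : GG D) : x⁻¹.c = x.c⁻¹ := rfl

instance : Group (GG D) := Group.ofLeftAxioms
  (fun x y z => by
    ext
    · simp only [mul_u, mul_c, map_mul]; ring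
    · simp only [mul_u, mul_w, mul_c, map_mul, mul_add, map_add, AddMonoidHom.add_apply, mul_assoc, D.inv]
      abel
    · simp [mul_assoc])
  (fun x => by ext <;> simp)
  (fun x => by
    ext
    · simp
    · simp only [mul_w, inv_w, inv_u, inv_c, map_neg, AddMonoidHom.neg_apply, D.inv, one_w]; abel
    · simp)

/-- coordinates -/
def eqv (D : Dat K W C) : GG D ≃ K × W × C where
  toFun x := (x.u, x.w, x.c)
  invFun x := ⟨x.1, x.2.1, x.2.2⟩
  left_inv _ := rfl
  right_inv _ := rfl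

instance [Finite K] [Finite W] [Finite C] : Finite (GG D) := Finite.of_equiv _ (eqv D).symm

theorem card_GG : Nat.card (GG D) = Nat.card K * Nat.card W * Nat.card C := by
  rw [Nat.card_congr (eqv D), Nat.card_prod, Nat.card_prod, mul_assoc]

/-- the data without central part -/
def Dat0 (χ : C →* K) : Dat K Unit C := ⟨χ, 0, fun _ _ _ => rfl⟩

/-- forget the central part -/
def prj (D : Dat K W C) : GG D →* GG (Dat0 D.χ) := MonoidHom.mk' (fun x => ⟨x.u, 0, x.c⟩) fun _ _ => rfl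

theorem prj_surj : Function.Surjective (prj D) := fun x => ⟨⟨x.u, 0, x.c⟩, rfl⟩

theorem mem_ker_prj {x : GG D} : x ∈ (prj D).ker ↔ x.u = 0 ∧ x.c = 1 :=
  ⟨fun h => ⟨congrArg GG.u h, congrArg GG.c h⟩, fun h => GG.ext h.1 rfl h.2⟩

theorem ker_prj_le : (prj D).ker ≤ Subgroup.center _ := fun x hx => by
  obtain ⟨h1, h2⟩ := mem_ker_prj.1 hx
  refine Subgroup.mem_center_iff.2 fun y => ?_
  ext <;> simp [h1, h2, add_comm]

/-- projection to `C` -/
def cpr (D : Dat K W C) : GG D →* C := MonoidHom.mk' (fun x => x.c) fun _ _ => rfl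

end Cfsg.Agent.H7.Gf
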