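import Cfsg.Agent.H7.Gf1
import Cfsg.Agent.H2.SE2
import Cfsg.Agent.H3.Misc2
import Cfsg.Agent.H1.HallHigman

/-! Coordinates on a minimal non-`p`-nilpotent group. -/

set_option autoImplicit false

namespace Cfsg.Agent.H7.Gf
open Subgroup Polynomial
open scoped commutatorElement

theorem eig {K M : Type*} [Field K] [AddCommGroup M] [Module K M] (τ : Module.End K M) (s : Finset K) (f : M)
    (hf : f ≠ 0) (h : aeval τ (∏ μ ∈ s, (X - C μ)) f = 0) : ∃ μ ∈ s, ∃ g : M, g ≠ 0 ∧ τ g = μ • g := by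
  classical
  induction s using Finset.induction_on with
  | empty => simp [hf] at h
  | insert μ s hμ ih =>
    rw [Finset.prod_insert hμ, map_mul, Module.End.mul_apply] at h
    by_cases h0 : aeval τ (∏ μ ∈ s, (X - C μ)) f = 0
    · obtain ⟨ν, h1, h2⟩ := ih h0
      exact ⟨ν, Finset.mem_insert_of_mem h1, h2⟩
    · refine ⟨μ, Finset.mem_insert_self _ _, _, h0, ?_⟩
      simpa [sub_eq_zero] using h

variable {K : Type*} [Field K] {p q a r : ℕ} [hp : Fact p.Prime] [hq : Fact q.Prime] {ζ : K}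

theorem exists_hom {B : Type*} [Group B] [Finite B] [Nontrivial B] (hB : IsPGroup p B) [CharP K p] :
    ∃ f : Additive B →+ K, f ≠ 0 := by
  obtain ⟨n, hn0, hn⟩ := hB.nontrivial_iff_card.1 inferInstance
  obtain ⟨H, hH⟩ := Sylow.exists_subgroup_card_pow_prime (G := B) p (n := n - 1)
    (hn ▸ pow_dvd_pow p (Nat.sub_le _ _))
  have hi : H.index = p := by
    have := H.card_mul_index
    rw [hH, hn, show n = n - 1 + 1 by omega, pow_succ] at this
    exact Nat.eq_of_mul_eq_mul_left (pow_pos hp.out.pos _) this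
  have : H.Normal := normal_of_index_eq_minFac_card (by rw [hi, hn, hp.out.pow_minFac hn0.ne'])
  let e : B ⧸ H ≃* Multiplicative (ZMod p) := mulEquivOfPrimeCardEq hi (by simp)
  refine ⟨AddMonoidHom.mk' (fun b => ZMod.castHom (dvd_refl p) K (e (b.toMul : B ⧸ H)).toAdd) fun b b' => by simp,
    fun h => ?_⟩
  obtain ⟨b, hb⟩ := QuotientGroup.mk_surjective (e.symm (Multiplicative.ofAdd 1))
  have := DFunLike.congr_fun h (Additive.ofMul b)
  simp [hb] at this

theorem exists_eig {X : Type*} [Group X] [Finite X] [CharP K p] (hζ : IsPrimitiveRoot ζ q) {B : Subgroup X}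
    [B.Normal] (hB : IsPGroup p B) (hB1 : B ≠ ⊥) {y : X} (hy : y ^ q ∈ centralizer (B : Set X)) :
    ∃ μ : K, μ ^ q = 1 ∧ ∃ F : X → K, (∀ g ∈ B, ∀ h ∈ B, F (g * h) = F g + F h) ∧
      (∀ g ∈ B, F (y * g * y⁻¹) = μ * F g) ∧ ∃ g ∈ B, F g ≠ 0 := by
  classical
  have := (nontrivial_iff_ne_bot B).2 hB1
  obtain ⟨f, hf⟩ := exists_hom (K := K) hB
  let T : MulAut B := MulAut.conjNormal y
  let τ : Module.End K (Additive B →+ K) :=
    { toFun := fun f => f.comp (MonoidHom.toAdditive T.toMonoidHom)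
      map_add' := fun _ _ => rfl
      map_smul' := fun _ _ => rfl }
  have hτ : ∀ (n : ℕ) (f : Additive B →+ K) (b : B), (τ ^ n) f (Additive.ofMul b) = f (Additive.ofMul ((T ^ n) b)) := by
    intro n
    induction n with
    | zero => intro f b; rfl
    | succ n ih => intro f b; rw [pow_succ, Module.End.mul_apply, ih, pow_succ']; rfl
  have hT : T ^ q = 1 := by
    rw [← map_pow]
    ext b
    simp only [MulAut.conjNormal_apply, MulAut.one_apply]
    rw [← hy b b.2, mul_inv_cancel_right]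
  obtain ⟨μ, hμ, g, hg, hg'⟩ := eig τ (nthRootsFinset q (1 : K)) f hf (by
    rw [← X_pow_sub_one_eq_prod hq.out.pos hζ]
    ext b
    have := hτ q f b
    rw [hT] at this
    simpa [sub_eq_zero] using this)
  refine ⟨μ, (mem_nthRootsFinset hq.out.pos 1).1 hμ, fun x => if h : x ∈ B then g (Additive.ofMul ⟨x, h⟩) else 0,
    fun x hx z hz => ?_, fun x hx => ?_, ?_⟩
  · simp only [dif_pos hx, dif_pos hz, dif_pos (B.mul_mem hx hz)]
    rw [← map_add]; rfl
  · simp only [dif_pos hx, dif_pos (Normal.conj_mem inferInstance x hx y)]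
    exact DFunLike.congr_fun hg' (Additive.ofMul ⟨x, hx⟩)
  · obtain ⟨b, hb⟩ := DFunLike.ne_iff.1 hg
    exact ⟨b.toMul.1, b.toMul.2, by simp only [dif_pos b.toMul.2]; exact hb⟩

/-- minimal non-`p`-nilpotent -/
def MN (p : ℕ) (X : Type*) [Group X] : Prop :=
  ¬ HasNormalPComplement p X ∧ ∀ K : Subgroup X, K ≠ ⊤ → HasNormalPComplement p K

theorem MN.exists {X : Type*} [Group X] [Finite X] (hpq : p ≠ q) (h : MN p X) {t : ℕ}
    (hc : Nat.card X = p ^ t * q ^ r) :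
    ∃ (B : Subgroup X) (y : X), B.Normal ∧ H3.MinAct p B (zpowers y) ∧ B ⊔ zpowers y = ⊤ ∧ B ⊓ zpowers y = ⊥ ∧
      orderOf y = q ^ r ∧ y ^ q ∈ centralizer (B : Set X) := by
  obtain ⟨B, A, q', h1, h2, h3, h4, h5, hm, hn, h6⟩ := H3.exists_of_minimal_not_hasNormalPComplement h.1 h.2
  obtain rfl : q' = q := by
    have := h3.trans A.card_subgroup_dvd_card
    rw [hc] at this
    rcases (Nat.Prime.dvd_mul h1).1 this with h | h
    · exact absurd ((Nat.prime_dvd_prime_iff_eq h1 hp.out).1 (h1.dvd_of_dvd_pow h)) h2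
    · exact (Nat.prime_dvd_prime_iff_eq h1 hq.out).1 (h1.dvd_of_dvd_pow h)
  obtain ⟨y, rfl⟩ := (Subgroup.isCyclic_iff_exists_zpowers_eq_top A).1 h5
  have h7 : B ⊓ zpowers y = ⊥ := disjoint_iff.1 (disjoint_of_coprime_natCard hm.coprime_card.symm)
  have h8 : orderOf y = q' ^ r := by
    have hcp : IsComplement' B (zpowers y) := isComplement'_of_disjoint_and_mul_eq_univ (disjoint_iff.2 h7) (by
      rw [← normal_mul, h6]; rfl)
    have h9 := hcp.card_mul_card
    obtain ⟨i, hi⟩ := hm.isPGroup.exists_card_eq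
    obtain ⟨j, hj⟩ := h4.exists_card_eq
    rw [hi, hj, hc] at h9
    have := congrArg (fun n => n.factorization q') h9
    simp [Nat.factorization_mul, hp.out.ne_zero, h1.ne_zero, hp.out.factorization_pow, h1.factorization_pow,
      hpq] at this
    rw [← Nat.card_zpowers, hj, this]
  refine ⟨B, y, hn, hm, h6, h7, h8, ?_⟩
  have hne : B ⊔ zpowers (y ^ q') ≠ ⊤ := fun e => by
    have : y ∈ ((B ⊔ zpowers (y ^ q') : Subgroup X) : Set X) := e ▸ mem_top y
    rw [normal_mul] at this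
    obtain ⟨b, hb, _, ⟨k, rfl⟩, e⟩ := this
    simp only at e
    have hb1 : b = 1 := mem_bot.1 (h7 ▸ mem_inf.mpr ⟨hb, by
      rw [eq_mul_inv_of_mul_eq e]
      exact mul_mem (mem_zpowers y) (inv_mem (zpow_mem (pow_mem (mem_zpowers y) _) _))⟩)
    rw [hb1, one_mul, ← zpow_natCast, ← zpow_mul] at e
    nth_rewrite 2 [← zpow_one y] at e
    rw [zpow_eq_zpow_iff_modEq] at e
    rw [Nat.card_zpowers] at h3
    have := (Int.natCast_dvd_natCast.2 h3).trans e.dvd
    have h10 : (q' : ℤ) ∣ 1 := by simpa using (dvd_add this (dvd_mul_right (q' : ℤ) k))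
    exact h1.one_lt.ne' (by exact_mod_cast Int.eq_one_of_dvd_one (by positivity) h10)
  intro b hb
  have := H3.mem_centralizer_of_hasNormalPComplement (h.2 _ hne) (Q := B.subgroupOf _) hm.isPGroup.comap_subtype
    (g := ⟨y ^ q', mem_sup_right (mem_zpowers _)⟩) (le_normalizer_of_normal (mem_top _))
    (by rw [orderOf_mk]
        exact hm.coprime.coprime_dvd_left ((zpowers y).orderOf_dvd_natCard (pow_mem (mem_zpowers y) _)))
  exact congrArg Subtype.val (this ⟨b, mem_sup_left hb⟩ hb)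

section
variable {X : Type*} [Group X] {B : Subgroup X} {F : X → K}

theorem F_one (hF : ∀ g ∈ B, ∀ h ∈ B, F (g * h) = F g + F h) : F 1 = 0 := by
  simpa using hF 1 B.one_mem 1 B.one_mem

/-- `F` as a homomorphism -/
def fB (hF : ∀ g ∈ B, ∀ h ∈ B, F (g * h) = F g + F h) : B →* Multiplicative K :=
  MonoidHom.mk' (fun b => Multiplicative.ofAdd (F b)) fun b b' => by
    rw [Subgroup.coe_mul, hF _ b.2 _ b'.2, ofAdd_add]

/-- zeros of `F` -/
def kF (hF : ∀ g ∈ B, ∀ h ∈ B, F (g * h) = F g + F h) : Subgroup X := (fB hF).ker.map B.subtype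

theorem mem_kF {hF : ∀ g ∈ B, ∀ h ∈ B, F (g * h) = F g + F h} {g : X} : g ∈ kF hF ↔ g ∈ B ∧ F g = 0 :=
  ⟨by rintro ⟨b, hb, rfl⟩; exact ⟨b.2, hb⟩, fun h => ⟨⟨g, h.1⟩, h.2, rfl⟩⟩

theorem F_inv (hF : ∀ g ∈ B, ∀ h ∈ B, F (g * h) = F g + F h) {g : X} (hg : g ∈ B) : F g⁻¹ = - F g := by
  have := hF g hg g⁻¹ (B.inv_mem hg)
  rw [mul_inv_cancel, F_one hF] at this
  exact (neg_eq_of_add_eq_zero_right this.symm).symm

theorem F_pow [B.Normal] {y : X} {μ : K} (h : ∀ g ∈ B, F (y * g * y⁻¹) = μ * F g) (k : ℕ) :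
    ∀ g ∈ B, F (y ^ k * g * (y ^ k)⁻¹) = μ ^ k * F g := by
  induction k with
  | zero => simp
  | succ k ih =>
    intro g hg
    rw [pow_succ' μ, mul_assoc μ, ← ih g hg, ← h _ (Normal.conj_mem inferInstance g hg _), pow_succ']
    congr 1; group

theorem F_zpow [B.Normal] {y : X} {μ : K} (h0 : μ ≠ 0) (h : ∀ g ∈ B, F (y * g * y⁻¹) = μ * F g) (k : ℤ) :
    ∀ g ∈ B, F (y ^ k * g * (y ^ k)⁻¹) = μ ^ k * F g := by
  obtain ⟨n, rfl | rfl⟩ := k.eq_nat_or_neg
  · simpa using F_pow h n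
  · intro g hg
    have := F_pow h n _ (Normal.conj_mem inferInstance g hg (y ^ n)⁻¹)
    rw [show y ^ n * ((y ^ n)⁻¹ * g * (y ^ n)⁻¹⁻¹) * (y ^ n)⁻¹ = g by group] at this
    rw [zpow_neg, zpow_neg, zpow_natCast, zpow_natCast, this]
    field_simp

theorem exists_F [Finite X] [CharP K p] (hζ : IsPrimitiveRoot ζ q) [B.Normal] {y : X}
    (hm : H3.MinAct p B (zpowers y)) (ho : orderOf y = q ^ r) (hy : y ^ q ∈ centralizer (B : Set X)) :
    ∃ y', zpowers y' = zpowers y ∧ y' ^ q ∈ centralizer (B : Set X) ∧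
      ∃ F : X → K, (∀ g ∈ B, ∀ h ∈ B, F (g * h) = F g + F h) ∧
      (∀ g ∈ B, F (y' * g * y'⁻¹) = ζ * F g) ∧ ∃ g ∈ B, F g ≠ 0 := by
  obtain ⟨μ, hμ, F, hF, hc, g, hg, hg0⟩ := exists_eig hζ hm.isPGroup hm.ne_bot hy
  have hμ1 : μ ≠ 1 := by
    rintro rfl
    have : ⁅B, zpowers y⁆ ≤ kF hF := commutator_le.2 (by
      rintro b hb _ ⟨k, rfl⟩
      have h1 : y ^ k * b⁻¹ * (y ^ k)⁻¹ ∈ B := Normal.conj_mem inferInstance _ (B.inv_mem hb) _
      have e : ⁅b, y ^ k⁆ = b * (y ^ k * b⁻¹ * (y ^ k)⁻¹) := by simp only [commutatorElement_def, mul_assoc]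
      simp only [e]
      refine mem_kF.2 ⟨B.mul_mem hb h1, ?_⟩
      rw [hF _ hb _ h1, F_zpow one_ne_zero hc k _ (B.inv_mem hb), F_inv hF hb]; simp)
    rw [hm.commutator_eq] at this
    exact hg0 (mem_kF.1 (this hg)).2
  have hp' : IsPrimitiveRoot μ q := by
    rw [← orderOf_eq_prime hμ hμ1]; exact IsPrimitiveRoot.orderOf μ
  obtain ⟨j, hj, hj'⟩ := hp'.eq_pow_of_pow_eq_one hζ.pow_eq_one
  have hj0 : j ≠ 0 := by
    rintro rfl
    exact hζ.ne_one hq.out.one_lt (by simpa using hj'.symm)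
  have hcop : (orderOf y).Coprime j :=
    ho ▸ Nat.Coprime.pow_left _ 
      (hq.out.coprime_iff_not_dvd.2 fun h => absurd (Nat.le_of_dvd (Nat.pos_of_ne_zero hj0) h) (by omega))
  refine ⟨y ^ j, ?_, ?_, F, hF, hj' ▸ F_pow hc j, g, hg, hg0⟩
  · refine eq_of_le_of_card_ge (zpowers_le.2 (pow_mem (mem_zpowers y) j)) ?_
    rw [Nat.card_zpowers, Nat.card_zpowers, hcop.orderOf_pow]
  · rw [← pow_mul, mul_comm, pow_mul]; exact pow_mem hy j

theorem bound [Finite X] [Finite K] (hK : Nat.card K = p ^ a) (ha : a = orderOf (p : ZMod q))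
    (hζ : IsPrimitiveRoot ζ q) (hpq : p ≠ q) [B.Normal] {y : X} (hm : H3.MinAct p B (zpowers y))
    (hA : IsPGroup q (zpowers y)) (hy : y ^ q ∈ centralizer (B : Set X))
    (hF : ∀ g ∈ B, ∀ h ∈ B, F (g * h) = F g + F h) (hc : ∀ g ∈ B, F (y * g * y⁻¹) = ζ * F g)
    (hs : Function.Surjective (fB hF)) (hz : kF hF ≤ centralizer (zpowers y : Set X)) :
    Nat.card (kF hF) ≤ if a % 2 = 1 then 1 else p ^ (a / 2) := by
  have h0 := hζ.ne_zero hq.out.ne_zero
  have hse := H2.SE.se_of_minAct hq.out hpq.symm hA hm hy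
  obtain ⟨x, hx⟩ := hs (Multiplicative.ofAdd 1)
  have hx1 : F x = 1 := hx
  have hBB : ⁅B, B⁆ ≤ kF hF := commutator_le.2 fun g hg h hh => mem_kF.2 ⟨commutator_le_self B
    (commutator_mem_commutator hg hh), by
      rw [commutatorElement_def, hF _ (mul_mem (mul_mem hg hh) (inv_mem hg)) _ (inv_mem hh),
        hF _ (mul_mem hg hh) _ (inv_mem hg), hF _ hg _ hh, F_inv hF hg, F_inv hF hh]; ring⟩
  have hM : kF hF ≤ ⁅B, B⁆ := by
    have := H1.inf_centralizer_inf_commutator_le hm.le_normalizer hm.coprime_card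
    rw [hm.commutator_eq] at this
    exact fun m hm' => this (mem_inf.mpr ⟨mem_inf.mpr ⟨(mem_kF.1 hm').1, hz hm'⟩, (mem_kF.1 hm').1⟩)
  let g : B →* X := MonoidHom.mk' (fun b => ⁅(x : X), (b : X)⁆) fun b b' =>
    H2.SE.comm_mul_right ((hm.commutator_mem x.2 b'.2).1 b b.2)
  have h1 : Nat.card (kF hF) ≤ g.ker.index := by
    rw [index_ker]
    refine card_le_of_le fun m hm' => ?_
    obtain ⟨b, hb, e⟩ := hse.surj x x.2 (fun h => by simpa [hx1] using (mem_kF.1 (hBB h)).2) m (hM hm')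
    exact ⟨⟨b, hb⟩, e⟩
  rw [← index_map_eq (H := g.ker) hs (fun b hb => by
    have : (b : X) ∈ centralizer (B : Set X) := hse.cent (hM (mem_map_of_mem _ hb))
    exact commutatorElement_eq_one_iff_mul_comm.2 (this x x.2))] at h1
  set L := g.ker.map (fB hF) with hL
  have hcard : Nat.card L * L.index = p ^ a := by rw [L.card_mul_index, ← hK]; rfl
  rcases half hK ha hζ (toAddSubgroup' L) ⟨x, by simp [g], hx⟩ (fun k => by
    have m1 : y ^ k * x * (y ^ k)⁻¹ ∈ B := Normal.conj_mem inferInstance _ x.2 _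
    have m2 : y ^ (-k) * x * (y ^ (-k))⁻¹ ∈ B := Normal.conj_mem inferInstance _ x.2 _
    refine ⟨⟨_, m1⟩ * ⟨_, m2⟩, ?_, ?_⟩
    · rw [SetLike.mem_coe, MonoidHom.mem_ker, map_mul]
      have := (hm.commutator_mem m2 x.2).2 (y ^ k) (zpow_mem (mem_zpowers y) k)
      have e : ⁅(x : X), y ^ k * x * (y ^ k)⁻¹⁆ = y ^ k * ⁅y ^ (-k) * x * (y ^ (-k))⁻¹, (x : X)⁆ * (y ^ k)⁻¹ := by
        simp only [commutatorElement_def]; group
      change ⁅(x : X), y ^ k * x * (y ^ k)⁻¹⁆ * ⁅(x : X), y ^ (-k) * x * (y ^ (-k))⁻¹⁆ = 1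
      rw [e, this, mul_inv_cancel_right, ← commutatorElement_inv (x : X), inv_mul_cancel]
    · rw [map_mul]
      change Multiplicative.ofAdd (F _) * Multiplicative.ofAdd (F _) = _
      rw [F_zpow h0 hc k _ x.2, F_zpow h0 hc (-k) _ x.2, hx1, mul_one, mul_one, ← ofAdd_add]
      rfl) with h | ⟨h, h'⟩
  · have : L = ⊤ := toAddSubgroup'.injective (h.trans (map_top _).symm)
    rw [this, index_top] at h1
    split_ifs
    exacts [h1, h1.trans (Nat.one_le_pow _ _ hp.out.pos)]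
  · rw [if_neg (by omega)]
    refine h1.trans (Nat.le_of_mul_le_mul_left (c := p ^ (a / 2)) ?_ (pow_pos hp.out.pos _))
    rw [← pow_add, show a / 2 + a / 2 = a by omega, ← hcard]
    exact Nat.mul_le_mul_right _ h'

end

end Cfsg.Agent.H7.Gf
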