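import Cfsg.Agent.H7.Gf2

/-! Gol'fand's theorem on maximal Schmidt groups. -/

set_option autoImplicit false

namespace Cfsg.Agent.H7.Gf
open Subgroup
open scoped commutatorElement

variable {K : Type} [Field K] [Finite K] {p q a r : ℕ} [hp : Fact p.Prime] [hq : Fact q.Prime] {ζ : K}
  {C : Type} [CommGroup C] [Finite C] {γ : C} {χ : C →* K}

theorem coord [CharP K p] (hK : Nat.card K = p ^ a) (ha : a = orderOf (p : ZMod q))
    (hζ : IsPrimitiveRoot ζ q) (hpq : p ≠ q) (hγ : ∀ c, c ∈ zpowers γ) (hC : orderOf γ = q ^ r) (hχ : χ γ = ζ)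
    {X : Type*} [Group X] [Finite X] (h : MN p X) {t : ℕ} (hc : Nat.card X = p ^ t * q ^ r) :
    ∃ π : X →* GG (Dat0 χ), Function.Surjective π ∧ π.ker ≤ center X ∧ IsPGroup p π.ker ∧
      Nat.card π.ker ≤ if a % 2 = 1 then 1 else p ^ (a / 2) := by
  have h0 := hζ.ne_zero hq.out.ne_zero
  obtain ⟨B, y₀, hn, hm, h1, h2, h3, h4⟩ := h.exists hpq hc
  obtain ⟨y, hy, hyq, F, hF, hcj, g₀, hg₀, hg₀'⟩ := exists_F hζ hm h3 h4
  have h5 : orderOf y = q ^ r := by rw [← h3, ← Nat.card_zpowers, hy, Nat.card_zpowers]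
  rw [← hy] at hm h1 h2
  have hA : IsPGroup q (zpowers y) := IsPGroup.of_card (by rw [Nat.card_zpowers, h5])
  let e : C →* X := monoidHomOfForallMemZpowers hγ (g' := y) (by rw [h5, hC])
  have he : e γ = y := monoidHomOfForallMemZpowers_apply_gen _ _
  have hek : ∀ k : ℤ, e (γ ^ k) = y ^ k := fun k => by rw [map_zpow, he]
  have hχk : ∀ k : ℤ, χ (γ ^ k) = ζ ^ k := fun k => by
    rw [map_zpow' χ (fun x => eq_inv_of_mul_eq_one_left (by rw [← map_mul, inv_mul_cancel, map_one])), hχ]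
  have hecj : ∀ c, ∀ g ∈ B, F (e c * g * (e c)⁻¹) = χ c * F g := fun c g hg => by
    obtain ⟨k, rfl⟩ := hγ c
    simp only [hek, hχk]
    exact F_zpow h0 hcj k g hg
  let σ : C →* X ⧸ B := (QuotientGroup.mk' B).comp e
  have hσ : Function.Bijective σ := by
    constructor
    · rw [injective_iff_map_eq_one]
      intro c hc
      obtain ⟨k, rfl⟩ := hγ c
      have : y ^ k ∈ B ⊓ zpowers y := mem_inf.mpr ⟨by
        rw [← hek]; exact (QuotientGroup.eq_one_iff _).1 hc, zpow_mem (mem_zpowers y) k⟩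
      rw [h2, mem_bot, ← orderOf_dvd_iff_zpow_eq_one, h5, ← hC, orderOf_dvd_iff_zpow_eq_one] at this
      exact this
    · intro x
      obtain ⟨x, rfl⟩ := QuotientGroup.mk_surjective x
      have : x ∈ ((B ⊔ zpowers y : Subgroup X) : Set X) := h1 ▸ mem_top x
      rw [normal_mul] at this
      obtain ⟨b, hb, _, ⟨k, rfl⟩, rfl⟩ := this
      refine ⟨γ ^ k, ?_⟩
      simp only [σ, MonoidHom.comp_apply, hek, QuotientGroup.mk'_apply, QuotientGroup.mk_mul,
        (QuotientGroup.eq_one_iff b).2 hb, one_mul]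
  let cc : X →* C := (MulEquiv.ofBijective σ hσ).symm.toMonoidHom.comp (QuotientGroup.mk' B)
  have hcc : ∀ x, σ (cc x) = (x : X ⧸ B) := fun x => (MulEquiv.ofBijective σ hσ).apply_symm_apply _
  have hmem : ∀ x, x * (e (cc x))⁻¹ ∈ B := fun x => by
    rw [← QuotientGroup.eq_one_iff, QuotientGroup.mk_mul, QuotientGroup.mk_inv, ← hcc x]
    exact mul_inv_cancel _
  have hcB : ∀ x, cc x = 1 ↔ x ∈ B := fun x =>
    ⟨fun h => by simpa [h] using hmem x, fun h => hσ.1 (by rw [hcc, map_one, (QuotientGroup.eq_one_iff x).2 h])⟩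
  have hce : ∀ c, cc (e c) = c := fun c => hσ.1 (hcc _)
  let π : X →* GG (Dat0 χ) := MonoidHom.mk' (fun x => ⟨F (x * (e (cc x))⁻¹), 0, cc x⟩) fun x x' => by
    refine GG.ext ?_ rfl (map_mul cc x x')
    change _ = F _ + χ _ * F _
    rw [← hecj _ _ (hmem x'), ← hF _ (hmem x) _ (hn.conj_mem _ (hmem x') _), map_mul, map_mul]
    group
  have hs : Function.Surjective (fB hF) := by
    have := add_top hK ha hζ (toAddSubgroup' (fB hF).range) (by
      rintro _ ⟨b, hb⟩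
      refine ⟨⟨_, hn.conj_mem _ b.2 y⟩, ?_⟩
      have hb' : F b = _ := hb
      change Multiplicative.ofAdd (F _) = _
      rw [hcj _ b.2, hb']; rfl) (v := F g₀) ⟨⟨g₀, hg₀⟩, rfl⟩ hg₀'
    intro v
    exact (this ▸ AddSubgroup.mem_top v.toAdd : v.toAdd ∈ toAddSubgroup' (fB hF).range)
  have hker : π.ker = kF hF := by
    ext x
    rw [mem_kF]
    constructor
    · intro hx
      have h6 : cc x = 1 := congrArg GG.c hx
      have h7 : F (x * (e (cc x))⁻¹) = 0 := congrArg GG.u hx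
      exact ⟨(hcB x).1 h6, by simpa [h6] using h7⟩
    · rintro ⟨h6, h7⟩
      have h8 := (hcB x).2 h6
      refine GG.ext ?_ rfl h8
      change F _ = 0
      simpa [h8] using h7
  have hle : π.ker ≤ B := fun x hx => (mem_kF.1 (hker ▸ hx)).1
  have hcen := hm.le_centralizer_of_lt (C := π.ker) (lt_of_le_of_ne hle fun e =>
    hg₀' (mem_kF.1 (hker ▸ e ▸ hg₀ : g₀ ∈ kF hF)).2) le_normalizer_of_normal le_normalizer_of_normal
  refine ⟨π, fun v => ?_, fun x hx => ?_, hm.isPGroup.to_le hle, ?_⟩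
  · obtain ⟨b, hb⟩ := hs (Multiplicative.ofAdd v.u)
    have h6 : cc (b * e v.c) = v.c := by rw [map_mul, (hcB _).2 b.2, one_mul, hce]
    refine ⟨b * e v.c, GG.ext ?_ rfl h6⟩
    change F _ = _
    rw [h6, mul_inv_cancel_right]; exact hb
  · have : (⊤ : Subgroup X) ≤ centralizer {x} := h1 ▸ sup_le
      (fun b hb => mem_centralizer_singleton_iff.2 ((hcen hx).1 b hb))
      (fun b hb => mem_centralizer_singleton_iff.2 ((hcen hx).2 b hb))
    exact mem_center_iff.2 fun g => mem_centralizer_singleton_iff.1 (this (mem_top g))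
  · rw [hker] at hcen ⊢
    exact bound hK ha hζ hpq hm hA hyq hF hcj hs (hcen.trans inf_le_right)

section model
variable {W : Type} [AddCommGroup W] [Finite W] {D : Dat K W C} {b : ℕ}

theorem not_pnil (hK : Nat.card K = p ^ a) (hW : Nat.card W = p ^ b) (hζ : IsPrimitiveRoot ζ q) (hpq : p ≠ q)
    (hC : orderOf γ = q ^ r) (hχ : D.χ γ = ζ) : ¬ HasNormalPComplement p (GG D) := fun h => by
  have h1 : IsPGroup p (cpr D).ker := by
    refine IsPGroup.of_card (n := a + b) ?_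
    have := (cpr D).ker.card_mul_index
    rw [index_ker, MonoidHom.range_eq_top.2 (fun c => ⟨⟨0, 0, c⟩, rfl⟩), card_top, card_GG, hK, hW] at this
    rw [pow_add]; exact Nat.eq_of_mul_eq_mul_right Nat.card_pos this
  let s : C →* GG D := MonoidHom.mk' (fun c => ⟨0, 0, c⟩) fun c c' => by ext <;> simp
  have h2 := H3.mem_centralizer_of_hasNormalPComplement h h1 (g := s γ) (le_normalizer_of_normal (mem_top _))
    (Nat.Coprime.coprime_dvd_left (orderOf_map_dvd s γ) (hC ▸ Nat.Coprime.pow_left _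
      ((Nat.coprime_primes hq.out hp.out).2 hpq.symm)))
  have h3 := congrArg GG.u (h2 ⟨1, 0, 1⟩ rfl)
  simp only [s, MonoidHom.mk'_apply, mul_u, hχ, mul_zero, add_zero, zero_add, mul_one] at h3
  exact hζ.ne_one hq.out.one_lt h3.symm

theorem pnil0 (hK : Nat.card K = p ^ a) (ha : a = orderOf (p : ZMod q))
    (hζ : IsPrimitiveRoot ζ q) (hγ : ∀ c, c ∈ zpowers γ) (hC : orderOf γ = q ^ r) (hχ : χ γ = ζ)
    (J : Subgroup (GG (Dat0 χ))) (hJ : J ≠ ⊤) : HasNormalPComplement p J := by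
  suffices h : IsMulCommutative J by
    let _ : CommGroup J := { (inferInstance : Group J) with mul_comm := fun x y => h.is_comm.comm x y }
    exact H3.hasNormalPComplement_of_isNilpotent
  by_cases h1 : ∀ j ∈ J, χ j.c = 1
  · refine ⟨⟨fun x y => Subtype.ext (GG.ext ?_ rfl (mul_comm _ _))⟩⟩
    change _ + χ _ * _ = _ + χ _ * _
    rw [h1 _ x.2, h1 _ y.2]; ring
  push Not at h1
  obtain ⟨j, hj, h1⟩ := h1
  obtain ⟨k, hk⟩ := mem_powers_iff_mem_zpowers.2 (hγ j.c)
  simp only at hk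
  have h2 : χ j.c = ζ ^ k := by rw [← hk, map_pow, hχ]
  have h3 : q.Coprime k := hq.out.coprime_iff_not_dvd.2 fun h => h1 (h2 ▸ (hζ.pow_eq_one_iff_dvd k).2 h)
  let ι : Multiplicative K →* GG (Dat0 χ) := MonoidHom.mk' (fun u => ⟨u.toAdd, 0, 1⟩) fun u v => by
    ext <;> simp
  by_cases h4 : ∃ v : K, v ≠ 0 ∧ ι (Multiplicative.ofAdd v) ∈ J
  · obtain ⟨v, hv0, hv⟩ := h4
    have h5 := add_top hK ha (hζ.pow_of_coprime k h3.symm) (toAddSubgroup' (J.comap ι)) (fun u hu => by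
      have := J.mul_mem (J.mul_mem hj hu) (J.inv_mem hj)
      change ι (Multiplicative.ofAdd (ζ ^ k * u)) ∈ J
      convert this using 1
      rw [eq_comm, mul_inv_eq_iff_eq_mul]
      refine GG.ext ?_ rfl (mul_comm _ _)
      change j.u + χ j.c * u = ζ ^ k * u + χ 1 * j.u
      rw [h2, map_one]; ring) (v := v) hv hv0
    refine absurd (eq_top_iff.2 fun x _ => ?_) hJ
    have h6 : γ ∈ zpowers (γ ^ k) := mem_zpowers_pow_iff.2 (by rw [hC]; exact (h3.pow_left r).symm)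
    obtain ⟨m, hm⟩ := (zpowers_le.2 h6) (hγ x.c)
    simp only [hk] at hm
    have h7 : (x * (j ^ m)⁻¹).c = 1 := by
      change cpr _ (x * (j ^ m)⁻¹) = 1
      rw [map_mul, map_inv, map_zpow]
      exact mul_inv_eq_one.2 hm.symm
    have h8 : ι (Multiplicative.ofAdd (x * (j ^ m)⁻¹).u) ∈ J :=
      (h5 ▸ AddSubgroup.mem_top _ : (x * (j ^ m)⁻¹).u ∈ toAddSubgroup' (J.comap ι))
    rw [show ι (Multiplicative.ofAdd (x * (j ^ m)⁻¹).u) = x * (j ^ m)⁻¹ from GG.ext rfl rfl h7.symm] at h8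
    simpa using J.mul_mem h8 (J.zpow_mem hj m)
  · push Not at h4
    refine ⟨⟨fun x y => ?_⟩⟩
    rw [← mul_inv_eq_one]
    have h7 : ((x * y * (y * x)⁻¹ : J) : GG (Dat0 χ)).c = 1 := by
      change x.1.c * y.1.c * (y.1.c * x.1.c)⁻¹ = 1
      rw [mul_comm y.1.c, mul_inv_cancel]
    by_contra h8
    refine h4 ((x * y * (y * x)⁻¹ : J) : GG (Dat0 χ)).u (fun h => h8 (Subtype.ext (GG.ext h rfl h7))) ?_
    convert (x * y * (y * x)⁻¹).2 using 1
    exact GG.ext rfl rfl h7.symm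

theorem pnil_of {X Y : Type*} [Group X] [Finite X] [Group Y] [Finite Y] (hY : ∀ J : Subgroup Y, J ≠ ⊤ →
    HasNormalPComplement p J) (f : X →* Y) (hf : f.ker ≤ center X) (h : f.range ≠ ⊤) : HasNormalPComplement p X :=
  H3.hasNormalPComplement_of_ker_le_center f.rangeRestrict (by rwa [MonoidHom.ker_rangeRestrict]) (hY _ h)

theorem mn_GG (hK : Nat.card K = p ^ a) (hW : Nat.card W = p ^ b) (ha : a = orderOf (p : ZMod q))
    (hζ : IsPrimitiveRoot ζ q) (hpq : p ≠ q) (hγ : ∀ c, c ∈ zpowers γ) (hC : orderOf γ = q ^ r) (hχ : D.χ γ = ζ)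
    (hβ : ∀ w, ∃ u v, D.β u v - D.β v u = w) : MN p (GG D) := by
  refine ⟨not_pnil hK hW hζ hpq hC hχ, fun H hH => pnil_of (pnil0 hK ha hζ hγ hC hχ) ((prj D).comp H.subtype)
    (fun x hx => mem_center_iff.2 fun y => Subtype.ext (mem_center_iff.1 (ker_prj_le hx) y)) fun h => hH ?_⟩
  have h1 : (prj D).ker ≤ H := fun x hx => by
    obtain ⟨h1, h2⟩ := mem_ker_prj.1 hx
    obtain ⟨u, v, e⟩ := hβ x.w
    obtain ⟨g, hg⟩ := MonoidHom.range_eq_top.1 h ⟨u, 0, 1⟩
    obtain ⟨g', hg'⟩ := MonoidHom.range_eq_top.1 h ⟨v, 0, 1⟩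
    have e1 : g.1.u = u := congrArg GG.u hg
    have e2 : g.1.c = 1 := congrArg GG.c hg
    have e3 : g'.1.u = v := congrArg GG.u hg'
    have e4 : g'.1.c = 1 := congrArg GG.c hg'
    have : x * (g' * g) = g * g' := by
      ext
      · simp [h1, h2, e1, e2, e3, e4, add_comm]
      · simp [h1, h2, e1, e2, e3, e4, ← e]; abel
      · simp [h2, e2, e4]
    rw [eq_mul_inv_of_mul_eq this]
    exact H.mul_mem (H.mul_mem g.2 g'.2) (H.inv_mem (H.mul_mem g'.2 g.2))
  refine eq_top_iff.2 fun x _ => ?_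
  obtain ⟨g, hg⟩ := MonoidHom.range_eq_top.1 h (prj D x)
  have : x * g.1⁻¹ ∈ H := h1 (by rw [MonoidHom.mem_ker, map_mul, map_inv, ← hg]; exact mul_inv_cancel _)
  simpa using H.mul_mem this g.2

theorem fiber [CharP K p] (hK : Nat.card K = p ^ a) (hW : Nat.card W = p ^ b) (ha : a = orderOf (p : ZMod q))
    (hb : p ^ b = if a % 2 = 1 then 1 else p ^ (a / 2))
    (hζ : IsPrimitiveRoot ζ q) (hpq : p ≠ q) (hγ : ∀ c, c ∈ zpowers γ) (hC : orderOf γ = q ^ r) (hχ : D.χ γ = ζ)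
    (hβ : ∀ w, ∃ u v, D.β u v - D.β v u = w) {X : Type*} [Group X] [Finite X] (h : MN p X) {t : ℕ}
    (hc : Nat.card X = p ^ t * q ^ r) : ∃ φ : GG D →* X, Function.Surjective φ ∧ φ.ker ≤ center _ := by
  have hG := mn_GG hK hW ha hζ hpq hγ hC hχ hβ
  have hCc : Nat.card C = q ^ r := by rw [← hC, orderOf_eq_card_of_forall_mem_zpowers hγ]
  have hY : Nat.card (GG (Dat0 D.χ)) = p ^ a * q ^ r := by rw [card_GG, hK, hCc]; simp
  have hY1 : ¬ HasNormalPComplement p (GG (Dat0 D.χ)) := not_pnil (b := 0) hK (by simp) hζ hpq hC hχ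
  obtain ⟨π, h1, h2, h3, -⟩ := coord hK ha hζ hpq hγ hC hχ h hc
  let ρ : GG D × X →* GG (Dat0 D.χ) := (prj D).comp (MonoidHom.fst _ _)
  let F : Subgroup (GG D × X) := ρ.eqLocus (π.comp (MonoidHom.snd _ _))
  obtain ⟨H, ⟨hHF, hH⟩, hmin⟩ := (wellFounded_lt (α := Subgroup (GG D × X))).has_min {H | H ≤ F ∧ H.map ρ = ⊤}
    ⟨F, le_rfl, eq_top_iff.2 fun v _ => by
      obtain ⟨g, rfl⟩ := prj_surj v
      obtain ⟨x, hx⟩ := h1 (prj D g)
      exact ⟨(g, x), hx.symm, rfl⟩⟩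
  have hcen : ∀ x ∈ H, ρ x = 1 → x ∈ center (GG D × X) := fun x hx e => mem_center_iff.2 fun y =>
    Prod.ext (mem_center_iff.1 (ker_prj_le e) y.1) (mem_center_iff.1 (h2 ((hHF hx).symm.trans e)) y.2)
  have hs : Function.Surjective (ρ.comp H.subtype) := fun v => by
    obtain ⟨x, hx, e⟩ : v ∈ H.map ρ := hH ▸ mem_top v
    exact ⟨⟨x, hx⟩, e⟩
  have hM : MN p H := ⟨fun h => hY1 (H3.hasNormalPComplement_of_surjective _ hs h), fun L hL =>
    pnil_of (pnil0 hK ha hζ hγ hC hχ) ((ρ.comp H.subtype).comp L.subtype)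
      (fun x hx => mem_center_iff.2 fun y => Subtype.ext (Subtype.ext (mem_center_iff.1 (hcen _ x.1.2 hx) y)))
      fun e => hmin (L.map H.subtype) ⟨(map_subtype_le _).trans hHF, by
        rw [map_map, ← e, MonoidHom.range_comp, range_subtype]⟩
        (lt_of_le_of_ne (map_subtype_le _) fun e => hL (map_injective H.subtype_injective
          (e.trans (by rw [← MonoidHom.range_eq_map, range_subtype]))))⟩
  have hP : IsPGroup p (ρ.comp H.subtype).ker := fun x => by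
    have hk : IsPGroup p (prj D).ker := by
      refine IsPGroup.of_card (n := b) ?_
      have := (prj D).ker.card_mul_index
      rw [index_ker, MonoidHom.range_eq_top.2 prj_surj, card_top, hY, card_GG, hK, hW, hCc] at this
      refine Nat.eq_of_mul_eq_mul_right (m := p ^ a * q ^ r) (by rw [← hY]; exact Nat.card_pos) ?_
      rw [this]; ring
    obtain ⟨i, hi⟩ := hk ⟨x.1.1.1, x.2⟩
    obtain ⟨j, hj⟩ := h3 ⟨x.1.1.2, (hHF x.1.2).symm.trans x.2⟩
    refine ⟨i + j, Subtype.ext (Subtype.ext (Prod.ext ?_ ?_))⟩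
    · have : x.1.1.1 ^ p ^ i = 1 := congrArg Subtype.val hi
      change x.1.1.1 ^ p ^ (i + j) = 1
      rw [pow_add, pow_mul, this, one_pow]
    · have : x.1.1.2 ^ p ^ j = 1 := congrArg Subtype.val hj
      change x.1.1.2 ^ p ^ (i + j) = 1
      rw [pow_add, mul_comm, pow_mul, this, one_pow]
  obtain ⟨n, hn⟩ := hP.exists_card_eq
  have hcH : Nat.card H = p ^ (n + a) * q ^ r := by
    rw [← (ρ.comp H.subtype).ker.card_mul_index, index_ker, MonoidHom.range_eq_top.2 hs, card_top, hY, hn]; ring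
  obtain ⟨π', g1, -, -, g2⟩ := coord hK ha hζ hpq hγ hC hχ hM hcH
  have hle : Nat.card H ≤ Nat.card (GG D) := by
    rw [← π'.ker.card_mul_index, index_ker, MonoidHom.range_eq_top.2 g1, card_top, hY, card_GG, hK, hW, hCc, hb]
    exact (Nat.mul_le_mul_right _ g2).trans_eq (by ring)
  have s1 : Function.Surjective ((MonoidHom.fst _ _).comp H.subtype) := by
    rw [← MonoidHom.range_eq_top]
    by_contra e
    refine hY1 (H3.hasNormalPComplement_of_surjective ((prj D).comp (Subgroup.subtype _)) (fun v => ?_) (hG.2 _ e))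
    obtain ⟨x, rfl⟩ := hs v
    exact ⟨⟨_, x, rfl⟩, rfl⟩
  have s2 : Function.Surjective ((MonoidHom.snd _ _).comp H.subtype) := by
    rw [← MonoidHom.range_eq_top]
    by_contra e
    refine hY1 (H3.hasNormalPComplement_of_surjective (π.comp (Subgroup.subtype _)) (fun v => ?_) (h.2 _ e))
    obtain ⟨x, rfl⟩ := hs v
    exact ⟨⟨_, x, rfl⟩, (hHF x.2).symm⟩
  let e := MulEquiv.ofBijective _ (s1.bijective_of_nat_card_le hle)
  refine ⟨((MonoidHom.snd _ _).comp H.subtype).comp e.symm.toMonoidHom, s2.comp e.symm.surjective, fun g hg => ?_⟩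
  obtain ⟨x, rfl⟩ := e.surjective g
  have : x.1.2 = 1 := by simpa using hg
  refine ker_prj_le ((hHF x.2).trans ?_)
  change π x.1.2 = 1
  rw [this, map_one]

end model

theorem card_le_of_roots {L : AddSubgroup K} {n : ℕ} (hn : 2 ≤ n) (c : K) (h : ∀ x ∈ L, x ^ n = c * x) :
    Nat.card L ≤ n := by
  classical
  have := Fintype.ofFinite K
  open Polynomial in
  have h1 : (X ^ n - C c * X : K[X]).natDegree = n := by
    rw [natDegree_sub_eq_left_of_natDegree_lt] <;> rw [natDegree_X_pow]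
    exact (natDegree_C_mul_le _ _).trans_lt (by rw [natDegree_X]; omega)
  open Polynomial in
  have h2 := Polynomial.card_le_degree_of_subset_roots (p := (X ^ n - C c * X : K[X]))
    (Z := (L : Set K).toFinset) fun x hx => by
      rw [mem_roots (fun e => by rw [e, natDegree_zero] at h1; omega)]
      simp [h x (by simpa using hx)]
  rwa [h1, Set.toFinset_card, ← Nat.card_eq_fintype_card] at h2

theorem exists_dat [CharP K p] (hK : Nat.card K = p ^ a) (ha : a = orderOf (p : ZMod q)) (ha0 : 0 < a)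
    (hζ : IsPrimitiveRoot ζ q) (hγ : ∀ c, c ∈ zpowers γ) (hχ : χ γ = ζ) (he : a % 2 = 0) :
    ∃ (W : AddSubgroup K) (D : Dat K W C), D.χ = χ ∧ Nat.card W = p ^ (a / 2) ∧
      ∀ w, ∃ u v, D.β u v - D.β v u = w := by
  have h0 := hζ.ne_zero hq.out.ne_zero
  have := Fintype.ofFinite K
  let σ := iterateFrobenius K p (a / 2)
  have hσ : ∀ x, σ x = x ^ p ^ (a / 2) := fun x => iterateFrobenius_def _ _ _
  have hσσ : ∀ x, σ (σ x) = x := fun x => by
    rw [hσ, hσ, ← pow_mul, ← pow_add, show a / 2 + a / 2 = a by omega, ← hK, Nat.card_eq_fintype_card,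
      FiniteField.pow_card]
  have hm : (p : ZMod q) ^ (a / 2) = -1 := by
    refine (sq_eq_one_iff.1 ?_).resolve_left (pow_ne_one_of_lt_orderOf (by omega) (by omega))
    rw [← pow_mul, show a / 2 * 2 = a by omega, ha, pow_orderOf_eq_one]
  have hζσ : ζ * σ ζ = 1 := by
    rw [hσ, ← pow_succ', hζ.pow_eq_one_iff_dvd, ← ZMod.natCast_eq_zero_iff]
    push_cast
    rw [hm, neg_add_cancel]
  obtain ⟨θ, hθ⟩ : ∃ θ, θ + σ θ ≠ 0 := by
    by_contra! h
    have h1 := h 1
    have h2 := h ζ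
    rw [map_one] at h1
    have h3 : ζ ^ 2 = 1 := by
      rw [← hζσ, eq_neg_of_add_eq_zero_right h2, sq]
      linear_combination (ζ * ζ) * h1
    have h4 : q = 2 := (Nat.prime_dvd_prime_iff_eq hq.out Nat.prime_two).1 ((hζ.pow_eq_one_iff_dvd 2).1 h3)
    subst h4
    have h5 : (p : ZMod 2) ^ (a / 2) = 1 := hm
    have := Nat.le_of_dvd (by omega) (ha ▸ orderOf_dvd_of_pow_eq_one h5)
    omega
  let δ : K →+ K := AddMonoidHom.id K - σ.toAddMonoidHom
  have hδ : ∀ x, δ x = x - σ x := fun x => rfl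
  have hp2 : 2 ≤ p ^ (a / 2) := hp.out.two_le.trans (Nat.le_self_pow (by omega) p)
  refine ⟨δ.range, ⟨χ, AddMonoidHom.mk' (fun u => δ.rangeRestrict.comp
    ((AddMonoidHom.mulLeft (θ * u)).comp σ.toAddMonoidHom)) (fun u u' => by
      ext v; simp [mul_add, add_mul]), fun c u v => ?_⟩, rfl, ?_, ?_⟩
  · obtain ⟨k, rfl⟩ := mem_powers_iff_mem_zpowers.2 (hγ c)
    refine congrArg δ.rangeRestrict ?_
    change θ * (χ (γ ^ k) * u) * σ (χ (γ ^ k) * v) = θ * u * σ v
    rw [map_pow, hχ, map_mul, map_pow]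
    have h1 : ζ ^ k * σ ζ ^ k = 1 := by rw [← mul_pow, hζσ, one_pow]
    linear_combination θ * u * σ v * h1
  · have h1 : Nat.card δ.range ≤ p ^ (a / 2) := card_le_of_roots hp2 (-1) (by
      rintro _ ⟨x, rfl⟩
      rw [← hσ, hδ, map_sub, hσσ]; ring)
    have h2 : Nat.card δ.ker ≤ p ^ (a / 2) := card_le_of_roots hp2 1 fun x hx => by
      rw [← hσ, one_mul]; exact (sub_eq_zero.1 hx).symm
    have h3 := δ.ker.card_mul_index
    rw [AddSubgroup.index_ker, hK, show a = a / 2 + a / 2 by omega, pow_add] at h3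
    refine h1.antisymm (Nat.le_of_mul_le_mul_left (c := p ^ (a / 2)) ?_ (by omega))
    rw [← h3]; exact Nat.mul_le_mul_right _ h2
  · rintro ⟨_, x, rfl⟩
    refine ⟨x / (θ + σ θ), 1, Subtype.ext ?_⟩
    change δ (θ * (x / (θ + σ θ)) * σ 1) - δ (θ * 1 * σ (x / (θ + σ θ))) = δ x
    simp only [hδ, map_mul, map_div₀, map_add, map_one, hσσ, add_comm (σ θ)]
    field_simp
    ring

universe u

theorem golfand (p q r : ℕ) [hp : Fact p.Prime] [hq : Fact q.Prime] (hpq : p ≠ q) (hr : 1 ≤ r) (a a₀ : ℕ)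
    (ha : a = orderOf (p : ZMod q)) (ha₀ : a₀ = if a % 2 = 1 then a else 3 * a / 2) :
    ∃ (G₀ : Type u) (_ : Group G₀) (_ : Finite G₀), MN p G₀ ∧ Nat.card G₀ = p ^ a₀ * q ^ r ∧
      ∀ (X : Type u) [Group X] [Finite X], MN p X →
        (∃ t : ℕ, Nat.card X = p ^ t * q ^ r) → ∃ φ : G₀ →* X, Function.Surjective φ ∧ φ.ker ≤ center G₀ := by
  have hp0 : (p : ZMod q) ≠ 0 := fun h =>
    hpq ((Nat.prime_dvd_prime_iff_eq hq.out hp.out).1 ((ZMod.natCast_eq_zero_iff _ _).1 h)).symm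
  have ha0 : 0 < a := ha ▸ (isOfFinOrder_iff_pow_eq_one.2 ⟨q - 1, by have := hq.out.two_le; omega,
    ZMod.pow_card_sub_one_eq_one hp0⟩).orderOf_pos
  have hK : Nat.card (GaloisField p a) = p ^ a := GaloisField.card p a ha0.ne'
  obtain ⟨ζ, hζ⟩ := exists_prime_orderOf_dvd_card' (G := (GaloisField p a)ˣ) q (by
    rw [Nat.card_units, hK, ← ZMod.natCast_eq_zero_iff, Nat.cast_sub (Nat.one_le_pow _ _ hp.out.pos)]
    push_cast
    rw [ha, pow_orderOf_eq_one, sub_self])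
  have hζ' : IsPrimitiveRoot (ζ : GaloisField p a) q := IsPrimitiveRoot.coe_units_iff.2 (hζ ▸ IsPrimitiveRoot.orderOf ζ)
  have : NeZero (q ^ r) := ⟨pow_ne_zero _ hq.out.ne_zero⟩
  obtain ⟨γ, hγ⟩ := IsCyclic.exists_generator (α := Multiplicative (ZMod (q ^ r)))
  have hCc : Nat.card (Multiplicative (ZMod (q ^ r))) = q ^ r := by simp
  have hC : orderOf γ = q ^ r := by rw [orderOf_eq_card_of_forall_mem_zpowers hγ, hCc]
  let χ := (Units.coeHom (GaloisField p a)).comp (monoidHomOfForallMemZpowers hγ (g' := ζ)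
    (by rw [hζ, hC]; exact dvd_pow_self q (by omega)))
  have hχ : χ γ = ζ := congrArg Units.val (monoidHomOfForallMemZpowers_apply_gen _ _)
  obtain ⟨W, _, _, D, b, hW, hD, hb, hab, hβ⟩ : ∃ (W : Type) (_ : AddCommGroup W) (_ : Finite W)
      (D : Dat (GaloisField p a) W (Multiplicative (ZMod (q ^ r)))) (b : ℕ), Nat.card W = p ^ b ∧ D.χ γ = ζ ∧
      (p ^ b = if a % 2 = 1 then 1 else p ^ (a / 2)) ∧ a₀ = a + b ∧ ∀ w, ∃ u v, D.β u v - D.β v u = w := by
    by_cases he : a % 2 = 1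
    · exact ⟨Unit, inferInstance, inferInstance, Dat0 χ, 0, by simp, hχ, by simp [he], by simp [ha₀, he],
        fun w => ⟨0, 0, rfl⟩⟩
    · obtain ⟨W, D, h1, h2, h3⟩ := exists_dat hK ha ha0 hζ' hγ hχ (by omega)
      exact ⟨W, inferInstance, inferInstance, D, a / 2, h2, h1 ▸ hχ, by rw [if_neg he],
        by rw [ha₀, if_neg he]; omega, h3⟩
  have hG := mn_GG hK hW ha hζ' hpq hγ hC hD hβ
  let e : ULift.{u} (GG D) ≃* GG D := MulEquiv.ulift
  refine ⟨ULift.{u} (GG D), inferInstance, inferInstance, ⟨fun h => hG.1 (H3.hasNormalPComplement_of_mulEquiv e h),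
    fun L hL => H3.hasNormalPComplement_of_mulEquiv (e.subgroupMap L).symm (hG.2 _ fun h => hL
      (map_injective (f := e.toMonoidHom) e.injective (h.trans (map_top_of_surjective _ e.surjective).symm)))⟩,
    by rw [Nat.card_congr e.toEquiv, card_GG, hK, hW, hCc, hab, pow_add], fun X _ _ hX ⟨t, ht⟩ => ?_⟩
  obtain ⟨φ, h1, h2⟩ := fiber hK hW ha hb hζ' hpq hγ hC hD hβ hX ht
  exact ⟨φ.comp e.toMonoidHom, h1.comp e.surjective, fun x hx => mem_center_iff.2 fun y =>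
    e.injective (by rw [map_mul, map_mul]; exact mem_center_iff.1 (h2 hx) _)⟩

end Cfsg.Agent.H7.Gf
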