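import Cfsg.Agent.H7.KGU1
import Cfsg.Agent.H13.Wall2

/-!
Dual polynomials and the elementary divisors of the inverse adjoint.
-/

set_option autoImplicit false
set_option linter.dupNamespace false

namespace Cfsg.Agent.H7.KG

open Finset Polynomial H28 Module Matrix

variable {F : Type*} [Field F] {σ : F →+* F}

/-- The dual polynomial. -/
noncomputable def dl (σ : F →+* F) : F[X] →* F[X] where
  toFun g := C (σ (g.coeff 0))⁻¹ * (g.map σ).reverse
  map_one' := by rw [Polynomial.map_one, ← C_1, reverse_C]; simp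
  map_mul' a b := by
    rw [Polynomial.map_mul, reverse_mul_of_domain, mul_coeff_zero, map_mul, mul_inv, C_mul]; ring

theorem dl_apply (g : F[X]) : dl σ g = C (σ (g.coeff 0))⁻¹ * (g.map σ).reverse := rfl

theorem coeff_dl (g : F[X]) (i : ℕ) :
    (dl σ g).coeff i = (σ (g.coeff 0))⁻¹ * σ (g.coeff (revAt g.natDegree i)) := by
  rw [dl_apply, coeff_C_mul, coeff_reverse, natDegree_map, coeff_map]

variable {g : F[X]}

theorem natDegree_dl (h : g.coeff 0 ≠ 0) : (dl σ g).natDegree = g.natDegree := by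
  rw [dl_apply, natDegree_C_mul (by simpa), reverse_natDegree,
    natTrailingDegree_eq_zero.2 (.inr (by simpa)), natDegree_map, Nat.sub_zero]

theorem monic_dl (h : g.coeff 0 ≠ 0) : (dl σ g).Monic := by
  rw [Monic, leadingCoeff, natDegree_dl h, coeff_dl, revAt_le le_rfl, Nat.sub_self,
    inv_mul_cancel₀ (by simpa)]

theorem coeff_zero_dl (h : g.coeff 0 ≠ 0) : (dl σ g).coeff 0 ≠ 0 := by
  have : g ≠ 0 := by rintro rfl; simp at h
  simp [coeff_dl, h, this]

theorem dl_dl (hσ : ∀ a, σ (σ a) = a) (hm : g.Monic) (h : g.coeff 0 ≠ 0) : dl σ (dl σ g) = g := by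
  ext i
  simp [coeff_dl, natDegree_dl h, hm.leadingCoeff, hσ, h]

theorem irreducible_dl (hσ : ∀ a, σ (σ a) = a) (hm : g.Monic) (h : g.coeff 0 ≠ 0)
    (hi : Irreducible g) : Irreducible (dl σ g) := by
  refine ⟨not_isUnit_of_natDegree_pos _ (natDegree_dl (σ := σ) h ▸ hi.natDegree_pos), fun a b e => ?_⟩
  have h1 := coeff_zero_dl (σ := σ) h
  rw [e, mul_coeff_zero, mul_ne_zero_iff] at h1
  have h2 : ∀ a : F[X], a.coeff 0 ≠ 0 → IsUnit (dl σ a) → IsUnit a := fun a ha hu => by
    rw [eq_C_of_natDegree_eq_zero ((natDegree_dl ha).symm.trans (natDegree_eq_zero_of_isUnit hu))]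
    exact isUnit_C.2 ha.isUnit
  exact (hi.isUnit_or_isUnit (by rw [← map_mul, ← e, dl_dl hσ hm h])).imp (h2 a h1.1) (h2 b h1.2)

theorem coeff_zero_ne (hm : g.Monic) (hi : Irreducible g) (h : g ≠ X) : g.coeff 0 ≠ 0 := fun e =>
  h (eq_of_monic_of_associated hm monic_X
    (irreducible_X.associated_of_dvd hi (X_dvd_iff.2 e)).symm)

open Classical in
/-- The dual elementary divisor. -/
noncomputable def dual (hσ : ∀ a, σ (σ a) = a) (x : PP F) : PP F :=
  ⟨if x.f = X then X else dl σ x.f, x.k, by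
    split_ifs with h; exacts [monic_X, monic_dl (coeff_zero_ne x.monic x.irred h)], by
    split_ifs with h
    exacts [irreducible_X, irreducible_dl hσ x.monic (coeff_zero_ne x.monic x.irred h) x.irred], x.pos⟩

variable (hσ : ∀ a, σ (σ a) = a)

theorem dual_f {x : PP F} (h : x.f ≠ X) : (dual hσ x).f = dl σ x.f := if_neg h

theorem dual_ne_X {x : PP F} (h : x.f ≠ X) : (dual hσ x).f ≠ X := fun e =>
  coeff_zero_dl (σ := σ) (coeff_zero_ne x.monic x.irred h) (by rw [← dual_f hσ h, e, coeff_X_zero])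

theorem dual_dual (x : PP F) : dual hσ (dual hσ x) = x := by
  refine PP.ext ?_ rfl
  by_cases h : x.f = X
  · simp [dual, h]
  · rw [dual_f hσ (dual_ne_X hσ h), dual_f hσ h, dl_dl hσ x.monic (coeff_zero_ne x.monic x.irred h)]

theorem gseq_dual {M : Multiset (PP F)} (h : ∀ x ∈ M, x.f ≠ X) (k : ℕ) :
    gseq (M.map (dual hσ)) k = dl σ (gseq M k) := by
  induction M using Multiset.induction_on with
  | empty => simp [gseq]
  | cons x M ih =>
    rw [Multiset.map_cons, gseq_cons, gseq_cons, ih fun y hy => h y (Multiset.mem_cons_of_mem hy),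
      map_mul, dual_f hσ (h x (Multiset.mem_cons_self _ _)), apply_ite (dl σ), map_one]
    rfl

theorem aeval_reflect {R : Type*} [Ring R] [Algebra F R] {u v : R} (h : v * u = 1) (h' : u * v = 1)
    (N : ℕ) (f : F[X]) (hf : f.natDegree ≤ N) : aeval u (reflect N f) = aeval v f * u ^ N := by
  refine induction_with_natDegree_le (fun f => aeval u (reflect N f) = aeval v f * u ^ N) _ ?_ ?_
    ?_ f hf
  · simp
  · intro n r _ hn
    obtain ⟨m, rfl⟩ := Nat.exists_eq_add_of_le hn
    simp only [revAt_le hn, reflect_C_mul_X_pow, map_mul, map_pow, aeval_C, aeval_X]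
    rw [pow_add, mul_assoc, ← mul_assoc (v ^ n), ← Commute.mul_pow (h.trans h'.symm), h]
    simp
  · intros
    simp [*, add_mul]

variable {n : Type*} [Fintype n] [DecidableEq n] [Finite F]

include hσ in
theorem rank_map (A : Matrix n n F) : (A.map σ).rank = A.rank := by
  have h : finrank F (LinearMap.ker (toLin' (A.map σ))) = finrank F (LinearMap.ker (toLin' A)) := by
    apply Nat.pow_right_injective (Finite.one_lt_card (α := F))
    simp only [← Module.natCard_eq_pow_finrank]
    refine Nat.card_congr (Equiv.subtypeEquiv (Function.Involutive.toPerm (σ ∘ ·)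
      fun v => funext fun i => hσ _) fun v => ?_).symm
    simp only [LinearMap.mem_ker, funext_iff]
    exact forall_congr' fun i => (map_eq_zero σ).symm.trans (RingHom.map_mulVec σ A v i ▸ Iff.rfl)
  have := finrank_ker_toLin' A
  have := finrank_ker_toLin' (A.map σ)
  omega

include hσ in
theorem rank_aeval_dl {A A' : Matrix n n F} (h : A' * (A.map σ)ᵀ = 1) (hg : g.coeff 0 ≠ 0) :
    (aeval A (dl σ g)).rank = (aeval A' g).rank := by
  have h1 := aeval_reflect h (mul_eq_one_comm.1 h) _ g le_rfl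
  have h2 : IsUnit ((A.map σ)ᵀ ^ g.natDegree) := (IsUnit.of_mul_eq_one_right _ h).pow _
  rw [← rank_mul_eq_left_of_isUnit_det _ (aeval A' g) ((isUnit_iff_isUnit_det _).1 h2), ← h1,
    aeval_transpose,
    rank_transpose, dl_apply, map_mul, rank_mul_eq_right_of_isUnit_det _ _
      ((isUnit_iff_isUnit_det _).1 ((isUnit_C.2 (by simpa)).map _)), ← rank_map hσ,
    ← RingHom.mapMatrix_apply, map_aeval_mat, reverse, ← reflect_map, natDegree_map,
    Polynomial.map_map,
    show σ.comp σ = .id F from RingHom.ext hσ, Polynomial.map_id]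

theorem med_dual {A A' : Matrix n n F} (h : A' * (A.map σ)ᵀ = 1) :
    med A' = (med A).map (dual hσ) := by
  classical
  have h1 := (isUnit_iff_med A').1 (IsUnit.of_mul_eq_one _ h)
  have h2 := (isUnit_iff_med A).1 ((isUnit_iff_isUnit_det _).2 (by
    have := (isUnit_iff_isUnit_det _).1 (IsUnit.of_mul_eq_one_right _ h)
    rw [det_transpose, ← RingHom.mapMatrix_apply, ← RingHom.map_det] at this
    simpa using this))
  refine ed_eq_iff.2 (sim_of_finrank_ker fun f hm hf j => ?_)
  rw [finrank_ker_model _ hm hf, Multiset.map_map]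
  by_cases hX : f = X
  · rw [finrank_ker_aeval_pow _ hm hf, Multiset.sum_eq_zero, Multiset.sum_eq_zero]
    all_goals simp only [Multiset.forall_mem_map_iff, hX]
    exacts [fun x hx => if_neg (dual_ne_X hσ (h2 x hx)), fun x hx => if_neg (h1 x hx)]
  have h3 := coeff_zero_ne hm hf hX
  have h4 := rank_aeval_dl hσ h (g := f ^ j) (by simp [coeff_zero_eq_eval_zero] at h3 ⊢; tauto)
  have h5 := finrank_ker_toLin' (aeval A' (f ^ j))
  have h6 := finrank_ker_toLin' (aeval A (dl σ (f ^ j)))
  rw [toLin'_aeval, map_pow (dl σ), finrank_ker_aeval_pow _ (monic_dl h3)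
    (irreducible_dl hσ hm h3 hf), ← map_pow, h4, ← h5, Nat.add_right_cancel_iff, toLin'_aeval] at h6
  rw [← h6]
  refine congrArg _ (Multiset.map_congr rfl fun x hx => ?_)
  rw [Function.comp_apply, dual_f hσ (h2 x hx), natDegree_dl h3]
  refine if_congr ⟨fun e => by rw [e, dl_dl hσ hm h3], fun e => ?_⟩ rfl rfl
  rw [← e, dl_dl hσ x.monic (coeff_zero_ne x.monic x.irred (h2 x hx))]

theorem exists_nds {M : Multiset (PP F)} (h : ∀ x ∈ M, x.f ≠ X) (h' : M.map (dual hσ) = M)
    (hn : Fintype.card n = (M.map fun x => x.k * x.f.natDegree).sum) : ∃ (A : Matrix n n F)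
      (C : (n → F) →ₛₗ[σ] (n → F) →ₗ[F] F), med A = M ∧ H13.NDS C ∧ Pres C (toLin' A) := by
  obtain ⟨A, rfl⟩ := exists_GL_med_eq M hn h
  refine ⟨A, ?_⟩
  simp only [true_and]
  refine H13.exists_nds_of_isConj hσ A.det_ne_zero (isConj_iff_med.2 (h'.symm.trans
    (med_dual hσ (nonsing_inv_mul _ ?_)).symm))
  rw [det_transpose, ← RingHom.mapMatrix_apply, ← RingHom.map_det]
  simpa using A.det_ne_zero

omit [Finite F] in
theorem det_aeval_eq {V : Type*} [AddCommGroup V] [Module F V] [FiniteDimensional F V]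
    (a : End F V) (p : F[X]) : LinearMap.det (aeval a p) =
      ((ed a).map fun y => Algebra.norm F (AdjoinRoot.mk y.poly p)).prod := by
  rw [((sim_model_ed a).aeval p).det_eq, aeval_piEnd, det_piEnd]
  conv_rhs => rw [← Multiset.map_univ_coe (ed a), Multiset.map_map]
  simp only [aeval_cyc]
  rfl

theorem exists_det_aeval {A : Matrix n n F} {x y : PP F} (h : med A = {x} ∨ med A = {x, y} ∧ x.f ≠ y.f)
    (c : F) : ∃ p : F[X], (aeval A p).det = c ^ x.k := by
  obtain ⟨w, hw⟩ := exists_norm_pow x c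
  obtain ⟨w, rfl⟩ := AdjoinRoot.mk_surjective w
  simp only [← LinearMap.det_toLin', toLin'_aeval, det_aeval_eq, ← hw]
  rw [med] at h
  obtain h | ⟨h, h'⟩ := h
  · exact ⟨w, by simp [h]⟩
  obtain ⟨u, v, e⟩ : IsCoprime x.poly y.poly := IsCoprime.pow (x.irred.coprime_iff_not_dvd.2 fun e =>
    h' (eq_of_monic_of_associated x.monic y.monic (x.irred.associated_of_dvd y.irred e)))
  refine ⟨w * (v * y.poly) + u * x.poly, ?_⟩
  rw [h, Multiset.insert_eq_cons, Multiset.map_cons, Multiset.map_singleton, Multiset.prod_cons,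
    Multiset.prod_singleton, AdjoinRoot.mk_eq_mk.2 (show x.poly ∣ _ - w from ⟨u - w * u, by
      linear_combination w * e⟩), AdjoinRoot.mk_eq_mk.2 (show y.poly ∣ _ - 1 from ⟨w * v - v, by
      linear_combination e⟩), map_one, map_one, mul_one]

end Cfsg.Agent.H7.KG
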