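import Cfsg.Agent.H7.KGU2

/-!
Class numbers of unitary groups.
-/

set_option autoImplicit false
set_option linter.dupNamespace false

namespace Cfsg.Agent.H7.KG

open Finset Polynomial H28 Module Matrix

variable {F : Type*} [Field F] {σ : F →+* F}

theorem card_fix_sq {E : Type*} [AddCommGroup E] [Module F E] (T : E →ₛₗ[σ] E) {θ : F} (hσ : σ (σ θ) = θ)
    (hθ : θ - σ θ ≠ 0) (S : E → Prop) (h1 : ∀ x y (t : F), S x → S y → S (x + t • (y - x)))
    (h2 : ∀ x, S x → S (T x)) (h3 : ∀ x, T (T x) = x) :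
    Nat.card {x // S x ∧ T x = x} ^ 2 = Nat.card {x // S x} := by
  have hθ' : σ θ - θ ≠ 0 := fun e => hθ (by linear_combination -e)
  rw [sq, ← Nat.card_prod]
  refine Nat.card_congr (Equiv.ofBijective (fun v => ⟨v.1.1 + θ • (v.2.1 - v.1.1),
    h1 _ _ _ v.1.2.1 v.2.2.1⟩) ⟨fun v w e => ?_, fun ⟨p, hp⟩ => ?_⟩)
  · have e1 : v.1.1 + θ • (v.2.1 - v.1.1) = w.1.1 + θ • (w.2.1 - w.1.1) := congrArg Subtype.val e
    have e2 := congrArg T e1
    simp only [map_add, map_smulₛₗ, map_sub, v.1.2.2, v.2.2.2, w.1.2.2, w.2.2.2] at e2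
    have e3 : v.2.1 - v.1.1 = w.2.1 - w.1.1 := smul_right_injective E hθ (by
      linear_combination (norm := module) e1 - e2)
    rw [e3, add_left_inj] at e1
    exact Prod.ext (Subtype.ext e1) (Subtype.ext (by rwa [e1, sub_left_inj] at e3))
  · refine ⟨(⟨_, h1 _ _ (θ / (θ - σ θ)) hp (h2 p hp), ?_⟩, ⟨_, h1 _ _ ((θ - 1) / (θ - σ θ)) hp (h2 p hp), ?_⟩),
      Subtype.ext ?_⟩
    all_goals
      simp only [map_add, map_smulₛₗ, map_sub, h3, map_div₀, hσ, map_one]
      match_scalars <;> field_simp <;> ring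

theorem commute_aeval {R : Type*} [Ring R] [Algebra F R] {a c : R} (h : Commute a c) (p : F[X]) :
    Commute (aeval a p) c := by
  induction p using Polynomial.induction_on' with
  | add p q hp hq => rw [map_add]; exact hp.add_left hq
  | monomial k b =>
    rw [aeval_monomial]; exact (Algebra.commute_algebraMap_left _ _).mul_left (h.pow_left k)

theorem dl_eq_iff {g : F[X]} {c : F} (hc : σ c * c = 1) (h : g.coeff 0 = c) :
    dl σ g = g ↔ C c * reflect g.natDegree (g.map σ) = g := by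
  rw [dl_apply, h, inv_eq_of_mul_eq_one_right hc, reverse, natDegree_map]

theorem mul_eq_one_of_dl {g : F[X]} (hm : g.Monic) (h0 : g.coeff 0 ≠ 0) (h : dl σ g = g) :
    σ (g.coeff 0) * g.coeff 0 = 1 := by
  have := coeff_dl (σ := σ) g 0
  rw [h, revAt_zero, hm.coeff_natDegree, map_one, mul_one] at this
  rw [← mul_inv_cancel₀ ((map_ne_zero σ).2 h0), ← this]

theorem tw_unitary [Finite F] (hσ : ∀ a, σ (σ a) = a) (h : σ ≠ RingHom.id F) :
    Tw (H12.N1 σ).subtype fun g => dl σ g = g := fun u => by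
  obtain ⟨b, hb, hu⟩ := H12.exists_div_conj_eq h hσ u.2
  let φ (g : F[X]) := C b * g + C ((u.1 - b) * g.coeff 0) + monomial g.natDegree (1 - b)
  have h1 : ∀ g : F[X], g.Monic → 0 < g.natDegree → ∀ i, (φ g).coeff i =
      if i = 0 then u.1 * g.coeff 0 else if i = g.natDegree then 1 else b * g.coeff i := fun g hm hd i => by
    simp only [φ, coeff_add, coeff_C_mul, coeff_C, coeff_monomial]
    split_ifs with e1 e2 e3 e4 e5
    · omega
    · rw [e1]; ring
    · rw [e4, hm.coeff_natDegree]; ring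
    · omega
    · omega
    · ring
  have h2 : ∀ g : F[X], g.Monic → 0 < g.natDegree → (φ g).natDegree = g.natDegree := fun g hm hd =>
    natDegree_eq_of_le_of_coeff_ne_zero (natDegree_le_iff_coeff_eq_zero.2 fun i hi => by
      simp [h1 g hm hd, hi.ne', (hd.trans hi).ne', coeff_eq_zero_of_natDegree_lt hi])
      (by simp [h1 g hm hd, hd.ne'])
  refine ⟨φ, fun g hg g' hg' e => ?_, fun g hm hd hg => ⟨?_, h2 g hm hd, by simp [h1 g hm hd], ?_⟩⟩
  · have e1 : g.natDegree = g'.natDegree := by rw [← h2 g hg.1 hg.2, e, h2 g' hg'.1 hg'.2]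
    ext i
    have := congrArg (coeff · i) e
    simp only [h1 g hg.1 hg.2, h1 g' hg'.1 hg'.2, ← e1] at this
    split_ifs at this with e2 e3
    · simpa [e2] using this
    · rw [e3, hg.1.coeff_natDegree, e1, hg'.1.coeff_natDegree]
    · simpa [hb] using this
  · rw [Monic, leadingCoeff, h2 g hm hd, h1 g hm hd]; simp [hd.ne']
  · have h3 := fun i => (congrArg (coeff · i) hg).symm.trans (coeff_dl g i)
    have h4 : σ b ≠ 0 := by simpa
    have h5 : g.coeff 0 ≠ 0 := fun e => by simpa [e, hm.coeff_natDegree] using h3 g.natDegree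
    have h6 := mul_eq_one_of_dl hm h5 hg
    ext i
    rw [coeff_dl, h2 g hm hd, h1 g hm hd, h1 g hm hd, h1 g hm hd, if_pos rfl, ← hu]
    rcases le_or_gt i g.natDegree with hi | hi
    · rw [revAt_le hi]
      have h7 : σ (g.coeff 0) ≠ 0 := by simpa
      split_ifs with e1 e2 e3 e4 e5 e6 e7 e8
      any_goals omega
      · exact inv_mul_cancel₀ (by simp [hb, h5])
      · simp only [map_mul, map_inv₀, hσ, map_one]
        field_simp
        exact h6.symm
      · rw [h3 i, revAt_le hi]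
        simp only [map_mul, map_inv₀, hσ]
        field_simp
    · simp [revAt_eq_self_of_lt hi, hi.ne', (hd.trans hi).ne', coeff_eq_zero_of_natDegree_lt hi]

variable [Fintype F] {q : ℕ} (hF : Fintype.card F = q ^ 2)

local notation "σq" => H12.frobq hF

theorem card_dl_fix (d : ℕ) {c : F} (hc : σq c * c = 1) :
    Nat.card {g : F[X] // (g.Monic ∧ g.natDegree = d + 1 ∧ g.coeff 0 = c) ∧ dl σq g = g} = q ^ d := by
  obtain ⟨θ, hθ⟩ := DFunLike.ne_iff.1 (H12.frobq_ne_id hF)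
  let T : F[X] →ₛₗ[σq] F[X] :=
    { toFun g := C c * reflect (d + 1) (g.map σq)
      map_add' a b := by simp [mul_add]
      map_smul' a b := by simp [smul_eq_C_mul, mul_left_comm] }
  have h0 : ∀ g i, (T g).coeff i = c * σq (g.coeff (revAt (d + 1) i)) := fun g i => by simp [T]
  have h1 : ∀ g : F[X], g.Monic ∧ g.natDegree = d + 1 ∧ g.coeff 0 = c ↔
      (∀ i, d + 1 < i → g.coeff i = 0) ∧ g.coeff (d + 1) = 1 ∧ g.coeff 0 = c := fun g => by
    rw [← natDegree_le_iff_coeff_eq_zero]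
    exact ⟨fun h => ⟨h.2.1.le, h.2.1 ▸ h.1.coeff_natDegree, h.2.2⟩, fun h =>
      ⟨monic_of_natDegree_le_of_coeff_eq_one _ h.1 h.2.1,
        natDegree_eq_of_le_of_coeff_ne_zero h.1 (by simp [h.2.1]), h.2.2⟩⟩
  have := card_fix_sq T (H12.frobq_frobq hF θ) (sub_ne_zero.2 (Ne.symm hθ))
    (fun g => g.Monic ∧ g.natDegree = d + 1 ∧ g.coeff 0 = c)
    (fun x y t => by simp only [h1]; simp +contextual)
    (fun x => by simp only [h1]; simp +contextual [h0, revAt_eq_self_of_lt, mul_comm c, hc])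
    fun x => by ext; simp [h0, H12.frobq_frobq, ← mul_assoc, (mul_comm c _).trans hc]
  rw [card_monic_coeff_zero d (· = c), Nat.card_unique (α := {x // x = c}), one_mul,
    Nat.card_eq_fintype_card (α := F), hF,
    ← pow_mul, mul_comm, pow_mul] at this
  rw [← Nat.pow_left_injective two_ne_zero this]
  exact Nat.card_congr (Equiv.subtypeEquivRight fun g => and_congr_right fun h => by
    rw [dl_eq_iff hc h.2.2, h.2.1]; rfl)

theorem card_SqU_le (m : ℕ) : #(SqP (fun g => dl σq g = g) m) ≤ cu q m m := by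
  refine card_SqP_le (w := fun d => if d = 0 then 1 else (q + 1) * q ^ (d - 1)) (fun d => ?_) m
  classical
  have := Fintype.ofFinite (H12.N1 σq)
  rcases d with _ | d
  · exact (card_le_card fun g hg => (@mem_filter _ _ (_) _ _).1 hg |>.1).trans (card_mon_zero F).le
  rw [if_neg d.succ_ne_zero, Nat.add_sub_cancel, ← H12.card_N1_frobq hF, Nat.card_eq_fintype_card]
  refine (card_le_card (t := univ.biUnion fun u : H12.N1 σq =>
    {g ∈ mon F (d + 1) | g.coeff 0 = u.1.1 ∧ dl σq g = g}) fun g hg => ?_).trans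
    (card_biUnion_le_card_mul _ _ _ fun u _ => ?_)
  · obtain ⟨h1, h2⟩ : g ∈ mon F (d + 1) ∧ dl σq g = g := by simpa using hg
    obtain ⟨h3, -, h4⟩ := mem_mon.1 h1
    exact mem_biUnion.2 ⟨⟨Units.mk0 _ h4, mul_eq_one_of_dl h3 h4 h2⟩, mem_univ _,
      mem_filter.2 ⟨h1, rfl, h2⟩⟩
  · rw [← card_dl_fix hF d u.2, Nat.subtype_card _ fun g => ?_]
    simp +contextual [mem_mon, and_assoc]

variable {n : ℕ}

theorem mem_GU' {g : GL (Fin n) F} : g ∈ GU n F q ↔ g.1 * (g.1.map σq)ᵀ = 1 := by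
  obtain ⟨τ, hτ, -⟩ := exists_frob_two hF
  rw [mem_GU_iff hτ, mul_eq_one_comm, show σq = τ from RingHom.ext fun a => (hτ a).symm]
  rfl

theorem med_dual_GU (g : GU n F q) : (med g.1.1).map (dual (H12.frobq_frobq hF)) = med g.1.1 :=
  (med_dual _ ((mem_GU' hF).1 g.2)).symm

theorem exists_GU_med {M : Multiset (PP F)} (h : ∀ x ∈ M, x.f ≠ X)
    (h' : M.map (dual (H12.frobq_frobq hF)) = M) (hn : n = (M.map fun x => x.k * x.f.natDegree).sum) :
    ∃ g : GU n F q, med g.1.1 = M := by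
  obtain ⟨A, C, rfl, h1, h2⟩ := exists_nds (n := Fin n) _ h h' (by simpa)
  obtain ⟨B, h3, h4⟩ := h1.exists_sd h2 (.inl (H12.frobq_ne_id hF))
  obtain ⟨e, he⟩ := h3.exists_equiv_std (H12.frobq_ne_id hF) (H12.skw_ne hF) (H12.frobq_skw hF)
    (n := n) (by simp)
  obtain ⟨g, hg⟩ := (H13.rl_GU hF n).exists_sim e (c := 1) (d := 0) (N' := fun _ => 0) (by simpa)
    (by simp) h4 fun _ => rfl
  exact ⟨g, hg.ed_eq.symm⟩

theorem exists_GU_aeval (g : GU n F q) {p : F[X]} (hp : (aeval g.1.1 p).det ≠ 0) :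
    ∃ y : GU n F q, Commute g y ∧ y.1.1.det = (aeval g.1.1 p).det * (σq (aeval g.1.1 p).det)⁻¹ := by
  obtain ⟨τ, hτ, h2⟩ := exists_frob_two hF
  let b := GeneralLinearGroup.mkOfDetNeZero _ hp
  have h0 : ∀ c : GL (Fin n) F, Commute g.1 c → Commute b c := fun c hc => 
    Units.ext (commute_aeval (congrArg Units.val hc) p)
  have h1 := (mem_GU_iff_uniT hτ).1 g.2
  have h3 := (h0 _ (Commute.refl _)).symm
  have h4 : Commute g.1 (uniT _ τ b) := h1 ▸ h3.map _
  have h5 : uniT _ τ (uniT _ τ b) = b :=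
    Units.ext (by rw [coe_uniT, coe_uniT_inv, cT_cT (apply_apply_of_orderOf_two h2)])
  refine ⟨⟨b * uniT _ τ b, (mem_GU_iff_uniT hτ).2 (by rw [map_mul, h5, (h0 _ h4).eq])⟩,
    Subtype.ext (h3.mul_right h4), ?_⟩
  simp only [Units.val_mul, det_mul, coe_uniT, det_cT, hτ, coe_units_inv, det_nonsing_inv,
    Ring.inverse_eq_inv', inv_pow]
  rfl

theorem exists_GU_commute (g : GU n F q) {x : PP F} (hx : x ∈ med g.1.1) (u : H12.N1 σq) :
    ∃ y : GU n F q, Commute g y ∧ y.1.1.det = u.1 ^ x.k := by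
  classical
  have hσ := H12.frobq_frobq hF
  obtain ⟨b, hb, hu⟩ := H12.exists_div_conj_eq (H12.frobq_ne_id hF) hσ u.2
  have h1 := med_dual_GU hF g
  obtain ⟨M, h2, h3, h4⟩ : ∃ M ≤ med g.1.1, M.map (dual hσ) = M ∧
      (M = {x} ∨ M = {x, dual hσ x} ∧ x.f ≠ (dual hσ x).f) := by
    by_cases h : dual hσ x = x
    · exact ⟨{x}, by simpa, by simp [h], .inl rfl⟩
    · refine ⟨{x, dual hσ x}, ?_, by simpa [dual_dual] using Multiset.pair_comm _ _,
        .inr ⟨rfl, fun e => h (PP.ext e.symm rfl)⟩⟩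
      rw [Multiset.le_iff_subset (by simp [Ne.symm h]), Multiset.insert_eq_cons,
        Multiset.cons_subset, Multiset.singleton_subset]
      exact ⟨hx, h1 ▸ Multiset.mem_map_of_mem _ hx⟩
  obtain ⟨M', h5⟩ := Multiset.le_iff_exists_add.1 h2
  have h6 := GL_med_ne_X g.1
  rw [h5] at h1 h6
  rw [Multiset.map_add, h3, add_right_inj] at h1
  obtain ⟨g₁, e₁⟩ := exists_GU_med hF (fun x hx => h6 x (Multiset.mem_add.2 (.inl hx))) h3 rfl
  obtain ⟨g₂, e₂⟩ := exists_GU_med hF (fun x hx => h6 x (Multiset.mem_add.2 (.inr hx))) h1 rfl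
  generalize (M.map fun x => x.k * x.f.natDegree).sum = n₁ at g₁ e₁
  generalize (M'.map fun x => x.k * x.f.natDegree).sum = n₂ at g₂ e₂
  subst e₁ e₂
  obtain ⟨p, hp⟩ := exists_det_aeval h4 b
  obtain ⟨y, h7, h8⟩ := exists_GU_aeval hF g₁ (p := p) (by simp [hp, hb])
  have D := (H12.sd_uB hF n).wittData
  have D' := (sd_sumB (H12.sd_uB hF n₁) (H12.sd_uB hF n₂)).wittData
  obtain ⟨e, h9, h10⟩ := H13.wall_core D'.nds D.nds D'.symm D.symm
    (((H13.rl_GU hF _).pres g₁).prodMap ((H13.rl_GU hF _).pres g₂)) ((H13.rl_GU hF n).pres g)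
    (sim_iff_ed.2 ((ed_prodMap _ _).trans h5.symm)) (.inl (H12.frobq_ne_id hF))
  obtain ⟨z, hz⟩ := ((H13.rl_GU hF n).range (e.conj ((H13.tg _ y).prodMap 1))).2 ⟨fun v w => by
    obtain ⟨v, rfl⟩ := e.surjective v
    obtain ⟨w, rfl⟩ := e.surjective w
    simp [LinearEquiv.conj_apply, h9, sumB_apply, (H13.rl_GU hF _).pres y _ _], fun _ => rfl⟩
  refine ⟨z, (H13.rl_GU hF n).inj (LinearMap.ext fun v => ?_), ?_⟩
  · obtain ⟨v, rfl⟩ := e.surjective v
    have := LinearMap.congr_fun (h7.map (H13.tg _)).eq v.1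
    simp only [End.mul_apply] at this
    simp [hz, LinearEquiv.conj_apply, ← h10, this]
  · rw [← LinearMap.det_toLin', show toLin' z.1.1 = _ from hz, ← (sim_conj _ e).det_eq,
      LinearMap.det_prodMap, map_one, mul_one, ← hu, mul_pow, inv_pow, ← map_pow, ← hp, ← h8,
      ← LinearMap.det_toLin']
    rfl

/-- The determinant on the unitary group. -/
noncomputable def detU (n : ℕ) : GU n F q →* H12.N1 σq :=
  ((GeneralLinearGroup.det : GL (Fin n) F →* Fˣ).comp (GU n F q).subtype).codRestrict _ fun g => by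
    have := congrArg det ((mem_GU' hF).1 g.2)
    rwa [det_mul, det_transpose, ← RingHom.mapMatrix_apply, ← RingHom.map_det, det_one,
      mul_comm] at this

/-- The embedding of `SU` in `GU`. -/
def jU (n : ℕ) (F : Type*) [Field F] (q : ℕ) : SU n F q →* GU n F q :=
  (Matrix.SpecialLinearGroup.toGL.comp (SU n F q).subtype).codRestrict _ fun g => g.2

include hF in
theorem isConj_GU_iff {g h : GU n F q} : IsConj g h ↔ gseq (med g.1.1) = gseq (med h.1.1) := by
  rw [(H13.rl_GU hF n).isConj_iff_u (H12.sd_uB hF n) (H12.frobq_ne_id hF), sim_iff_ed,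
    gseq_injective.eq_iff]
  rfl

theorem card_fiber_le_SU (g : ℕ → F[X]) : Nat.card {c : ConjClasses (SU n F q) //
    ∃ u, ConjClasses.mk u = c ∧ gseq (med u.1.1) = g} ≤ du (H12.N1 σq) g := by
  rcases isEmpty_or_nonempty {c : ConjClasses (SU n F q) //
    ∃ u, ConjClasses.mk u = c ∧ gseq (med u.1.1) = g} with h | ⟨⟨-, u, -, rfl⟩⟩
  · exact Nat.card_of_isEmpty.trans_le (Nat.zero_le _)
  rw [H13.card_classes_split (jU n F q) (detU hF n) (fun a b e => Subtype.ext
    (SpecialLinearGroup.toGL_injective (congrArg Subtype.val e))) (x := jU n F q u) ?_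
    (Subtype.ext (Units.ext u.1.2)) fun v => by rw [isConj_GU_iff hF, eq_comm]; rfl]
  · refine (Nat.le_of_dvd (Nat.pos_of_ne_zero Subgroup.index_ne_zero_of_finite)
      (Subgroup.relIndex_dvd_index_of_normal _ _)).trans (Subgroup.index_antitone (iSup_le ?_))
    rintro ⟨k, hk⟩ _ ⟨c, rfl⟩
    obtain ⟨x, hx, rfl⟩ := exists_of_gseq_ne hk
    obtain ⟨y, h1, h2⟩ := exists_GU_commute hF (jU n F q u) hx c
    exact ⟨y, Subgroup.mem_centralizer_singleton_iff.2 h1.symm, Subtype.ext (Units.ext h2)⟩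
  · ext g
    exact ⟨fun ⟨a, h⟩ => h ▸ Subtype.ext (Units.ext a.1.2), fun h =>
      ⟨⟨⟨g.1, congrArg (·.1.1) h⟩, g.2⟩, Subtype.ext (Units.ext rfl)⟩⟩

open Classical in
theorem card_SU_le_sum (P : (ℕ → F[X]) → Prop) (Q : SU n F q → Prop)
    (h : ∀ u, Q u → P (gseq (med u.1.1))) :
    Nat.card {c : ConjClasses (SU n F q) // ∃ u, ConjClasses.mk u = c ∧ Q u} ≤
      ∑ g ∈ SqP (fun g => dl σq g = g) n with cst n g = (-1) ^ n ∧ P g, du (H12.N1 σq) g := by
  have := Fintype.ofFinite (ConjClasses (SU n F q))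
  rw [Nat.subtype_card _ fun _ => (mem_filter_univ _)]
  refine (card_le_card (t := {g ∈ SqP (fun g => dl σq g = g) n | cst n g = (-1) ^ n ∧ P g}.biUnion
    fun g => {c | ∃ u, ConjClasses.mk u = c ∧ gseq (med u.1.1) = g}) fun c hc => ?_).trans
    (card_biUnion_le.trans (sum_le_sum fun g _ => ?_))
  · obtain ⟨u, rfl, hu⟩ := (mem_filter_univ _).1 hc
    refine mem_biUnion.2 ⟨_, mem_filter.2 ⟨mem_SqP.2 ⟨gseq_mem (by simp), fun k => ?_⟩,
      by simp [cst_gseq], h u hu⟩, (mem_filter_univ _).2 ⟨u, rfl, rfl⟩⟩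
    exact (gseq_dual _ (GL_med_ne_X (jU n F q u).1) k).symm.trans
      (congrArg (gseq · k) (med_dual_GU hF (jU n F q u)))
  · rw [← Nat.subtype_card _ fun _ => (mem_filter_univ _)]
    exact card_fiber_le_SU hF g

include hF in
theorem card_SU_le (hn : 2 ≤ n) : 100 * Nat.card (ConjClasses (SU n F q)) ≤ 826 * q ^ (n - 1) := by
  have := card_SU_le_sum hF (n := n) (fun _ => True) (fun _ => True) fun _ _ => trivial
  rw [Nat.card_congr (Equiv.subtypeUnivEquiv fun c => (ConjClasses.mk_surjective c).imp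
    fun _ h => ⟨h, trivial⟩)] at this
  have h := (sum_du_le (H12.N1 σq).subtype_injective (tw_unitary (H12.frobq_frobq hF)
    (H12.frobq_ne_id hF)) n (c := (-1) ^ n) (by simp)).trans (sum_du_sq_le n)
  rw [H12.card_N1_frobq] at h
  exact su_numerics (H12.two_le_of_card_eq_sq hF) hn (Nat.gcd_dvd_left _ _) (Nat.gcd_dvd_right _ _)
    (card_SqU_le hF) ((Nat.mul_le_mul_left _
      (this.trans (sum_congr (by ext; simp) fun _ _ => rfl).le)).trans h)

theorem exists_SU_charpoly {g : F[X]} (hm : g.Monic) (hd : g.natDegree = n)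
    (h0 : g.coeff 0 = (-1) ^ n) (h : dl σq g = g) :
    ∃ u : SU n F q, IsSS (med u.1.1) ∧ u.1.1.charpoly = g := by
  obtain ⟨M, h1, rfl⟩ := exists_isSS_prod_eq hm
  have h2 : ∀ x ∈ M, x.f ≠ X := fun x hx e => by
    have := X_dvd_iff.1 ((e ▸ x.f_dvd_poly).trans (Multiset.dvd_prod (Multiset.mem_map_of_mem _ hx)))
    simp [h0] at this
  have h3 : IsSS (M.map (dual (H12.frobq_frobq hF))) := by
    rw [IsSS, Multiset.forall_mem_map_iff]; exact h1
  obtain ⟨u, rfl⟩ := exists_GU_med hF h2 (h3.eq_of_prod_eq h1 (by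
    rw [← h, h3.map_poly, h1.map_poly, map_multiset_prod, Multiset.map_map, Multiset.map_map]
    exact congrArg _ (Multiset.map_congr rfl fun x hx => dual_f _ (h2 x hx))))
    (hd.symm.trans (natDegree_prod_poly M))
  rw [← charpoly_eq_prod_med] at h0 ⊢
  exact ⟨⟨⟨u.1.1, by rw [det_eq_sign_charpoly_coeff, h0, Fintype.card_fin, ← mul_pow]; simp⟩, u.2⟩, h1, rfl⟩

include hF in
theorem le_card_SU (hn : 1 ≤ n) : q ^ (n - 1) ≤ Nat.card (ConjClasses (SU n F q)) := by
  obtain ⟨n, rfl⟩ := Nat.exists_eq_add_of_le' hn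
  rw [Nat.add_sub_cancel, ← card_dl_fix hF n (c := (-1) ^ (n + 1)) (by simp [← mul_pow])]
  choose u _ hu using fun g : {g : F[X] // (g.Monic ∧ g.natDegree = n + 1 ∧
    g.coeff 0 = (-1) ^ (n + 1)) ∧ dl σq g = g} => exists_SU_charpoly hF g.2.1.1 g.2.1.2.1 g.2.1.2.2 g.2.2
  refine Nat.card_le_card_of_injective (fun g => ConjClasses.mk (u g)) fun g g' e => Subtype.ext ?_
  have h : med (u g).1.1 = med (u g').1.1 := gseq_injective ((isConj_GU_iff hF).1
    ((jU _ F q).map_isConj (ConjClasses.mk_eq_mk_iff_isConj.1 e)))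
  rw [← hu g, ← hu g', charpoly_eq_prod_med, charpoly_eq_prod_med, h]

end Cfsg.Agent.H7.KG
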