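import Cfsg.Agent.H12.SBridge

/-!
Landazuri–Seitz bounds, linear algebra part.
-/

set_option autoImplicit false
set_option linter.dupNamespace false

namespace Cfsg.Agent.H7.LS

open Finset Module Cfsg.Agent.H12

section eig
variable {K M : Type*} [Field K] [AddCommGroup M] [Module K M] {I J : Type*}

theorem eq_zero_of_sum (T : I → End K M) {l : J → I → K} (hl : Function.Injective l)
    (s : Finset J) (v : J → M) (hv : ∀ j i, T i (v j) = l j i • v j) (h : ∑ j ∈ s, v j = 0) :
    ∀ j ∈ s, v j = 0 := by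
  classical
  induction hn : #s generalizing s v with
  | zero => intro j hj; rw [card_eq_zero] at hn; simp [hn] at hj
  | succ n ih =>
    intro j hj
    by_cases h1 : ∃ k ∈ s, k ≠ j
    · obtain ⟨k, hk, hkj⟩ := h1
      obtain ⟨i, hi⟩ := Function.ne_iff.1 (hl.ne hkj)
      have h2 : ∑ a ∈ s.erase k, (l a i - l k i) • v a = 0 := by
        rw [sum_erase _ (by simp)]
        simp only [sub_smul, sum_sub_distrib, ← hv _ i]
        rw [← map_sum, ← smul_sum, h]; simp
      have := ih (s.erase k) (fun a => (l a i - l k i) • v a)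
        (fun a b => by rw [map_smul, hv, smul_comm]) h2 (by rw [card_erase_of_mem hk, hn]; rfl) j
        (mem_erase.2 ⟨hkj.symm, hj⟩)
      exact (smul_eq_zero.1 this).resolve_left (sub_ne_zero.2 hi.symm)
    · push Not at h1
      rwa [sum_eq_single_of_mem j hj fun b hb hbj => absurd (h1 b hb) hbj] at h

theorem sum_finrank_le [FiniteDimensional K M] [Fintype J] (T : I → End K M) {l : J → I → K}
    (hl : Function.Injective l) (S : J → Submodule K M)
    (hS : ∀ j, ∀ v ∈ S j, ∀ i, T i v = l j i • v) : ∑ j, finrank K (S j) ≤ finrank K M := by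
  classical
  let f : (Π j, S j) →ₗ[K] M := ∑ j, (S j).subtype ∘ₗ LinearMap.proj j
  have hf : Function.Injective f := by
    rw [injective_iff_map_eq_zero]
    intro v hv
    ext j
    exact eq_zero_of_sum T hl univ (fun j => (v j : M)) (fun j i => hS j _ (v j).2 i)
      (by simpa [f] using hv) j (mem_univ j)
  simpa [finrank_pi_fintype] using LinearMap.finrank_le_finrank_of_injective hf

theorem card_le_finrank [FiniteDimensional K M] [Fintype J] (T : I → End K M) {l : J → I → K}
    (hl : Function.Injective l) (v : J → M) (h0 : ∀ j, v j ≠ 0)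
    (hv : ∀ j i, T i (v j) = l j i • v j) : Fintype.card J ≤ finrank K M := by
  have := sum_finrank_le T hl (fun j => K ∙ v j) fun j w hw i => by
    obtain ⟨c, rfl⟩ := Submodule.mem_span_singleton.1 hw
    rw [map_smul, hv, smul_comm]
  simpa [finrank_span_singleton (h0 _)] using this

end eig

theorem exists_eigen {G M I : Type*} [Group G] [Finite G] [AddCommGroup M] [Module ℂ M]
    [FiniteDimensional ℂ M] (ρ : G →* End ℂ M) (r : I → G) (hr : ∀ i j, Commute (r i) (r j))
    {i₀ : I} (h : ρ (r i₀) ≠ 1) :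
    ∃ (w : M) (β : I → ℂ), w ≠ 0 ∧ (∀ i, ρ (r i) w = β i • w) ∧ β i₀ ≠ 1 := by
  have hss : ∀ g (μ : ℂ), (ρ g).maxGenEigenspace μ = (ρ g).eigenspace μ := fun g μ => by
    refine End.IsFinitelySemisimple.maxGenEigenspace_eq_eigenspace
      (End.IsSemisimple.isFinitelySemisimple ?_) μ
    refine End.isSemisimple_of_squarefree_aeval_eq_zero
      (p := Polynomial.X ^ orderOf g - Polynomial.C 1) ?_ ?_
    · exact (Polynomial.separable_X_pow_sub_C 1 (by exact_mod_cast (orderOf_pos g).ne')
        one_ne_zero).squarefree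
    · rw [map_sub, map_pow, Polynomial.aeval_X, ← map_pow, pow_orderOf_eq_one]; simp
  have htop := End.iSup_iInf_maxGenEigenspace_eq_top_of_iSup_maxGenEigenspace_eq_top_of_commute
    (fun i => ρ (r i)) (fun i j _ => (hr i j).map ρ) fun i => End.iSup_maxGenEigenspace_eq_top _
  by_contra! H
  apply h
  ext w
  have hw : w ∈ ⨆ χ : I → ℂ, ⨅ i, (ρ (r i)).maxGenEigenspace (χ i) := htop ▸ trivial
  refine Submodule.iSup_induction _ (motive := fun w => ρ (r i₀) w = (1 : End ℂ M) w) hw ?_ (by simp)
    (fun x y hx hy => by simp only [map_add, hx, hy])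
  intro χ x hx
  simp only [hss, Submodule.mem_iInf, End.mem_eigenspace_iff] at hx
  by_cases h0 : x = 0
  · simp [h0]
  · rw [hx, H x χ h0 hx]; simp

section chars
variable {F U : Type*} [Field F] [AddCommGroup U] [Module F U] {ψ : AddChar F ℂ}

theorem eq_of_char (hψ : ψ ≠ 1) {a b : F} (h : ∀ t, ψ (t * a) = ψ (t * b)) : a = b :=
  AddChar.to_mulShift_inj_of_isPrimitive (AddChar.IsPrimitive.of_ne_one hψ)
    (by ext t; simpa [mul_comm] using h t)

theorem exists_dual [Finite U] [Finite F] (hψ : ψ ≠ 1) (χ : AddChar U ℂ) :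
    ∃ φ : Dual F U, ∀ u, χ u = ψ (φ u) := by
  classical
  have := Fintype.ofFinite U
  have := Fintype.ofFinite F
  have : Finite (Dual F U) := Module.finite_of_finite F
  let f : Dual F U → AddChar U ℂ := fun φ => ψ.compAddMonoidHom φ.toAddMonoidHom
  have hf : Function.Injective f := fun φ φ' h => by
    ext u
    exact eq_of_char hψ fun t => by simpa [f] using DFunLike.congr_fun h (t • u)
  have hc : Nat.card (AddChar U ℂ) ≤ Nat.card (Dual F U) := by
    rw [Nat.card_eq_fintype_card, AddChar.card_eq, Module.natCard_eq_pow_finrank (K := F),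
      Subspace.dual_finrank_eq, ← Module.natCard_eq_pow_finrank, Nat.card_eq_fintype_card]
  obtain ⟨φ, rfl⟩ := (hf.bijective_of_nat_card_le hc).2 χ
  exact ⟨φ, fun u => rfl⟩

end chars

section count
variable {F U : Type*} [Field F] [AddCommGroup U] [Module F U] {σ : F →+* F}

theorem card_preimage {X : Type*} [AddCommGroup X] [Module F X] [Fintype X] [Fintype F]
    [DecidableEq F] (f : X →ₗ[F] F) (hf : f ≠ 0) (T : Finset F) :
    #{x | f x ∈ T} * Fintype.card F = #T * Fintype.card X := by
  have hs : Function.Surjective f := (LinearMap.range_eq_top).1 (Module.Dual.range_eq_top_of_ne_zero hf)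
  have key : ∀ T : Finset F, #{x | f x ∈ T} = #T * #{x | f x = 0} := fun T => by
    rw [card_eq_sum_card_fiberwise (f := f) (t := T) (fun x hx => by simpa using hx),
      ← smul_eq_mul, ← sum_const]
    refine sum_congr rfl fun t ht => ?_
    rw [← AddMonoidHom.card_fiber_eq_of_mem_range f (hs t) (hs 0)]
    congr 1
    ext x
    simp only [mem_filter, mem_univ, true_and, and_iff_right_iff_imp]
    rintro rfl; exact ht
  have := key univ
  simp only [mem_univ, filter_true, card_univ] at this
  rw [key, this]; ring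

theorem exists_add_notMem [Fintype F] [DecidableEq F] (d : F) :
    ∃ a, d + σ a * a ∉ (univ.erase (0 : F)).image fun t => σ t * t := by
  by_contra! h
  let N := univ.image fun t : F => σ t * t
  have h1 : N.image (d + ·) ⊆ N.erase 0 := by
    intro x hx
    obtain ⟨_, hy, rfl⟩ := mem_image.1 hx
    obtain ⟨a, -, rfl⟩ := mem_image.1 hy
    obtain ⟨t, ht, e⟩ := mem_image.1 (h a)
    rw [← e]
    have := (mem_erase.1 ht).1
    exact mem_erase.2 ⟨mul_ne_zero ((map_ne_zero σ).2 this) this, mem_image_of_mem _ (mem_univ t)⟩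
  have h2 := card_le_card h1
  rw [card_image_of_injective _ (add_right_injective d),
    card_erase_of_mem (mem_image.2 ⟨0, mem_univ _, by simp⟩)] at h2
  have : 0 < #N := card_pos.2 ⟨_, mem_image_of_mem _ (mem_univ 0)⟩
  change #N ≤ #N - 1 at h2
  omega

theorem card_le_N1_mul [Fintype F] [DecidableEq F] :
    Fintype.card F - 1 ≤ Nat.card (N1 σ) * #((univ.erase (0 : F)).image fun t => σ t * t) := by
  rw [← card_univ, ← card_erase_of_mem (mem_univ 0)]
  refine card_le_mul_card_image _ _ fun s hs => ?_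
  obtain ⟨t, ht, rfl⟩ := mem_image.1 hs
  have ht0 := (mem_erase.1 ht).1
  have hσ := (map_ne_zero σ).2 ht0
  rw [← Nat.card_eq_finsetCard]
  refine Nat.card_le_card_of_injective (fun x => ⟨Units.mk0 (x.1 / t)
    (div_ne_zero (mem_erase.1 (mem_filter.1 x.2).1).1 ht0), ?_⟩) fun x y h => ?_
  · rw [mem_N1, Units.val_mk0, map_div₀, div_mul_div_comm, (mem_filter.1 x.2).2]
    exact div_self (mul_ne_zero hσ ht0)
  · simp only [Subtype.mk.injEq, Units.mk0_inj] at h
    exact Subtype.ext ((div_left_inj' ht0).1 h)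

/-- The orbit of a non-zero hermitian form is large. -/
theorem card_orbit [Finite U] [Finite F] (h : U →ₛₗ[σ] U →ₗ[F] F)
    (hs : ∀ x y, h y x = σ (h x y)) {x₀ : U} (hx₀ : h x₀ x₀ ≠ 0) (L : Set (U →ₗ[F] U))
    (hinj : ∀ g ∈ L, Function.Injective g) (hmul : ∀ g ∈ L, ∀ g' ∈ L, g ∘ₗ g' ∈ L)
    (htr : ∀ x y : U, x ≠ 0 → y ≠ 0 → ∃ g ∈ L, g x = y)
    (htv : ∀ (x : U) (θ : Dual F U), θ x = 0 → ∃ g ∈ L, ∀ y, g y = y + θ y • x) :
    Nat.card U - 1 ≤ Nat.card (N1 σ) *
      Nat.card {k : U → U → F // ∃ g ∈ L, k = fun x y => h (g x) (g y)} := by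
  classical
  have := Fintype.ofFinite U
  have := Fintype.ofFinite F
  have : Finite (Dual F U) := Module.finite_of_finite F
  have := Fintype.ofFinite (Dual F U)
  set c := h x₀ x₀ with hc
  set N := (univ.erase (0 : F)).image fun t => σ t * t with hN
  set T := N.image (c * ·) with hT
  have hTc : #T = #N := card_image_of_injective _ (mul_right_injective₀ hx₀)
  set O : Finset (U → U → F) := {k | ∃ g ∈ L, k = fun x y => h (g x) (g y)} with hO
  have hcU : Fintype.card (Dual F U) = Fintype.card U := by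
    rw [← Nat.card_eq_fintype_card, Module.natCard_eq_pow_finrank (K := F),
      Subspace.dual_finrank_eq, ← Module.natCard_eq_pow_finrank, Nat.card_eq_fintype_card]
  have hh : h x₀ ≠ 0 := fun e => hx₀ (by rw [hc, e]; rfl)
  set n := #{x | h x₀ x ∈ ({0} : Finset F)} with hn
  have hn1 : n * Fintype.card F = Fintype.card U := by
    rw [hn, card_preimage (h x₀) hh {0}, card_singleton, one_mul]
  -- upper bound
  have hup0 : n ≤ #{x | h x x ∉ T} := by
    choose a ha using fun w : U => exists_add_notMem (σ := σ) (h w w / c)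
    refine card_le_card_of_injOn (fun w => w + a w • x₀) (fun w hw => ?_) fun w hw w' hw' e => ?_
    · simp only [coe_filter, mem_univ, true_and, Set.mem_ofPred_eq, mem_singleton] at hw ⊢
      intro e
      obtain ⟨s, hs', e⟩ := mem_image.1 e
      apply ha w
      have : h w w / c + σ (a w) * a w = s := by
        simp only [map_add, LinearMap.add_apply, LinearMap.map_smulₛₗ, LinearMap.smul_apply,
          map_smul, smul_eq_mul, hw, hs x₀ w, map_zero, ← hc] at e
        field_simp
        linear_combination -e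
      rwa [this]
    · simp only [coe_filter, mem_univ, true_and, Set.mem_ofPred_eq, mem_singleton] at hw hw'
      have e1 := congrArg (h x₀) e
      simp only [map_add, map_smul, hw, hw', zero_add, smul_eq_mul, ← hc] at e1
      simp only [mul_right_cancel₀ hx₀ e1] at e
      exact add_right_cancel e
  have hup : ∀ k ∈ O, #{x ∈ univ.erase (0 : U) | k x x ∈ T} ≤ Fintype.card U - n := by
    intro k hk
    obtain ⟨g, hg, rfl⟩ := (mem_filter.1 hk).2
    have h1 := card_filter_add_card_filter_not (s := univ) fun x : U => h x x ∈ T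
    have h2 : #{x ∈ univ.erase (0 : U) | h (g x) (g x) ∈ T} ≤ #{x | h x x ∈ T} :=
      card_le_card_of_injOn g (fun x hx => by simp at hx ⊢; exact hx.2) (hinj g hg).injOn
    rw [card_univ] at h1
    exact h2.trans (by omega)
  have hlo : ∀ x ∈ univ.erase (0 : U), #N * n ≤ #{k ∈ O | k x x ∈ T} := by
    intro x hx
    have hx0 := (mem_erase.1 hx).1
    have h1 := card_preimage (Module.Dual.eval F U x) (fun e => hx0 ((Module.eval_apply_eq_zero_iff F x).1 e)) T
    rw [hcU, ← hn1, ← mul_assoc, hTc] at h1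
    rw [← Nat.eq_of_mul_eq_mul_right Fintype.card_pos h1]
    have key : ∀ φ : Dual F U, φ x ∈ T → ∃ k ∈ O, ∀ y, k x y = φ y := by
      intro φ hφ
      obtain ⟨_, hs', e⟩ := mem_image.1 hφ
      obtain ⟨t, ht, rfl⟩ := mem_image.1 hs'
      have ht0 := (mem_erase.1 ht).1
      have hx₀' : x₀ ≠ 0 := fun e => hx₀ (by rw [hc, e]; simp)
      obtain ⟨g, hg, hgx⟩ := htr x (t • x₀) hx0 (smul_ne_zero ht0 hx₀')
      have hd : h (g x) (g x) = φ x := by
        rw [hgx, ← e]; simp [← hc]; ring
      have hφ0 : φ x ≠ 0 := by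
        rw [← e]; exact mul_ne_zero hx₀ (mul_ne_zero ((map_ne_zero σ).2 ht0) ht0)
      obtain ⟨g', hg', H⟩ := htv x ((φ x)⁻¹ • (φ - h (g x) ∘ₗ g)) (by simp [hd])
      refine ⟨_, mem_filter.2 ⟨mem_univ _, _, hmul g hg g' hg', rfl⟩, fun y => ?_⟩
      have hx' : g' x = x := by rw [H]; simp [hd]
      simp only [LinearMap.comp_apply, hx', H y, LinearMap.smul_apply, LinearMap.sub_apply, hd,
        map_add, map_smul, smul_eq_mul]
      field_simp
      ring
    choose! κ hκ1 hκ2 using key
    refine card_le_card_of_injOn κ (fun φ hφ => ?_) fun φ hφ φ' hφ' e => ?_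
    · replace hφ : φ x ∈ T := (mem_filter.1 hφ).2
      exact mem_filter.2 ⟨hκ1 φ hφ, by rwa [hκ2 φ hφ]⟩
    · replace hφ : φ x ∈ T := (mem_filter.1 hφ).2
      replace hφ' : φ' x ∈ T := (mem_filter.1 hφ').2
      ext y
      rw [← hκ2 φ hφ, ← hκ2 φ' hφ', e]
  have hdc := card_mul_le_card_mul (fun x (k : U → U → F) => k x x ∈ T) hlo hup
  rw [card_erase_of_mem (mem_univ _), card_univ] at hdc
  have hcO : Nat.card {k : U → U → F // ∃ g ∈ L, k = fun x y => h (g x) (g y)} = #O := by
    rw [Nat.card_eq_fintype_card, Fintype.card_subtype]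
  rw [hcO]
  have h3 := card_le_N1_mul (σ := σ)
  rw [← hN] at h3
  have hn0 : 0 < n := card_pos.2 ⟨0, by simp⟩
  have hN0 : 0 < #N := card_pos.2 ⟨_, mem_image_of_mem _ (mem_erase.2 ⟨one_ne_zero, mem_univ _⟩)⟩
  have h4 : Fintype.card U - n = n * (Fintype.card F - 1) := by rw [← hn1, Nat.mul_sub_one]
  rw [Nat.card_eq_fintype_card]
  refine Nat.le_of_mul_le_mul_right (hdc.trans ?_) (Nat.mul_pos hN0 hn0)
  rw [h4]
  calc #O * (n * (Fintype.card F - 1)) ≤ #O * (n * (Nat.card (N1 σ) * #N)) := by gcongr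
    _ = _ := by ring

end count

end Cfsg.Agent.H7.LS
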