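import Cfsg.Agent.H7.LS1
import Cfsg.Agent.H12.MaxS

/-!
Landazuri–Seitz bounds for symplectic and unitary groups.
-/

set_option autoImplicit false
set_option linter.dupNamespace false

namespace Cfsg.Agent.H7.LS

open Finset Module Cfsg.Agent.H12

variable {F V : Type*} [Field F] [AddCommGroup V] [Module F V] {σ : F →+* F}
  {B : V →ₛₗ[σ] V →ₗ[F] F}

/-- Eichler elements in the special isometry group. -/
noncomputable def rr (D : SD B) (e u : V) (c : F) : SUG B := ⟨rho B e u c, rho_mem_SUG D e u c⟩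

section
variable (D : SD B) {U : Submodule F V} (hU : ∀ u ∈ U, ∀ v ∈ U, B u v = 0)
include hU

theorem adm_of (u v : U) : Adm B u v 0 := ⟨hU _ u.2 _ u.2, hU _ u.2 _ v.2, by simp [hU _ v.2 _ v.2]⟩

theorem rr_add (u v w : U) : rr D u (v + w : U) 0 = rr D u v 0 * rr D u w 0 := Subtype.ext (by
  change _ = rho B u v 0 * rho B u w 0
  rw [rho_mul D (adm_of hU u v) (adm_of hU u w), hU _ v.2 _ w.2]; simp [rr])

theorem rr_comm (u v : U) : rr D u v 0 = rr D v u 0 := Subtype.ext (UG_ext fun x => by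
  simp only [rr, rho_apply D (adm_of hU u v), rho_apply D (adm_of hU v u), zero_mul, zero_add]
  abel)

theorem rr_smul (a : F) (u v : U) : rr D (a • u : U) v 0 = rr D u (σ a • v : U) 0 :=
  Subtype.ext (by simpa [rr] using rho_smul D (adm_of hU u v) a)

omit hU in
theorem conj_rr (g : SUG B) (e u : V) (c : F) :
    g * rr D e u c * g⁻¹ = rr D (g.1.1 e) (g.1.1 u) c := Subtype.ext (conj_rho D g.1 e u c)

omit hU in
theorem commute_rr {g : SUG B} (hg : ∀ u ∈ U, g.1.1 u = u) (u v : U) : Commute g (rr D u v 0) := by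
  have := conj_rr D g u v 0
  rw [hg _ u.2, hg _ v.2, mul_inv_eq_iff_eq_mul] at this
  exact this

theorem rr_fix (u v : U) : ∀ x ∈ U, (rr D u v 0).1.1 x = x := fun x hx =>
  rho_apply_of_perp D 0 (hU _ u.2 _ hx) (hU _ v.2 _ hx)

omit hU in
theorem rr_self {e : V} (he : B e e = 0) (a : F) : rr D e (a • e) 0 = rr D e 0 (a + σ a) :=
  Subtype.ext (by simpa [rr] using rho_add_smul D (adm_zero he (map_zero σ)) a)

variable [FiniteDimensional F V]

include D in
theorem exists_transvection (x : U) (θ : Dual F U) (h : θ x = 0) :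
    ∃ g : SUG B, ∀ y : U, g.1.1 y = y + θ y • x := by
  obtain ⟨θ', hθ⟩ := θ.exists_extend
  obtain ⟨b, hb⟩ := D.exists_repr θ'
  have e : ∀ y : U, B b y = θ y := fun y => by rw [hb, ← hθ]; rfl
  obtain ⟨c, hc⟩ := exists_adm D (hU _ x.2 _ x.2) (D.comm0 ((e x).trans h))
  exact ⟨rr D x b c, fun y => by simp [rr, rho_apply D hc, hU _ x.2 _ y.2, e]⟩

include D in
theorem exists_map_of_two_le (h2 : 2 ≤ finrank F U) (x y : U) (hx : x ≠ 0) (hy : y ≠ 0) :
    ∃ g : SUG B, (∀ u ∈ U, g.1.1 u ∈ U) ∧ g.1.1 x = y := by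
  have key : ∀ x y : U, x ≠ 0 → y ∉ F ∙ x → ∃ g : SUG B, (∀ u ∈ U, g.1.1 u ∈ U) ∧
      g.1.1 x = y ∧ (∀ u ∈ U, (g⁻¹).1.1 u ∈ U) := fun x y hx hy => by
    obtain ⟨θ, hθ⟩ := ((Basis.span (li_pair_of_notMem hx hy)).constr F fun _ => (1 : F)).exists_extend
    have e : ∀ i, θ (![x, y] i) = 1 := fun i => by
      have := LinearMap.congr_fun hθ (Basis.span (li_pair_of_notMem hx hy) i)
      rwa [Basis.constr_basis, LinearMap.comp_apply, Submodule.subtype_apply, Basis.span_apply] at this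
    have e0 : θ x = 1 := e 0
    have e1 : θ y = 1 := e 1
    have e2 : θ (y - x) = 0 := by rw [map_sub, e0, e1, sub_self]
    obtain ⟨g, hg⟩ := exists_transvection D hU (y - x) θ e2
    refine ⟨g, fun u hu => ?_, by rw [hg, e0]; simp, fun u hu => ?_⟩
    · rw [hg ⟨u, hu⟩]; exact U.add_mem hu (U.smul_mem _ (y - x).2)
    · have : g.1.1 (⟨u, hu⟩ - θ ⟨u, hu⟩ • (y - x) : U) = u := by
        rw [hg, map_sub, map_smul, e2]; simp
      have h3 := UG_inv_apply_eq this
      change (g.1⁻¹).1 u ∈ U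
      rw [h3]; exact Subtype.prop _
  by_cases h : y ∈ F ∙ x
  · obtain ⟨z, hz⟩ : ∃ z : U, z ∉ F ∙ x := by
      by_contra! H
      have : (F ∙ x) = ⊤ := eq_top_iff.2 fun z _ => H z
      have h3 := finrank_span_singleton (K := F) hx
      rw [this, finrank_top] at h3
      omega
    obtain ⟨g, h1, h2, -⟩ := key x z hx hz
    obtain ⟨g', -, h4, h5⟩ := key y z hy fun H => hz ((Submodule.span_singleton_le_iff_mem _ _).2 h H)
    refine ⟨g'⁻¹ * g, fun u hu => h5 _ (h1 u hu), ?_⟩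
    change (g'.1⁻¹).1 (g.1.1 x) = y
    rw [h2]; exact UG_inv_apply_eq h4
  · obtain ⟨g, h1, h2, -⟩ := key x y hx h
    exact ⟨g, h1, h2⟩

variable [Finite F] {M : Type*} [AddCommGroup M] [Module ℂ M] [FiniteDimensional ℂ M]

theorem exists_rr_ne (hσ : σ ≠ RingHom.id F ∨ (2 : F) ≠ 0) (hT : TH B)
    (hV : σ = RingHom.id F ∨ 3 ≤ finrank F V) (hU0 : U ≠ ⊥) {G : Type*} [Monoid G]
    (ρ : SUG B →* G) (hρ : ρ ≠ 1) : ∃ u v : U, ρ (rr D u v 0) ≠ 1 := by
  by_contra! H
  apply hρ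
  obtain ⟨e, he, he0⟩ := (Submodule.ne_bot_iff U).1 hU0
  have hee := hU e he e he
  have h1 : ∀ c, σ c = c → ρ (rr D e 0 c) = 1 := fun c hc => by
    obtain ⟨a, rfl⟩ : ∃ a, a + σ a = c := by
      by_cases h : σ = RingHom.id F
      · have := hσ.resolve_left (not_not.2 h)
        exact ⟨c / 2, by rw [h, RingHom.id_apply]; field_simp; ring⟩
      · exact H13.exists_add_conj_eq h D.invol hc
    rw [← rr_self D hee]
    exact H ⟨e, he⟩ ⟨a • e, U.smul_mem a he⟩
  have h2 : ∀ v c, ρ (rr D v 0 c) = 1 := fun v c => by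
    by_cases h : B v v = 0 ∧ σ c = c
    · by_cases h0 : v = 0
      · rw [h0, show rr D 0 0 c = 1 from Subtype.ext (tv_zero_left D c), map_one]
      · obtain ⟨g, hg, rfl⟩ := D.erel D.ns hV hee he0 h.1 h0
        have := conj_rr D ⟨g, D.EG_le_SUG hg⟩ e 0 c
        simp only [map_zero] at this
        rw [← this, map_mul, map_mul, h1 c h.2, mul_one, ← map_mul, mul_inv_cancel, map_one]
    · rw [show rr D v 0 c = 1 from Subtype.ext (tv_of_not h), map_one]
  ext ⟨g, hg⟩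
  have hg' := hg
  rw [← D.TG_eq_SUG D.ns hT] at hg'
  induction hg' using Subgroup.closure_induction with
  | mem x hx => obtain ⟨v, c, rfl⟩ := hx; exact h2 v c
  | one => exact map_one ρ
  | mul x y hx hy h1 h2 =>
    have := map_mul ρ ⟨x, D.TG_le_SUG hx⟩ ⟨y, D.TG_le_SUG hy⟩
    rw [h1, h2] at this
    simpa using this
  | inv x hx h1 =>
    have := map_mul ρ ⟨x, D.TG_le_SUG hx⟩ ⟨x⁻¹, hg⟩
    rw [h1, show (⟨x, D.TG_le_SUG hx⟩ * ⟨x⁻¹, hg⟩ : SUG B) = 1 from Subtype.ext (by simp),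
      map_one] at this
    simpa using this.symm

omit hU [FiniteDimensional F V] in
theorem exists_char : ∃ ψ : AddChar F ℂ, ψ ≠ 1 ∧ ∀ x, ψ (σ x) = ψ x := by
  let f : F →+ F := σ.toAddMonoidHom - AddMonoidHom.id F
  obtain ⟨a, ha⟩ : ∃ a, a ∉ f.range := by
    by_contra! h
    exact one_ne_zero (Finite.injective_iff_surjective.2 h (show f 1 = f 0 by simp [f]))
  obtain ⟨ψ, hψ⟩ := AddChar.exists_apply_ne_zero.2 ((QuotientAddGroup.eq_zero_iff a).not.2 ha)
  refine ⟨ψ.compAddMonoidHom (QuotientAddGroup.mk' _), AddChar.ne_one_iff.2 ⟨a, hψ⟩,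
    fun x => congrArg ψ ?_⟩
  exact QuotientAddGroup.eq.2 ⟨-x, by simp [f]⟩

theorem main (hσ : σ ≠ RingHom.id F ∨ (2 : F) ≠ 0) (hT : TH B)
    (hV : σ = RingHom.id F ∨ 3 ≤ finrank F V) (hU0 : U ≠ ⊥)
    (htr : ∀ x y : U, x ≠ 0 → y ≠ 0 → ∃ g : SUG B, (∀ u ∈ U, g.1.1 u ∈ U) ∧ g.1.1 x = y)
    (ρ : SUG B →* End ℂ M) (hρ : ρ ≠ 1) {ψ : AddChar F ℂ} (hψ : ψ ≠ 1)
    (hψσ : ∀ x, ψ (σ x) = ψ x) :
    ∃ (S : Submodule ℂ M) (x₀ : U) (c : F), c ≠ 0 ∧ S ≠ ⊥ ∧
      (Nat.card U - 1) * finrank ℂ S ≤ Nat.card (N1 σ) * finrank ℂ M ∧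
      (∀ g : SUG B, (∀ u ∈ U, g.1.1 u = u) → ∀ w ∈ S, ρ g w ∈ S) ∧
      ∀ a : F, ∀ w ∈ S, ρ (rr D x₀ (a • x₀ : U) 0) w = ψ (a * c) • w := by
  classical
  have : Finite V := Module.finite_of_finite F
  have : Finite (V ≃ₗ[F] V) := DFunLike.finite _
  obtain ⟨u₀, v₀, h0⟩ := exists_rr_ne D hU hσ hT hV hU0 ρ hρ
  obtain ⟨w, β, hw, hβ, hβ0⟩ := exists_eigen ρ (fun p : U × U => rr D p.1 p.2 0)
    (fun p q => commute_rr D (rr_fix D hU p.1 p.2) q.1 q.2) (i₀ := (u₀, v₀)) h0
  have hinj : ∀ {a b : ℂ}, a • w = b • w → a = b := fun h => smul_left_injective ℂ hw h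
  have hadd : ∀ u v v', β (u, v + v') = β (u, v) * β (u, v') := fun u v v' => hinj (by
    rw [← hβ, rr_add D hU, map_mul, End.mul_apply, hβ (u, v'), map_smul, hβ (u, v), smul_smul,
      mul_comm])
  have hz : ∀ u, β (u, 0) = 1 := fun u => hinj (by
    rw [← hβ, show rr D (u : V) (0 : U) 0 = 1 from Subtype.ext (rho_zero D _), map_one]; simp)
  have hsym : ∀ u v, β (u, v) = β (v, u) := fun u v => hinj (by rw [← hβ, ← hβ, rr_comm D hU])
  have hsm : ∀ a u v, β (a • u, v) = β (u, σ a • v) := fun a u v => hinj (by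
    rw [← hβ, ← hβ, rr_smul D hU])
  choose φ hφ using fun u : U => exists_dual hψ
    ({ toFun v := β (u, v), map_zero_eq_one' := hz u, map_add_eq_mul' := hadd u } : AddChar U ℂ)
  replace hφ : ∀ u v, β (u, v) = ψ (φ u v) := hφ
  have hφ' : ∀ t u v, ψ (t * φ u v) = β (u, t • v) := fun t u v => by rw [hφ, map_smul, smul_eq_mul]
  let h : U →ₛₗ[σ] U →ₗ[F] F :=
    { toFun := φ
      map_add' := fun u u' => LinearMap.ext fun v => eq_of_char hψ fun t => by
        rw [hφ', hsym, hadd, hsym, hsym _ u', LinearMap.add_apply, mul_add, AddChar.map_add_eq_mul,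
          hφ', hφ']
      map_smul' := fun a u => LinearMap.ext fun v => eq_of_char hψ fun t => by
        rw [hφ', hsm, LinearMap.smul_apply, smul_eq_mul, ← mul_assoc, hφ', smul_smul, mul_comm] }
  have hh : ∀ u v, β (u, v) = ψ (h u v) := hφ
  have hs : ∀ x y, h y x = σ (h x y) := fun x y => eq_of_char hψ fun t => by
    rw [← hψσ (t * σ _), map_mul σ, D.invol]
    exact (hφ' t y x).trans ((hsym _ _).trans ((hsm _ _ _).trans (hφ' _ _ _).symm))
  obtain ⟨x₀, hx₀⟩ : ∃ x₀, h x₀ x₀ ≠ 0 := by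
    by_contra! H
    apply hβ0
    have h1 : ∀ a, a * h u₀ v₀ + σ a * σ (h u₀ v₀) = 0 := fun a => by
      have := H (u₀ + a • v₀)
      simp only [map_add, LinearMap.add_apply, LinearMap.map_smulₛₗ, LinearMap.smul_apply,
        smul_eq_mul, H, hs u₀ v₀, RingHom.id_apply] at this
      linear_combination this
    have h2 : h u₀ v₀ = 0 := by
      by_cases e : σ = RingHom.id F
      · have := h1 1
        rw [RingHom.congr_fun e (h u₀ v₀), map_one, RingHom.id_apply] at this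
        exact (mul_eq_zero.1 (show 2 * h u₀ v₀ = 0 by linear_combination this)).resolve_left
          (hσ.resolve_left (not_not.2 e))
      · obtain ⟨a, ha⟩ : ∃ a, σ a ≠ a := by
          by_contra! h
          exact e (RingHom.ext h)
        have h3 := h1 1
        rw [map_one] at h3
        exact (mul_eq_zero.1 (show (σ a - a) * h u₀ v₀ = 0 by
          linear_combination σ a * h3 - h1 a)).resolve_left (sub_ne_zero.2 ha)
    rw [hh, h2, AddChar.map_zero_eq_one]
  let S : (U → U → F) → Submodule ℂ M := fun k =>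
    ⨅ p : U × U, (ρ (rr D p.1 p.2 0)).eigenspace (ψ (k p.1 p.2))
  have hS : ∀ k w, w ∈ S k ↔ ∀ u v : U, ρ (rr D u v 0) w = ψ (k u v) • w := fun k w => by
    simp [S, Submodule.mem_iInf, End.mem_eigenspace_iff]
  clear_value S h
  let L : Set (U →ₗ[F] U) := {g | ∃ g' : SUG B, ∀ u : U, (g u : V) = g'.1.1 u}
  have hO := card_orbit h hs hx₀ L
    (by rintro g ⟨g', hg⟩ x y e; exact Subtype.ext (g'.1.1.injective (by rw [← hg, ← hg, e])))
    (by rintro g ⟨a, ha⟩ g' ⟨b, hb⟩; exact ⟨a * b, fun u => by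
      rw [LinearMap.comp_apply, ha, hb]; rfl⟩)
    (fun x y hx hy => by
      obtain ⟨g, h1, h2⟩ := htr x y hx hy
      exact ⟨(g.1.1 : V →ₗ[F] V).restrict h1, ⟨g, fun u => rfl⟩, Subtype.ext h2⟩)
    (fun x θ hθ => by
      obtain ⟨g, hg⟩ := exists_transvection D hU x θ hθ
      exact ⟨LinearMap.id + θ.smulRight x, ⟨g, fun u => by rw [hg]; simp⟩, fun y => by simp⟩)
  set O := {k : U → U → F // ∃ g ∈ L, k = fun x y => h (g x) (g y)}
  have := Fintype.ofFinite O
  have hsum := sum_finrank_le (J := O) (fun p : U × U => ρ (rr D p.1 p.2 0))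
    (l := fun k p => ψ (k.1 p.1 p.2)) (by
      rintro ⟨_, g, hg, rfl⟩ ⟨_, g', hg', rfl⟩ e
      refine Subtype.ext (funext₂ fun x y => eq_of_char hψ fun t => ?_)
      simpa using congrFun e (x, t • y)) (fun k => S k.1) fun k w hw p => (hS _ _).1 hw p.1 p.2
  have hle : ∀ k : O, finrank ℂ (S fun x y => h x y) ≤ finrank ℂ (S k.1) := by
    rintro ⟨_, g, ⟨g', hg⟩, rfl⟩
    have h1 : ∀ w ∈ S (fun x y => h x y), ρ g'⁻¹ w ∈ S (fun x y => h (g x) (g y)) := by
      intro w hw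
      replace hw := (hS _ w).1 hw
      refine (hS _ _).2 fun u v => ?_
      rw [← map_smul, ← hw, hg, hg, ← conj_rr, ← End.mul_apply, ← End.mul_apply, ← map_mul,
        ← map_mul, mul_assoc g', inv_mul_cancel_left]
    refine LinearMap.finrank_le_finrank_of_injective (f := (ρ g'⁻¹).restrict h1) ?_
    · intro x y e
      have e1 := congrArg (fun z => ρ g' z.1) e
      simp only [LinearMap.coe_restrict_apply, ← End.mul_apply, ← map_mul, mul_inv_cancel,
        map_one, End.one_apply] at e1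
      exact Subtype.ext e1
  refine ⟨S fun x y => h x y, x₀, h x₀ x₀, hx₀, (Submodule.ne_bot_iff _).2
    ⟨w, (hS _ _).2 fun u v => by rw [← hh]; exact hβ (u, v), hw⟩, ?_, fun g hg w hw => ?_,
    fun a w hw => by rw [(hS _ _).1 hw]; simp⟩
  · have h3 : Nat.card O * finrank ℂ (S fun x y => h x y) ≤ finrank ℂ M := by
      refine le_trans ?_ hsum
      rw [Nat.card_eq_fintype_card, ← card_univ, ← smul_eq_mul, ← sum_const]
      exact sum_le_sum fun k _ => hle k
    calc _ ≤ Nat.card (N1 σ) * Nat.card O * finrank ℂ (S fun x y => h x y) := by gcongr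
      _ ≤ _ := by rw [mul_assoc]; gcongr
  · replace hw := (hS _ w).1 hw
    refine (hS _ _).2 fun u v => ?_
    rw [← End.mul_apply, ← map_mul, ← (commute_rr D hg u v).eq, map_mul, End.mul_apply, hw,
      map_smul]

end

/-- The bound for symplectic groups and even-dimensional unitary groups. -/
theorem bound_even [FiniteDimensional F V] [Finite F] {M : Type*} [AddCommGroup M] [Module ℂ M]
    [FiniteDimensional ℂ M] (D : SD B) (hσ : σ ≠ RingHom.id F ∨ (2 : F) ≠ 0) {m : ℕ} (hm : 2 ≤ m)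
    (hn : finrank F V = 2 * m) (ρ : SUG B →* End ℂ M) (hρ : ρ ≠ 1) :
    Nat.card F ^ m - 1 ≤ Nat.card (N1 σ) * finrank ℂ M := by
  obtain ⟨U, h1, hU⟩ := D.exists_ti D.ns hn.ge
  obtain ⟨ψ, hψ, hψσ⟩ := exists_char (σ := σ)
  obtain ⟨S, -, -, -, h2, h3, -⟩ := main D hU hσ (Or.inr (Or.inr (by omega))) (Or.inr (by omega))
    (by rintro rfl; rw [finrank_bot] at h1; omega) (exists_map_of_two_le D hU (by omega)) ρ hρ hψ hψσ
  rw [Module.natCard_eq_pow_finrank (K := F), h1] at h3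
  refine le_trans (Nat.le_mul_of_pos_right _ ?_) h3
  exact Nat.pos_of_ne_zero fun e => h2 (Submodule.finrank_eq_zero.1 e)

/-- The bound for odd-dimensional unitary groups. -/
theorem bound_odd [FiniteDimensional F V] [Finite F] {M : Type*} [AddCommGroup M] [Module ℂ M]
    [FiniteDimensional ℂ M] (D : SD B) (hσ : σ ≠ RingHom.id F) (hT : TH B) {m : ℕ} (hm : 1 ≤ m)
    (hn : finrank F V = 2 * m + 1) (ρ : SUG B →* End ℂ M) (hρ : ρ ≠ 1) :
    (Nat.card F ^ m - 1) * q0 σ ≤ Nat.card (N1 σ) * finrank ℂ M := by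
  classical
  have := Fintype.ofFinite F
  obtain ⟨U, h1, hU⟩ := D.exists_ti D.ns (k := m) (by omega)
  obtain ⟨ψ, hψ, hψσ⟩ := exists_char (σ := σ)
  obtain ⟨S, x₀, c, hc, h2, h3, h4, h5⟩ := main D hU (Or.inl hσ) hT (Or.inr (by omega))
    (by rintro rfl; rw [finrank_bot] at h1; omega) (fun x y hx hy => by
      rcases hm.eq_or_lt with rfl | hm
      · obtain ⟨g, hg, e⟩ := D.erel D.ns (Or.inr (by omega)) (hU _ x.2 _ x.2)
          (fun e => hx (Subtype.ext e)) (hU _ y.2 _ y.2) (fun e => hy (Subtype.ext e))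
        refine ⟨⟨g, D.EG_le_SUG hg⟩, fun u hu => ?_, e⟩
        obtain ⟨a, ha⟩ := (finrank_eq_one_iff_of_nonzero' x hx).1 h1 ⟨u, hu⟩
        have : u = a • (x : V) := (congrArg Subtype.val ha).symm
        change g.1 u ∈ U
        rw [this, map_smul, e]
        exact U.smul_mem a y.2
      · exact exists_map_of_two_le D hU (by omega) x y hx hy) ρ hρ hψ hψσ
  rw [Module.natCard_eq_pow_finrank (K := F), h1] at h3
  refine le_trans (Nat.mul_le_mul_left _ ?_) h3
  obtain ⟨w, hw, hw'⟩ := D.exists_aniso_perp hσ U (by omega)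
  have hx := hU _ x₀.2 _ x₀.2
  choose d hd using fun a : F => exists_adm D (e := x₀) (u := a • w) hx
    (by rw [map_smul, D.comm0 (hw' _ x₀.2), smul_zero])
  have hfix : ∀ a, ∀ u ∈ U, (rr D x₀ (a • w) (d a)).1.1 u = u := fun a u hu =>
    rho_apply_of_perp D _ (hU _ x₀.2 _ hu) (by simp [hw' u hu])
  let E : F → End ℂ S := fun a => (ρ (rr D x₀ (a • w) (d a))).restrict (h4 _ (hfix a))
  let E' : F → End ℂ S := fun a => (ρ (rr D x₀ (a • w) (d a))⁻¹).restrict
    (h4 _ fun u hu => UG_inv_apply_eq (hfix a u hu))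
  have hE : ∀ a, E a * E' a = 1 := fun a => LinearMap.ext fun v => Subtype.ext (by
    simp only [E, E', End.mul_apply, LinearMap.coe_restrict_apply]
    rw [← End.mul_apply, ← map_mul, mul_inv_cancel, map_one]; rfl)
  have : Nontrivial S := Submodule.nontrivial_iff_ne_bot.2 h2
  have h6 := card_le_finrank (fun b => LinearMap.mulLeftRight ℂ (E b, E' b))
    (l := fun a b => ψ (σ b * (a * (B w w * c)))) (fun a a' e => by
      refine mul_right_cancel₀ (mul_ne_zero hw hc) (eq_of_char hψ fun t => ?_)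
      simpa [D.invol] using congrFun e (σ t)) E
    (fun a e => one_ne_zero (by rw [← hE a, e, zero_mul])) fun a b => LinearMap.ext fun v =>
      Subtype.ext (by
        have h7 : rr D x₀ (b • w) (d b) * rr D x₀ (a • w) (d a) * (rr D x₀ (b • w) (d b))⁻¹ =
            rr D x₀ ((σ b * (a * B w w)) • x₀ : U) 0 * rr D x₀ (a • w) (d a) := by
          rw [← mul_inv_eq_iff_eq_mul, Submodule.coe_smul, rr_self D hx]
          refine Subtype.ext ((commutator_rho D (hd b) (hd a)).trans ?_)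
          simp [rr, tv, mul_left_comm]
        simp only [E, E', LinearMap.mulLeftRight_apply, End.mul_apply, LinearMap.smul_apply,
          LinearMap.coe_restrict_apply, Submodule.coe_smul]
        rw [← End.mul_apply, ← End.mul_apply, ← map_mul, ← map_mul, h7, map_mul, End.mul_apply,
          h5 _ _ (h4 _ (hfix a) _ v.2), mul_assoc, mul_assoc])
  rw [← Nat.card_eq_fintype_card, card_eq_q0_sq hσ D.invol, finrank_linearMap, ← sq] at h6
  exact (Nat.pow_le_pow_iff_left two_ne_zero).1 h6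

theorem ne_one_of_irr {G : Type*} [Group G] {k : ℕ} {ρ : Representation ℂ G (Fin k → ℂ)}
    (hρ : ρ.IsIrreducible) (hk : 2 ≤ k) : (ρ : G →* End ℂ (Fin k → ℂ)) ≠ 1 := fun h => by
  have h0 : (Pi.single (⟨0, by omega⟩ : Fin k) 1 : Fin k → ℂ) ≠ 0 := by simp
  let W : Subrepresentation ρ := ⟨ℂ ∙ Pi.single (⟨0, by omega⟩ : Fin k) 1, fun g v hv => by
    rw [h]; exact hv⟩
  have h1 := finrank_span_singleton (K := ℂ) h0
  rcases eq_bot_or_eq_top W with e | e
  · have : (ℂ ∙ (Pi.single (⟨0, by omega⟩ : Fin k) 1 : Fin k → ℂ)) = ⊥ :=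
      congrArg Subrepresentation.toSubmodule e
    rw [this, finrank_bot] at h1; omega
  · have : (ℂ ∙ (Pi.single (⟨0, by omega⟩ : Fin k) 1 : Fin k → ℂ)) = ⊤ :=
      congrArg Subrepresentation.toSubmodule e
    rw [this, finrank_top, finrank_fin_fun] at h1; omega

theorem comp_ne_one {G H N : Type*} [Group G] [Group H] [Monoid N] (e : G ≃* H) {ρ : G →* N}
    (h : ρ ≠ 1) : ρ.comp e.symm.toMonoidHom ≠ 1 := fun h' => h (by
  ext g
  simpa using DFunLike.congr_fun h' (e g))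

end Cfsg.Agent.H7.LS
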