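import Cfsg.Agent.H7.LS2
import Cfsg.Agent.H12.SCount

/-!
Landazuri–Seitz bounds over arbitrary algebraically closed fields of cross characteristic.
-/

set_option autoImplicit false
set_option linter.dupNamespace false

namespace Cfsg.Agent.H7.LS

open Finset Module Cfsg.Agent.H12

variable {K M : Type*} [Field K] [AddCommGroup M] [Module K M]

theorem exists_eigen' {G I : Type*} [IsAlgClosed K] [Group G]
    [FiniteDimensional K M] (ρ : G →* End K M) (r : I → G) (hr : ∀ i j, Commute (r i) (r j))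
    {p : ℕ} (hp : (p : K) ≠ 0) (hrp : ∀ i, r i ^ p = 1) {i₀ : I} (h : ρ (r i₀) ≠ 1) :
    ∃ (w : M) (β : I → K), w ≠ 0 ∧ (∀ i, ρ (r i) w = β i • w) ∧ β i₀ ≠ 1 := by
  have hss : ∀ i (μ : K), (ρ (r i)).maxGenEigenspace μ = (ρ (r i)).eigenspace μ := fun i μ => by
    refine End.IsFinitelySemisimple.maxGenEigenspace_eq_eigenspace
      (End.IsSemisimple.isFinitelySemisimple ?_) μ
    refine End.isSemisimple_of_squarefree_aeval_eq_zero
      (p := Polynomial.X ^ p - Polynomial.C 1) ?_ ?_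
    · exact (Polynomial.separable_X_pow_sub_C 1 hp one_ne_zero).squarefree
    · rw [map_sub, map_pow, Polynomial.aeval_X, ← map_pow, hrp]; simp
  have htop := End.iSup_iInf_maxGenEigenspace_eq_top_of_iSup_maxGenEigenspace_eq_top_of_commute
    (fun i => ρ (r i)) (fun i j _ => (hr i j).map ρ) fun i => End.iSup_maxGenEigenspace_eq_top _
  by_contra! H
  apply h
  ext w
  have hw : w ∈ ⨆ χ : I → K, ⨅ i, (ρ (r i)).maxGenEigenspace (χ i) := htop ▸ trivial
  refine Submodule.iSup_induction _ (motive := fun w => ρ (r i₀) w = (1 : End K M) w) hw ?_ (by simp)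
    (fun x y hx hy => by simp only [map_add, hx, hy])
  intro χ x hx
  simp only [hss, Submodule.mem_iInf, End.mem_eigenspace_iff] at hx
  by_cases h0 : x = 0
  · simp [h0]
  · rw [hx, H x χ h0 hx]; simp

variable {F U : Type*} [Field F] [AddCommGroup U] [Module F U] {ψ : AddChar F K}

theorem eq_of_char' (hψ : ψ ≠ 1) {a b : F} (h : ∀ t, ψ (t * a) = ψ (t * b)) : a = b :=
  AddChar.to_mulShift_inj_of_isPrimitive (AddChar.IsPrimitive.of_ne_one hψ)
    (by ext t; simpa [mul_comm] using h t)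

theorem card_dual [Finite U] [Finite F] : Nat.card (Dual F U) = Nat.card U := by
  rw [Module.natCard_eq_pow_finrank (K := F), Subspace.dual_finrank_eq,
    ← Module.natCard_eq_pow_finrank]

theorem exists_dual' [Finite U] [Finite F] (hψ : ψ ≠ 1) (χ : AddChar U K) :
    ∃ φ : Dual F U, ∀ u, χ u = ψ (φ u) := by
  classical
  have := Fintype.ofFinite U
  have : Finite (Dual F U) := Module.finite_of_finite F
  let f : Dual F U → (Multiplicative U →* K) := fun φ =>
    (ψ.compAddMonoidHom φ.toAddMonoidHom).toMonoidHom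
  have hf : Function.Injective f := fun φ φ' h => by
    ext u
    exact eq_of_char' hψ fun t => by
      simpa [f] using DFunLike.congr_fun h (Multiplicative.ofAdd (t • u))
  have hli := linearIndependent_monoidHom (Multiplicative U) K
  have := hli.finite
  have := Fintype.ofFinite (Multiplicative U →* K)
  have hc : Nat.card (Multiplicative U →* K) ≤ Nat.card (Dual F U) := by
    rw [card_dual, Nat.card_eq_fintype_card, Nat.card_eq_fintype_card]
    simpa using hli.fintype_card_le_finrank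
  obtain ⟨φ, hφ⟩ := (hf.bijective_of_nat_card_le hc).2 χ.toMonoidHom
  exact ⟨φ, fun u => (DFunLike.congr_fun hφ (Multiplicative.ofAdd u)).symm⟩

theorem pow_ringChar_of_add {G : Type*} [Group G] (t : U → G) (ht : ∀ u v, t (u + v) = t u * t v)
    (u : U) : t u ^ ringChar F = 1 := by
  have h0 : t 0 = 1 := by simpa using ht 0 0
  have : ∀ n : ℕ, t u ^ n = t (n • u) := fun n => by
    induction n with
    | zero => simp [h0]
    | succ n ih => rw [pow_succ, ih, succ_nsmul, ht]
  rw [this, ← Nat.cast_smul_eq_nsmul F, ringChar.Nat.cast_ringChar, zero_smul, h0]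

theorem cast_ringChar_ne {K F : Type*} [Field K] [Field F] [Finite F]
    (h : ringChar K ≠ ringChar F) : (ringChar F : AlgebraicClosure K) ≠ 0 := fun e => by
  have hp : (ringChar F).Prime := CharP.char_is_prime F _
  rw [← map_natCast (algebraMap K (AlgebraicClosure K)), map_eq_zero] at e
  exact h (CharP.ringChar_of_prime_eq_zero hp e)

/-- The bound coming from an abelian subgroup normalised by all transvections. -/
theorem bound_tv {G : Type*} [Group G] [IsAlgClosed K] [FiniteDimensional K M] [Finite F] [Finite U]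
    (hp : (ringChar F : K) ≠ 0) (h2 : 2 ≤ finrank F U) (t : U → G)
    (ht : ∀ u v, t (u + v) = t u * t v)
    (htv : ∀ (x : U) (η : Dual F U), η x = 0 → ∃ g, ∀ u, t u * g = g * t (u + η u • x))
    (ρ : G →* End K M) {u₀ : U} (h0 : ρ (t u₀) ≠ 1) : Nat.card U - 1 ≤ finrank K M := by
  classical
  obtain ⟨w, β, hw, hβ, hβ0⟩ := exists_eigen' ρ t
    (fun u v => by rw [Commute, SemiconjBy, ← ht, ← ht, add_comm]) hp (pow_ringChar_of_add t ht) h0
  have hinj : ∀ {a b : K}, a • w = b • w → a = b := fun h => smul_left_injective K hw h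
  have hadd : ∀ u v, β (u + v) = β u * β v := fun u v => hinj (by
    rw [← hβ, ht, map_mul, End.mul_apply, hβ v, map_smul, hβ u, smul_smul, mul_comm])
  have hz : β 0 = 1 := hinj (by rw [← hβ, show t 0 = 1 by simpa using ht 0 0]; simp)
  let ψ : AddChar F K := ⟨fun a => β (a • u₀), by simp [hz], fun a b => by rw [add_smul, hadd]⟩
  have hψ : ψ ≠ 1 := AddChar.ne_one_iff.2 ⟨1, by simpa [ψ] using hβ0⟩
  obtain ⟨φ, hφ⟩ := exists_dual' hψ (⟨β, hz, hadd⟩ : AddChar U K)
  replace hφ : ∀ u, β u = ψ (φ u) := hφ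
  clear_value ψ
  let P : Dual F U → Prop := fun φ => ∃ w : M, w ≠ 0 ∧ ∀ u, ρ (t u) w = ψ (φ u) • w
  have h3 : ∀ φ₁ φ₂ x, P φ₁ → φ₁ x = 1 → φ₂ x = 1 → P φ₂ := by
    rintro φ₁ φ₂ x ⟨w, h4, h5⟩ h6 h7
    obtain ⟨g, hg⟩ := htv x (φ₂ - φ₁) (by simp [h6, h7])
    refine ⟨ρ g w, fun e => h4 ?_, fun u => ?_⟩
    · simpa [← End.mul_apply, ← map_mul] using congrArg (ρ g⁻¹) e
    · rw [← End.mul_apply, ← map_mul, hg, map_mul, End.mul_apply, h5, map_smul]
      simp [h6]
  have hx : ∀ φ : Dual F U, φ ≠ 0 → ∃ x, φ x = 1 := fun φ h =>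
    LinearMap.range_eq_top.1 (Module.Dual.range_eq_top_of_ne_zero h) 1
  have h4 : ∀ φ' : {φ : Dual F U // φ ≠ 0}, P φ'.1 := fun ⟨φ', hφ'⟩ => by
    obtain ⟨x, hx1⟩ := hx φ (by rintro rfl; exact hβ0 (by simp [hφ]))
    obtain ⟨y, hy, hy1⟩ : ∃ y, y ∉ F ∙ x ∧ φ' y = 1 := by
      by_contra! H
      obtain ⟨y, hy⟩ := hx φ' hφ'
      have h5 : ∀ y, φ' y = 1 → y ∈ F ∙ x := fun y h => not_not.1 fun e => H y e h
      have : (F ∙ x) = ⊤ := eq_top_iff.2 fun z _ => by
        have := Submodule.sub_mem _ (h5 (z + (1 - φ' z) • y) (by simp [hy]))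
          (Submodule.smul_mem _ (1 - φ' z) (h5 y hy))
        rwa [add_sub_cancel_right] at this
      have h3 := finrank_span_le_card (R := F) ({x} : Set U)
      rw [this, finrank_top] at h3
      simp at h3
      omega
    have hx0 : x ≠ 0 := by rintro rfl; simp at hx1
    obtain ⟨θ, hθ⟩ := ((Basis.span (li_pair_of_notMem hx0 hy)).constr F fun _ => (1 : F)).exists_extend
    have e : ∀ i, θ (![x, y] i) = 1 := fun i => by
      have := LinearMap.congr_fun hθ (Basis.span (li_pair_of_notMem hx0 hy) i)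
      rwa [Basis.constr_basis, LinearMap.comp_apply, Submodule.subtype_apply, Basis.span_apply] at this
    exact h3 θ φ' y (h3 φ θ x ⟨w, hw, fun u => by rw [hβ, hφ]⟩ hx1 (e 0)) (e 1) hy1
  choose v hv0 hv using h4
  have : Finite (Dual F U) := Module.finite_of_finite F
  have := Fintype.ofFinite (Dual F U)
  have := card_le_finrank (fun u => ρ (t u)) (l := fun (φ : {φ : Dual F U // φ ≠ 0}) u => ψ (φ.1 u))
    (fun φ φ' e => Subtype.ext (LinearMap.ext fun u => eq_of_char' hψ fun a => by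
      simpa using congrFun e (a • u))) v hv0 hv
  rwa [Fintype.card_subtype_compl, Fintype.card_subtype_eq, ← Nat.card_eq_fintype_card,
    card_dual] at this

/-- The bound for symplectic groups in odd characteristic. -/
theorem bound_sp {V : Type*} [AddCommGroup V] [Module F V] [FiniteDimensional F V] [Finite F]
    [IsAlgClosed K] [FiniteDimensional K M] {B : V →ₛₗ[RingHom.id F] V →ₗ[F] F} (D : SD B)
    (hp : (ringChar F : K) ≠ 0) (hσ : (2 : F) ≠ 0) {m : ℕ} (hm : 2 ≤ m) (hn : finrank F V = 2 * m)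
    (ρ : SUG B →* End K M) (hρ : ρ ≠ 1) :
    Nat.card F ^ m - 1 ≤ Nat.card (N1 (RingHom.id F)) * finrank K M := by
  classical
  obtain ⟨U, hU1, hU⟩ := D.exists_ti D.ns hn.ge
  have : Finite V := Module.finite_of_finite F
  obtain ⟨u₀, v₀, h0⟩ := exists_rr_ne D hU (Or.inr hσ) (Or.inr (Or.inr (by omega))) (Or.inl rfl)
    (by rintro rfl; rw [finrank_bot] at hU1; omega) ρ hρ
  obtain ⟨w, β, hw, hβ, hβ0⟩ := exists_eigen' ρ (fun p : U × U => rr D p.1 p.2 0)
    (fun p q => commute_rr D (rr_fix D hU p.1 p.2) q.1 q.2) hp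
    (fun p => pow_ringChar_of_add (fun v : U => rr D p.1 v 0) (rr_add D hU p.1) p.2)
    (i₀ := (u₀, v₀)) h0
  have hinj : ∀ {a b : K}, a • w = b • w → a = b := fun h => smul_left_injective K hw h
  have hadd : ∀ u v v', β (u, v + v') = β (u, v) * β (u, v') := fun u v v' => hinj (by
    rw [← hβ, rr_add D hU, map_mul, End.mul_apply, hβ (u, v'), map_smul, hβ (u, v), smul_smul,
      mul_comm])
  have hz : ∀ u, β (u, 0) = 1 := fun u => hinj (by
    rw [← hβ, show rr D (u : V) (0 : U) 0 = 1 from Subtype.ext (rho_zero D _), map_one]; simp)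
  have hsym : ∀ u v, β (u, v) = β (v, u) := fun u v => hinj (by rw [← hβ, ← hβ, rr_comm D hU])
  have hsm : ∀ (a : F) u v, β (a • u, v) = β (u, a • v) := fun a u v => hinj (by
    rw [← hβ, ← hβ, rr_smul D hU]; rfl)
  let ψ : AddChar F K := ⟨fun a => β (u₀, a • v₀), by simp [hz], fun a b => by rw [add_smul, hadd]⟩
  have hψ : ψ ≠ 1 := AddChar.ne_one_iff.2 ⟨1, by simpa [ψ] using hβ0⟩
  clear_value ψ
  choose φ hφ using fun u : U => exists_dual' hψ
    ({ toFun v := β (u, v), map_zero_eq_one' := hz u, map_add_eq_mul' := hadd u } : AddChar U K)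
  replace hφ : ∀ u v, β (u, v) = ψ (φ u v) := hφ
  have hφ' : ∀ t u v, ψ (t * φ u v) = β (u, t • v) := fun t u v => by rw [hφ, map_smul, smul_eq_mul]
  let h : U →ₛₗ[RingHom.id F] U →ₗ[F] F :=
    { toFun := φ
      map_add' := fun u u' => LinearMap.ext fun v => eq_of_char' hψ fun t => by
        rw [hφ', hsym, hadd, hsym, hsym _ u', LinearMap.add_apply, mul_add, AddChar.map_add_eq_mul,
          hφ', hφ']
      map_smul' := fun a u => LinearMap.ext fun v => eq_of_char' hψ fun t => by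
        rw [hφ', hsm, LinearMap.smul_apply, smul_eq_mul, ← mul_assoc, hφ', smul_smul, mul_comm]
        rfl }
  have hh : ∀ u v, β (u, v) = ψ (h u v) := hφ
  have hs : ∀ x y, h y x = RingHom.id F (h x y) := fun x y => eq_of_char' hψ fun t =>
    (hφ' t y x).trans ((hsym _ _).trans ((hsm _ _ _).trans (hφ' _ _ _).symm))
  obtain ⟨x₀, hx₀⟩ : ∃ x₀, h x₀ x₀ ≠ 0 := by
    by_contra! H
    apply hβ0
    have := H (u₀ + v₀)
    simp only [map_add, LinearMap.add_apply, H, hs u₀ v₀, RingHom.id_apply] at this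
    rw [hh, (mul_eq_zero.1 (show 2 * h u₀ v₀ = 0 by linear_combination this)).resolve_left hσ,
      AddChar.map_zero_eq_one]
  clear_value h
  let L : Set (U →ₗ[F] U) := {g | ∃ g' : SUG B, ∀ u : U, (g u : V) = g'.1.1 u}
  have hO := card_orbit h hs hx₀ L
    (by rintro g ⟨g', hg⟩ x y e; exact Subtype.ext (g'.1.1.injective (by rw [← hg, ← hg, e])))
    (by rintro g ⟨a, ha⟩ g' ⟨b, hb⟩; exact ⟨a * b, fun u => by
      rw [LinearMap.comp_apply, ha, hb]; rfl⟩)
    (fun x y hx hy => by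
      obtain ⟨g, h1, h2⟩ := exists_map_of_two_le D hU (by omega) x y hx hy
      exact ⟨(g.1.1 : V →ₗ[F] V).restrict h1, ⟨g, fun u => rfl⟩, Subtype.ext h2⟩)
    (fun x θ hθ => by
      obtain ⟨g, hg⟩ := exists_transvection D hU x θ hθ
      exact ⟨LinearMap.id + θ.smulRight x, ⟨g, fun u => by rw [hg]; simp⟩, fun y => by simp⟩)
  set O := {k : U → U → F // ∃ g ∈ L, k = fun x y => h (g x) (g y)}
  have := Fintype.ofFinite O
  have h4 : ∀ k : O, ∃ v : M, v ≠ 0 ∧ ∀ p : U × U, ρ (rr D p.1 p.2 0) v = ψ (k.1 p.1 p.2) • v := by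
    rintro ⟨_, g, ⟨g', hg⟩, rfl⟩
    refine ⟨ρ g'⁻¹ w, fun e => hw ?_, fun p => ?_⟩
    · simpa [← End.mul_apply, ← map_mul] using congrArg (ρ g') e
    · rw [← map_smul, ← hh, ← hβ, hg, hg, ← conj_rr, ← End.mul_apply, ← End.mul_apply, ← map_mul,
        ← map_mul, mul_assoc g', inv_mul_cancel_left]
  choose v hv0 hv using h4
  have := card_le_finrank (J := O) (fun p : U × U => ρ (rr D p.1 p.2 0))
    (l := fun k p => ψ (k.1 p.1 p.2)) (by
      rintro ⟨_, g, hg, rfl⟩ ⟨_, g', hg', rfl⟩ e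
      refine Subtype.ext (funext₂ fun x y => eq_of_char' hψ fun t => ?_)
      simpa using congrFun e (x, t • y)) v hv0 hv
  rw [Module.natCard_eq_pow_finrank (K := F), hU1] at hO
  refine hO.trans (Nat.mul_le_mul_left _ ?_)
  rwa [Nat.card_eq_fintype_card]

end Cfsg.Agent.H7.LS
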