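import Cfsg.Agent.FT
import Cfsg.Agent.H1.Hall
import Cfsg.Agent.H1.Coprime
import Cfsg.Agent.H3.Frobenius
import Cfsg.Agent.H6.PPart
import Cfsg.Agent.H9.PSolv
import Cfsg.Agent.H21.Base5
import Mathlib.GroupTheory.FixedPointFree

/-!
Groups of exponent `p` Sylow subgroups in which centralizers of `p`-elements are `p`-nilpotent.
-/

set_option autoImplicit false
set_option linter.style.haveILetI false

open Cfsg Subgroup
open scoped Pointwise

namespace Cfsg.Agent.H7

/-- `p`-elements have order dividing `p` and their centralizers are `p`-nilpotent -/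
structure ExpNil (p : ℕ) (H : Type*) [Group H] : Prop where
  exp : ∀ h : H, (∃ k, h ^ p ^ k = 1) → h ^ p = 1
  nil : ∀ u : H, u ≠ 1 → u ^ p = 1 → ∀ x y, Commute u x → Commute u y → (orderOf x).Coprime p →
    (orderOf y).Coprime p → (orderOf (x * y)).Coprime p

variable {p : ℕ} [hp : Fact p.Prime] {H : Type*} [Group H] [Finite H]

omit hp [Finite H] in
theorem ExpNil.subgroup (h : ExpNil p H) (K : Subgroup H) : ExpNil p K where
  exp x := fun ⟨k, hk⟩ => Subtype.ext (h.exp x ⟨k, congrArg Subtype.val hk⟩)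
  nil u hu hup x y hx hy ox oy := by
    rw [← orderOf_coe] at ox oy ⊢
    exact h.nil u (fun e => hu (Subtype.ext e)) (congrArg Subtype.val hup) x y
      (hx.map K.subtype) (hy.map K.subtype) ox oy

theorem coprime_orderOf_of_mk {N : Subgroup H} [N.Normal] (hN : (Nat.card N).Coprime p) {x : H}
    (hx : (orderOf (x : H ⧸ N)).Coprime p) : (orderOf x).Coprime p := by
  have h1 : x ^ orderOf (x : H ⧸ N) ∈ N := by
    rw [← QuotientGroup.eq_one_iff, QuotientGroup.mk_pow, pow_orderOf_eq_one]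
  have h2 : x ^ (orderOf (x : H ⧸ N) * Nat.card N) = 1 := by
    rw [pow_mul]
    exact congrArg Subtype.val (pow_card_eq_one' (G := N) (x := ⟨_, h1⟩))
  exact (Nat.Coprime.mul_left hx hN).coprime_dvd_left (orderOf_dvd_of_pow_eq_one h2)

theorem ExpNil.quot (h : ExpNil p H) (N : Subgroup H) [N.Normal] (hN : (Nat.card N).Coprime p) :
    ExpNil p (H ⧸ N) where
  exp x := by
    obtain ⟨x, rfl⟩ := QuotientGroup.mk_surjective x
    rintro ⟨k, hk⟩
    have h1 : x ^ p ^ k ∈ N := by rwa [← QuotientGroup.eq_one_iff, QuotientGroup.mk_pow]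
    have h2 : (x ^ Nat.card N) ^ p ^ k = 1 := by
      rw [← pow_mul, mul_comm, pow_mul]
      exact congrArg Subtype.val (pow_card_eq_one' (G := N) (x := ⟨_, h1⟩))
    have h3 : ((x : H ⧸ N) ^ p) ^ Nat.card N = 1 := by
      rw [← pow_mul, mul_comm, pow_mul, ← QuotientGroup.mk_pow, ← QuotientGroup.mk_pow,
        h.exp _ ⟨k, h2⟩, QuotientGroup.mk_one]
    have h4 : ((x : H ⧸ N) ^ p) ^ p ^ k = 1 := by rw [← pow_mul, mul_comm, pow_mul, hk, one_pow]
    exact orderOf_eq_one_iff.1 (Nat.eq_one_of_dvd_coprimes (hN.pow_right k)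
      (orderOf_dvd_of_pow_eq_one h3) (orderOf_dvd_of_pow_eq_one h4))
  nil u hu hup x y hx hy ox oy := by
    obtain ⟨u, rfl⟩ := QuotientGroup.mk_surjective u
    have h1 : u ^ p ∈ N := by rwa [← QuotientGroup.eq_one_iff, QuotientGroup.mk_pow]
    have h2 : (u ^ Nat.card N) ^ p = 1 := by
      rw [← pow_mul, mul_comm, pow_mul]
      exact congrArg Subtype.val (pow_card_eq_one' (G := N) (x := ⟨_, h1⟩))
    have h3 : u ^ Nat.card N ≠ 1 := fun e => hu (by
      have e1 : (u : H ⧸ N) ^ Nat.card N = 1 := by rw [← QuotientGroup.mk_pow, e, QuotientGroup.mk_one]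
      exact orderOf_eq_one_iff.1 (Nat.eq_one_of_dvd_coprimes hN (orderOf_dvd_of_pow_eq_one e1)
        (orderOf_dvd_of_pow_eq_one hup)))
    have hc := H1.centralizer_map_mk'_eq (A := zpowers (u ^ Nat.card N)) (N := N)
      ((hN.symm.coprime_dvd_left (by rw [Nat.card_zpowers]; exact orderOf_dvd_of_pow_eq_one h2)))
      (Or.inl (H1.isSolvable_zpowers _))
    rw [MonoidHom.map_zpowers, H6.centralizer_zpowers, H6.centralizer_zpowers] at hc
    have key : ∀ z : H ⧸ N, Commute (u : H ⧸ N) z → ∃ w : H, Commute (u ^ Nat.card N) w ∧ w = z :=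
      fun z hz => by
        have : z ∈ centralizer ({QuotientGroup.mk' N (u ^ Nat.card N)} : Set (H ⧸ N)) := by
          rw [mem_centralizer_singleton_iff, map_pow]
          exact (hz.pow_left _).symm
        rw [hc] at this
        obtain ⟨w, hw, rfl⟩ := this
        exact ⟨w, (mem_centralizer_singleton_iff.1 hw).symm, rfl⟩
    obtain ⟨x, hx', rfl⟩ := key x hx
    obtain ⟨y, hy', rfl⟩ := key y hy
    exact (h.nil _ h3 h2 x y hx' hy' (coprime_orderOf_of_mk hN ox)
      (coprime_orderOf_of_mk hN oy)).coprime_dvd_left (orderOf_map_dvd (QuotientGroup.mk' N) _)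

theorem coprime_card_of_forall {K : Subgroup H} (h : ∀ x ∈ K, x ^ p = 1 → x = 1) :
    (Nat.card K).Coprime p := by
  refine ((Nat.Prime.coprime_iff_not_dvd hp.out).2 fun hd => ?_).symm
  obtain ⟨x, hx⟩ := exists_prime_orderOf_dvd_card' p hd
  have h1 := h x x.2 (by rw [← hx]; exact congrArg Subtype.val (pow_orderOf_eq_one x))
  rw [show x = 1 from Subtype.ext h1, orderOf_one] at hx
  exact hp.out.one_lt.ne hx

theorem eq_one_of_pow_of_coprime {x : H} (h1 : x ^ p = 1) (h2 : (orderOf x).Coprime p) : x = 1 :=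
  orderOf_eq_one_iff.1 (Nat.eq_one_of_dvd_coprimes h2 dvd_rfl (orderOf_dvd_of_pow_eq_one h1))

theorem ExpNil.pow_of_mem (h : ExpNil p H) {R : Subgroup H} (hR : IsPGroup p R) {x : H}
    (hx : x ∈ R) : x ^ p = 1 :=
  h.exp x ((hR ⟨x, hx⟩).imp fun _ hk => congrArg Subtype.val hk)

/-- `p'`-elements centralizing `O_p` are trivial -/
theorem ExpNil.eq_one_of_centralizer (h : ExpNil p H) (hO : pPrimeCore p H = ⊥)
    (hR : pCore p H ≠ ⊥) {y : H} (hy : y ∈ centralizer (pCore p H : Set H))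
    (oy : (orderOf y).Coprime p) : y = 1 := by
  obtain ⟨⟨z, hz⟩, hz1⟩ := (ne_bot_iff_exists_ne_one).1 hR
  have hz1' : z ≠ 1 := fun e => hz1 (Subtype.ext e)
  let K : Subgroup H :=
    { carrier := {x | x ∈ centralizer (pCore p H : Set H) ∧ (orderOf x).Coprime p}
      one_mem' := ⟨one_mem _, by simp⟩
      mul_mem' := fun {a b} ha hb => ⟨mul_mem ha.1 hb.1, h.nil z hz1'
        (h.pow_of_mem (H1.isPGroup_pCore p H) hz) a b (ha.1 z hz) (hb.1 z hz) ha.2 hb.2⟩
      inv_mem' := fun {a} ha => ⟨inv_mem ha.1, by rw [orderOf_inv]; exact ha.2⟩ }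
  haveI : K.Normal := ⟨fun a ha g => ⟨Normal.conj_mem inferInstance a ha.1 g, by
    rw [H6.orderOf_conj']; exact ha.2⟩⟩
  have : K ≤ pPrimeCore p H := H1.le_pPrimeCore (coprime_card_of_forall fun x hx h1 =>
    eq_one_of_pow_of_coprime h1 hx.2)
  exact mem_bot.1 (hO ▸ this ⟨hy, oy⟩)

theorem ExpNil.eq_one_of_commute (h : ExpNil p H) (hO : pPrimeCore p H = ⊥)
    (hR : pCore p H ≠ ⊥) {u y : H} (hu : u ≠ 1) (hup : u ^ p = 1) (hc : Commute u y)
    (oy : (orderOf y).Coprime p) : y = 1 := by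
  have hB : IsPGroup p (zpowers u) := by
    refine IsPGroup.of_card (n := 1) ?_
    rw [Nat.card_zpowers, pow_one, orderOf_eq_prime hup hu]
  have hP : IsPGroup p (pCore p H ⊔ zpowers u : Subgroup H) :=
    IsPGroup.to_sup_of_normal_left (H1.isPGroup_pCore p H) hB
  refine h.eq_one_of_centralizer hO hR (H21.coprime_axb (A := zpowers y) (B := zpowers u)
    le_normalizer_of_normal le_normalizer_of_normal ?_ hP.isNilpotent ?_ ?_ (mem_zpowers y)) oy
  · rw [zpowers_le, H6.centralizer_zpowers, mem_centralizer_singleton_iff]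
    exact hc.symm
  · obtain ⟨k, hk⟩ := hP.exists_card_eq
    rw [hk, Nat.card_zpowers]
    exact oy.symm.pow_left k
  · intro r hr
    obtain ⟨hr, hru⟩ := mem_inf.1 hr
    rw [H6.centralizer_zpowers, mem_centralizer_singleton_iff] at hru
    rw [H6.centralizer_zpowers, mem_centralizer_singleton_iff]
    have hru' : Commute u r := hru.symm
    have h1 : (orderOf (r * y * r⁻¹ * y⁻¹)).Coprime p :=
      h.nil u hu hup _ _ ((hru'.mul_right hc).mul_right hru'.inv_right) hc.inv_right
        (by rwa [H6.orderOf_conj']) (by rwa [orderOf_inv])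
    have h2 : r * y * r⁻¹ * y⁻¹ ∈ pCore p H := by
      rw [mul_assoc, mul_assoc, ← mul_assoc y]
      exact mul_mem hr (Normal.conj_mem inferInstance _ (inv_mem hr) y)
    have h3 := eq_one_of_pow_of_coprime (h.pow_of_mem (H1.isPGroup_pCore p H) h2) h1
    rwa [mul_inv_eq_one, mul_inv_eq_iff_eq_mul] at h3

omit hp [Finite H] in
open scoped IsMulCommutative in
theorem mul_pow_eq_prod {V : Subgroup H} [V.Normal] [IsMulCommutative V] (v : V) (x : H) (n : ℕ) :
    ((v : H) * x) ^ n = (∏ i ∈ Finset.range n, MulAut.conjNormal (x ^ i) v : V) * x ^ n := by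
  induction n with
  | zero => simp
  | succ n ih =>
    rw [pow_succ, ih, Finset.prod_range_succ, coe_mul, MulAut.conjNormal_apply, pow_succ]
    group

open scoped IsMulCommutative in
theorem ExpNil.not_normalizes (h : ExpNil p H)
    (hC : ∀ u y : H, u ≠ 1 → u ^ p = 1 → Commute u y → (orderOf y).Coprime p → y = 1)
    {V : Subgroup H} [V.Normal] [IsMulCommutative V] (hV : IsPGroup p V) (hV1 : V ≠ ⊥)
    {L : Subgroup H} (hL : (Nat.card L).Coprime p) (hL1 : L ≠ ⊥) {x : H} (hxp : x ^ p = 1)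
    (hxL : x ∈ normalizer (L : Set H)) : x = 1 := by
  classical
  by_contra hx
  haveI := Fintype.ofFinite L
  have ox : orderOf x = p := orderOf_eq_prime hxp hx
  have h1 : ∀ g : H, g ^ p = 1 → ∀ v : V,
      ∏ i ∈ Finset.range p, MulAut.conjNormal (g ^ i) v = 1 := fun g hg v => by
    have hB : IsPGroup p (zpowers g) := IsPGroup.of_card (n := (if g = 1 then 0 else 1)) (by
      rw [Nat.card_zpowers]
      split_ifs with e
      · simp [e]
      · rw [pow_one, orderOf_eq_prime hg e])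
    have := h.pow_of_mem (IsPGroup.to_sup_of_normal_left hV hB)
      (mul_mem_sup v.2 (mem_zpowers g))
    rw [mul_pow_eq_prod, hg, mul_one] at this
    exact Subtype.ext this
  have h2 : ∀ v : V, ∏ l : L, MulAut.conjNormal (l : H) v = 1 := fun v => by
    obtain ⟨l, hl⟩ := (ne_bot_iff_exists_ne_one).1 hL1
    set w := ∏ l : L, MulAut.conjNormal (l : H) v with hw
    have e : MulAut.conjNormal (l : H) w = w := by
      rw [hw, map_prod]
      refine Fintype.prod_equiv (Equiv.mulLeft l) _ _ fun m => ?_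
      rw [Equiv.coe_mulLeft, coe_mul, map_mul, MulAut.mul_apply]
    by_contra hw1
    refine hl (Subtype.ext (hC w l (fun e => hw1 (Subtype.ext e)) (h.pow_of_mem hV w.2) ?_
      (hL.coprime_dvd_left (orderOf_dvd_natCard _ l.2))))
    have := congrArg Subtype.val e
    rw [MulAut.conjNormal_apply, mul_inv_eq_iff_eq_mul] at this
    exact this.symm
  have h3 : ∀ (l : L) (n : ℕ), ((l : H) * x) ^ n * (x ^ n)⁻¹ ∈ L := fun l n => by
    induction n with
    | zero => simp
    | succ n ih =>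
      have e : ((l : H) * x) ^ (n + 1) * (x ^ (n + 1))⁻¹ =
          l * (x * (((l : H) * x) ^ n * (x ^ n)⁻¹) * x⁻¹) := by
        rw [pow_succ', pow_succ']; group
      rw [e]
      exact mul_mem l.2 ((mem_normalizer_iff.1 hxL _).1 ih)
  have h4 : ∀ l : L, ((l : H) * x) ^ p = 1 := fun l => by
    obtain ⟨a, b, hab, hc, ⟨k, hk⟩, hb⟩ := H6.exists_isPPart hp.out ((l : H) * x)
    have hap : a ^ p = 1 := h.exp a ⟨k, by rw [← hk, pow_orderOf_eq_one]⟩
    have hb' := ((Nat.Prime.coprime_iff_not_dvd hp.out).2 hb).symm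
    by_cases ha : a = 1
    · exfalso
      rw [ha, one_mul] at hab
      have e := h3 l (orderOf b)
      rw [← hab, pow_orderOf_eq_one, one_mul, inv_mem_iff] at e
      have e2 := eq_one_of_pow_of_coprime (by rw [← pow_mul, mul_comm, pow_mul, hxp, one_pow])
        (hL.coprime_dvd_left (orderOf_dvd_natCard _ e))
      exact hb (ox ▸ orderOf_dvd_of_pow_eq_one e2)
    · rw [← hab, hC a b ha hap hc hb', mul_one, hap]
  obtain ⟨v, hv⟩ := (ne_bot_iff_exists_ne_one).1 hV1
  have h5 : ∏ l : L, ∏ i ∈ Finset.range p, MulAut.conjNormal (((l : H) * x) ^ i) v = 1 :=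
    Finset.prod_eq_one fun l _ => h1 _ (h4 l) v
  rw [Finset.prod_comm, Finset.prod_eq_single_of_mem 0 (Finset.mem_range.2 hp.out.pos)] at h5
  · simp only [pow_zero, map_one, MulAut.one_apply, Finset.prod_const, Finset.card_univ,
      ← Nat.card_eq_fintype_card] at h5
    refine hv (Subtype.ext (eq_one_of_pow_of_coprime (h.pow_of_mem hV v.2) ?_))
    rw [orderOf_coe]
    exact hL.coprime_dvd_left (orderOf_dvd_of_pow_eq_one h5)
  · intro i hi hi0
    have hcop : i.Coprime p := ((Nat.Prime.coprime_iff_not_dvd hp.out).2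
      (Nat.not_dvd_of_pos_of_lt (Nat.pos_of_ne_zero hi0) (Finset.mem_range.1 hi))).symm
    let f : L → L := fun l => ⟨_, h3 l i⟩
    have hf : Function.Injective f := fun l m e => by
      have e1 : ((l : H) * x) ^ i = ((m : H) * x) ^ i := mul_right_cancel (congrArg Subtype.val e)
      obtain ⟨j, hj⟩ := Nat.exists_mul_mod_eq_one_of_coprime hcop hp.out.one_lt
      have e2 : ∀ g : H, g ^ p = 1 → (g ^ i) ^ j = g := fun g hg => by
        rw [← pow_mul, pow_eq_pow_mod _ hg, hj.2, pow_one]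
      have e3 : (l : H) * x = m * x := by rw [← e2 _ (h4 l), e1, e2 _ (h4 m)]
      exact Subtype.ext (mul_right_cancel e3)
    rw [← h2 (MulAut.conjNormal (x ^ i) v)]
    refine Fintype.prod_bijective f (Finite.injective_iff_bijective.1 hf) _ _ fun l => ?_
    rw [← MulAut.mul_apply, ← map_mul]
    simp [f]

theorem ExpNil.not_dvd_index (h : ExpNil p H) (hp2 : p ≠ 2) (hO : pPrimeCore p H = ⊥)
    (hR : pCore p H ≠ ⊥) : ¬ p ∣ (pCore p H).index := by
  classical
  have hC := fun u y hu hup hc oy => h.eq_one_of_commute hO hR (u := u) (y := y) hu hup hc oy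
  have hP := H1.isPGroup_pCore p H
  have key : ∀ M N : Subgroup H, M.Normal → pCore p H ≤ M → ((pCore p H).relIndex M).Coprime p →
      N ⊔ M = ⊤ → (Nat.card N).Coprime p → ¬ p ∣ (pCore p H).index := fun M N _ h1 h2 h3 h4 => by
    rw [← relIndex_mul_index h1, ← relIndex_top_right, ← h3, relIndex_sup_right]
    exact (Nat.Prime.coprime_iff_not_dvd hp.out).1 (Nat.Coprime.mul_left h2
      (h4.coprime_dvd_left (relIndex_dvd_card _ _))).symm
  rcases Nat.even_or_odd (Nat.card H) with he | ho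
  · obtain ⟨t, ht⟩ := exists_prime_orderOf_dvd_card' 2 (even_iff_two_dvd.1 he)
    have hcop : Nat.Coprime 2 p := (Nat.coprime_primes Nat.prime_two hp.out).2 hp2.symm
    have hinv : ∀ s : H, orderOf s = 2 → ∀ r ∈ pCore p H, s * r * s⁻¹ = r⁻¹ := fun s hs r hr => by
      have hfpf : MonoidHom.FixedPointFree (MulAut.conjNormal (H := pCore p H) s) := fun r e => by
        by_contra h1
        have e1 := congrArg Subtype.val e
        rw [MulAut.conjNormal_apply, mul_inv_eq_iff_eq_mul] at e1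
        have := hC r s (fun e => h1 (Subtype.ext e)) (h.pow_of_mem hP r.2) e1.symm (hs ▸ hcop)
        rw [this, orderOf_one] at hs
        exact absurd hs (by decide)
      have := hfpf.coe_eq_inv_of_involutive fun r => by
        rw [← MulAut.mul_apply, ← map_mul, ← pow_two, ← hs, pow_orderOf_eq_one, map_one,
          MulAut.one_apply]
      exact congrArg Subtype.val (congrFun this ⟨r, hr⟩)
    have hcent : centralizer (pCore p H : Set H) ≤ pCore p H := by
      refine H1.le_pCore fun g => ?_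
      obtain ⟨a, b, hab, hc, ⟨k, hk⟩, hb⟩ := H6.exists_isPPart hp.out (g : H)
      have ha : a ∈ centralizer (pCore p H : Set H) :=
        H6.IsPPart.mem_subgroup hp.out ⟨b, hab, hc, ⟨k, hk⟩, hb⟩ g.2
      have hb1 : b = 1 := h.eq_one_of_centralizer hO hR
        ((Subgroup.mul_mem_cancel_left _ ha).1 (hab ▸ g.2)) ((Nat.Prime.coprime_iff_not_dvd hp.out).2 hb).symm
      refine ⟨k, Subtype.ext ?_⟩
      rw [coe_pow, ← hab, hb1, mul_one, ← hk, pow_orderOf_eq_one, coe_one]
    refine key (pCore p H) (centralizer (zpowers t : Set H)) inferInstance le_rfl (by simp) ?_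
      (coprime_card_of_forall fun x hx h1 => ?_)
    · rw [eq_top_iff]
      intro g _
      obtain ⟨n, hn, c, hc, rfl⟩ := H1.exists_mul_centralizer_of_commutator_le (A := zpowers t)
        (K := ⊤) (N := pCore p H) le_normalizer_of_normal (by
          obtain ⟨k, hk⟩ := hP.exists_card_eq
          rw [hk, Nat.card_zpowers, ht]; exact hcop.pow_right k)
        (Or.inl (H1.isSolvable_zpowers t)) (by
          rw [commutator_le]
          intro g _ a ha
          have ht2 : t * t = 1 := by rw [← pow_two, ← ht, pow_orderOf_eq_one]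
          have ha' : a = 1 ∨ a = t := by
            rw [mem_zpowers_iff_mem_range_orderOf, ht] at ha
            simpa [Finset.range_add_one, eq_comm, or_comm] using ha
          rcases ha' with rfl | rfl
          · simp
          · refine hcent fun r hr => ?_
            have e1 := hinv (g * a * g⁻¹) (by rw [H6.orderOf_conj', ht]) _ (inv_mem hr)
            have e2 := hinv a⁻¹ (by rw [orderOf_inv, ht]) _ hr
            rw [commutatorElement_def]
            calc r * (g * a * g⁻¹ * a⁻¹) = (g * a * g⁻¹ * r⁻¹ * (g * a * g⁻¹)⁻¹) *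
                  (g * a * g⁻¹ * a⁻¹) := by rw [e1, inv_inv]
              _ = g * a * g⁻¹ * (a⁻¹ * r * a⁻¹⁻¹) * a⁻¹ := by rw [e2]; group
              _ = _ := by group) (mem_top g)
      rw [sup_comm]
      exact mul_mem_sup hn hc
    · by_contra hx1
      rw [H6.centralizer_zpowers, mem_centralizer_singleton_iff] at hx
      have := hC x t hx1 h1 hx (ht ▸ hcop)
      rw [this, orderOf_one] at ht
      exact absurd ht (by decide)
  · by_cases htop : pCore p H = ⊤
    · rw [htop, index_top]; exact hp.out.one_lt.ne' ∘ Nat.dvd_one.1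
    obtain ⟨M, hM, h1, -, h2⟩ := H9.exists_step_of_isPSolvable (p := p) (M := ⊤) (N := pCore p H)
      (H9.isPSolvable_top_iff.2 (H9.isPSolvable_of_isSolvable (FT.solvable_of_odd ho)))
      (lt_top_iff_ne_top.2 htop)
    rcases h2 with ⟨m, hm⟩ | h2
    · obtain ⟨k, hk⟩ := hP.exists_card_eq
      refine absurd (H1.le_pCore (IsPGroup.of_card (n := k + m) ?_)) h1.not_ge
      rw [← H1.card_mul_relIndex h1.le, hk, hm, pow_add]
    · have hne : (pCore p H).relIndex M ≠ 1 := fun e => h1.not_ge (relIndex_eq_one.1 e)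
      obtain ⟨q, hq, hqd⟩ := Nat.exists_prime_and_dvd hne
      haveI := Fact.mk hq
      obtain ⟨S⟩ : Nonempty (Sylow q M) := inferInstance
      have hS : (S : Subgroup M).map M.subtype ≠ ⊥ := by
        rw [Ne, map_eq_bot_iff_of_injective _ M.subtype_injective]
        exact S.ne_bot_of_dvd_card (hqd.trans (relIndex_dvd_card _ _))
      have hSc : (Nat.card ((S : Subgroup M).map M.subtype)).Coprime p := by
        obtain ⟨k, hk⟩ := (S.isPGroup'.map M.subtype).exists_card_eq
        rw [hk]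
        exact (h2.coprime_dvd_left hqd).pow_left k
      let V : Subgroup H := (center (pCore p H)).map (pCore p H).subtype
      haveI : V.Normal := ConjAct.normal_of_characteristic_of_normal
      haveI : IsMulCommutative V := map_isMulCommutative _ _
      have hV : V ≠ ⊥ := by
        haveI := (pCore p H).nontrivial_iff_ne_bot.2 hR
        rw [Ne, map_eq_bot_iff_of_injective _ (subtype_injective _), ← Ne, ← nontrivial_iff_ne_bot]
        exact hP.center_nontrivial
      exact key M _ hM h1.le h2 S.normalizer_sup_eq_top (coprime_card_of_forall fun x hx h1 =>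
        h.not_normalizes hC (V := V) (hP.to_le (map_subtype_le _)) hV hSc hS h1 hx)

/-- Sylow subgroups of a `p`-local subgroup are conjugate under `O_{p'}`. -/
theorem ExpNil.exists_conj_sylow (h : ExpNil p H) (hp2 : p ≠ 2) {Q : Subgroup H} [Q.Normal]
    (hQ : IsPGroup p Q) (hQ1 : Q ≠ ⊥) (S T : Sylow p H) :
    ∃ c ∈ centralizer (Q : Set H), c • S = T := by
  set O := pPrimeCore p H with hO
  have hOc : (Nat.card O).Coprime p := H1.coprime_card_pPrimeCore p H
  have hq := h.quot O hOc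
  have hR : pCore p (H ⧸ O) ≠ ⊥ := fun e => hQ1 (by
    haveI := Normal.map (inferInstance : Q.Normal) _ (QuotientGroup.mk'_surjective O)
    have h1 : Q.map (QuotientGroup.mk' O) ≤ pCore p (H ⧸ O) := H1.le_pCore (hQ.map _)
    rw [e, le_bot_iff, Subgroup.map_eq_bot_iff, QuotientGroup.ker_mk'] at h1
    rw [← H1.inf_pPrimeCore_eq_bot hQ, inf_of_le_left h1])
  have hi := hq.not_dvd_index hp2 (H1.pPrimeCore_quotient_pPrimeCore p) hR
  have key : ∀ S : Sylow p H, (S : Subgroup H).map (QuotientGroup.mk' O) = pCore p (H ⧸ O) :=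
    fun S => (((H1.isPGroup_pCore p _).toSylow hi).is_maximal' (S.isPGroup'.map _)
      (H1.pCore_le_sylow (S.mapSurjective (QuotientGroup.mk'_surjective O))))
  have h1 : (T : Subgroup H) ≤ O ⊔ S := by
    rw [← QuotientGroup.ker_mk' O, sup_comm, ← comap_map_eq, key, ← key T]
    exact le_comap_map _ _
  obtain ⟨g, hg, he⟩ := (H3.sylowIn_of_le S (le_sup_right : _ ≤ O ⊔ S)).exists_conj
    (H3.sylowIn_of_le T h1)
  rw [← SetLike.mem_coe, normal_mul] at hg
  obtain ⟨c, hc, s, hs, rfl⟩ := hg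
  refine ⟨c, centralizer_le (H1.le_pCore hQ) (le_centralizer_iff.1
    (H1.pCore_le_centralizer_pPrimeCore p) hc), Sylow.ext ?_⟩
  rw [Sylow.coe_subgroup_smul, ← he, ← H3.conj_smul_conj_smul, H3.conj_smul_eq_of_mem hs]

theorem ExpNil.exists_centralizer_smul_eq (h : ExpNil p H) (hp2 : p ≠ 2) (P Q : Sylow p H)
    (hne : (P : Subgroup H) ⊓ Q ≠ ⊥) :
    ∃ c ∈ centralizer (((P : Subgroup H) ⊓ Q : Subgroup H) : Set H), c • P = Q := by
  generalize hD : (P : Subgroup H) ⊓ Q = D at hne ⊢
  induction D using WellFoundedGT.induction generalizing P Q with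
  | ind D ih =>
  by_cases hPQ : P = Q
  · exact ⟨1, one_mem _, by rw [one_smul, hPQ]⟩
  have hDP : D < P := lt_of_le_of_ne (hD ▸ inf_le_left) fun he =>
    hPQ (H3.sylow_eq_of_le (he ▸ hD ▸ inf_le_right))
  have hDQ : D < Q := lt_of_le_of_ne (hD ▸ inf_le_right) fun he =>
    hPQ (H3.sylow_eq_of_le (he ▸ hD ▸ inf_le_left)).symm
  have hDp : IsPGroup p D := P.2.to_le hDP.le
  have h1 := H3.lt_inf_normalizer_of_lt P.2 hDP
  have h2 := H3.lt_inf_normalizer_of_lt Q.2 hDQ
  obtain ⟨S, hS, hPS⟩ := H3.exists_sylowIn_le (P.2.to_inf_left (K := normalizer (D : Set H)))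
    inf_le_right
  obtain ⟨T, hT, hQT⟩ := H3.exists_sylowIn_le (Q.2.to_inf_left (K := normalizer (D : Set H)))
    inf_le_right
  obtain ⟨R, hR⟩ := hS.isPGroup.exists_le_sylow
  obtain ⟨c, hc, hST⟩ : ∃ c ∈ centralizer (D : Set H), MulAut.conj c • S = T := by
    haveI : (D.subgroupOf (normalizer (D : Set H))).Normal := normal_in_normalizer
    obtain ⟨c, hc, he⟩ := (h.subgroup (normalizer (D : Set H))).exists_conj_sylow hp2
      (Q := D.subgroupOf (normalizer (D : Set H))) hDp.comap_subtype (by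
        rw [Ne, subgroupOf_eq_bot, disjoint_iff, inf_of_le_left le_normalizer]
        exact hne) hS.toSylow hT.toSylow
    refine ⟨c, fun d hd => congrArg Subtype.val (hc ⟨d, le_normalizer hd⟩ hd), ?_⟩
    have e := congrArg (fun X : Sylow p (normalizer (D : Set H)) =>
      (X : Subgroup (normalizer (D : Set H))).map (normalizer (D : Set H)).subtype) he
    simp only [Sylow.coe_subgroup_smul, H3.SylowIn.coe_toSylow] at e
    rw [subgroupOf_map_subtype, inf_of_le_left hT.le] at e
    rw [← e]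
    conv_lhs => rw [← inf_of_le_left hS.le, ← subgroupOf_map_subtype]
    exact (Subgroup.map_map _ (MulAut.conj (c : H)).toMonoidHom _).trans
      (Subgroup.map_map (S.subgroupOf (normalizer (D : Set H))) (normalizer (D : Set H)).subtype
        (MulAut.conj c).toMonoidHom).symm
  have h3 : D < (P : Subgroup H) ⊓ R := h1.trans_le (le_inf inf_le_left (hPS.trans hR))
  have h4 : D < ((c • R : Sylow p H) : Subgroup H) ⊓ Q := by
    refine h2.trans_le (le_inf (hQT.trans ?_) inf_le_left)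
    rw [← hST, Sylow.coe_subgroup_smul]
    exact H3.conj_smul_mono c hR
  obtain ⟨x, hx, hxe⟩ := ih _ h3 P R rfl (ne_bot_of_gt h3)
  obtain ⟨y, hy, hye⟩ := ih _ h4 (c • R) Q rfl (ne_bot_of_gt h4)
  refine ⟨y * c * x, mul_mem (mul_mem (centralizer_le h4.le hy) hc)
    (centralizer_le h3.le hx), ?_⟩
  rw [mul_smul, mul_smul, hxe, hye]

/-- one class of nontrivial `p`-elements, `p`-nilpotent centralizers: abelian Sylow subgroups -/
theorem ExpNil.comm (h : ExpNil p H) (hcj : ∀ x y : H, x ≠ 1 → y ≠ 1 → x ^ p = 1 → y ^ p = 1 →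
    IsConj x y) (P : Sylow p H) {x y : H} (hx : x ∈ (P : Subgroup H)) (hy : y ∈ (P : Subgroup H)) :
    x * y = y * x := by
  by_cases hp2 : p = 2
  · subst hp2
    have e : ∀ z ∈ (P : Subgroup H), z⁻¹ = z := fun z hz =>
      inv_eq_of_mul_eq_one_right (by rw [← pow_two]; exact h.pow_of_mem P.2 hz)
    rw [← e _ (mul_mem hx hy), mul_inv_rev, e x hx, e y hy]
  by_cases hx1 : x = 1
  · simp [hx1]
  haveI : Nontrivial (P : Subgroup H) := ⟨⟨⟨x, hx⟩, 1, fun e => hx1 (congrArg Subtype.val e)⟩⟩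
  haveI := P.2.center_nontrivial
  obtain ⟨⟨z, hz⟩, hz1⟩ := exists_ne (1 : center (P : Subgroup H))
  have hz1' : (z : H) ≠ 1 := fun e => hz1 (Subtype.ext (Subtype.ext e))
  obtain ⟨g, hg⟩ := isConj_iff.1 (hcj z x hz1' hx1 (h.pow_of_mem P.2 z.2) (h.pow_of_mem P.2 hx))
  have hm : x ∈ ((g • P : Sylow p H) : Subgroup H) ⊓ P := ⟨by
    rw [Sylow.coe_subgroup_smul, ← hg]; exact H3.conj_mem_conj_smul.mpr z.2, hx⟩
  obtain ⟨c, hc, he⟩ := h.exists_centralizer_smul_eq hp2 (g • P) P
    fun e => hx1 (mem_bot.1 (e ▸ hm))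
  rw [← mul_smul, Sylow.smul_eq_iff_mem_normalizer] at he
  have h1 : x * c = c * x := hc x hm
  have h2 : (c * g)⁻¹ * y * (c * g) ∈ (P : Subgroup H) := by
    have := (mem_normalizer_iff.1 (inv_mem he) y).1 hy
    rwa [inv_inv] at this
  have h3 : ((c * g)⁻¹ * y * (c * g)) * z = z * ((c * g)⁻¹ * y * (c * g)) :=
    congrArg Subtype.val (mem_center_iff.1 hz ⟨_, h2⟩)
  have h4 : x = (c * g) * z * (c * g)⁻¹ := by
    calc x = c * x * c⁻¹ := by rw [← h1]; group
      _ = _ := by rw [← hg]; group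
  rw [h4]
  calc c * g * ↑z * (c * g)⁻¹ * y = (c * g) * (z * ((c * g)⁻¹ * y * (c * g))) * (c * g)⁻¹ := by group
    _ = _ := by rw [← h3]; group

/-- in a `p`-solvable group a `p`-subgroup whose nontrivial elements are all conjugate is
elementary abelian -/
theorem isElementaryAbelian_of_isConj (hG : IsPSolvable p H) {D : Subgroup H} (hD : IsPGroup p D)
    (hcj : ∀ x ∈ D, ∀ y ∈ D, x ≠ 1 → y ≠ 1 → IsConj x y) : IsElementaryAbelian p D := by
  by_cases hD1 : D = ⊥
  · subst hD1
    exact ⟨inferInstance, fun a ha => by rw [mem_bot.1 ha, one_pow]⟩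
  constructor
  · obtain ⟨N, ⟨hN, hDN⟩, hmax⟩ := (Set.toFinite {N : Subgroup H | N.Normal ∧ D ⊓ N = ⊥}).exists_maximal
      ⟨⊥, inferInstance, inf_bot_eq D⟩
    have key : ∀ X : Subgroup (H ⧸ N), X.Normal → X ≠ ⊥ → ∀ d ∈ D, (d : H ⧸ N) ∈ X := by
      intro X hX hX1 d hd
      have h1 : D ⊓ X.comap (QuotientGroup.mk' N) ≠ ⊥ := fun e => hX1 (by
        have h2 := hmax (y := X.comap (QuotientGroup.mk' N)) ⟨inferInstance, e⟩
          (QuotientGroup.le_comap_mk' N X)
        rw [← map_comap_eq_self_of_surjective (QuotientGroup.mk'_surjective N) X,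
          Subgroup.map_eq_bot_iff, QuotientGroup.ker_mk']
        exact h2)
      obtain ⟨⟨x, hx, hxX⟩, hx1⟩ := (ne_bot_iff_exists_ne_one).1 h1
      by_cases hd1 : d = 1
      · simp [hd1]
      obtain ⟨g, rfl⟩ := isConj_iff.1 (hcj x hx d hd (fun e => hx1 (Subtype.ext e)) hd1)
      exact hX.conj_mem (x : H ⧸ N) hxX g
    have hinj : ∀ d ∈ D, (d : H ⧸ N) = 1 → d = 1 := fun d hd e =>
      mem_bot.1 (hDN ▸ mem_inf.2 ⟨hd, (QuotientGroup.eq_one_iff d).1 e⟩)
    obtain ⟨⟨d, hd⟩, hd1⟩ := (ne_bot_iff_exists_ne_one).1 hD1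
    have hd1' : (d : H ⧸ N) ≠ 1 := fun e => hd1 (Subtype.ext (hinj d hd e))
    haveI : Nontrivial (H ⧸ N) := ⟨⟨_, _, hd1'⟩⟩
    have hR : pCore p (H ⧸ N) ≠ ⊥ := by
      intro e
      have h1 : pPrimeCore p (H ⧸ N) ≠ ⊥ := fun e' => by
        have := H9.core_ne_bot_of_isPSolvable (H9.isPSolvable_quotient hG N)
        simp [e, e'] at this
      have h2 := H1.inf_pPrimeCore_eq_bot (hD.map (QuotientGroup.mk' N))
      exact hd1' (mem_bot.1 (h2 ▸ mem_inf.2 ⟨⟨d, hd, rfl⟩, key _ inferInstance h1 d hd⟩))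
    let V : Subgroup (H ⧸ N) := (center (pCore p (H ⧸ N))).map (pCore p (H ⧸ N)).subtype
    haveI hVn : V.Normal := ConjAct.normal_of_characteristic_of_normal
    haveI hVc : IsMulCommutative V := map_isMulCommutative _ _
    have hV : V ≠ ⊥ := by
      haveI := (pCore p (H ⧸ N)).nontrivial_iff_ne_bot.2 hR
      rw [Ne, map_eq_bot_iff_of_injective _ (subtype_injective _), ← Ne, ← nontrivial_iff_ne_bot]
      exact (H1.isPGroup_pCore p _).center_nontrivial
    refine ⟨⟨fun a b => Subtype.ext ?_⟩⟩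
    have h1 : ((a : H) : H ⧸ N) * (b : H) = (b : H) * (a : H) := congrArg Subtype.val
      (hVc.is_comm.comm ⟨_, key V hVn hV a a.2⟩ ⟨_, key V hVn hV b b.2⟩)
    have h2 := hinj _ (mul_mem (mul_mem a.2 b.2) (inv_mem (mul_mem b.2 a.2))) (by
      rw [QuotientGroup.mk_mul, QuotientGroup.mk_inv, QuotientGroup.mk_mul, QuotientGroup.mk_mul, h1,
        mul_inv_cancel])
    exact mul_inv_eq_one.1 h2
  · intro a ha
    by_cases ha1 : a = 1
    · rw [ha1, one_pow]
    haveI := (D.nontrivial_iff_ne_bot).2 hD1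
    obtain ⟨n, hn0, hn⟩ := hD.nontrivial_iff_card.1 inferInstance
    obtain ⟨x, hx⟩ := exists_prime_orderOf_dvd_card' (G := D) p (hn ▸ dvd_pow_self p hn0.ne')
    have hx1 : (x : H) ≠ 1 := fun e => by
      rw [show x = 1 from Subtype.ext e, orderOf_one] at hx
      exact hp.out.one_lt.ne hx
    rw [← hx, ← orderOf_coe, H6.orderOf_eq_of_isConj (hcj x x.2 a ha hx1 ha1), pow_orderOf_eq_one]

end Cfsg.Agent.H7
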