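import Cfsg.Agent.H7.Pim0
import Cfsg.Agent.H7.Star4
import Cfsg.Agent.H6.Cyc4
import Cfsg.Agent.H8.KB1

/-!
Projective indecomposable characters, irreducible Brauer characters and decomposition numbers
of a block, through primitive idempotents of the modular group algebra.
-/

set_option linter.style.haveILetI false

namespace Cfsg.Agent.H7

open MonoidAlgebra Cfsg Cfsg.Agent.H3 Cfsg.Agent.H4
open Cfsg.Agent.H6 (Res locRing redC redA eB fB intAlg classSum omega chiL red blocks liftA liftC)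
open Cfsg.Agent.H8 (bspan bfin pRegL lat)
open scoped Pointwise ComplexConjugate

variable {M : Ideal AlgInt} [hMm : M.IsMaximal] {G : Type*} [Group G]

section fin
variable [Finite G]

theorem aeval_eq_of_redA {x z : ℂ[G]} (hx : x ∈ intAlg M G) (hx2 : IsIdempotentElem x)
    (hz : z ∈ intAlg M G) (h1 : x * z = z) (h2 : z * x = z) (h : redA M z = redA M x)
    {g : Polynomial (locRing M)} (hg : Polynomial.X * (Polynomial.X - 1) ∣ g - Polynomial.X)
    (hi : IsIdempotentElem (Polynomial.aeval z g)) : Polynomial.aeval z g = x := by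
  obtain ⟨h', hh⟩ := exists_aeval_eq_mul (A := ℂ[G]) hg
  have hm := aeval_mem_intAlg hz g
  have hr : IsIdempotentElem (redA M x) := by
    unfold IsIdempotentElem; rw [← H6.redA_mul hx hx, hx2.eq]
  symm
  rw [← sub_eq_zero]
  refine idem_eq_zero_of_redA (M := M) (sub_mem hx hm) (idem_sub hx2 hi ?_ ?_) ?_
  · rw [(hh z).1, ← mul_assoc, h1]
  · rw [(hh z).2, mul_assoc, h2]
  · rw [H6.redA_sub hx hm, redA_aeval hz, h, aeval_idem_of_dvd (dvd_map_of_dvd hg) hr, sub_self]

/-- equivalence of idempotents lifts -/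
theorem exists_eqv_lift {x y : ℂ[G]} (hx : x ∈ intAlg M G) (hy : y ∈ intAlg M G)
    (hx2 : IsIdempotentElem x) (hy2 : IsIdempotentElem y) (h : Eqv (redA M x) (redA M y)) :
    ∃ a ∈ intAlg M G, ∃ b ∈ intAlg M G, a * b = x ∧ b * a = y := by
  obtain ⟨a, b, h1, h2⟩ := h
  have hr : redA M x * redA M x = redA M x := by rw [← H6.redA_mul hx hx, hx2.eq]
  have hr' : redA M y * redA M y = redA M y := by rw [← H6.redA_mul hy hy, hy2.eq]
  have ha : x * liftA a * y ∈ intAlg M G := mul_mem (mul_mem hx (H6.liftA_mem a)) hy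
  have hb : y * liftA b * x ∈ intAlg M G := mul_mem (mul_mem hy (H6.liftA_mem b)) hx
  have ea : redA M (x * liftA a * y) = redA M x * a * redA M y := by
    rw [H6.redA_mul (mul_mem hx (H6.liftA_mem a)) hy, H6.redA_mul hx (H6.liftA_mem a),
      H6.redA_liftA]
  have eb : redA M (y * liftA b * x) = redA M y * b * redA M x := by
    rw [H6.redA_mul (mul_mem hy (H6.liftA_mem b)) hx, H6.redA_mul hy (H6.liftA_mem b),
      H6.redA_liftA]
  set a' := x * liftA a * y with ha'
  set b' := y * liftA b * x with hb'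
  have xa : x * a' = a' := by rw [ha', ← mul_assoc, ← mul_assoc, hx2.eq]
  have ay : a' * y = a' := by rw [ha', mul_assoc, hy2.eq]
  have yb : y * b' = b' := by rw [hb', ← mul_assoc, ← mul_assoc, hy2.eq]
  have bx : b' * x = b' := by rw [hb', mul_assoc, hx2.eq]
  obtain ⟨g, hg, i1, i2⟩ := exists_poly_idem (mul_mem ha hb) (mul_mem hb ha)
  have e1 := aeval_eq_of_redA hx hx2 (mul_mem ha hb) (by rw [← mul_assoc, xa])
    (by rw [mul_assoc, bx]) (by
      rw [H6.redA_mul ha hb, ea, eb]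
      calc redA M x * a * redA M y * (redA M y * b * redA M x)
          = redA M x * (a * (redA M y * redA M y) * b) * redA M x := by noncomm_ring
        _ = redA M x * (a * b * (a * b)) * redA M x := by rw [hr', ← h2]; noncomm_ring
        _ = redA M x := by rw [h1, hr, hr, hr]) hg i1
  have e2 := aeval_eq_of_redA hy hy2 (mul_mem hb ha) (by rw [← mul_assoc, yb])
    (by rw [mul_assoc, ay]) (by
      rw [H6.redA_mul hb ha, ea, eb]
      calc redA M y * b * redA M x * (redA M x * a * redA M y)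
          = redA M y * (b * (redA M x * redA M x) * a) * redA M y := by noncomm_ring
        _ = redA M y * (b * a * (b * a)) * redA M y := by rw [hr, ← h1]; noncomm_ring
        _ = redA M y := by rw [h2, hr', hr', hr']) hg i2
  obtain ⟨h', hh, hh'⟩ : ∃ h' : Polynomial (locRing M),
      Polynomial.aeval (a' * b') g = a' * b' * Polynomial.aeval (a' * b') h' ∧
      Polynomial.aeval (b' * a') g = b' * a' * Polynomial.aeval (b' * a') h' := by
    obtain ⟨h', hh⟩ := exists_aeval_eq_mul (A := ℂ[G]) hg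
    exact ⟨h', (hh _).1, (hh _).1⟩
  refine ⟨a', ha, b' * Polynomial.aeval (a' * b') h',
    mul_mem hb (aeval_mem_intAlg (mul_mem ha hb) h'), ?_, ?_⟩
  · rw [← mul_assoc, ← hh, e1]
  · rw [mul_assoc, ← mul_aeval_mul, ← mul_assoc, ← hh', e2]

theorem exists_lift {ε : (Res M)[G]} (hε : IsIdempotentElem ε) :
    ∃ x, x ∈ intAlg M G ∧ IsIdempotentElem x ∧ redA M x = ε := by
  obtain ⟨x, -, h⟩ := exists_idem_lift (K := ⊤) (H := ⊥) (j := ε)
    (mem_Fix.2 ⟨fun _ h => absurd (Subgroup.mem_top _) h, fun h hh => by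
      rw [Subgroup.mem_bot.1 hh, cj_one]⟩) hε
  exact ⟨x, h⟩

theorem exists_lift_corner {E : ℂ[G]} (hE : E ∈ intAlg M G) (hE2 : IsIdempotentElem E)
    {ε : (Res M)[G]} (hε : IsIdempotentElem ε) (h1 : redA M E * ε = ε) (h2 : ε * redA M E = ε) :
    ∃ x, x ∈ intAlg M G ∧ IsIdempotentElem x ∧ redA M x = ε ∧ E * x = x ∧ x * E = x := by
  have hf : ∀ {R : Type} [CommRing R] (a : R[G]), a ∈ Fix R ⊤ ⊥ := fun a =>
    mem_Fix.2 ⟨fun _ h => absurd (Subgroup.mem_top _) h, fun h hh => by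
      rw [Subgroup.mem_bot.1 hh, cj_one]⟩
  obtain ⟨x, -, h⟩ := exists_idem_lift_corner (K := ⊤) (H := ⊥) (hf E) hE hE2 (hf ε) hε h1 h2
  exact ⟨x, h⟩

open Classical in
variable (M) in
/-- the value of a class function at a lift of an idempotent -/
noncomputable def dn (θ : G → ℂ) (ε : (Res M)[G]) : ℂ :=
  if h : IsIdempotentElem ε then chiL θ (exists_lift h).choose else 0

theorem dn_eq_of_eqv {θ : G → ℂ} (hθ : IsClassFunction G θ) {x : ℂ[G]} (hx : x ∈ intAlg M G)
    (hx2 : IsIdempotentElem x) {ε : (Res M)[G]} (hε : IsIdempotentElem ε)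
    (h : Eqv (redA M x) ε) : dn M θ ε = chiL θ x := by
  rw [dn, dif_pos hε]
  obtain ⟨h1, h2, h3⟩ := (exists_lift hε).choose_spec
  obtain ⟨a, -, b, -, e1, e2⟩ := exists_eqv_lift hx h1 hx2 h2 (by rw [h3]; exact h)
  rw [← e2, ← e1, H6.chiL_mul_comm hθ]

theorem dn_redA {θ : G → ℂ} (hθ : IsClassFunction G θ) {x : ℂ[G]} (hx : x ∈ intAlg M G)
    (hx2 : IsIdempotentElem x) : dn M θ (redA M x) = chiL θ x :=
  dn_eq_of_eqv hθ hx hx2 (redA_idem hx hx2) (Eqv.refl (redA_idem hx hx2))

theorem dn_eqv {θ : G → ℂ} (hθ : IsClassFunction G θ) {i j : (Res M)[G]}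
    (hi : IsIdempotentElem i) (hj : IsIdempotentElem j) (h : Eqv i j) : dn M θ i = dn M θ j := by
  obtain ⟨x, h1, h2, rfl⟩ := exists_lift hi
  rw [dn_redA hθ h1 h2, dn_eq_of_eqv hθ h1 h2 hj h]

theorem dn_zero {θ : G → ℂ} (hθ : IsClassFunction G θ) : dn M θ 0 = 0 := by
  rw [← H6.redA_zero, dn_redA hθ (zero_mem _) IsIdempotentElem.zero, map_zero]

theorem dn_one {θ : G → ℂ} (hθ : IsClassFunction G θ) : dn M θ 1 = θ 1 := by
  rw [← H6.redA_one, dn_redA hθ (one_mem _) IsIdempotentElem.one, H6.chiL_one]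

theorem dn_add {θ : G → ℂ} (hθ : IsClassFunction G θ) {a b : (Res M)[G]}
    (ha : IsIdempotentElem a) (hb : IsIdempotentElem b) (h1 : a * b = 0) (h2 : b * a = 0) :
    dn M θ (a + b) = dn M θ a + dn M θ b := by
  obtain ⟨x, x1, x2, rfl⟩ := exists_lift ha
  have hc : redA M (1 - x) = 1 - redA M x := by rw [H6.redA_sub (one_mem _) x1, H6.redA_one]
  obtain ⟨y, y1, y2, rfl, y3, y4⟩ := exists_lift_corner (sub_mem (one_mem _) x1) x2.one_sub hb
    (by rw [hc, sub_mul, one_mul, h1, sub_zero]) (by rw [hc, mul_sub, mul_one, h2, sub_zero])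
  have e1 : x * y = 0 := by rwa [sub_mul, one_mul, sub_eq_self] at y3
  have e2 : y * x = 0 := by rwa [mul_sub, mul_one, sub_eq_self] at y4
  rw [← H6.redA_add x1 y1, dn_redA hθ (add_mem x1 y1) (idem_add x2 y2 e1 e2), dn_redA hθ x1 x2,
    dn_redA hθ y1 y2, map_add]

variable (M) in
/-- `dn` as a linear map in the class function -/
noncomputable def dnL (ε : (Res M)[G]) : (G → ℂ) →ₗ[ℂ] ℂ where
  toFun θ := dn M θ ε
  map_add' θ ψ := by
    unfold dn
    split_ifs
    · exact H6.chiL_add_fun _ _ _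
    · simp
  map_smul' c θ := by
    unfold dn
    split_ifs
    · exact H6.chiL_smul_fun _ _ _
    · simp

theorem dn_smul (c : ℂ) (θ : G → ℂ) (ε : (Res M)[G]) : dn M (c • θ) ε = c * dn M θ ε :=
  (dnL M ε).map_smul c θ

theorem dn_sub (θ ψ : G → ℂ) (ε : (Res M)[G]) : dn M (θ - ψ) ε = dn M θ ε - dn M ψ ε :=
  (dnL M ε).map_sub θ ψ

theorem dn_sum {ι : Type*} (s : Finset ι) (f : ι → G → ℂ) (ε : (Res M)[G]) :
    dn M (∑ i ∈ s, f i) ε = ∑ i ∈ s, dn M (f i) ε :=
  map_sum (dnL M ε) f s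

theorem exists_nat_chiL {χ : G → ℂ} (hχ : IsCharacter G χ) {x : ℂ[G]} (hx : IsIdempotentElem x) :
    ∃ n : ℕ, chiL χ x = n := by
  obtain ⟨n, hn⟩ := (isCharacter_chiL_mul hχ (Q := ⊥) hx (fun h hh => by
    rw [Subgroup.mem_bot.1 hh, cj_one])).exists_degree
  refine ⟨n, ?_⟩
  rw [← hn]
  change _ = chiL χ (x * 1)
  rw [mul_one]

theorem exists_nat_dn {χ : G → ℂ} (hχ : IsCharacter G χ) (ε : (Res M)[G]) :
    ∃ n : ℕ, dn M χ ε = n := by
  unfold dn
  split_ifs with h
  · exact exists_nat_chiL hχ (exists_lift h).choose_spec.2.1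
  · exact ⟨0, by simp⟩

variable (M) in
/-- the multiplicity of `χ` in the projective module attached to `ε` -/
noncomputable def dnat (χ : IrrCharacter G) (ε : (Res M)[G]) : ℕ :=
  (exists_nat_dn χ.2.isCharacter ε).choose

theorem dnat_cast (χ : IrrCharacter G) (ε : (Res M)[G]) :
    (dnat M χ ε : ℂ) = dn M (χ : G → ℂ) ε :=
  (exists_nat_dn χ.2.isCharacter ε).choose_spec.symm

variable (M) in
/-- the character of the projective module attached to an idempotent -/
noncomputable def prj (ε : (Res M)[G]) : G → ℂ :=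
  ∑ χ : IrrCharacter G, (dnat M χ ε : ℂ) • (χ : G → ℂ)

theorem isCharacter_prj (ε : (Res M)[G]) : IsCharacter G (prj M ε) :=
  isCharacter_sum _ _ fun χ _ => χ.2.isCharacter.natCast_smul _

theorem dn_blockPart {B : Set (IrrCharacter G)} (hB : IsPBlock M B) {θ : G → ℂ}
    (hθ : IsClassFunction G θ) {ε : (Res M)[G]} (hε : IsIdempotentElem ε) :
    dn M (blockPart B θ) ε = dn M θ (eB M B * ε) := by
  obtain ⟨x, x1, x2, rfl⟩ := exists_lift hε
  have hf := H6.fB_mem_intAlg hB
  have hi : IsIdempotentElem (fB B * x) :=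
    IsIdempotentElem.mul_of_commute (H6.center_comm (H6.fB_mem_center B) x) (H6.fB_mul_self B) x2
  rw [dn_redA (H6.blockPart_isClassFunction B θ) x1 x2, H6.chiL_blockPart _ hθ,
    ← dn_redA hθ (mul_mem hf x1) hi, H6.redA_mul hf x1, redA_fB]

variable {p : ℕ}

theorem dn_pReg (hM : IsPModular p M) {θ : G → ℂ} (hθ : IsClassFunction G θ) (ε : (Res M)[G]) :
    dn M (pRegularPart p θ) ε = dn M θ ε := by
  classical
  haveI := Fintype.ofFinite G
  unfold dn
  split_ifs with h
  swap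
  · rfl
  obtain ⟨h1, h2, -⟩ := (exists_lift h).choose_spec
  set x := (exists_lift h).choose
  have hη : IsClassFunction G (θ - pRegularPart p θ) := hθ.sub (H8.pReg_isClassFunction hθ)
  have key : (Nat.card G : ℂ) * chiL (θ - pRegularPart p θ) x = 0 := by
    have e : ∀ g : G, chiL (θ - pRegularPart p θ) x =
        ∑ y, x.coeff (g * y * g⁻¹) * (θ - pRegularPart p θ) y := by
      intro g
      rw [H6.chiL_apply, ← (MulAut.conj g).toEquiv.sum_comp]
      refine Finset.sum_congr rfl fun y _ => ?_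
      change x.coeff (g * y * g⁻¹) * (θ - pRegularPart p θ) (g * y * g⁻¹) = _
      rw [hη]
    rw [Nat.card_eq_fintype_card, ← nsmul_eq_mul, ← Finset.card_univ, ← Finset.sum_const,
      Finset.sum_congr rfl fun g _ => e g, Finset.sum_comm]
    refine Finset.sum_eq_zero fun y _ => ?_
    rw [← Finset.sum_mul]
    by_cases hy : p ∣ orderOf y
    · have := H6.sum_coeff_idem_eq_zero hM h1 h2 (x := 1) (y := y)
        (by change x * 1 = 1 * x; rw [mul_one, one_mul])
        (by rw [orderOf_one]; exact hM.1.one_lt.ne' ∘ Nat.dvd_one.1) hy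
      simp only [inv_one, mul_one] at this
      rw [this, zero_mul]
    · rw [Pi.sub_apply, H8.pReg_of_not_dvd _ hy, sub_self, mul_zero]
  have := (mul_eq_zero.1 key).resolve_left natCard_ne_zero'
  have e2 : θ = (θ - pRegularPart p θ) + pRegularPart p θ := by abel
  conv_rhs => rw [e2, H6.chiL_add_fun, this, zero_add]

/-- a class function extended constantly along `p`-parts -/
noncomputable def pext (p : ℕ) (f : G → ℂ) : G → ℂ := fun g => f ((pp p g)⁻¹ * g)

theorem pext_mul (hp : p.Prime) (f : G → ℂ) {u s : G} (hc : Commute u s)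
    (hu : ∃ k, orderOf u = p ^ k) (hs : ¬ p ∣ orderOf s) : pext p f (u * s) = f s := by
  rw [pext, pp_eq hp (H6.isPPart_mul hc hu hs), inv_mul_cancel_left]

theorem pReg_pext (hp : p.Prime) (f : G → ℂ) :
    pRegularPart p (pext p f) = pRegularPart p f := by
  ext g
  by_cases hg : p ∣ orderOf g
  · rw [H8.pReg_of_dvd _ hg, H8.pReg_of_dvd _ hg]
  · rw [H8.pReg_of_not_dvd _ hg, H8.pReg_of_not_dvd _ hg, pext,
      pp_eq hp (H6.isPPart_one hp hg), inv_one, one_mul]

theorem pext_isClassFunction (hp : p.Prime) {f : G → ℂ} (hf : IsClassFunction G f) :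
    IsClassFunction G (pext p f) := by
  intro g h
  rw [pext, pext, pp_eq hp (H6.IsPPart.conj (isPPart_pp hp g) h), ← hf ((pp p g)⁻¹ * g) h]
  congr 1
  group

theorem isGen_pext (hM : IsPModular p M) {f : G → ℂ} (hf : IsClassFunction G f)
    (h : ∀ ε, IsIdempotentElem ε → ∃ n : ℤ, dn M f ε = n) :
    IsGeneralizedCharacter G (pext p f) := by
  refine isGen_of_linear hM.1 (pext_isClassFunction hM.1 hf) fun Q S hQ hS hc _ lam => ?_
  have h1 := linIdem_mem_intAlg hM S hS lam
  obtain ⟨n, hn⟩ := h _ (redA_idem h1 (linIdem_idem S lam))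
  rw [dn_redA hf h1 (linIdem_idem S lam)] at hn
  have h2 := chiL_mul_linIdem S lam f 1 1
  simp only [one_mul, mul_one, H6.chiL_single] at h2
  convert isGen_one.intCast_smul n using 2 with u
  rw [Pi.smul_apply, smul_eq_mul, mul_one, ← hn, h2]
  congr 1
  refine Finset.sum_congr rfl fun s _ => ?_
  rw [pext_mul hM.1 f (hc u u.2 s s.2) (H6.exists_orderOf_eq_of_mem hM.1 hQ u.2)
    fun hd => hS (hd.trans (S.orderOf_dvd_natCard s.2))]

theorem pReg_eq_zero_of_dn (hM : IsPModular p M) {f : G → ℂ} (hf : IsClassFunction G f)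
    (h : ∀ ε, IsIdempotentElem ε → dn M f ε = 0) : pRegularPart p f = 0 := by
  haveI := Fintype.ofFinite G
  have : pext p f = 0 := by
    refine (pext_isClassFunction hM.1 hf).eq_zero_of_forall_irr fun χ hχ => ?_
    by_contra hne
    have := isGen_pext hM (hf.smul (2 * classInner (pext p f) χ)⁻¹) fun ε hε =>
      ⟨0, by rw [dn_smul, h ε hε, mul_zero, Int.cast_zero]⟩
    obtain ⟨n, hn⟩ := this.classInner_int hχ.isGen
    change classInner ((2 * classInner (pext p f) χ)⁻¹ • pext p f) χ = n at hn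
    rw [classInner_smul_left, mul_inv, mul_assoc, inv_mul_cancel₀ hne, mul_one] at hn
    have h2 : ((2 * n : ℤ) : ℂ) = (1 : ℤ) := by push_cast; rw [← hn]; norm_num
    have := Int.cast_injective h2
    omega
  rw [← pReg_pext hM.1, this, H8.pReg_zero]

end fin

section fintype
variable [Fintype G] {p : ℕ}

theorem inner_prj {θ : G → ℂ} (hθ : IsClassFunction G θ) (ε : (Res M)[G]) :
    classInner θ (prj M ε) = dn M θ ε := by
  conv_rhs => rw [hθ.eq_sum, dn_sum]
  rw [prj, classInner_sum_right]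
  refine Finset.sum_congr rfl fun χ _ => ?_
  rw [classInner_smul_right, dn_smul, ← dnat_cast, map_natCast, mul_comm]

theorem pReg_prj (hM : IsPModular p M) (ε : (Res M)[G]) :
    pRegularPart p (prj M ε) = prj M ε := by
  have hc := (isCharacter_prj (M := M) ε).isClassFunction
  refine (H8.pReg_isClassFunction hc).ext_irr hc fun χ hχ => ?_
  rw [← classInner_conj_symm, ← H8.classInner_pReg_left,
    inner_prj (H8.pReg_isClassFunction hχ.isClassFunction), dn_pReg hM hχ.isClassFunction,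
    ← inner_prj hχ.isClassFunction, classInner_conj_symm]

theorem dn_of_mem_bspan {B : Set (IrrCharacter G)} (hB : IsPBlock M B) {θ : G → ℂ}
    (hθ : θ ∈ bspan B) {ε : (Res M)[G]} (hε : IsIdempotentElem ε) :
    dn M θ (eB M B * ε) = dn M θ ε := by
  rw [← dn_blockPart hB (isClassFunction_of_bspan hθ) hε, H8.blockPart_of_mem_bspan hθ]

theorem dnat_eq_zero {B : Set (IrrCharacter G)} (hB : IsPBlock M B) {ε : (Res M)[G]}
    (hε : IsIdempotentElem ε) (h : eB M B * ε = ε) {χ : IrrCharacter G} (hχ : χ ∉ B) :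
    dnat M χ ε = 0 := by
  have := dn_blockPart hB χ.2.isClassFunction hε
  rw [h, H6.blockPart_irr_of_not_mem hχ, ← dnat_cast] at this
  have h0 : dn M 0 ε = 0 := (dnL M ε).map_zero
  exact_mod_cast this.symm.trans h0

theorem prj_eq_sum {B : Set (IrrCharacter G)} (hB : IsPBlock M B) {ε : (Res M)[G]}
    (hε : IsIdempotentElem ε) (h : eB M B * ε = ε) :
    prj M ε = ∑ χ ∈ bfin B, (dnat M χ ε : ℂ) • (χ : G → ℂ) :=
  H8.sum_eq_sum_bfin B _ fun χ hχ => by rw [dnat_eq_zero hB hε h hχ, Nat.cast_zero, zero_smul]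

theorem prj_mem_bspan {B : Set (IrrCharacter G)} (hB : IsPBlock M B) {ε : (Res M)[G]}
    (hε : IsIdempotentElem ε) (h : eB M B * ε = ε) : prj M ε ∈ bspan B := by
  rw [prj_eq_sum hB hε h]
  exact Submodule.sum_mem _ fun χ hχ =>
    Submodule.smul_mem _ _ (H8.mem_bspan_of_mem (H8.mem_bfin.1 hχ))

variable (M) in
/-- primitive idempotents of a block, up to equivalence -/
def primSetoid (B : Set (IrrCharacter G)) :
    Setoid {i : (Res M)[G] // IsPrimIn (⊤ : Subalgebra (Res M) (Res M)[G]) i ∧ eB M B * i = i} where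
  r i j := Eqv i.1 j.1
  iseqv := ⟨fun i => Eqv.refl i.2.1.idem, Eqv.symm,
    fun {i _ l} => Eqv.trans i.2.1.idem l.2.1.idem⟩

variable (M) in
/-- an index set for the irreducible Brauer characters of a block -/
def IBr (B : Set (IrrCharacter G)) : Type _ := Quotient (primSetoid M B)

variable {B : Set (IrrCharacter G)}

/-- the primitive idempotent attached to an index -/
noncomputable def pim (j : IBr M B) : (Res M)[G] := (Quotient.out j).1

theorem pim_prim (j : IBr M B) : IsPrimIn (⊤ : Subalgebra (Res M) (Res M)[G]) (pim j) :=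
  (Quotient.out j).2.1

theorem pim_idem (j : IBr M B) : IsIdempotentElem (pim j) := (pim_prim j).idem

theorem eB_mul_pim (j : IBr M B) : eB M B * pim j = pim j := (Quotient.out j).2.2

theorem eq_of_eqv_pim {j l : IBr M B} (h : Eqv (pim j) (pim l)) : j = l := by
  rw [← Quotient.out_eq j, ← Quotient.out_eq l]
  exact Quotient.sound h

theorem exists_eqv_pim {i : (Res M)[G]} (hi : IsPrimIn (⊤ : Subalgebra (Res M) (Res M)[G]) i)
    (h : eB M B * i = i) : ∃ j : IBr M B, Eqv i (pim j) :=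
  ⟨Quotient.mk (primSetoid M B) ⟨i, hi, h⟩,
    Eqv.symm (Quotient.mk_out (s := primSetoid M B) ⟨i, hi, h⟩)⟩

instance : Finite (IBr M B) := finite_of_not_eqv pim pim_prim fun _ _ => eq_of_eqv_pim

noncomputable instance : Fintype (IBr M B) := Fintype.ofFinite _

noncomputable instance : DecidableEq (IBr M B) := Classical.decEq _

theorem exists_mult (hB : IsPBlock M B) {ε : (Res M)[G]} (hε : IsIdempotentElem ε) :
    ∃ a : IBr M B → ℕ, ∀ θ ∈ bspan B, dn M θ ε = ∑ j, (a j : ℂ) * dn M θ (pim j) := by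
  refine idem_induction (⊤ : Subalgebra (Res M) (Res M)[G])
    (P := fun ε => ∃ a : IBr M B → ℕ, ∀ θ ∈ bspan B,
      dn M θ ε = ∑ j, (a j : ℂ) * dn M θ (pim j)) ?_ ?_ ?_ trivial hε
  · exact ⟨0, fun θ hθ => by simp [dn_zero (isClassFunction_of_bspan hθ)]⟩
  · intro i hi
    rcases hi.mul_eq_or (f := eB M B) trivial (H6.eB_mul_self hB)
      (H6.center_comm (H6.eB_mem_center B) i) with h0 | h0
    · refine ⟨0, fun θ hθ => ?_⟩
      rw [← dn_of_mem_bspan hB hθ hi.idem, h0]
      simp [dn_zero (isClassFunction_of_bspan hθ)]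
    · obtain ⟨j, hj⟩ := exists_eqv_pim hi h0
      refine ⟨Pi.single j 1, fun θ hθ => ?_⟩
      rw [dn_eqv (isClassFunction_of_bspan hθ) hi.idem (pim_idem j) hj, Finset.sum_eq_single j]
      · simp
      · intro l _ hl
        simp [Pi.single_eq_of_ne hl]
      · simp
  · rintro a - b - ha hb h1 h2 ⟨x, hx⟩ ⟨y, hy⟩
    refine ⟨x + y, fun θ hθ => ?_⟩
    rw [dn_add (isClassFunction_of_bspan hθ) ha hb h1 h2, hx θ hθ, hy θ hθ,
      ← Finset.sum_add_distrib]
    simp [add_mul]

variable (p B) in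
/-- the span of the `p`-regular parts of the characters of a block -/
noncomputable abbrev rspan : Submodule ℂ (G → ℂ) := (bspan B).map (pRegL p G)

variable [Fact p.Prime] (hM : IsPModular p M) (hB : IsPBlock M B)

omit hMm [Fact p.Prime] in
theorem pReg_of_mem_rspan {f : G → ℂ} (hf : f ∈ rspan p B) : pRegularPart p f = f := by
  obtain ⟨g, -, rfl⟩ := hf
  exact H8.pReg_pReg g

include hM hB

omit hMm in
theorem mem_rspan {f : G → ℂ} : f ∈ rspan p B ↔ f ∈ bspan B ∧ pRegularPart p f = f := by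
  have : (bspan B).map (pRegL p G) ≤ bspan B := by
    rw [H8.map_bspan, Submodule.span_le]
    rintro _ ⟨χ, hχ, rfl⟩
    exact H8.pReg_mem_bspan hM hB hχ
  exact ⟨fun hf => ⟨this hf, pReg_of_mem_rspan hf⟩, fun h => ⟨f, h.1, h.2⟩⟩

theorem prj_mem_rspan {ε : (Res M)[G]} (hε : IsIdempotentElem ε) (h : eB M B * ε = ε) :
    prj M ε ∈ rspan p B := (mem_rspan hM hB).2 ⟨prj_mem_bspan hB hε h, pReg_prj hM ε⟩

theorem eq_zero_of_dn_pim {f : G → ℂ} (hf : f ∈ rspan p B)
    (h : ∀ j : IBr M B, dn M f (pim j) = 0) : f = 0 := by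
  obtain ⟨h1, h2⟩ := (mem_rspan hM hB).1 hf
  rw [← h2]
  refine pReg_eq_zero_of_dn hM (isClassFunction_of_bspan h1) fun ε hε => ?_
  obtain ⟨a, ha⟩ := exists_mult hB hε
  simp [ha f h1, h]

theorem exists_ibr (j : IBr M B) :
    ∃ f ∈ rspan p B, ∀ l : IBr M B, dn M f (pim l) = if j = l then 1 else 0 := by
  obtain ⟨τ, h1, h2⟩ := exists_dual_forms (pim : IBr M B → _) pim_prim fun _ _ => eq_of_eqv_pim
  let t : IBr M B → G → ℂ := fun i g => liftC (τ i (single g 1))
  have ht : ∀ i, IsClassFunction G (t i) := fun i g h => by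
    simp only [t]
    rw [← mul_one (1 : Res M), ← single_mul_single, h1, single_mul_single, ← mul_assoc,
      inv_mul_cancel, one_mul]
  let X : Matrix (IBr M B) (IBr M B) ℂ := fun i l => dn M (t i) (pim l)
  have hX : X.det ≠ 0 := by
    have := H6.det_one_add_ne_zero (M := M) (X - 1) fun i l => by
      obtain ⟨x, x1, x2, x3⟩ := exists_lift (pim_idem l)
      have h3 := H6.redC_chiL (f := t i) (fun g => H6.liftC_mem _) (τ i)
        (fun g => H6.redC_liftC _) x1
      have h4 : (1 : Matrix (IBr M B) (IBr M B) ℂ) i l ∈ locRing M := by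
        rw [Matrix.one_apply]; split_ifs; exacts [one_mem _, zero_mem _]
      have h5 : X i l = chiL (t i) x := by simp only [X]; rw [← x3, dn_redA (ht i) x1 x2]
      rw [Matrix.sub_apply, h5, H6.memLocalIdeal_sub_iff h3.1 h4, h3.2, x3, h2, Matrix.one_apply]
      split_ifs <;> simp
    rwa [add_sub_cancel] at this
  refine ⟨∑ i, X⁻¹ j i • pRegularPart p (blockPart B (t i)), Submodule.sum_mem _ fun i _ =>
    Submodule.smul_mem _ _ ⟨_, H8.blockPart_mem_bspan (t i), rfl⟩, fun l => ?_⟩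
  rw [dn_sum, ← Matrix.one_apply, ← Matrix.nonsing_inv_mul X (Ne.isUnit hX), Matrix.mul_apply]
  refine Finset.sum_congr rfl fun i _ => ?_
  rw [dn_smul, dn_pReg hM (H6.blockPart_isClassFunction B _), dn_blockPart hB (ht i) (pim_idem l),
    eB_mul_pim]

/-- the irreducible Brauer characters of a block (extended by zero) -/
noncomputable def ibr (j : IBr M B) : G → ℂ := (exists_ibr hM hB j).choose

theorem ibr_mem_rspan (j : IBr M B) : ibr hM hB j ∈ rspan p B :=
  (exists_ibr hM hB j).choose_spec.1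

theorem ibr_mem_bspan (j : IBr M B) : ibr hM hB j ∈ bspan B :=
  ((mem_rspan hM hB).1 (ibr_mem_rspan hM hB j)).1

theorem pReg_ibr (j : IBr M B) : pRegularPart p (ibr hM hB j) = ibr hM hB j :=
  pReg_of_mem_rspan (ibr_mem_rspan hM hB j)

theorem ibr_isClassFunction (j : IBr M B) : IsClassFunction G (ibr hM hB j) :=
  isClassFunction_of_bspan (ibr_mem_bspan hM hB j)

theorem dn_ibr (j l : IBr M B) : dn M (ibr hM hB j) (pim l) = if j = l then 1 else 0 :=
  (exists_ibr hM hB j).choose_spec.2 l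

theorem inner_ibr_prj (j l : IBr M B) :
    classInner (ibr hM hB j) (prj M (pim l)) = if j = l then 1 else 0 := by
  rw [inner_prj (ibr_isClassFunction hM hB j), dn_ibr]

theorem eq_sum_ibr {f : G → ℂ} (hf : f ∈ rspan p B) :
    f = ∑ j : IBr M B, dn M f (pim j) • ibr hM hB j := by
  rw [← sub_eq_zero]
  refine eq_zero_of_dn_pim hM hB (sub_mem hf (Submodule.sum_mem _ fun j _ =>
    Submodule.smul_mem _ _ (ibr_mem_rspan hM hB j))) fun l => ?_
  rw [dn_sub, dn_sum]
  simp [dn_smul, dn_ibr]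

theorem pReg_eq_sum_ibr {θ : G → ℂ} (hθ : θ ∈ bspan B) :
    pRegularPart p θ = ∑ j : IBr M B, dn M θ (pim j) • ibr hM hB j := by
  rw [eq_sum_ibr hM hB (f := pRegularPart p θ) ⟨θ, hθ, rfl⟩]
  simp only [dn_pReg hM (isClassFunction_of_bspan hθ)]

theorem pReg_irr_eq_sum_ibr {χ : IrrCharacter G} (hχ : χ ∈ B) :
    pRegularPart p (χ : G → ℂ) = ∑ j : IBr M B, (dnat M χ (pim j) : ℂ) • ibr hM hB j := by
  rw [pReg_eq_sum_ibr hM hB (H8.mem_bspan_of_mem hχ)]
  simp only [dnat_cast]

theorem linearIndependent_ibr : LinearIndependent ℂ (ibr hM hB) := by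
  rw [Fintype.linearIndependent_iff]
  intro c hc l
  have := congrArg (fun f => dn M f (pim l)) hc
  simp only [dn_sum, dn_smul, dn_ibr] at this
  simpa using this.trans (dnL M (pim l)).map_zero

theorem card_IBr : Fintype.card (IBr M B) = blockRank p B := by
  rw [H8.blockRank_eq, ← finrank_span_eq_card (linearIndependent_ibr hM hB)]
  suffices h : Submodule.span ℂ (Set.range (ibr hM hB)) = rspan p B by rw [h]
  refine le_antisymm (Submodule.span_le.2 ?_) fun f hf => ?_
  · rintro _ ⟨j, rfl⟩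
    exact ibr_mem_rspan hM hB j
  · rw [eq_sum_ibr hM hB hf]
    exact Submodule.sum_mem _ fun j _ =>
      Submodule.smul_mem _ _ (Submodule.subset_span ⟨j, rfl⟩)

theorem exists_nat_dn_ibr (j : IBr M B) {ε : (Res M)[G]} (hε : IsIdempotentElem ε) :
    ∃ n : ℕ, dn M (ibr hM hB j) ε = n := by
  obtain ⟨a, ha⟩ := exists_mult hB hε
  refine ⟨a j, ?_⟩
  rw [ha _ (ibr_mem_bspan hM hB j)]
  simp [dn_ibr]

/-- surjectivity of the decomposition map -/
theorem ibr_mem_lat (j : IBr M B) : ibr hM hB j ∈ lat p B := by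
  have h1 := isGen_pext hM (ibr_isClassFunction hM hB j) fun ε hε => by
    obtain ⟨n, hn⟩ := exists_nat_dn_ibr hM hB j hε
    exact ⟨n, by rw [hn, Int.cast_natCast]⟩
  obtain ⟨a, ha⟩ := isGen_iff_exists_int.1 h1
  have h2 : ibr hM hB j = pRegularPart p (blockPart B (pext p (ibr hM hB j))) := by
    rw [← H6.blockPart_pRegularPart hM hB, pReg_pext hM.1, pReg_ibr,
      H8.blockPart_of_mem_bspan (ibr_mem_bspan hM hB j)]
  rw [h2, ha, H6.blockPart_sum, H8.pReg_sum]
  refine sum_mem fun χ _ => ?_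
  rw [H6.blockPart_smul, H8.pReg_smul]
  refine H8.intCast_smul_mem_lat _ ?_
  by_cases hχ : χ ∈ B
  · rw [H6.blockPart_irr_of_mem hχ]; exact H8.pReg_mem_lat hχ
  · rw [H6.blockPart_irr_of_not_mem hχ, H8.pReg_zero]; exact zero_mem _

theorem exists_ibr_one (j : IBr M B) : ∃ n : ℕ, 0 < n ∧ ibr hM hB j 1 = n := by
  obtain ⟨n, hn⟩ := exists_nat_dn_ibr hM hB j (pim_idem j).one_sub
  refine ⟨n + 1, n.succ_pos, ?_⟩
  have := dn_add (ibr_isClassFunction hM hB j) (pim_idem j).one_sub (pim_idem j)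
    (by rw [sub_mul, one_mul, (pim_idem j).eq, sub_self])
    (by rw [mul_sub, mul_one, (pim_idem j).eq, sub_self])
  rw [sub_add_cancel, dn_one (ibr_isClassFunction hM hB j), hn, dn_ibr, if_pos rfl] at this
  rw [this, Nat.cast_succ]

/-- the degree of an irreducible Brauer character -/
noncomputable def ideg (j : IBr M B) : ℕ := (exists_ibr_one hM hB j).choose

theorem ideg_pos (j : IBr M B) : 0 < ideg hM hB j := (exists_ibr_one hM hB j).choose_spec.1

theorem ibr_one (j : IBr M B) : ibr hM hB j 1 = ideg hM hB j :=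
  (exists_ibr_one hM hB j).choose_spec.2

theorem charDegree_eq_sum {χ : IrrCharacter G} (hχ : χ ∈ B) :
    charDegree (χ : G → ℂ) = ∑ j : IBr M B, dnat M χ (pim j) * ideg hM hB j := by
  have := congrFun (pReg_irr_eq_sum_ibr hM hB hχ) 1
  rw [H8.pReg_one_apply hM.1, ← H8.irr_coe_charDegree, Finset.sum_apply] at this
  simp only [Pi.smul_apply, smul_eq_mul, ibr_one] at this
  exact_mod_cast this

omit hMm hM hB in
theorem exists_int_apply_one {f : G → ℂ} (hf : f ∈ lat p B) {g : ℕ}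
    (hg : ∀ χ ∈ B, g ∣ charDegree (χ : G → ℂ)) : ∃ n : ℤ, f 1 = g * n := by
  obtain ⟨a, rfl⟩ := H8.mem_lat_iff.1 hf
  choose! c hc using hg
  refine ⟨∑ χ ∈ bfin B, a χ * c χ, ?_⟩
  rw [Finset.sum_apply]
  push_cast
  rw [Finset.mul_sum]
  refine Finset.sum_congr rfl fun χ hχ => ?_
  rw [Pi.smul_apply, H8.pReg_one_apply Fact.out, ← H8.irr_coe_charDegree,
    hc χ (H8.mem_bfin.1 hχ), smul_eq_mul]
  push_cast
  ring

theorem dvd_ideg {g : ℕ} (hg : ∀ χ ∈ B, g ∣ charDegree (χ : G → ℂ)) (j : IBr M B) :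
    g ∣ ideg hM hB j := by
  obtain ⟨n, hn⟩ := exists_int_apply_one (ibr_mem_lat hM hB j) hg
  rw [ibr_one] at hn
  rw [← Int.natCast_dvd_natCast]
  exact ⟨n, by exact_mod_cast hn⟩

omit hM [Fact p.Prime] in
theorem inner_prj_prj {ε : (Res M)[G]} (hε : IsIdempotentElem ε) (h : eB M B * ε = ε)
    (ε' : (Res M)[G]) : classInner (prj M ε) (prj M ε') =
      ((∑ χ ∈ bfin B, dnat M χ ε * dnat M χ ε' : ℕ) : ℂ) := by
  rw [inner_prj (isCharacter_prj ε).isClassFunction, prj_eq_sum hB hε h, dn_sum]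
  push_cast
  exact Finset.sum_congr rfl fun χ _ => by rw [dn_smul, ← dnat_cast χ ε']

theorem prj_eq_sum_ibr {ε : (Res M)[G]} (hε : IsIdempotentElem ε) (h : eB M B * ε = ε) :
    prj M ε = ∑ j : IBr M B,
      ((∑ χ ∈ bfin B, dnat M χ ε * dnat M χ (pim j) : ℕ) : ℂ) • ibr hM hB j := by
  conv_lhs => rw [eq_sum_ibr hM hB (prj_mem_rspan hM hB hε h)]
  refine Finset.sum_congr rfl fun j _ => ?_
  rw [← inner_prj (isCharacter_prj ε).isClassFunction, inner_prj_prj hB hε h]

end fintype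

end Cfsg.Agent.H7
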