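import Cfsg.Agent.H7.Green

/-!
Primitive idempotents of a finite-dimensional algebra over an algebraically closed field up to
equivalence, and the trace forms separating them.
-/

namespace Cfsg.Agent.H7

open Polynomial

section eqv
variable {A : Type*} [Ring A]

/-- equivalence of idempotents -/
def Eqv (i j : A) : Prop := ∃ x y, x * y = i ∧ y * x = j

theorem Eqv.refl {i : A} (hi : IsIdempotentElem i) : Eqv i i := ⟨i, i, hi, hi⟩

theorem Eqv.symm {i j : A} (h : Eqv i j) : Eqv j i := by
  obtain ⟨x, y, h1, h2⟩ := h
  exact ⟨y, x, h2, h1⟩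

theorem Eqv.trans {i j l : A} (hi : IsIdempotentElem i) (hl : IsIdempotentElem l) (h : Eqv i j)
    (h' : Eqv j l) : Eqv i l := by
  obtain ⟨x, y, h1, h2⟩ := h
  obtain ⟨z, w, h3, h4⟩ := h'
  refine ⟨x * z, w * y, ?_, ?_⟩
  · calc x * z * (w * y) = x * (z * w) * y := by noncomm_ring
      _ = x * y * (x * y) := by rw [h3, ← h2]; noncomm_ring
      _ = i := by rw [h1]; exact hi
  · calc w * y * (x * z) = w * (y * x) * z := by noncomm_ring
      _ = w * z * (w * z) := by rw [h2, ← h3]; noncomm_ring
      _ = l := by rw [h4]; exact hl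

end eqv

variable {k A : Type*} [Field k] [Ring A] [Algebra k A] [Module.Finite k A]

theorem IsPrimIn.exists_scalar [IsAlgClosed k] {S : Subalgebra k A} {i : A} (h : IsPrimIn S i)
    {x : A} (hx : x ∈ S) (h1 : i * x = x) (h2 : x * i = x) : ∃ c : k, IsNilpotent (x - c • i) := by
  have hc : IsCommSub (Algebra.adjoin k {x, i}) := by
    apply isCommSub_adjoin
    have : Commute x i := by unfold Commute SemiconjBy; rw [h1, h2]
    rintro a (rfl | rfl) b (rfl | rfl)
    exacts [Commute.refl _, this, this.symm, Commute.refl _]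
  have hle : Algebra.adjoin k {x, i} ≤ S := by
    apply Algebra.adjoin_le
    rintro a (rfl | rfl)
    exacts [hx, h.mem]
  obtain ⟨c, hn⟩ := hc.exists_lam (h.mono hle (Algebra.subset_adjoin (by simp)))
    (z := x) (Algebra.subset_adjoin (by simp))
  refine ⟨c, ?_⟩
  rwa [sub_mul, h2, ← Algebra.smul_def] at hn

/-- a nilpotent element of the corner of a primitive idempotent stays nilpotent after
multiplication -/
theorem IsPrimIn.isNilpotent_mul_mul {S : Subalgebra k A} {i : A} (h : IsPrimIn S i) {x : A}
    (hx : x ∈ S) (h1 : i * x = x) (h2 : x * i = x) (hn : IsNilpotent x) {s t : A} (hs : s ∈ S)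
    (ht : t ∈ S) : IsNilpotent (i * (s * x * t) * i) := by
  have hii := h.mul_self
  have hmem : i * (s * x * t) * i ∈ S :=
    S.mul_mem (S.mul_mem h.mem (S.mul_mem (S.mul_mem hs hx) ht)) h.mem
  rcases h.nilpotent_or_unit hmem (by rw [← mul_assoc, ← mul_assoc, hii])
    (by rw [mul_assoc, hii]) with hn' | ⟨z, hz, h3, -, h5, h6⟩
  · exact hn'
  · exfalso
    have hu : i * s * i ∈ S := S.mul_mem (S.mul_mem h.mem hs) h.mem
    have key : (i * s * i) * (x * (t * i * z)) = i := by
      calc (i * s * i) * (x * (t * i * z)) = i * s * (i * x) * (t * i * z) := by noncomm_ring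
        _ = i * (s * x * t) * i * z := by rw [h1]; noncomm_ring
        _ = i := h3
    rcases h.nilpotent_or_unit hu (by rw [← mul_assoc, ← mul_assoc, hii])
      (by rw [mul_assoc, hii]) with hn' | ⟨w, hw, h7, h8, h9, h10⟩
    · obtain ⟨n, hn'⟩ := hn'
      have : ∀ m : ℕ, (i * s * i) ^ (m + 1) * (x * (t * i * z)) ^ (m + 1) = i := by
        intro m
        induction m with
        | zero => simpa using key
        | succ m ih =>
          calc (i * s * i) ^ (m + 1 + 1) * (x * (t * i * z)) ^ (m + 1 + 1)
              = (i * s * i) * ((i * s * i) ^ (m + 1) * (x * (t * i * z)) ^ (m + 1)) *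
                  (x * (t * i * z)) := by rw [pow_succ', pow_succ]; noncomm_ring
            _ = (i * s * (i * i)) * (x * (t * i * z)) := by rw [ih]; noncomm_ring
            _ = i := by rw [hii, key]
      have h0 := this n
      rw [pow_succ, hn', zero_mul, zero_mul] at h0
      exact h.ne_zero h0.symm
    · have key2 : x * (t * i * z * (i * s * i)) = i := by
        have e1 : x * (t * i * z) = w := by
          calc x * (t * i * z) = (w * (i * s * i)) * x * (t * i * z) := by rw [h8, h1]
            _ = w * ((i * s * i) * (x * (t * i * z))) := by noncomm_ring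
            _ = w := by rw [key, h10]
        rw [← mul_assoc, e1, h8]
      obtain ⟨n, hn⟩ := hn
      have : ∀ m : ℕ, x ^ (m + 1) * (t * i * z * (i * s * i)) ^ (m + 1) = i := by
        intro m
        induction m with
        | zero => simpa using key2
        | succ m ih =>
          calc x ^ (m + 1 + 1) * (t * i * z * (i * s * i)) ^ (m + 1 + 1)
              = x * (x ^ (m + 1) * (t * i * z * (i * s * i)) ^ (m + 1)) *
                  (t * i * z * (i * s * i)) := by rw [pow_succ', pow_succ]; noncomm_ring
            _ = i := by rw [ih, h2, key2]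
      have h0 := this n
      rw [pow_succ, hn, zero_mul, zero_mul] at h0
      exact h.ne_zero h0.symm

theorem IsPrimIn.eqv_of_not_isNilpotent {i j : A} (hi : IsPrimIn (⊤ : Subalgebra k A) i)
    (hj : IsPrimIn (⊤ : Subalgebra k A) j) {a b : A} (h : ¬ IsNilpotent (i * (a * j * b) * i)) :
    Eqv i j := by
  have hii := hi.mul_self
  have hjj := hj.mul_self
  rcases hi.nilpotent_or_unit (x := i * (a * j * b) * i) trivial
    (by rw [← mul_assoc, ← mul_assoc, hii]) (by rw [mul_assoc, hii]) with hn | ⟨z, -, h3, -, -, h6⟩
  · exact absurd hn h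
  · have e1 : (i * a * j) * (j * b * i * z) = i := by
      calc (i * a * j) * (j * b * i * z) = i * a * (j * j) * b * i * z := by noncomm_ring
        _ = i * (a * j * b) * i * z := by rw [hjj]; noncomm_ring
        _ = i := h3
    have e2 : i * (i * a * j) = i * a * j := by rw [← mul_assoc, ← mul_assoc, hii]
    refine ⟨i * a * j, j * b * i * z, e1, ?_⟩
    have hid : IsIdempotentElem ((j * b * i * z) * (i * a * j)) := by
      unfold IsIdempotentElem
      calc (j * b * i * z) * (i * a * j) * ((j * b * i * z) * (i * a * j))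
          = (j * b * i * z) * ((i * a * j) * (j * b * i * z)) * (i * a * j) := by noncomm_ring
        _ = _ := by rw [e1, mul_assoc, e2]
    rcases hj.prim _ trivial hid (by rw [mul_assoc, mul_assoc (i * a), hjj])
      (by simp only [← mul_assoc]; rw [hjj]) with h0 | h0
    · exfalso
      apply hi.ne_zero
      calc i = i * i := hii.symm
        _ = (i * a * j) * ((j * b * i * z) * (i * a * j)) * (j * b * i * z) := by
          conv_lhs => rw [← e1]
          noncomm_ring
        _ = 0 := by rw [h0, mul_zero, zero_mul]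
    · exact h0

/-- the trace form of the simple module attached to a primitive idempotent -/
theorem IsPrimIn.exists_trace [IsAlgClosed k] {i : A} (hi : IsPrimIn (⊤ : Subalgebra k A) i) :
    ∃ τ : A →ₗ[k] k, (∀ a b, τ (a * b) = τ (b * a)) ∧ τ i = 1 ∧
      ∀ j, IsPrimIn (⊤ : Subalgebra k A) j → ¬ Eqv i j → τ j = 0 := by
  have hii := hi.mul_self
  have hI := hi.isIdealIn_rad
  let I : Submodule k A :=
    { carrier := {x | ∀ s t, IsNilpotent (i * (s * x * t) * i)}
      add_mem' := fun {a b} ha hb s t =>
        (hI.add_mem a ⟨trivial, fun s _ t _ => ha s t⟩ b ⟨trivial, fun s _ t _ => hb s t⟩).2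
          s trivial t trivial
      zero_mem' := fun s t => by simp
      smul_mem' := fun c a ha s t => by
        have := ha (c • s) t
        simpa only [smul_mul_assoc, mul_smul_comm] using this }
  have hmem : ∀ {x}, x ∈ I ↔ ∀ s t, IsNilpotent (i * (s * x * t) * i) := Iff.rfl
  have hL : ∀ a b : A, I ≤ I.comap (LinearMap.mulLeft k a ∘ₗ LinearMap.mulRight k b) := by
    intro a b x hx
    refine hmem.2 fun s t => ?_
    have := hmem.1 hx (s * a) (b * t)
    simpa only [LinearMap.comp_apply, LinearMap.mulLeft_apply, LinearMap.mulRight_apply,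
      mul_assoc] using this
  let T : A → (A ⧸ I) →ₗ[k] (A ⧸ I) := fun a => I.mapQ I _ (hL a i)
  have hT : ∀ a x, T a (I.mkQ x) = I.mkQ (a * (x * i)) := fun a x => rfl
  have hTm : ∀ a b, T (a * b) = T a * T b := by
    intro a b
    apply Submodule.linearMap_qext
    ext x
    change T (a * b) (I.mkQ x) = T a (T b (I.mkQ x))
    rw [hT, hT, hT, mul_assoc b, mul_assoc x, hii, mul_assoc]
  let TL : A →ₗ[k] (A ⧸ I) →ₗ[k] (A ⧸ I) :=
    { toFun := T
      map_add' := fun a b => by
        apply Submodule.linearMap_qext
        ext x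
        change T (a + b) (I.mkQ x) = T a (I.mkQ x) + T b (I.mkQ x)
        rw [hT, hT, hT, add_mul, map_add]
      map_smul' := fun c a => by
        apply Submodule.linearMap_qext
        ext x
        change T (c • a) (I.mkQ x) = c • T a (I.mkQ x)
        rw [hT, hT, smul_mul_assoc, map_smul] }
  refine ⟨LinearMap.trace k _ ∘ₗ TL, fun a b => ?_, ?_, fun j hj hne => ?_⟩
  · change LinearMap.trace k _ (T (a * b)) = LinearMap.trace k _ (T (b * a))
    rw [hTm, hTm, LinearMap.trace_mul_comm]
  · change LinearMap.trace k _ (T i) = 1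
    have h0 : I.mkQ i ≠ 0 := by
      intro h
      have := hmem.1 ((Submodule.Quotient.mk_eq_zero I).1 h) 1 1
      simp only [one_mul, mul_one, hii] at this
      exact hi.not_isNilpotent this
    have hp : LinearMap.IsProj (k ∙ I.mkQ i) (T i) := by
      constructor
      · intro x
        obtain ⟨x, rfl⟩ := I.mkQ_surjective x
        rw [hT]
        obtain ⟨c, hc⟩ := hi.exists_scalar (x := i * (x * i)) trivial
          (by rw [← mul_assoc, hii]) (by rw [mul_assoc, mul_assoc, hii])
        rw [Submodule.mem_span_singleton]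
        refine ⟨c, ?_⟩
        rw [← map_smul, eq_comm, ← sub_eq_zero, ← map_sub]
        refine (Submodule.Quotient.mk_eq_zero I).2 (hmem.2 fun s t => ?_)
        exact hi.isNilpotent_mul_mul trivial
          (by rw [mul_sub, ← mul_assoc, hii, mul_smul_comm, hii])
          (by rw [sub_mul, mul_assoc, mul_assoc, hii, smul_mul_assoc, hii]) hc trivial trivial
      · intro x hx
        obtain ⟨c, rfl⟩ := Submodule.mem_span_singleton.1 hx
        rw [map_smul, hT, hii, hii]
    rw [hp.trace, finrank_span_singleton h0, Nat.cast_one]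
  · change LinearMap.trace k _ (T j) = 0
    have : T j = 0 := by
      apply Submodule.linearMap_qext
      ext x
      change T j (I.mkQ x) = 0
      rw [hT]
      refine (Submodule.Quotient.mk_eq_zero I).2 (hmem.2 fun s t => ?_)
      by_contra hn
      apply hne
      refine hi.eqv_of_not_isNilpotent hj (a := s) (b := x * i * t) ?_
      simpa only [mul_assoc] using hn
    rw [this, map_zero]

/-- inequivalent primitive idempotents have dual trace forms -/
theorem exists_dual_forms [IsAlgClosed k] {ι : Type*} [DecidableEq ι] (i : ι → A)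
    (hi : ∀ j, IsPrimIn (⊤ : Subalgebra k A) (i j)) (h : ∀ j l, Eqv (i j) (i l) → j = l) :
    ∃ τ : ι → A →ₗ[k] k, (∀ j a b, τ j (a * b) = τ j (b * a)) ∧
      ∀ j l, τ j (i l) = if j = l then 1 else 0 := by
  choose τ h1 h2 h3 using fun j => (hi j).exists_trace
  refine ⟨τ, h1, fun j l => ?_⟩
  split_ifs with hjl
  · subst hjl; exact h2 j
  · exact h3 j _ (hi l) fun he => hjl (h j l he)

theorem finite_of_not_eqv [IsAlgClosed k] {ι : Type*} (i : ι → A)
    (hi : ∀ j, IsPrimIn (⊤ : Subalgebra k A) (i j)) (h : ∀ j l, Eqv (i j) (i l) → j = l) :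
    Finite ι := by
  classical
  obtain ⟨τ, -, h2⟩ := exists_dual_forms i hi h
  have : LinearIndependent k i := by
    rw [linearIndependent_iff']
    intro s g hg j hj
    have := congrArg (τ j) hg
    rw [map_sum, map_zero, Finset.sum_eq_single j] at this
    · simpa [h2] using this
    · intro l _ hl
      rw [map_smul, h2, if_neg (Ne.symm hl), smul_zero]
    · exact fun h => absurd hj h
  exact this.finite

/-- if all primitive idempotents below the central idempotent `e` are equivalent to `i`, then
`e` lies in the two-sided ideal generated by `i` -/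
theorem exists_sum_eq_of_eqv {e i : A} (he : IsIdempotentElem e) (hc : ∀ a, e * a = a * e)
    (hi : IsIdempotentElem i)
    (h : ∀ j, IsPrimIn (⊤ : Subalgebra k A) j → e * j = j → Eqv j i) :
    ∃ (n : ℕ) (a b : Fin n → A), e = ∑ t, a t * i * b t := by
  have key : ∀ ε : A, IsIdempotentElem ε → e * ε ∈ Submodule.span k {z | ∃ a b, z = a * i * b} := by
    intro ε hε
    refine idem_induction (⊤ : Subalgebra k A)
      (P := fun ε => e * ε ∈ Submodule.span k {z | ∃ a b, z = a * i * b}) (by simp) ?_ ?_
      trivial hε
    · intro j hj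
      rcases hj.mul_eq_or (f := e) trivial he (hc j) with h0 | h0
      · rw [h0]; exact Submodule.zero_mem _
      · obtain ⟨x, y, h1, h2⟩ := h j hj h0
        rw [h0]
        refine Submodule.subset_span ⟨x, y, ?_⟩
        rw [← h2, ← hj.mul_self, ← h1]
        noncomm_ring
    · intro a _ b _ _ _ _ _ ha hb
      rw [mul_add]
      exact Submodule.add_mem _ ha hb
  have h1 := key 1 IsIdempotentElem.one
  rw [mul_one] at h1
  obtain ⟨n, c, g, hg⟩ := Submodule.mem_span_set'.1 h1
  choose a b hab using fun t => (g t).2
  refine ⟨n, fun t => c t • a t, b, ?_⟩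
  rw [← hg]
  refine Finset.sum_congr rfl fun t _ => ?_
  rw [hab t, smul_mul_assoc, smul_mul_assoc]

end Cfsg.Agent.H7
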