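import Cfsg.Agent.H7.Pim

/-!
Dimensions under reduction: corners of the modular group algebra, centres of blocks.
-/

set_option linter.style.haveILetI false

namespace Cfsg.Agent.H7

open MonoidAlgebra Cfsg Cfsg.Agent.H3 Cfsg.Agent.H4 Module
open Cfsg.Agent.H6 (Res locRing redC redA eB fB intAlg classSum omega chiL red blocks liftA liftC)
open Cfsg.Agent.H8 (bspan bfin pRegL lat)
open scoped Pointwise ComplexConjugate

theorem finrank_range_add_of_idem {k V : Type*} [Field k] [AddCommGroup V] [Module k V]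
    [FiniteDimensional k V] {T : End k V} (hT : IsIdempotentElem T) :
    finrank k (LinearMap.range T) + finrank k (LinearMap.range (1 - T)) = finrank k V := by
  rw [← LinearMap.finrank_range_add_finrank_ker T, LinearMap.IsIdempotentElem.ker_eq_range_one_sub hT]

/-- the operator `x ↦ a * x * b` -/
noncomputable def mulLR (k : Type*) {A : Type*} [CommRing k] [Ring A] [Algebra k A] (a b : A) :
    End k A := LinearMap.mulLeft k a ∘ₗ LinearMap.mulRight k b

theorem mulLR_apply {k A : Type*} [CommRing k] [Ring A] [Algebra k A] (a b x : A) :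
    mulLR k a b x = a * (x * b) := rfl

theorem mulLR_idem {k A : Type*} [CommRing k] [Ring A] [Algebra k A] {a b : A}
    (ha : IsIdempotentElem a) (hb : IsIdempotentElem b) : IsIdempotentElem (mulLR k a b) := by
  refine LinearMap.ext fun x => ?_
  change a * (a * (x * b) * b) = a * (x * b)
  rw [mul_assoc a, mul_assoc x, hb.eq, ← mul_assoc, ha.eq]

theorem mem_range_mulLR {k A : Type*} [CommRing k] [Ring A] [Algebra k A] {a b x : A}
    (ha : IsIdempotentElem a) (hb : IsIdempotentElem b) :
    x ∈ LinearMap.range (mulLR k a b) ↔ a * x = x ∧ x * b = x := by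
  constructor
  · rintro ⟨y, rfl⟩
    rw [mulLR_apply, ← mul_assoc, ha.eq, mul_assoc, mul_assoc, hb.eq]
    exact ⟨rfl, rfl⟩
  · rintro ⟨h1, h2⟩
    exact ⟨x, by rw [mulLR_apply, h2, h1]⟩

variable {M : Ideal AlgInt} [hMm : M.IsMaximal] {G : Type*} [Group G] [Fintype G]

theorem linearIndependent_of_redA {ι : Type*} [Fintype ι] {w : ι → ℂ[G]}
    (hw : ∀ i, w i ∈ intAlg M G) (h : LinearIndependent (Res M) fun i => redA M (w i)) :
    LinearIndependent ℂ w := by
  classical
  have hτ : ∀ j, ∃ τ : (Res M)[G] →ₗ[Res M] Res M,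
      ∀ i, τ (redA M (w i)) = if j = i then 1 else 0 := by
    intro j
    obtain ⟨τ, hτ⟩ := LinearMap.exists_extend ((Basis.span h).coord j)
    refine ⟨τ, fun i => ?_⟩
    have := LinearMap.congr_fun hτ (Basis.span h i)
    rw [LinearMap.comp_apply, Submodule.subtype_apply, Basis.coord_apply,
      Basis.repr_self, Finsupp.single_apply, Basis.span_apply] at this
    rw [this]
    simp only [eq_comm]
  choose τ hτ using hτ
  let t : ι → G → ℂ := fun i g => liftC (τ i (single g 1))
  let X : Matrix ι ι ℂ := fun j i => chiL (t j) (w i)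
  have hX : X.det ≠ 0 := by
    have := H6.det_one_add_ne_zero (M := M) (X - 1) fun j i => by
      have h3 := H6.redC_chiL (f := t j) (fun g => H6.liftC_mem _) (τ j)
        (fun g => H6.redC_liftC _) (hw i)
      have h4 : (1 : Matrix ι ι ℂ) j i ∈ locRing M := by
        rw [Matrix.one_apply]; split_ifs; exacts [one_mem _, zero_mem _]
      rw [Matrix.sub_apply, H6.memLocalIdeal_sub_iff h3.1 h4, h3.2, hτ, Matrix.one_apply]
      split_ifs <;> simp
    rwa [add_sub_cancel] at this
  rw [Fintype.linearIndependent_iff]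
  intro c hc
  have : X.mulVec c = 0 := by
    ext j
    have := congrArg (chiL (t j)) hc
    rw [map_sum, map_zero] at this
    simpa [Matrix.mulVec, dotProduct, X, mul_comm] using this
  exact fun i => congrFun (Matrix.eq_zero_of_mulVec_eq_zero hX this) i

theorem finrank_le_of_lift (V : Submodule (Res M) (Res M)[G]) (W : Submodule ℂ ℂ[G])
    (h : ∀ v ∈ V, ∃ w ∈ W, w ∈ intAlg M G ∧ redA M w = v) : finrank (Res M) V ≤ finrank ℂ W := by
  let b := Module.finBasis (Res M) V
  choose w h1 h2 h3 using fun i => h (b i) (b i).2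
  have h4 : LinearIndependent (Res M) (V.subtype ∘ b) :=
    b.linearIndependent.map' V.subtype V.ker_subtype
  have h5 : (fun i => redA M (w i)) = V.subtype ∘ b := funext h3
  have hl : LinearIndependent ℂ w := linearIndependent_of_redA h2 (h5 ▸ h4)
  let w' : Fin (finrank (Res M) V) → W := fun i => ⟨w i, h1 i⟩
  have h6 : LinearIndependent ℂ w' := LinearIndependent.of_comp W.subtype hl
  have := h6.fintype_card_le_finrank
  rwa [Fintype.card_fin] at this

theorem finrank_range_eq_of_red {T : End ℂ ℂ[G]} {T' : End (Res M) (Res M)[G]}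
    (hT : IsIdempotentElem T) (hT' : IsIdempotentElem T')
    (h : ∀ a ∈ intAlg M G, T a ∈ intAlg M G ∧ redA M (T a) = T' (redA M a)) :
    finrank (Res M) (LinearMap.range T') = finrank ℂ (LinearMap.range T) := by
  have h1 := finrank_le_of_lift (LinearMap.range T') (LinearMap.range T) (by
    rintro _ ⟨a, rfl⟩
    obtain ⟨h1, h2⟩ := h _ (H6.liftA_mem a)
    exact ⟨_, ⟨_, rfl⟩, h1, by rw [h2, H6.redA_liftA]⟩)
  have h2 := finrank_le_of_lift (LinearMap.range (1 - T')) (LinearMap.range (1 - T)) (by
    rintro _ ⟨a, rfl⟩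
    obtain ⟨h1, h2⟩ := h _ (H6.liftA_mem a)
    refine ⟨_, ⟨liftA a, rfl⟩, sub_mem (H6.liftA_mem a) h1, ?_⟩
    change redA M (liftA a - T (liftA a)) = a - T' a
    rw [H6.redA_sub (H6.liftA_mem a) h1, h2, H6.redA_liftA])
  have h3 := finrank_range_add_of_idem hT
  have h4 := finrank_range_add_of_idem hT'
  rw [finrank_eq_card_basis (MonoidAlgebra.basis G _)] at h3 h4
  omega

theorem trace_mulLR (a b : ℂ[G]) : LinearMap.trace ℂ _ (mulLR ℂ a b) =
    ∑ χ : IrrCharacter G, chiL (χ : G → ℂ) a * chiL (χ : G → ℂ) b := by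
  classical
  have key : ∀ x y : G, LinearMap.trace ℂ _ (mulLR ℂ (single x (1 : ℂ)) (single y 1)) =
      ∑ χ : IrrCharacter G, (χ : G → ℂ) x * (χ : G → ℂ) y := by
    intro x y
    have := sum_irr_mul_conj x y⁻¹
    simp only [← H8.irr_inv, inv_inv] at this
    rw [this, H6.trace_eq_sum_coeff, natCard_subtype_eq_sum]
    refine Finset.sum_congr rfl fun g _ => ?_
    rw [mulLR_apply, single_mul_single, single_mul_single, H6.coeff_single', mul_one, mul_one]
    congr 1
    apply propext
    constructor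
    · intro h
      rw [mul_inv_eq_iff_eq_mul, mul_inv_eq_iff_eq_mul, mul_assoc, h]
    · intro h
      rw [← h]; group
  have e : mulLR ℂ a b = ∑ x, ∑ y, (a.coeff x * b.coeff y) •
      mulLR ℂ (single x (1 : ℂ) : ℂ[G]) (single y 1) := by
    refine LinearMap.ext fun z => ?_
    conv_lhs => rw [mulLR_apply, H6.eq_sum_smul_single a, H6.eq_sum_smul_single b]
    simp only [LinearMap.sum_apply, LinearMap.smul_apply, mulLR_apply, Finset.sum_mul,
      Finset.mul_sum, smul_mul_assoc, mul_smul_comm, smul_smul, Finset.smul_sum]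
    rw [Finset.sum_comm]
    simp only [mul_comm]
  rw [e]
  simp only [map_sum, map_smul, key, H6.chiL_apply, Finset.sum_mul_sum, smul_eq_mul,
    Finset.mul_sum]
  rw [Finset.sum_comm]
  conv_rhs => rw [Finset.sum_comm]
  refine Finset.sum_congr rfl fun y _ => ?_
  rw [Finset.sum_comm]
  refine Finset.sum_congr rfl fun χ _ => ?_
  rw [Finset.sum_mul]
  exact Finset.sum_congr rfl fun x _ => by ring

theorem finrank_mulLR_complex {x y : ℂ[G]} (hx : IsIdempotentElem x) (hy : IsIdempotentElem y) :
    (finrank ℂ (LinearMap.range (mulLR ℂ x y)) : ℂ) =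
      ∑ χ : IrrCharacter G, chiL (χ : G → ℂ) x * chiL (χ : G → ℂ) y := by
  rw [← trace_mulLR, H8.trace_of_idem _ (mulLR_idem hx hy)]

/-- the dimension of a corner of the modular group algebra -/
theorem finrank_mulLR {i j : (Res M)[G]} (hi : IsIdempotentElem i) (hj : IsIdempotentElem j) :
    finrank (Res M) (LinearMap.range (mulLR (Res M) i j)) =
      ∑ χ : IrrCharacter G, dnat M χ i * dnat M χ j := by
  obtain ⟨x, x1, x2, rfl⟩ := exists_lift hi
  obtain ⟨y, y1, y2, rfl⟩ := exists_lift hj
  rw [finrank_range_eq_of_red (mulLR_idem x2 y2) (mulLR_idem hi hj) fun a ha =>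
    ⟨mul_mem x1 (mul_mem ha y1), by
      rw [mulLR_apply, mulLR_apply, H6.redA_mul x1 (mul_mem ha y1), H6.redA_mul ha y1]⟩]
  have := finrank_mulLR_complex x2 y2
  simp only [← dn_redA (Subtype.property _ : IsIrrCharacter G _).isClassFunction x1 x2,
    ← dn_redA (Subtype.property _ : IsIrrCharacter G _).isClassFunction y1 y2, ← dnat_cast] at this
  exact_mod_cast this

variable {B : Set (IrrCharacter G)} (hB : IsPBlock M B)
include hB

theorem finrank_mulLR_of_mem {i j : (Res M)[G]} (hi : IsIdempotentElem i)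
    (hj : IsIdempotentElem j) (h : eB M B * i = i) :
    finrank (Res M) (LinearMap.range (mulLR (Res M) i j)) =
      ∑ χ ∈ bfin B, dnat M χ i * dnat M χ j := by
  rw [finrank_mulLR hi hj]
  exact H8.sum_eq_sum_bfin B _ fun χ hχ => by rw [dnat_eq_zero hB hi h hχ, zero_mul]

theorem dnat_eB {χ : IrrCharacter G} (hχ : χ ∈ B) :
    dnat M χ (eB M B) = charDegree (χ : G → ℂ) := by
  have := dn_of_mem_bspan hB (H8.mem_bspan_of_mem hχ) IsIdempotentElem.one
  rw [mul_one, dn_one χ.2.isClassFunction, ← dnat_cast, ← H8.irr_coe_charDegree] at this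
  exact_mod_cast this

/-- the dimension of a block algebra -/
theorem finrank_block : finrank (Res M) (LinearMap.range (LinearMap.mulRight (Res M) (eB M B))) =
    ∑ χ ∈ bfin B, charDegree (χ : G → ℂ) ^ 2 := by
  have he : IsIdempotentElem (eB M B) := H6.eB_mul_self hB
  have : LinearMap.mulRight (Res M) (eB M B) = mulLR (Res M) (eB M B) (eB M B) := by
    refine LinearMap.ext fun x => ?_
    rw [mulLR_apply, LinearMap.mulRight_apply, H6.center_comm (H6.eB_mem_center B), mul_assoc,
      he.eq]
  rw [this, finrank_mulLR_of_mem hB he he he]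
  exact Finset.sum_congr rfl fun χ hχ => by rw [dnat_eB hB (H8.mem_bfin.1 hχ), sq]

/-- the dimension of the centre of a block algebra is at most the number of characters -/
theorem finrank_le_card_of_center (V : Submodule (Res M) (Res M)[G])
    (hV : ∀ v ∈ V, v ∈ Subalgebra.center (Res M) (Res M)[G] ∧ eB M B * v = v) :
    finrank (Res M) V ≤ Nat.card B := by
  classical
  haveI := Fintype.ofFinite B
  refine (finrank_le_of_lift V (Submodule.span ℂ (Set.range fun χ : B => fB {χ.1})) ?_).trans ?_
  · intro v hv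
    obtain ⟨w, h1, h2, h3⟩ := H6.exists_lift_center (hV v hv).1
    have hf := H6.fB_mem_intAlg hB
    refine ⟨fB B * w, ?_, mul_mem hf h2, by rw [H6.redA_mul hf h2, redA_fB, h3, (hV v hv).2]⟩
    rw [H6.center_eq_sum_fB (mul_mem (H6.fB_mem_center B) h1)]
    refine Submodule.sum_mem _ fun χ _ => ?_
    by_cases hχ : χ ∈ B
    · exact Submodule.smul_mem _ _ (Submodule.subset_span ⟨⟨χ, hχ⟩, rfl⟩)
    · rw [H6.omega_center_mul χ.2 (H6.fB_mem_center B), H6.omega_fB_of_not_mem hχ, zero_mul,
        zero_smul]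
      exact zero_mem _
  · rw [Nat.card_eq_fintype_card]
    exact finrank_range_le_card _

/-- lifting a generating relation of the block idempotent -/
theorem exists_fB_eq_sum {x : ℂ[G]} (hx : x ∈ intAlg M G) {n : ℕ} {a b : Fin n → (Res M)[G]}
    (h : eB M B = ∑ t, a t * redA M x * b t) : ∃ a' b' : Fin n → ℂ[G], (∀ t, a' t ∈ intAlg M G) ∧
      (∀ t, b' t ∈ intAlg M G) ∧ fB B = ∑ t, a' t * x * b' t := by
  have hf := H6.fB_mem_intAlg hB
  have hc := H6.center_comm (H6.fB_mem_center B)
  have hm : ∀ t, liftA (a t) * x * liftA (b t) ∈ intAlg M G := fun t =>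
    mul_mem (mul_mem (H6.liftA_mem _) hx) (H6.liftA_mem _)
  have hs : ∑ t, liftA (a t) * x * liftA (b t) ∈ intAlg M G := sum_mem fun t _ => hm t
  set u := ∑ t, liftA (a t) * x * liftA (b t) with hu
  have hr : redA M u = eB M B := by
    rw [hu, H6.redA_sum _ fun t _ => hm t, h]
    refine Finset.sum_congr rfl fun t _ => ?_
    rw [H6.redA_mul (mul_mem (H6.liftA_mem _) hx) (H6.liftA_mem _),
      H6.redA_mul (H6.liftA_mem _) hx, H6.redA_liftA, H6.redA_liftA]
  have hz := mul_mem hs hf
  obtain ⟨g, hg, i1, -⟩ := exists_poly_idem hz hz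
  have e1 := aeval_eq_of_redA hf (H6.fB_mul_self B) hz
    (by rw [hc, mul_assoc, H6.fB_mul_self]) (by rw [mul_assoc, H6.fB_mul_self])
    (by rw [H6.redA_mul hs hf, hr, redA_fB, H6.eB_mul_self hB]) hg i1
  obtain ⟨h', hh⟩ := exists_aeval_eq_mul (A := ℂ[G]) hg
  refine ⟨fun t => liftA (a t), fun t => liftA (b t) * (fB B * Polynomial.aeval (u * fB B) h'),
    fun t => H6.liftA_mem _, fun t => mul_mem (H6.liftA_mem _)
      (mul_mem hf (aeval_mem_intAlg hz h')), ?_⟩
  have e2 := e1.symm.trans (hh _).1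
  generalize Polynomial.aeval (u * fB B) h' = z at e2 ⊢
  conv_lhs => rw [e2, mul_assoc, hu, Finset.sum_mul]
  exact Finset.sum_congr rfl fun t _ => by simp only [mul_assoc]

end Cfsg.Agent.H7
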