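import Cfsg.Agent.H7.Pim0

/-!
Symmetric local algebras: Külshammer's lemma (a centre of dimension at most four forces
commutativity), and corner algebras.
-/

set_option linter.style.haveILetI false

namespace Cfsg.Agent.H7

open Module

variable {k R : Type*} [Field k] [Ring R] [Algebra k R]

theorem exists_pow_eq_bot [FiniteDimensional k R] (J : Submodule k R)
    (hl : ∀ a, ∀ x ∈ J, a * x ∈ J) (hn : ∀ x ∈ J, IsNilpotent x) : ∃ N, J ^ N = ⊥ := by
  haveI := IsArtinianRing.of_finite k R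
  obtain ⟨N, hN⟩ := IsSemiprimaryRing.isNilpotent (R := R)
  have h1 : ∀ x ∈ J, x ∈ Ring.jacobson R := by
    intro x hx
    rw [← Ideal.jacobson_bot, Ideal.mem_jacobson_iff]
    intro y
    obtain ⟨u, hu⟩ := (hn _ (hl y x hx)).isUnit_add_one
    refine ⟨↑u⁻¹, ?_⟩
    rw [Ideal.mem_bot, sub_eq_zero, mul_assoc, ← mul_add_one, ← hu, Units.inv_mul]
  have h2 : ∀ n, ∀ x ∈ J ^ n, x ∈ Ring.jacobson R ^ n := by
    intro n
    induction n with
    | zero => intro x _; rw [Submodule.pow_zero, Ideal.one_eq_top]; trivial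
    | succ n ih =>
      intro x hx
      rw [pow_succ] at hx
      rw [Submodule.pow_succ]
      exact Submodule.mul_induction_on hx (fun a ha b hb => Ideal.mul_mem_mul (ih a ha) (h1 b hb))
        fun a b => add_mem
  exact ⟨N, eq_bot_iff.2 fun x hx => by simpa [hN] using h2 N x hx⟩

/-- `J` is the radical of the split local algebra `R` -/
structure LocI (J : Submodule k R) : Prop where
  split : ∀ x, ∃ c : k, x - algebraMap k R c ∈ J
  left : ∀ a, ∀ x ∈ J, a * x ∈ J
  right : ∀ a, ∀ x ∈ J, x * a ∈ J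
  nil : ∃ N, J ^ N = ⊥

namespace LocI

variable {J : Submodule k R} (h : LocI J)
include h

theorem top_mul_pow (n : ℕ) : ⊤ * J ^ (n + 1) ≤ J ^ (n + 1) := by
  rw [pow_succ', ← mul_assoc]
  exact mul_le_mul_left (Submodule.mul_le.2 fun a _ x hx => h.left a x hx) _

theorem pow_mul_top (n : ℕ) : J ^ (n + 1) * ⊤ ≤ J ^ (n + 1) := by
  rw [pow_succ, mul_assoc]
  exact mul_le_mul_right (Submodule.mul_le.2 fun x hx a _ => h.right a x hx) _

theorem mul_mem_pow {n : ℕ} (a : R) {x : R} (hx : x ∈ J ^ (n + 1)) : a * x ∈ J ^ (n + 1) :=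
  h.top_mul_pow n (Submodule.mul_mem_mul trivial hx)

theorem mem_pow_mul {n : ℕ} {x : R} (hx : x ∈ J ^ (n + 1)) (a : R) : x * a ∈ J ^ (n + 1) :=
  h.pow_mul_top n (Submodule.mul_mem_mul hx trivial)

theorem pow_le {m n : ℕ} (hm : m ≠ 0) (hmn : m ≤ n) : J ^ n ≤ J ^ m := by
  obtain ⟨m, rfl⟩ := Nat.exists_eq_succ_of_ne_zero hm
  obtain ⟨d, rfl⟩ := Nat.exists_eq_add_of_le hmn
  rw [pow_add]
  exact (mul_le_mul_right le_top _).trans (h.pow_mul_top m)

theorem le_of_forall {U : Submodule k R} {m : ℕ}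
    (hU : ∀ n, J ^ (m + n) ≤ U ⊔ J ^ (m + n + 1)) : J ^ m ≤ U := by
  obtain ⟨N, hN⟩ := h.nil
  have : ∀ n, J ^ m ≤ U ⊔ J ^ (m + n) := by
    intro n
    induction n with
    | zero => exact le_sup_right
    | succ n ih => exact ih.trans (sup_le le_sup_left (hU n))
  have h2 := this N
  rwa [pow_add, hN, Submodule.mul_bot, sup_bot_eq] at h2

theorem pow_eq_bot {m : ℕ} (hm : J ^ m ≤ J ^ (m + 1)) : J ^ m = ⊥ := by
  refine eq_bot_iff.2 (h.le_of_forall fun n => ?_)
  rw [bot_sup_eq, pow_add, add_right_comm, pow_add]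
  exact mul_le_mul_left hm _

theorem adjoin_eq_top {s : Set R} (hs : s ⊆ J) (h1 : J ≤ Submodule.span k s ⊔ J ^ 2) :
    Algebra.adjoin k s = ⊤ := by
  set T := Subalgebra.toSubmodule (Algebra.adjoin k s)
  have key : ∀ n, J ^ (n + 1) ≤ T ⊓ J ^ (n + 1) ⊔ J ^ (n + 2) := by
    have h0 : J ≤ T ⊓ J ⊔ J ^ 2 := h1.trans (sup_le_sup_right (Submodule.span_le.2 fun x hx =>
      Submodule.mem_inf.2 ⟨Algebra.subset_adjoin hx, hs hx⟩) _)
    intro n
    induction n with
    | zero => simpa using h0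
    | succ n ih =>
      conv_lhs => rw [pow_succ]
      refine (mul_le_mul' ih h0).trans ?_
      rw [Submodule.sup_mul, Submodule.mul_sup]
      refine sup_le (sup_le (le_sup_of_le_left ?_) (le_sup_of_le_right ?_)) (le_sup_of_le_right ?_)
      · refine Submodule.mul_le.2 fun a ha b hb => ⟨mul_mem (S := Subalgebra k R) ha.1 hb.1, ?_⟩
        rw [pow_succ]
        exact Submodule.mul_mem_mul ha.2 hb.2
      · exact (mul_le_mul_left inf_le_right _).trans (pow_add J _ _).ge
      · refine (mul_le_mul_right (sup_le inf_le_right ?_) _).trans (pow_succ J _).ge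
        simpa using h.pow_le one_ne_zero one_le_two
  have h2 : J ^ 1 ≤ T := h.le_of_forall fun n => by
    rw [add_comm 1 n]
    exact (key n).trans (sup_le_sup_right inf_le_left _)
  rw [eq_top_iff]
  intro x _
  obtain ⟨c, hc⟩ := h.split x
  have : x - algebraMap k R c ∈ Algebra.adjoin k s := h2 (by simpa using hc)
  simpa using add_mem this (Subalgebra.algebraMap_mem _ c)

theorem comm_of_gen {a b : R} (ha : a ∈ J) (hb : b ∈ J) (h1 : J ≤ Submodule.span k {a, b} ⊔ J ^ 2)
    (hc : Commute a b) (x y : R) : x * y = y * x := by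
  have h2 := h.adjoin_eq_top (by rintro _ (rfl | rfl); exacts [ha, hb]) h1
  have h3 : IsCommSub (Algebra.adjoin k {a, b}) := by
    apply isCommSub_adjoin
    rintro a (rfl | rfl) b (rfl | rfl)
    exacts [Commute.refl _, hc, hc.symm, Commute.refl _]
  rw [h2] at h3
  exact h3 x trivial y trivial

theorem sq_le_top_mul {d : R} (hd : J ^ 2 ≤ Submodule.span k {d} ⊔ J ^ 3) :
    J ^ 2 ≤ ⊤ * Submodule.span k {d} := by
  refine h.le_of_forall fun n => ?_
  rw [add_comm 2 n, pow_add]
  refine (mul_le_mul_right hd _).trans ?_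
  rw [Submodule.mul_sup, ← pow_add]
  exact sup_le_sup_right (mul_le_mul_left le_top _) _

theorem sq_le_mul_top {d : R} (hd : J ^ 2 ≤ Submodule.span k {d} ⊔ J ^ 3) :
    J ^ 2 ≤ Submodule.span k {d} * ⊤ := by
  refine h.le_of_forall fun n => ?_
  rw [pow_add]
  refine (mul_le_mul_left hd _).trans ?_
  rw [Submodule.sup_mul, ← pow_add, show 3 + n = 2 + n + 1 by omega]
  exact sup_le_sup_right (mul_le_mul_right le_top _) _

theorem exists_comm_eq (x y : R) : ∃ x' ∈ J, ∃ y' ∈ J, x * y - y * x = x' * y' - y' * x' := by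
  obtain ⟨c, hc⟩ := h.split x
  obtain ⟨d, hd⟩ := h.split y
  refine ⟨_, hc, _, hd, ?_⟩
  simp only [Algebra.algebraMap_eq_smul_one, mul_sub, sub_mul, smul_mul_assoc, mul_smul_comm,
    one_mul, mul_one]
  module

end LocI

variable (k R) in
/-- the span of the commutators -/
def comK : Submodule k R := Submodule.span k {z | ∃ x y : R, x * y - y * x = z}

theorem comm_mem_comK (x y : R) : x * y - y * x ∈ comK k R := Submodule.subset_span ⟨x, y, rfl⟩

/-- a symmetrizing form -/
structure SymF (s : R →ₗ[k] k) : Prop where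
  symm : ∀ x y, s (x * y) = s (y * x)
  nd : ∀ x, (∀ y, s (y * x) = 0) → x = 0

/-- orthogonal complement for a linear form -/
def perp (s : R →ₗ[k] k) (U : Submodule k R) : Submodule k R :=
  LinearMap.BilinForm.orthogonal ((LinearMap.mul k R).compr₂ s) U

theorem mem_perp {s : R →ₗ[k] k} {U : Submodule k R} {x : R} :
    x ∈ perp s U ↔ ∀ u ∈ U, s (u * x) = 0 := Iff.rfl

theorem perp_anti (s : R →ₗ[k] k) {U V : Submodule k R} (h : U ≤ V) : perp s V ≤ perp s U :=
  fun _ hx u hu => hx u (h hu)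

namespace SymF

variable {s : R →ₗ[k] k} (S : SymF s)
include S

theorem nondeg : LinearMap.BilinForm.Nondegenerate ((LinearMap.mul k R).compr₂ s) :=
  ⟨fun x hx => S.nd x fun y => (S.symm y x).trans (hx y), fun x hx => S.nd x hx⟩

theorem finrank_perp [FiniteDimensional k R] (U : Submodule k R) :
    finrank k (perp s U) + finrank k U = finrank k R := by
  rw [perp, LinearMap.BilinForm.finrank_orthogonal S.nondeg]
  have := U.finrank_le
  omega

theorem perp_perp [FiniteDimensional k R] (U : Submodule k R) : perp s (perp s U) = U :=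
  LinearMap.BilinForm.orthogonal_orthogonal S.nondeg
    (fun x y h => (S.symm y x).trans h) U

theorem apply_eq_zero {x : R} (hx : x ∈ comK k R) : s x = 0 := by
  have : comK k R ≤ LinearMap.ker s := Submodule.span_le.2 (by
    rintro _ ⟨x, y, rfl⟩
    simp [S.symm x y])
  exact this hx

theorem perp_comK : perp s (comK k R) = Subalgebra.toSubmodule (Subalgebra.center k R) := by
  ext z
  rw [mem_perp, Subalgebra.mem_toSubmodule, Subalgebra.mem_center_iff]
  constructor
  · intro h x
    rw [← sub_eq_zero]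
    refine S.nd _ fun y => ?_
    rw [← h _ (comm_mem_comK y x), mul_sub, sub_mul, map_sub, map_sub, mul_assoc, ← mul_assoc y z,
      S.symm (y * z), mul_assoc]
  · intro h u hu
    have : comK k R ≤ LinearMap.ker (s ∘ₗ LinearMap.mulRight k z) := Submodule.span_le.2 (by
      rintro _ ⟨x, y, rfl⟩
      change s ((x * y - y * x) * z) = 0
      rw [sub_mul, map_sub, mul_assoc, S.symm x, mul_assoc, ← h x, mul_assoc, sub_self])
    exact this hu

theorem eq_bot_of_le_comK {U : Submodule k R} (hU : ∀ a, ∀ x ∈ U, a * x ∈ U)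
    (h : U ≤ comK k R) : U = ⊥ :=
  eq_bot_iff.2 fun x hx => S.nd x fun y => S.apply_eq_zero (h (hU y x hx))

end SymF

theorem LocI.comK_le {J : Submodule k R} (h : LocI J) : comK k R ≤ J ^ 2 := by
  refine Submodule.span_le.2 ?_
  rintro _ ⟨x, y, rfl⟩
  obtain ⟨x, hx, y, hy, e⟩ := h.exists_comm_eq x y
  rw [e, sq]
  exact sub_mem (Submodule.mul_mem_mul hx hy) (Submodule.mul_mem_mul hy hx)

theorem LocI.comK_le_of_gen {J : Submodule k R} (h : LocI J) {a b : R} (ha : a ∈ J) (hb : b ∈ J)
    (h1 : J ≤ Submodule.span k {a, b} ⊔ J ^ 2) :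
    comK k R ≤ Submodule.span k {a * b - b * a} ⊔ J ^ 3 := by
  refine Submodule.span_le.2 ?_
  rintro _ ⟨x, y, rfl⟩
  obtain ⟨x, hx, y, hy, e⟩ := h.exists_comm_eq x y
  rw [e]
  obtain ⟨_, h2, u, hu, rfl⟩ := Submodule.mem_sup.1 (h1 hx)
  obtain ⟨_, h3, v, hv, rfl⟩ := Submodule.mem_sup.1 (h1 hy)
  obtain ⟨α, β, rfl⟩ := Submodule.mem_span_pair.1 h2
  obtain ⟨γ, δ, rfl⟩ := Submodule.mem_span_pair.1 h3
  have l : ∀ {x y}, x ∈ J → y ∈ J ^ 2 → x * y ∈ J ^ 3 := fun hx hy => by
    rw [pow_succ']; exact Submodule.mul_mem_mul hx hy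
  have r : ∀ {x y}, x ∈ J ^ 2 → y ∈ J → x * y ∈ J ^ 3 := fun hx hy => by
    rw [pow_succ]; exact Submodule.mul_mem_mul hx hy
  have h4 : α • a + β • b ∈ J := add_mem (J.smul_mem _ ha) (J.smul_mem _ hb)
  refine Submodule.mem_sup.2 ⟨(α * δ - β * γ) • (a * b - b * a),
    Submodule.smul_mem _ _ (Submodule.mem_span_singleton_self _),
    (α • a + β • b) * v - v * (α • a + β • b) + (u * (γ • a + δ • b + v) - (γ • a + δ • b + v) * u),
    add_mem (sub_mem (l h4 hv) (r hv h4)) (sub_mem (r hu hy) (l hy hu)), ?_⟩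
  simp only [mul_add, add_mul, smul_mul_assoc, mul_smul_comm]
  module

theorem exists_pair_of_finrank_le {V : Type*} [AddCommGroup V] [Module k V]
    [FiniteDimensional k V] {U W : Submodule k V} (hle : U ≤ W)
    (h : finrank k W ≤ finrank k U + 2) :
    ∃ a ∈ W, ∃ b ∈ W, W ≤ Submodule.span k {a, b} ⊔ U := by
  have key : ∀ {U : Submodule k V}, U ≤ W → ∃ a ∈ W, W ≤ Submodule.span k {a} ⊔ U ∨
      finrank k U + 1 ≤ finrank k (Submodule.span k {a} ⊔ U : Submodule k V) := by
    intro U hU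
    by_cases hW : W ≤ U
    · exact ⟨0, zero_mem _, Or.inl (le_sup_of_le_right hW)⟩
    · obtain ⟨a, ha, ha'⟩ := SetLike.not_le_iff_exists.1 hW
      exact ⟨a, ha, Or.inr (Submodule.finrank_lt_finrank_of_lt (lt_of_le_of_ne le_sup_right
        fun e => ha' (e ▸ Submodule.mem_sup_left (Submodule.mem_span_singleton_self a))))⟩
  obtain ⟨b, hb, h1⟩ := key hle
  have h2 : Submodule.span k {b} ⊔ U ≤ W :=
    sup_le ((Submodule.span_singleton_le_iff_mem _ _).2 hb) hle
  obtain ⟨a, ha, h3⟩ := key h2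
  refine ⟨a, ha, b, hb, ?_⟩
  rw [Submodule.span_insert, sup_assoc]
  rcases h1 with h1 | h1
  · exact le_sup_of_le_right h1
  · rcases h3 with h3 | h3
    · exact h3
    · exact (Submodule.eq_of_le_of_finrank_le
        (sup_le ((Submodule.span_singleton_le_iff_mem _ _).2 ha) h2) (by omega)).ge

theorem LocI.finrank_le [FiniteDimensional k R] {J : Submodule k R} (h : LocI J) :
    finrank k R ≤ finrank k J + 1 := by
  have h1 : J ⊔ Submodule.span k {1} = ⊤ := eq_top_iff.2 fun x _ => by
    obtain ⟨c, hc⟩ := h.split x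
    exact Submodule.mem_sup.2 ⟨_, hc, algebraMap k R c, Submodule.mem_span_singleton.2
      ⟨c, (Algebra.algebraMap_eq_smul_one c).symm⟩, sub_add_cancel _ _⟩
  have h2 := Submodule.finrank_add_le_finrank_add_finrank J (Submodule.span k {(1 : R)})
  have h3 : finrank k (Submodule.span k {(1 : R)}) ≤ 1 := by
    simpa using finrank_span_le_card ({1} : Set R)
  rw [h1, finrank_top] at h2
  omega

theorem LocI.finrank_lt [FiniteDimensional k R] [Nontrivial R] {J : Submodule k R} (h : LocI J) :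
    finrank k J < finrank k R := by
  refine Submodule.finrank_lt fun e => ?_
  obtain ⟨N, hN⟩ := h.nil
  have : (1 : R) ^ N ∈ J ^ N := Submodule.pow_mem_pow _ (e ▸ trivial) N
  rw [hN, one_pow, Submodule.mem_bot] at this
  exact one_ne_zero this

/-- the end of Külshammer's argument -/
theorem LocI.comm_of_sq_mem [FiniteDimensional k R] {J : Submodule k R} (h : LocI J)
    {s : R →ₗ[k] k} (S : SymF s) {a b : R} (ha : a ∈ J) (hb : b ∈ J)
    (h1 : J ≤ Submodule.span k {a, b} ⊔ J ^ 2)
    (h2 : J ^ 2 ≤ Submodule.span k {a * b - b * a} ⊔ J ^ 3) (h3 : a * a ∈ J ^ 3) (x y : R) :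
    x * y = y * x := by
  have fin : ∀ y ∈ J ^ 2, a - y ∈ perp s (J ^ 2) → ∀ x y : R, x * y = y * x := by
    intro y hy hp
    have hz := perp_anti s h.comK_le hp
    rw [S.perp_comK] at hz
    have hyJ : y ∈ J := by simpa using h.pow_le one_ne_zero one_le_two hy
    refine h.comm_of_gen (sub_mem ha hyJ) hb (h1.trans (sup_le (Submodule.span_le.2 ?_)
      le_sup_right)) ((Subalgebra.mem_center_iff (R := k)).1 hz b).symm
    rintro _ (rfl | rfl)
    · exact Submodule.mem_sup.2 ⟨_, Submodule.subset_span (Or.inl rfl), y, hy, sub_add_cancel _ _⟩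
    · exact Submodule.mem_sup_left (Submodule.subset_span (Or.inr rfl))
  have hab : a * b ∈ J ^ 2 := by rw [sq]; exact Submodule.mul_mem_mul ha hb
  obtain ⟨_, h4, w, hw, e⟩ := Submodule.mem_sup.1 (h2 hab)
  obtain ⟨t, rfl⟩ := Submodule.mem_span_singleton.1 h4
  have gen : ∀ {d : R} {u : k}, u ≠ 0 → u • (a * b - b * a) + w = d →
      J ^ 2 ≤ Submodule.span k {d} ⊔ J ^ 3 := by
    intro d u hu e
    refine h2.trans (sup_le ((Submodule.span_singleton_le_iff_mem _ _).2 ?_) le_sup_right)
    refine Submodule.mem_sup.2 ⟨u⁻¹ • d, Submodule.smul_mem _ _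
      (Submodule.mem_span_singleton_self _), -(u⁻¹ • w), neg_mem (Submodule.smul_mem _ _ hw), ?_⟩
    rw [← e, smul_add, smul_smul, inv_mul_cancel₀ hu, one_smul, add_neg_cancel_right]
  by_cases ht : t = 0
  · have hd := gen (d := b * a) (u := -1) (by simp) (by
      rw [ht, zero_smul, zero_add] at e
      rw [e]; simp)
    have h5 : b * a * a ∈ J ^ 2 * J ^ 2 := by
      rw [← pow_add, mul_assoc, pow_succ']; exact Submodule.mul_mem_mul hb h3
    have h6 : J ^ 2 * J ^ 2 ≤ Submodule.span k {b * a} * J ^ 2 := by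
      refine (mul_le_mul_left (h.sq_le_mul_top hd) _).trans ?_
      rw [mul_assoc]
      exact mul_le_mul_right (h.top_mul_pow 1) _
    obtain ⟨z, hz, ez⟩ := Submodule.mem_span_singleton_mul.1 (h6 h5)
    refine fin z hz (mem_perp.2 fun u hu => ?_) x y
    obtain ⟨r, -, rfl⟩ := Submodule.mem_mul_span_singleton.1 (h.sq_le_top_mul hd hu)
    rw [mul_assoc, mul_sub, ez, sub_self, mul_zero, map_zero]
  · have hd := gen ht e
    have h5 : a * (a * b) ∈ J ^ 2 * J ^ 2 := by
      rw [← pow_add, ← mul_assoc, pow_succ]; exact Submodule.mul_mem_mul h3 hb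
    have h6 : J ^ 2 * J ^ 2 ≤ J ^ 2 * Submodule.span k {a * b} := by
      refine (mul_le_mul_right (h.sq_le_top_mul hd) _).trans ?_
      rw [← mul_assoc]
      exact mul_le_mul_left (h.pow_mul_top 1) _
    obtain ⟨z, hz, ez⟩ := Submodule.mem_mul_span_singleton.1 (h6 h5)
    refine fin z hz (mem_perp.2 fun u hu => ?_) x y
    obtain ⟨r, -, rfl⟩ := Submodule.mem_span_singleton_mul.1 (h.sq_le_mul_top hd hu)
    rw [S.symm, ← mul_assoc, sub_mul, ez, sub_self, zero_mul, map_zero]

theorem LocI.comm_of_sq_le [FiniteDimensional k R] [IsAlgClosed k] {J : Submodule k R}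
    (h : LocI J) {s : R →ₗ[k] k} (S : SymF s) {a b : R} (ha : a ∈ J) (hb : b ∈ J)
    (h1 : J ≤ Submodule.span k {a, b} ⊔ J ^ 2) (h2 : J ^ 2 ≤ comK k R ⊔ J ^ 3) (x y : R) :
    x * y = y * x := by
  have h3 : ∀ {a b : R}, a ∈ J → b ∈ J → J ≤ Submodule.span k {a, b} ⊔ J ^ 2 →
      J ^ 2 ≤ Submodule.span k {a * b - b * a} ⊔ J ^ 3 := fun ha hb h1 =>
    h2.trans (sup_le (h.comK_le_of_gen ha hb h1) le_sup_right)
  have h4 : ∀ {u v : R}, u ∈ J → v ∈ J → ∃ t : k, u * v - t • (a * b - b * a) ∈ J ^ 3 := by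
    intro u v hu hv
    obtain ⟨_, h4, w, hw, e⟩ := Submodule.mem_sup.1
      (h3 ha hb h1 (by rw [sq]; exact Submodule.mul_mem_mul hu hv))
    obtain ⟨t, rfl⟩ := Submodule.mem_span_singleton.1 h4
    exact ⟨t, by rw [← e, add_sub_cancel_left]; exact hw⟩
  obtain ⟨t₁, e₁⟩ := h4 ha ha
  obtain ⟨t₂, e₂⟩ := h4 ha hb
  obtain ⟨t₃, e₃⟩ := h4 hb ha
  obtain ⟨t₄, e₄⟩ := h4 hb hb
  by_cases ht : t₁ = 0
  · exact h.comm_of_sq_mem S ha hb h1 (h3 ha hb h1) (by simpa [ht] using e₁) x y
  · obtain ⟨α, hα⟩ := IsAlgClosed.exists_root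
      (Polynomial.C t₁ * Polynomial.X ^ 2 + Polynomial.C (t₂ + t₃) * Polynomial.X +
        Polynomial.C t₄) (by rw [Polynomial.degree_quadratic ht]; decide)
    have hα' : t₁ * α ^ 2 + (t₂ + t₃) * α + t₄ = 0 := by simpa using hα
    have h5 : α • a + b ∈ J := add_mem (J.smul_mem _ ha) hb
    have h6 : J ≤ Submodule.span k {α • a + b, a} ⊔ J ^ 2 := by
      refine h1.trans (sup_le_sup_right (Submodule.span_le.2 ?_) _)
      rintro _ (rfl | rfl)
      · exact Submodule.subset_span (Or.inr rfl)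
      · exact Submodule.mem_span_pair.2 ⟨1, -α, by module⟩
    refine h.comm_of_sq_mem S h5 ha h6 (h3 h5 ha h6) ?_ x y
    have := add_mem (add_mem (add_mem (Submodule.smul_mem _ (α ^ 2) e₁)
      (Submodule.smul_mem _ α e₂)) (Submodule.smul_mem _ α e₃)) e₄
    convert this using 1
    have e : (α • a + b) * (α • a + b) = (α • a + b) * (α • a + b) -
        (t₁ * α ^ 2 + (t₂ + t₃) * α + t₄) • (a * b - b * a) := by rw [hα', zero_smul, sub_zero]
    rw [e]
    simp only [mul_add, add_mul, smul_mul_assoc, mul_smul_comm]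
    module

theorem LocI.finrank_sq [FiniteDimensional k R] {J : Submodule k R} (h : LocI J)
    {s : R →ₗ[k] k} (S : SymF s) (h0 : J ^ 2 ≠ ⊥) :
    finrank k R < finrank k (J ^ 2 : Submodule k R) + finrank k (Subalgebra.center k R) := by
  have h1 := perp_anti s h.comK_le
  rw [S.perp_comK] at h1
  have h2 := Submodule.finrank_lt_finrank_of_lt (lt_of_le_of_ne h1 fun e => h0 ?_)
  · have h3 := S.finrank_perp (J ^ 2)
    change _ < finrank k (Subalgebra.center k R) at h2
    omega
  · have h4 : (1 : R) ∈ perp s (J ^ 2) := e ▸ (Subalgebra.center k R).one_mem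
    exact eq_bot_iff.2 fun x hx => S.nd x fun y => by
      simpa using h4 _ (h.mul_mem_pow y hx)

theorem LocI.cube_ne_bot {J : Submodule k R} (h : LocI J) {s : R →ₗ[k] k} (S : SymF s) {x y : R}
    (hxy : x * y ≠ y * x) : J ^ 3 ≠ ⊥ := by
  intro h3
  obtain ⟨u, hu, v, -, e⟩ := h.exists_comm_eq x y
  have h4 : u ∈ perp s (J ^ 2) := mem_perp.2 fun w hw => by
    have : w * u ∈ J ^ 3 := by rw [pow_succ]; exact Submodule.mul_mem_mul hw hu
    rw [h3, Submodule.mem_bot] at this
    rw [this, map_zero]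
  have h5 := perp_anti s h.comK_le h4
  rw [S.perp_comK] at h5
  apply hxy
  rw [← sub_eq_zero, e, (Subalgebra.mem_center_iff (R := k)).1 h5 v, sub_self]

/-- Külshammer's lemma -/
theorem LocI.comm_of_finrank_center_le [FiniteDimensional k R] [IsAlgClosed k]
    {J : Submodule k R} (h : LocI J) {s : R →ₗ[k] k} (S : SymF s)
    (hZ : finrank k (Subalgebra.center k R) ≤ 4) (x y : R) : x * y = y * x := by
  by_contra hxy
  haveI : Nontrivial R := ⟨_, _, hxy⟩
  have h3 := h.cube_ne_bot S hxy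
  have h23 : J ^ 3 ≤ J ^ 2 := h.pow_le two_ne_zero (by omega)
  have h2 : J ^ 2 ≠ ⊥ := fun e => h3 (eq_bot_iff.2 (e ▸ h23))
  have h12 : J ^ 2 ≤ J := by simpa using h.pow_le one_ne_zero one_le_two
  have d1 := h.finrank_sq S h2
  have d2 := h.finrank_lt
  obtain ⟨a, ha, b, hb, h1⟩ := exists_pair_of_finrank_le h12 (by omega)
  have d3 : finrank k (J ^ 2 : Submodule k R) + 3 ≤ finrank k R := by
    by_contra hlt
    have h4 : J ≤ Submodule.span k {a} ⊔ J ^ 2 ∨ J ≤ Submodule.span k {b} ⊔ J ^ 2 := by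
      by_contra hc
      push Not at hc
      have h5 : ∀ {a}, a ∈ J → ¬ J ≤ Submodule.span k {a} ⊔ J ^ 2 → a ∈ J ^ 2 := by
        intro a ha hn
        by_contra ha'
        apply hn
        have := Submodule.finrank_lt_finrank_of_lt (lt_of_le_of_ne
          (le_sup_right : J ^ 2 ≤ Submodule.span k {a} ⊔ J ^ 2)
          fun e => ha' (e ▸ Submodule.mem_sup_left (Submodule.mem_span_singleton_self a)))
        exact (Submodule.eq_of_le_of_finrank_le
          (sup_le ((Submodule.span_singleton_le_iff_mem _ _).2 ha) h12) (by omega)).ge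
      refine hc.1 (h1.trans (sup_le (le_sup_of_le_right (Submodule.span_le.2 ?_)) le_sup_right))
      rintro _ (rfl | rfl)
      exacts [h5 ha hc.1, h5 hb hc.2]
    rcases h4 with h4 | h4
    · exact hxy (h.comm_of_gen ha ha (by simpa using h4) (Commute.refl _) x y)
    · exact hxy (h.comm_of_gen hb hb (by simpa using h4) (Commute.refl _) x y)
  have d4 := S.finrank_perp (comK k R)
  rw [S.perp_comK] at d4
  change finrank k (Subalgebra.center k R) + _ = _ at d4
  have d5 := Submodule.finrank_lt_finrank_of_lt (lt_of_le_of_ne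
    (le_sup_left : comK k R ≤ comK k R ⊔ J ^ 3) fun e => h3 (S.eq_bot_of_le_comK
      (fun a x hx => h.mul_mem_pow a hx) (e ▸ le_sup_right)))
  exact hxy (h.comm_of_sq_le S ha hb h1 (Submodule.eq_of_le_of_finrank_le
    (sup_le h.comK_le h23) (by omega)).ge x y)

section corner
variable {A : Type*} [Ring A] [Algebra k A]

variable (k) in
/-- the corner of an element as a non-unital subalgebra -/
def corSub (i : A) : NonUnitalSubalgebra k A where
  carrier := {x | i * x = x ∧ x * i = x}
  add_mem' ha hb := ⟨by rw [mul_add, ha.1, hb.1], by rw [add_mul, ha.2, hb.2]⟩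
  zero_mem' := ⟨mul_zero _, zero_mul _⟩
  mul_mem' ha hb := ⟨by rw [← mul_assoc, ha.1], by rw [mul_assoc, hb.2]⟩
  smul_mem' c _ ha := ⟨by rw [mul_smul_comm, ha.1], by rw [smul_mul_assoc, ha.2]⟩

variable (k) in
/-- the corner algebra of an idempotent -/
@[nolint unusedArguments]
def Cor {i : A} (_ : IsIdempotentElem i) : Type _ := corSub k i

variable {i : A} (hi : IsIdempotentElem i)

instance : Ring (Cor k hi) where
  __ : NonUnitalRing (Cor k hi) := inferInstanceAs (NonUnitalRing (corSub k i))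
  one := ⟨i, hi, hi⟩
  one_mul x := Subtype.ext x.2.1
  mul_one x := Subtype.ext x.2.2

instance : Module k (Cor k hi) := inferInstanceAs (Module k (corSub k i))

instance : Algebra k (Cor k hi) :=
  Algebra.ofModule (fun c x y => Subtype.ext (smul_mul_assoc c x.1 y.1))
    fun c x y => Subtype.ext (mul_smul_comm c x.1 y.1)

/-- the inclusion of a corner algebra -/
def corVal : Cor k hi →ₗ[k] A where
  toFun x := x.1
  map_add' _ _ := rfl
  map_smul' _ _ := rfl

theorem corVal_injective : Function.Injective (corVal (k := k) hi) := Subtype.val_injective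

theorem corVal_mul (x y : Cor k hi) : corVal hi (x * y) = corVal hi x * corVal hi y := rfl

theorem corVal_one : corVal (k := k) hi 1 = i := rfl

theorem mul_corVal (x : Cor k hi) : i * corVal hi x = corVal hi x := x.2.1

theorem corVal_mul_self (x : Cor k hi) : corVal hi x * i = corVal hi x := x.2.2

theorem exists_corVal {x : A} (h1 : i * x = x) (h2 : x * i = x) :
    ∃ y : Cor k hi, corVal hi y = x := ⟨⟨x, h1, h2⟩, rfl⟩

instance [FiniteDimensional k A] : FiniteDimensional k (Cor k hi) :=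
  FiniteDimensional.of_injective _ (corVal_injective hi)

theorem isNilpotent_corVal {x : Cor k hi} : IsNilpotent (corVal hi x) ↔ IsNilpotent x := by
  have key : ∀ n, corVal hi (x ^ (n + 1)) = corVal hi x ^ (n + 1) := by
    intro n
    induction n with
    | zero => simp
    | succ n ih => rw [pow_succ, corVal_mul, ih, ← pow_succ]
  constructor
  · rintro ⟨n, hn⟩
    exact ⟨n + 1, corVal_injective hi (by rw [key, pow_succ, hn, zero_mul, map_zero])⟩
  · rintro ⟨n, hn⟩
    exact ⟨n + 1, by rw [← key, pow_succ, hn, zero_mul, map_zero]⟩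

theorem IsPrimIn.exists_locI [FiniteDimensional k A] [IsAlgClosed k]
    (h : IsPrimIn (⊤ : Subalgebra k A) i) : ∃ J : Submodule k (Cor k h.idem), LocI J := by
  have hI := h.isIdealIn_rad
  have key : ∀ {x : Cor k h.idem}, IsNilpotent x →
      ∀ s t, IsNilpotent (i * (s * corVal h.idem x * t) * i) := fun hx s t =>
    h.isNilpotent_mul_mul trivial (mul_corVal _ _) (corVal_mul_self _ _)
      ((isNilpotent_corVal _).2 hx) trivial trivial
  have hl : ∀ a x : Cor k h.idem, IsNilpotent x → IsNilpotent (a * x) := by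
    intro a x hx
    have := key hx (corVal _ a) 1
    rwa [mul_one, ← corVal_mul, mul_corVal, corVal_mul_self, isNilpotent_corVal] at this
  let J : Submodule k (Cor k h.idem) :=
    { carrier := {x | IsNilpotent x}
      add_mem' := fun {a b} ha hb => by
        have := (hI.add_mem _ ⟨trivial, fun s _ t _ => key ha s t⟩ _
          ⟨trivial, fun s _ t _ => key hb s t⟩).2 1 trivial 1 trivial
        rwa [one_mul, mul_one, ← map_add, mul_corVal, corVal_mul_self, isNilpotent_corVal] at this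
      zero_mem' := IsNilpotent.zero
      smul_mem' := fun c _ ha => IsNilpotent.smul ha c }
  refine ⟨J, fun x => ?_, hl, fun a x hx => ?_, exists_pow_eq_bot J hl fun x hx => hx⟩
  · obtain ⟨c, hc⟩ := h.exists_scalar (x := corVal _ x) trivial (mul_corVal _ _)
      (corVal_mul_self _ _)
    refine ⟨c, (isNilpotent_corVal _).1 ?_⟩
    rwa [map_sub, Algebra.algebraMap_eq_smul_one, map_smul, corVal_one]
  · have := key hx 1 (corVal _ a)
    rwa [one_mul, ← corVal_mul, mul_corVal, corVal_mul_self, isNilpotent_corVal] at this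

theorem SymF.cor {s : A →ₗ[k] k} (S : SymF s) : SymF (s ∘ₗ corVal hi) where
  symm x y := S.symm _ _
  nd x hx := by
    apply corVal_injective hi
    rw [map_zero]
    refine S.nd _ fun y => ?_
    obtain ⟨z, hz⟩ := exists_corVal (k := k) hi (x := i * y * i)
      (by rw [← mul_assoc, ← mul_assoc, hi.eq]) (by rw [mul_assoc, hi.eq])
    have := hx z
    rwa [LinearMap.comp_apply, corVal_mul, hz, mul_assoc, mul_corVal, mul_assoc, S.symm, mul_assoc,
      corVal_mul_self] at this

/-- the centre of a corner embeds in the centre of the block -/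
theorem exists_center_embed {e : A} (hc : ∀ a, e * a = a * e) (hei : e * i = i) {n : ℕ}
    {a b : Fin n → A} (hab : e = ∑ t, a t * i * b t) :
    ∃ φ : Subalgebra.center k (Cor k hi) →ₗ[k] A, Function.Injective φ ∧
      ∀ z, φ z ∈ Subalgebra.center k A ∧ e * φ z = φ z := by
  let φ : Subalgebra.center k (Cor k hi) →ₗ[k] A :=
    (∑ t, LinearMap.mulLeft k (a t) ∘ₗ LinearMap.mulRight k (b t)) ∘ₗ corVal hi ∘ₗ
      (Subalgebra.center k (Cor k hi)).val.toLinearMap
  have hφ : ∀ z : Subalgebra.center k (Cor k hi), φ z = ∑ t, a t * (corVal hi z.1 * b t) :=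
    fun z => by simp [φ]
  have hz : ∀ (z : Subalgebra.center k (Cor k hi)) y,
      corVal hi z.1 * y * i = i * y * corVal hi z.1 := by
    intro z y
    obtain ⟨w, hw⟩ := exists_corVal (k := k) hi (x := i * y * i)
      (by rw [← mul_assoc, ← mul_assoc, hi.eq]) (by rw [mul_assoc, hi.eq])
    have := congrArg (corVal hi) (Subalgebra.mem_center_iff.1 z.2 w)
    rw [corVal_mul, corVal_mul, hw, mul_assoc, mul_corVal, ← mul_assoc, ← mul_assoc,
      corVal_mul_self] at this
    exact this.symm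
  have he : ∀ z : Cor k hi, e * corVal hi z = corVal hi z := fun z => by
    rw [← mul_corVal, ← mul_assoc, hei]
  have he' : ∀ z, e * φ z = φ z := fun z => by
    rw [hφ, Finset.mul_sum]
    exact Finset.sum_congr rfl fun t _ => by
      rw [← mul_assoc, hc, mul_assoc, ← mul_assoc e, he]
  refine ⟨φ, fun z w hzw => ?_, fun z => ⟨Subalgebra.mem_center_iff.2 fun x => ?_, he' z⟩⟩
  · have key : ∀ z : Subalgebra.center k (Cor k hi), i * φ z = corVal hi z.1 := fun z => by
      rw [hφ, Finset.mul_sum]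
      conv_rhs => rw [← he, hc, hab, Finset.mul_sum]
      exact Finset.sum_congr rfl fun t _ => by
        rw [← mul_assoc, ← mul_assoc, ← hz]; simp only [mul_assoc]
    exact Subtype.ext (corVal_injective hi (by rw [← key, ← key, hzw]))
  · have e1 : x * φ z = e * x * φ z := by rw [hc, mul_assoc, he']
    have e2 : φ z * x = φ z * x * e := by rw [← hc, ← mul_assoc, he']
    rw [e1, e2, hab, hφ]
    simp only [Finset.sum_mul, Finset.mul_sum]
    refine Finset.sum_congr rfl fun u _ => Finset.sum_congr rfl fun t _ => ?_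
    calc _ = a t * (i * (b t * x * a u) * corVal hi z.1) * b u := by simp only [mul_assoc]
      _ = _ := by rw [← hz]; simp only [mul_assoc]

end corner

end Cfsg.Agent.H7
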