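import Cfsg.Agent.H7.EqDeg
import Cfsg.Agent.H7.SymLoc

/-!
Blocks with one irreducible Brauer character: the basic algebra.
-/

set_option linter.style.haveILetI false

namespace Cfsg.Agent.H7

open MonoidAlgebra Cfsg Cfsg.Agent.H3 Cfsg.Agent.H4 Module
open Cfsg.Agent.H6 (Res locRing redC redA eB fB intAlg classSum omega chiL red blocks liftA liftC)
open Cfsg.Agent.H8 (bspan bfin)

theorem symF_lcoeff (k : Type*) [Field k] (G : Type*) [Group G] :
    SymF (H6.lcoeff k (1 : G)) where
  symm x y := by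
    induction x using MonoidAlgebra.induction_linear with
    | zero => simp
    | add a b ha hb => simp only [add_mul, mul_add, map_add, ha, hb]
    | single g c =>
      simp only [H6.lcoeff_apply, coeff_single_mul_apply, coeff_mul_single_apply, mul_one, one_mul,
        mul_comm]
  nd x hx := by
    ext g
    simpa [coeff_single_mul_apply] using hx (single g⁻¹ 1)

variable {M : Ideal AlgInt} [hMm : M.IsMaximal] {G : Type*} [Group G] [Fintype G] {p : ℕ}
  {B : Set (IrrCharacter G)} (hB : IsPBlock M B)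
include hB

theorem finrank_cor (j : IBr M B) : finrank (Res M) (Cor (Res M) (pim_idem j)) =
    ∑ χ ∈ bfin B, dnat M χ (pim j) * dnat M χ (pim j) := by
  rw [← finrank_mulLR_of_mem hB (pim_idem j) (pim_idem j) (eB_mul_pim j),
    ← LinearMap.finrank_range_of_inj (corVal_injective (pim_idem j))]
  suffices h : LinearMap.range (corVal (pim_idem j)) =
      LinearMap.range (mulLR (Res M) (pim j) (pim j)) by rw [h]
  ext x
  rw [mem_range_mulLR (pim_idem j) (pim_idem j)]
  constructor
  · rintro ⟨y, rfl⟩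
    exact ⟨mul_corVal _ _, corVal_mul_self _ _⟩
  · exact fun h => exists_corVal _ h.1 h.2

theorem finrank_center_cor_le {j : IBr M B} (hj : ∀ l, l = j) :
    finrank (Res M) (Subalgebra.center (Res M) (Cor (Res M) (pim_idem j))) ≤ Nat.card B := by
  obtain ⟨n, a, b, hab⟩ := exists_eB_eq_sum hB hj
  obtain ⟨φ, hφ, h⟩ := exists_center_embed (k := Res M) (pim_idem j)
    (H6.center_comm (H6.eB_mem_center B)) (eB_mul_pim j) hab
  rw [← LinearMap.finrank_range_of_inj hφ]
  exact finrank_le_card_of_center hB _ (by rintro _ ⟨z, rfl⟩; exact h z)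

variable [Fact p.Prime] (hM : IsPModular p M)
include hM

theorem dnat_eq_one_of_comm {j : IBr M B} (hj : ∀ l, l = j)
    (h : ∀ x y : Cor (Res M) (pim_idem j), x * y = y * x) : ∀ χ ∈ B, dnat M χ (pim j) = 1 := by
  have h1 := finrank_center_cor_le hB hj
  have h2 : Subalgebra.center (Res M) (Cor (Res M) (pim_idem j)) = ⊤ :=
    eq_top_iff.2 fun x _ => Subalgebra.mem_center_iff.2 fun y => h y x
  rw [h2, (Subalgebra.topEquiv.toLinearEquiv).finrank_eq, finrank_cor hB, ← H8.card_bfin,
    Finset.card_eq_sum_ones] at h1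
  have h3 : ∀ χ ∈ bfin B, 1 ≤ dnat M χ (pim j) * dnat M χ (pim j) := fun χ hχ =>
    Nat.pos_of_ne_zero (mul_self_ne_zero.2 (dnat_ne_zero hM hB hj (H8.mem_bfin.1 hχ)))
  intro χ hχ
  have := (Finset.sum_eq_sum_iff_of_le h3).1 (le_antisymm (Finset.sum_le_sum h3) h1) χ
    (H8.mem_bfin.2 hχ)
  exact Nat.eq_one_of_mul_eq_one_left this.symm

theorem exists_unique_of_rank (hl : blockRank p B = 1) : ∃ j : IBr M B, ∀ l, l = j := by
  rw [← card_IBr hM hB] at hl
  exact Fintype.card_eq_one_iff.1 hl

theorem dnat_eq_one_of_card_le {j : IBr M B} (hj : ∀ l, l = j) (hk : Nat.card B ≤ 4) :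
    ∀ χ ∈ B, dnat M χ (pim j) = 1 := by
  obtain ⟨J, hJ⟩ := (pim_prim j).exists_locI
  exact dnat_eq_one_of_comm hB hM hj (hJ.comm_of_finrank_center_le
    ((symF_lcoeff (Res M) G).cor (pim_idem j)) ((finrank_center_cor_le hB hj).trans hk))

end Cfsg.Agent.H7
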