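import Mathlib

/-!
Integer vector lemmas for tame blocks.
-/

set_option autoImplicit false

namespace Cfsg.Agent.H7.TB

open Finset

variable {I : Type*}

/-- dot product over a finite set -/
def dot (s : Finset I) (u v : I → ℤ) : ℤ := ∑ i ∈ s, u i * v i

variable {s : Finset I}

theorem dot_comm (u v : I → ℤ) : dot s u v = dot s v u := sum_congr rfl fun _ _ => mul_comm _ _

theorem dot_congr {u u' v v' : I → ℤ} (h : ∀ i ∈ s, u i = u' i) (h' : ∀ i ∈ s, v i = v' i) :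
    dot s u v = dot s u' v' := sum_congr rfl fun i hi => by rw [h i hi, h' i hi]

theorem dot_self_nonneg (u : I → ℤ) : 0 ≤ dot s u u := sum_nonneg fun _ _ => mul_self_nonneg _

theorem sq_le_dot (u : I → ℤ) {i : I} (hi : i ∈ s) : u i * u i ≤ dot s u u :=
  single_le_sum (f := fun i => u i * u i) (fun _ _ => mul_self_nonneg _) hi

theorem eq_zero_of_dot {u : I → ℤ} (h : dot s u u = 0) {i : I} (hi : i ∈ s) : u i = 0 :=
  mul_self_eq_zero.1 (le_antisymm (h ▸ sq_le_dot u hi) (mul_self_nonneg _))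

theorem eq_zero_of_dot_le {u : I → ℤ} {i : I} (hi : i ∈ s) (h : dot s u u ≤ u i * u i) {j : I}
    (hj : j ∈ s) (hne : j ≠ i) : u j = 0 := by
  classical
  have h1 := add_sum_erase s (fun i => u i * u i) hi
  have h2 : u j * u j ≤ ∑ x ∈ s.erase i, u x * u x :=
    single_le_sum (f := fun i => u i * u i) (fun _ _ => mul_self_nonneg _) (mem_erase.2 ⟨hne, hj⟩)
  have h3 : u j * u j ≤ 0 := by unfold dot at h; linarith
  exact mul_self_eq_zero.1 (le_antisymm h3 (mul_self_nonneg _))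

theorem dot_eq_single {u : I → ℤ} {i : I} (hi : i ∈ s) (h : ∀ j ∈ s, j ≠ i → u j = 0)
    (v : I → ℤ) : dot s u v = u i * v i :=
  sum_eq_single_of_mem i hi fun j hj hne => by rw [h j hj hne, zero_mul]

theorem sq_le_one {w d : I → ℤ} (hd : ∀ i ∈ s, 0 < d i) (hw : dot s w w = 4)
    (hwd : dot s w d = 0) {i : I} (hi : i ∈ s) : w i ^ 2 ≤ 1 := by
  by_contra hn
  have h4 : 4 ≤ w i * w i := by
    rcases le_or_gt 2 (w i) with h | h
    · nlinarith
    · rcases le_or_gt (w i) (-2) with h' | h'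
      · nlinarith
      · exact absurd (by nlinarith) hn
  rw [dot_eq_single hi (fun j hj hne => eq_zero_of_dot_le hi (hw ▸ h4) hj hne)] at hwd
  have := hd i hi
  rcases mul_eq_zero.1 hwd with h | h
  · rw [h] at h4; omega
  · omega

theorem dot_ne_zero_of_one {q d : I → ℤ} (hd : ∀ i ∈ s, 0 < d i) (hq : dot s q q = 1) :
    ∃ i ∈ s, q i * q i = 1 ∧ (∀ j ∈ s, j ≠ i → q j = 0) ∧ dot s q d ≠ 0 := by
  obtain ⟨i, hi, h0⟩ := exists_ne_zero_of_sum_ne_zero (s := s) (f := fun i => q i * q i)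
    (by change dot s q q ≠ 0; omega)
  have h1 : 1 ≤ q i * q i := lt_of_le_of_ne (mul_self_nonneg _) (Ne.symm h0)
  have h2 := fun j hj hne => eq_zero_of_dot_le hi (hq ▸ h1) (j := j) hj hne
  refine ⟨i, hi, le_antisymm (hq ▸ sq_le_dot q hi) h1, h2, ?_⟩
  rw [dot_eq_single hi h2]
  exact mul_ne_zero (left_ne_zero_of_mul h0) (hd i hi).ne'

/-- the shape of the table of a tame block -/
structure Tab (s : Finset I) (a : Fin 4 → I → ℤ) : Prop where
  row : ∀ χ ∈ s, ∑ j, a j χ ^ 2 = 4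
  w1 : ∀ χ ∈ s, a 0 χ ^ 2 ≤ 1
  orth : ∀ i j, i ≠ j → dot s (a i) (a j) = 0
  n0 : dot s (a 0) (a 0) = 4

theorem sq_cases (x : ℤ) (h : x ^ 2 ≤ 4) : x ^ 2 = 0 ∨ x ^ 2 = 1 ∨ x ^ 2 = 4 := by
  have h1 : -3 < x := by nlinarith
  have h2 : x < 3 := by nlinarith
  interval_cases x <;> simp

namespace Tab

variable {a : Fin 4 → I → ℤ} (h : Tab s a)
include h

theorem cases {χ : I} (hχ : χ ∈ s) : (∀ j, a j χ ^ 2 = 1) ∨
    ∃ j, j ≠ 0 ∧ a j χ ^ 2 = 4 ∧ ∀ i, i ≠ j → a i χ = 0 := by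
  have h1 := h.row χ hχ
  have h2 := h.w1 χ hχ
  rw [Fin.sum_univ_four] at h1
  have n0 := sq_nonneg (a 0 χ)
  have n1 := sq_nonneg (a 1 χ)
  have n2 := sq_nonneg (a 2 χ)
  have n3 := sq_nonneg (a 3 χ)
  have c0 := sq_cases (a 0 χ) (by omega)
  have c1 := sq_cases (a 1 χ) (by omega)
  have c2 := sq_cases (a 2 χ) (by omega)
  have c3 := sq_cases (a 3 χ) (by omega)
  by_cases e1 : a 1 χ ^ 2 = 4
  · refine Or.inr ⟨1, by decide, e1, fun i hi => pow_eq_zero_iff two_ne_zero |>.1 ?_⟩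
    fin_cases i <;> simp at hi ⊢ <;> exact pow_eq_zero_iff two_ne_zero |>.1 (by omega)
  by_cases e2 : a 2 χ ^ 2 = 4
  · refine Or.inr ⟨2, by decide, e2, fun i hi => pow_eq_zero_iff two_ne_zero |>.1 ?_⟩
    fin_cases i <;> simp at hi ⊢ <;> exact pow_eq_zero_iff two_ne_zero |>.1 (by omega)
  by_cases e3 : a 3 χ ^ 2 = 4
  · refine Or.inr ⟨3, by decide, e3, fun i hi => pow_eq_zero_iff two_ne_zero |>.1 ?_⟩
    fin_cases i <;> simp at hi ⊢ <;> exact pow_eq_zero_iff two_ne_zero |>.1 (by omega)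
  refine Or.inl fun j => ?_
  fin_cases j <;> simp only [Fin.zero_eta, Fin.mk_one, Fin.reduceFinMk] <;> omega

theorem sq_of_ne {χ : I} (hχ : χ ∈ s) (h0 : a 0 χ ≠ 0) (j : Fin 4) : a j χ ^ 2 = 1 := by
  rcases h.cases hχ with h1 | ⟨j, hj, -, h1⟩
  · exact h1 j
  · exact absurd (h1 0 hj.symm) h0

theorem off {χ : I} (hχ : χ ∈ s) (h0 : a 0 χ = 0) :
    ∃ j, j ≠ 0 ∧ a j χ ^ 2 = 4 ∧ ∀ i, i ≠ j → a i χ = 0 :=
  (h.cases hχ).resolve_left fun h1 => by have := h1 0; rw [h0] at this; simp at this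

theorem sq_off {χ : I} (hχ : χ ∈ s) (h0 : a 0 χ = 0) {j : Fin 4} (hj : a j χ ≠ 0) :
    a j χ ^ 2 = 4 ∧ ∀ i, i ≠ j → a i χ = 0 := by
  obtain ⟨i, -, h1, h2⟩ := h.off hχ h0
  obtain rfl : j = i := by_contra fun hn => hj (h2 j hn)
  exact ⟨h1, h2⟩

theorem even_sub {χ : I} (hχ : χ ∈ s) (j : Fin 4) : Even (a j χ - a 0 χ) := by
  rcases h.cases hχ with h1 | ⟨i, hi, h2, h1⟩
  · rcases sq_eq_one_iff.1 (h1 j) with e | e <;>
      rcases sq_eq_one_iff.1 (h1 0) with e' | e' <;> rw [e, e'] <;> decide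
  · rw [h1 0 hi.symm, sub_zero]
    by_cases hj : j = i
    · subst hj
      exact (Int.even_pow.1 (h2 ▸ (by decide : Even (4 : ℤ)))).1
    · rw [h1 j hj]; exact Even.zero

theorem dotT (i j : Fin 4) : ∑ χ ∈ s, a 0 χ ^ 2 * (a i χ * a j χ) = if i = j then 4 else 0 := by
  split_ifs with hij
  · subst hij
    rw [← h.n0]
    refine sum_congr rfl fun χ hχ => ?_
    by_cases h0 : a 0 χ = 0
    · simp [h0]
    · rw [← sq, ← sq, h.sq_of_ne hχ h0 i, mul_one]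
  · rw [← h.orth i j hij]
    refine sum_congr rfl fun χ hχ => ?_
    by_cases h0 : a 0 χ = 0
    · by_cases hi : a i χ = 0
      · simp [hi]
      · simp [(h.sq_off hχ h0 hi).2 j (Ne.symm hij)]
    · rw [h.sq_of_ne hχ h0 0, one_mul]

theorem rowT {χ ψ : I} (hχ : χ ∈ s) (h0 : a 0 χ ≠ 0) (hψ : ψ ∈ s) (hne : ψ ≠ χ) :
    a 0 ψ ^ 2 * ∑ j, a j χ * a j ψ = 0 := by
  have hs : ∀ ψ ∈ s, a 0 ψ ^ 2 * a 0 ψ ^ 2 = a 0 ψ ^ 2 := fun ψ hψ => by
    by_cases h0 : a 0 ψ = 0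
    · simp [h0]
    · rw [h.sq_of_ne hψ h0, mul_one]
  refine eq_zero_of_dot_le (u := fun ψ => a 0 ψ ^ 2 * ∑ j, a j χ * a j ψ) hχ ?_ hψ hne
  have h1 : ∑ j, a j χ * a j χ = 4 := by rw [← h.row χ hχ]; simp only [sq]
  have h2 : dot s (fun ψ => a 0 ψ ^ 2 * ∑ j, a j χ * a j ψ)
      (fun ψ => a 0 ψ ^ 2 * ∑ j, a j χ * a j ψ) =
      ∑ i, ∑ j, a i χ * a j χ * ∑ ψ ∈ s, a 0 ψ ^ 2 * (a i ψ * a j ψ) := by
    simp only [mul_sum]
    rw [dot, sum_congr rfl fun i _ => sum_comm, sum_comm]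
    refine sum_congr rfl fun ψ hψ => ?_
    rw [sum_mul_sum]
    refine sum_congr rfl fun i _ => sum_congr rfl fun j _ => ?_
    linear_combination (a i χ * a i ψ * a j χ * a j ψ) * hs ψ hψ
  simp only [h2, h.dotT, mul_ite, mul_zero, sum_ite_eq, mem_univ, if_true, ← sum_mul, h1,
    h.sq_of_ne hχ h0]
  norm_num

theorem card : 4 * (s.card : ℤ) = ∑ j, dot s (a j) (a j) := by
  simp only [dot]
  rw [sum_comm, sum_congr rfl fun χ hχ => (show ∑ j, a j χ * a j χ = 4 by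
    rw [← h.row χ hχ]; simp only [sq])]
  simp [mul_comm]

end Tab

variable (s) in
/-- the pairing with the pattern `j` -/
def FT {R : Type*} [CommRing R] (a : Fin 4 → I → ℤ) (f : I → R) (j : Fin 4) : R :=
  ∑ ψ ∈ s, ((a 0 ψ ^ 2 * a j ψ : ℤ) : R) * f ψ

variable (s) in
/-- the relation of orthogonality to the small vectors -/
def Rel {R : Type*} [CommRing R] (a : Fin 4 → I → ℤ) (f : I → R) : Prop :=
  ∀ χ ∈ s, a 0 χ = 0 → ∀ j, a j χ ≠ 0 → (a j χ : R) * f χ = FT s a f j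

namespace Tab

variable {a : Fin 4 → I → ℤ} (h : Tab s a) {R : Type*} [CommRing R] {f : I → R}
include h

theorem expandT {χ : I} (hχ : χ ∈ s) (h0 : a 0 χ ≠ 0) (f : I → R) :
    4 * f χ = ∑ j, (a j χ : R) * FT s a f j := by
  simp only [FT, mul_sum]
  rw [sum_comm, sum_eq_single_of_mem χ hχ]
  · have h1 : ∑ j, a j χ * (a 0 χ ^ 2 * a j χ) = 4 := by
      rw [← h.row χ hχ, h.sq_of_ne hχ h0 0]; simp only [sq, one_mul]
    have h2 := congrArg (Int.cast (R := R)) h1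
    simp only [← mul_assoc, ← sum_mul]
    congr 1
    push_cast at h2 ⊢
    rw [← h2]
  · intro ψ hψ hne
    have h2 := congrArg (Int.cast (R := R)) (h.rowT hχ h0 hψ hne)
    simp only [← mul_assoc, ← sum_mul]
    refine mul_eq_zero_of_left ?_ _
    push_cast at h2 ⊢
    rw [← h2, mul_sum]
    exact sum_congr rfl fun _ _ => by ring

theorem expand (hf : Rel s a f) {χ : I} (hχ : χ ∈ s) :
    4 * f χ = ∑ j, (a j χ : R) * FT s a f j := by
  by_cases h0 : a 0 χ = 0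
  · obtain ⟨j, -, h1, h2⟩ := h.off hχ h0
    have h3 : a j χ ≠ 0 := fun e => by rw [e] at h1; simp at h1
    rw [sum_eq_single j (fun i _ hi => by rw [h2 i hi]; simp) (by simp), ← hf χ hχ h0 j h3,
      ← mul_assoc, ← sq, ← Int.cast_pow, h1]
    norm_num
  · exact h.expandT hχ h0 f

theorem parseval (hf : Rel s a f) (n : I → R) :
    4 * ∑ χ ∈ s, n χ * f χ = ∑ j, FT s a f j * ∑ χ ∈ s, (a j χ : R) * n χ := by
  simp only [mul_sum]
  rw [sum_comm]
  refine sum_congr rfl fun χ hχ => ?_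
  rw [mul_left_comm, h.expand hf hχ, mul_sum]
  exact sum_congr rfl fun _ _ => by ring

theorem sum_mul_eq (hf : Rel s a f) (j : Fin 4) :
    4 * ∑ χ ∈ s, (a j χ : R) * f χ = (dot s (a j) (a j) : ℤ) * FT s a f j := by
  rw [h.parseval hf, sum_eq_single j (fun i _ hi => ?_) (by simp), mul_comm]
  · simp [dot]
  · have := congrArg (Int.cast (R := R)) (h.orth i j hi)
    simp only [dot, Int.cast_sum, Int.cast_mul, Int.cast_zero] at this
    rw [this, mul_zero]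

theorem four_le (j : Fin 4) : 4 ≤ dot s (a j) (a j) := by
  have := h.dotT j j
  rw [if_pos rfl] at this
  rw [← this]
  refine sum_le_sum fun χ hχ => ?_
  nlinarith [h.w1 χ hχ, mul_self_nonneg (a j χ)]

theorem eq_zero [IsDomain R] [CharZero R] (hf : Rel s a f)
    (h0 : ∀ j, ∑ χ ∈ s, (a j χ : R) * f χ = 0) {χ : I} (hχ : χ ∈ s) : f χ = 0 := by
  have h1 : ∀ j, FT s a f j = 0 := fun j => by
    have := h.sum_mul_eq hf j
    rw [h0, mul_zero] at this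
    refine (mul_eq_zero.1 this.symm).resolve_left ?_
    have := h.four_le j
    exact_mod_cast (by omega : dot s (a j) (a j) ≠ 0)
  have := h.expand hf hχ
  simpa [h1] using this

theorem FT_zero (f : I → R) : FT s a f 0 = ∑ χ ∈ s, (a 0 χ : R) * f χ :=
  sum_congr rfl fun χ hχ => by
    by_cases h0 : a 0 χ = 0
    · simp [h0]
    · rw [h.sq_of_ne hχ h0, one_mul]

theorem sq_eq_of_four {j : Fin 4} (hj : dot s (a j) (a j) = 4) {χ : I} (hχ : χ ∈ s) :
    a 0 χ ^ 2 * a j χ = a j χ := by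
  by_cases h0 : a 0 χ = 0
  · have h1 := h.dotT j j
    rw [if_pos rfl] at h1
    have h2 : dot s (fun χ => (1 - a 0 χ ^ 2) * a j χ) (fun χ => (1 - a 0 χ ^ 2) * a j χ) = 0 := by
      have : (0 : ℤ) = dot s (a j) (a j) - ∑ χ ∈ s, a 0 χ ^ 2 * (a j χ * a j χ) := by omega
      rw [this, dot, dot, ← sum_sub_distrib]
      refine sum_congr rfl fun χ hχ => ?_
      by_cases h0 : a 0 χ = 0
      · simp [h0]
      · simp [h.sq_of_ne hχ h0 0]
    have := eq_zero_of_dot h2 hχ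
    linarith
  · rw [h.sq_of_ne hχ h0, one_mul]

theorem FT_of_four {j : Fin 4} (hj : dot s (a j) (a j) = 4) (f : I → R) :
    FT s a f j = ∑ χ ∈ s, (a j χ : R) * f χ :=
  sum_congr rfl fun χ hχ => by rw [h.sq_eq_of_four hj hχ]

theorem exists_T : ∃ χ ∈ s, a 0 χ ≠ 0 := by
  obtain ⟨i, hi, h0⟩ := exists_ne_zero_of_sum_ne_zero (s := s) (f := fun i => a 0 i * a 0 i)
    (by change dot s _ _ ≠ 0; rw [h.n0]; omega)
  exact ⟨i, hi, left_ne_zero_of_mul h0⟩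

theorem exists_off {j : Fin 4} (hj : dot s (a j) (a j) ≠ 4) : ∃ χ ∈ s, a 0 χ = 0 ∧ a j χ ≠ 0 := by
  by_contra hn
  push Not at hn
  have h1 := h.dotT j j
  rw [if_pos rfl] at h1
  refine hj (h1 ▸ sum_congr rfl fun χ hχ => ?_)
  by_cases h0 : a 0 χ = 0
  · simp [hn χ hχ h0]
  · rw [h.sq_of_ne hχ h0, one_mul]

end Tab

end Cfsg.Agent.H7.TB
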