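import Cfsg.Agent.H7.TB9

/-!
Tame blocks: columns of noncentral involutions.
-/

set_option autoImplicit false
set_option linter.unusedSectionVars false
set_option linter.style.haveILetI false
set_option warn.classDefReducibility false

namespace Cfsg.Agent.H7.TB

open MonoidAlgebra Cfsg Cfsg.Agent.H3 Cfsg.Agent.H4 Cfsg.Agent.H5
open Cfsg.Agent.H6 (Res locRing redC redA eB fB intAlg chiL blocks Uni dd)
open Cfsg.Agent.H8 (SecData sec sub bspan bfin lift cm)
open Cfsg.Agent.H11 (MC hh qq fr)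
open scoped Pointwise ComplexConjugate

theorem ord_eq {G : Type*} [Group G] {a b : G} (h : IsConj a b) : orderOf a = orderOf b := by
  obtain ⟨g, rfl⟩ := isConj_iff.1 h
  exact (H6.orderOf_conj' g a).symm

variable {M : Ideal AlgInt} [hMm : M.IsMaximal] {G : Type*} [Group G] [Fintype G]
  {P : Subgroup G} {e : (Res M)[G]} {B : Set (IrrCharacter G)} {k : ℕ} {ε f : ZMod (2 ^ k)}
  {X Y : ZMod (2 ^ k) → G} (hM : IsPModular 2 M) (hB : IsPBlock M B)
  (S : MaxP 2 ⊤ ⊤ (eB M B) P e) (h : MC P k ε f X Y)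

attribute [local instance] H8.subFintype

include h in
theorem not_isConj_z (hz : X (hh k) ∈ Subgroup.center G) (a : ZMod (2 ^ k)) :
    ¬ IsConj (X (hh k)) (Y a) := fun hc => by
  obtain ⟨g, e⟩ := isConj_iff.1 hc
  rw [Subgroup.mem_center_iff.1 hz g, mul_inv_cancel_right] at e
  exact h.X_ne_Y _ _ e

include hM hB S h

theorem exists_col_V {a : ZMod (2 ^ k)} (ha : f + ε * a = 0)
    (hn : ¬ Fus M 2 P e (Y a) (X (hh k))) : ∃ y, Col M P e B (Y a) y := by
  haveI := H6.charP_res hM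
  have hp := (bsec_spec hM S.pair (h.Y_mem a)).2
  obtain ⟨x, -, h1, h2⟩ := S.exists_conj_isDef_inf hp le_rfl ((hp.isPair S.pair).CK_le_NS le_rfl)
  have hF := fus_of_ple hM S.pair hp h1 (Subgroup.mem_zpowers _)
  rw [conj_smul_zpowers] at h1
  rw [CK_top_zpowers, ← centralizer_singleton_conj, ← eb_bsec_eq hM S.pair h1] at h2
  have hv := h1.le (Subgroup.mem_zpowers _)
  have ho := (H6.orderOf_conj' x (Y a)).trans (h.orderOf_Y_two.2 ha)
  obtain ⟨b, hb | hb⟩ := (h.mem _).1 hv <;> rw [hb] at hF h2 ho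
  · exact absurd (h.orderOf_X_two.1 ho ▸ hF) hn
  have hV : P ⊓ Subgroup.centralizer {Y b} = Subgroup.closure {X (hh k), Y b} := le_antisymm
    (fun s hs => (h.commute_Y_iff hs.1).1 (Subgroup.mem_centralizer_singleton_iff.1 hs.2))
    fun s hs => ⟨h.closure_XY_le _ _ hs, Subgroup.mem_centralizer_singleton_iff.2
      ((h.commute_Y_iff (h.closure_XY_le _ _ hs)).2 hs)⟩
  have h3 : Y b ^ 2 = 1 := ho ▸ pow_orderOf_eq_one _
  obtain ⟨y, hy⟩ := exists_col hM hB S (h.Y_mem b) h3 (uni_four hM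
    (bsec_spec hM S.pair (h.Y_mem b)).1 (hV ▸ h2) (u := Y b) (z := X (hh k)) (fun g => by
      rw [h.mem_four, ← h.z_comm (h.Y_mem b), h.YX]) (h.card_four b) (by rw [← sq, h3])
    (h.z_comm (h.Y_mem b)).symm fun g hg => by
      rw [Subgroup.mem_centralizer_singleton_iff.1 hg, mul_inv_cancel_right])
  exact ⟨y, hy.of_fus hM S (h.Y_mem a) (h.Y_mem b) hF⟩

omit hB in
theorem fus_Y (a c : ZMod (2 ^ k)) : Fus M 2 P e (Y a) (Y (a + 2 * c)) := by
  obtain ⟨b, hb⟩ := h.exists_conj_Y a c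
  exact S.fus_of_isConj hM (u := ⟨_, h.Y_mem a⟩) (v := ⟨_, h.Y_mem _⟩)
    (isConj_iff.2 ⟨⟨_, h.X_mem b⟩, Subtype.ext hb⟩)

theorem not_fus_Y (hz : X (hh k) ∈ Subgroup.center G) (hε : ε = 0) (hf : f = 0) :
    ¬ Fus M 2 P e (Y 0) (Y 1) := fun hF => by
  classical
  set H := Subgroup.zpowers (X 1)
  let lam : P →* ℂˣ := MonoidHom.mk' (fun u => if (u : G) ∈ H then 1 else -1) fun u v => by
    have : (u : G) * v ∈ H ↔ ((u : G) ∈ H ↔ (v : G) ∈ H) :=
      H11.mul_mem_iff_of_relIndex_two h.relIndex_zpowers u.2 v.2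
    by_cases h1 : (u : G) ∈ H <;> by_cases h2 : (v : G) ∈ H <;> simp [this, h1, h2]
  have h1 : ∀ a b, ¬ Fus M 2 P e (X a) (Y b) := fun a b hab => by
    have ho := ord_eq hab.isConj
    rw [h.orderOf_Y_two.2 (by simp [hε, hf]), h.orderOf_X_two] at ho
    exact not_isConj_z h hz b (ho ▸ hab.isConj)
  have h2 : ∀ b, Fus M 2 P e (Y 0) (Y b) := fun b => by
    obtain ⟨c, rfl | rfl⟩ := H11.zparity b
    · simpa using fus_Y hM S h 0 c
    · exact hF.trans (add_comm (2 * c) 1 ▸ fus_Y hM S h 1 c)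
  have h3 : ∀ u v : P, (u : G) ∉ H → (Fus M 2 P e u v ↔ (v : G) ∉ H) := fun u v hu => by
    obtain ⟨a, ha | ha⟩ := (h.mem _).1 u.2
    · exact absurd (ha ▸ h.X_mem_zpowers_one a) hu
    obtain ⟨b, hb | hb⟩ := (h.mem _).1 v.2 <;> rw [ha, hb]
    · exact iff_of_false (fun e => h1 _ _ e.symm) (not_not.2 (h.X_mem_zpowers_one b))
    · exact iff_of_true ((h2 a).symm.trans (h2 b)) (h.Y_not_mem_zpowers _ _)
  have hs : Stable M 2 P e fun u => (lam u : ℂ) := fun u v huv => by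
    have : (u : G) ∈ H ↔ (v : G) ∈ H :=
      not_iff_not.1 ⟨fun hu => (h3 u v hu).1 huv, fun hv => (h3 v u hv).1 huv.symm⟩
    simp only [lam, MonoidHom.mk'_apply, this]
  obtain ⟨y, hy⟩ := exists_col_V hM hB S h (a := 0) (by simp [hf]) fun e => h1 _ _ e.symm
  have h4 := hy.norm
  rw [dot, Finset.sum_eq_zero fun χ hχ => ?_] at h4
  · omega
  replace hχ := H8.mem_bfin.1 hχ
  obtain ⟨ψ, hψ, -, e1⟩ := S.exists_starP_linear hM hB hs hχ
  have hc := χ.2.isClassFunction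
  have e2 := S.inner_eq_sum hM hB
    (sub_mem (H8.mem_bspan_of_mem hχ) (H8.mem_bspan_of_mem hψ)) hc
  have hn : (Nat.card {v : P // (v : G) ∉ H} : ℂ) ≠ 0 :=
    haveI : Nonempty {v : P // (v : G) ∉ H} := ⟨⟨⟨_, h.Y_mem 0⟩, h.Y_not_mem_zpowers _ _⟩⟩
    Nat.cast_ne_zero.2 Nat.card_pos.ne'
  rw [Finset.sum_congr rfl (g := fun u : P => if (u : G) ∉ H then
      (y χ * y χ / 2 / Nat.card {v : P // (v : G) ∉ H} : ℂ) else 0) fun u _ => by
    rw [← H8.subL_apply, map_sub, H8.subL_apply, H8.subL_apply, e1, S.sub_starP hM hs hc,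
      classInner_sub_left, classInner_smul_left]
    by_cases hu : (u : G) ∈ H
    · simp [lam, hu]
    · rw [(hy.of_fus hM S u.2 (h.Y_mem 0)
        ((h3 u ⟨_, h.Y_mem 0⟩ hu).2 (h.Y_not_mem_zpowers _ _))).inner _ _ hc hc,
        inner_irr_vec _ hχ, Nat.card_congr (Equiv.subtypeEquivRight fun v => h3 u v hu)]
      simp [lam, hu]
      ring, ← Finset.sum_filter, Finset.sum_const, nsmul_eq_mul, ← Fintype.card_subtype,
    ← Nat.card_eq_fintype_card, mul_div_cancel₀ _ hn, classInner_sub_left, irr_classInner,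
    irr_classInner, if_pos rfl] at e2
  split_ifs at e2
  · exact_mod_cast (by linear_combination -2 * e2 : (y χ * y χ : ℂ) = 0)
  · have : y χ * y χ = 2 := by exact_mod_cast (by linear_combination -2 * e2 : (y χ * y χ : ℂ) = 2)
    have h5 : -2 < y χ := by nlinarith
    have h6 : y χ < 2 := by nlinarith
    generalize y χ = t at *
    interval_cases t <;> simp at this

end Cfsg.Agent.H7.TB
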