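import Cfsg.Agent.H7.TB10
import Cfsg.Agent.H6.Dih2

/-!
Tame blocks: Klein four defect groups; central involutions.
-/

set_option autoImplicit false
set_option linter.unusedSectionVars false
set_option linter.style.haveILetI false
set_option warn.classDefReducibility false

namespace Cfsg.Agent.H7.TB

open MonoidAlgebra Cfsg Cfsg.Agent.H3 Cfsg.Agent.H4 Cfsg.Agent.H5
open Cfsg.Agent.H6 (Res locRing redC redA eB fB intAlg chiL blocks Uni dd)
open Cfsg.Agent.H8 (SecData sec sub bspan bfin lift cm)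
open Cfsg.Agent.H11 (MC hh qq fr)
open scoped Pointwise ComplexConjugate

theorem exists_pat0 {I : Type*} {s : Finset I} {w : I → ℤ} (h1 : ∀ χ ∈ s, w χ ^ 2 = 1)
    (hw : dot s w w = 4) : ∃ t, Pat s w t ∧ dot s w t = 0 := by
  classical
  have hc : (s.card : ℤ) = 4 := by
    rw [← hw, dot, Finset.sum_congr rfl fun χ hχ => (sq _).symm.trans (h1 χ hχ)]; simp
  obtain ⟨t, ht, h2⟩ := Finset.exists_subset_card_eq (s := s) (n := 2) (by omega)
  refine ⟨fun χ => if χ ∈ t then -w χ else w χ, fun χ _ => by dsimp only; split_ifs <;> simp, ?_⟩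
  rw [dot, Finset.sum_congr rfl (g := fun χ => 1 - 2 * if χ ∈ t then 1 else 0) fun χ hχ => by
    split_ifs
    · linear_combination -h1 χ hχ
    · linear_combination h1 χ hχ]
  simp [← Finset.mul_sum, Finset.inter_eq_right.2 ht, h2, hc]

variable {M : Ideal AlgInt} [hMm : M.IsMaximal] {G : Type*} [Group G] [Fintype G]
  {P : Subgroup G} {e : (Res M)[G]} {B : Set (IrrCharacter G)}

theorem TD.mono {m : ℕ} {Φ Ψ : G → Prop} {a : Fin 4 → IrrCharacter G → ℤ} (h : TD B m Φ a)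
    (hΦ : ∀ g, Φ g → Ψ g) : TD B m Ψ a := { h with supp := fun g hg => hΦ g (h.supp g hg) }

variable (hM : IsPModular 2 M) (hB : IsPBlock M B) (S : MaxP 2 ⊤ ⊤ (eB M B) P e)

attribute [local instance] H8.subFintype

include hM

theorem Col.pReg {u : G} {y : IrrCharacter G → ℤ} (h : Col M P e B u y) (hu : u ≠ 1) :
    pRegularPart 2 (vec B y) = 0 := funext fun g => by
  by_cases hg : 2 ∣ orderOf g
  · exact H8.pReg_of_dvd _ hg
  · rw [H8.pReg_of_not_dvd _ hg]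
    by_contra hn
    have := h.supp g hn
    rw [(H6.IsPPart.eq_one_iff hM.1 (isPPart_pp hM.1 g)).2 hg] at this
    exact hu (isConj_one_left.1 this)

include hB S

theorem rg_of_sub {a : IrrCharacter G → ℤ}
    (h : ∀ u ∈ P, u ≠ 1 → sub 2 u (bsec M 2 P e u) (vec B a) = 0) : Rg B a := by
  classical
  have hΦ : ∀ u g : G, u = 1 → g * u * g⁻¹ = 1 := fun u g h => by simp [h]
  have e1 : pRegularPart 2 (vec B a) = tr 2 (· = 1) (vec B a) := funext fun g => by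
    have := H6.IsPPart.eq_one_iff hM.1 (isPPart_pp hM.1 g)
    by_cases hg : 2 ∣ orderOf g
    · rw [H8.pReg_of_dvd _ hg, tr_neg _ fun e => this.1 e hg]
    · rw [H8.pReg_of_not_dvd _ hg, tr_pos _ (this.2 hg)]
  rw [Rg, e1]
  refine S.ext_bsec hM hB (tr_mem hΦ hM hB (vec_mem a)) (vec_mem a) fun u => ?_
  rw [sub_tr hΦ hM (S.secData hM u.2) (bsec_spec hM S.pair u.2).1 (vec_cf a)]
  split_ifs with e
  · rfl
  · exact (h u u.2 e).symm

theorem klein {x y : G} (hx : x ∈ P) (hy : y ∈ P)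
    (hmem : ∀ g ∈ P, g = 1 ∨ g = x ∨ g = y ∨ g = x * y) (hc : Nat.card P = 4) (hxx : x * x = 1)
    (hyy : y * y = 1) (hxy : y * x = x * y) (hx1 : x ≠ 1) (hy1 : y ≠ 1) (hne : x ≠ y) :
    ∃ a, TD B 2 (fun g => IsConj x (pp 2 g)) a ∧ nn B (a 2) = 4 ∧ nn B (a 3) = 4 ∧
      (Rg B (a 2) ↔ Rg B (a 3)) := by
  have hz := P.mul_mem hx hy
  have hz1 : x * y ≠ 1 := fun e => hne (by rw [← hyy] at e; exact mul_right_cancel e)
  have hab : P ≤ Subgroup.centralizer (P : Set G) := fun u hu v hv => by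
    have c : Commute y x := hxy
    have c1 : Commute x u ∧ Commute y u := by
      rcases hmem u hu with rfl | rfl | rfl | rfl
      exacts [⟨.one_right _, .one_right _⟩, ⟨.refl _, c⟩, ⟨c.symm, .refl _⟩,
        ⟨(Commute.refl x).mul_right c.symm, c.mul_right (.refl _)⟩]
    rcases hmem v hv with rfl | rfl | rfl | rfl
    exacts [Commute.one_left _, c1.1, c1.2, c1.1.mul_left c1.2]
  have hfree := (H6.two_four hab hB hM S (fun e => hx1 (by rwa [e] at hx)) fun s _ => by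
    rw [← hc, Nat.card_eq_fintype_card]; exact s.card_le_univ).1
  have hcol : ∀ u ∈ P, u ≠ 1 → ∃ c, Col M P e B u c ∧ ∀ χ ∈ bfin B, c χ ^ 2 = 1 := fun u hu h1 => by
    obtain ⟨c, hc⟩ := exists_col hM hB S hu (by
      rcases hmem u hu with rfl | rfl | rfl | rfl <;> simp [sq, hxx, hyy]
      rw [mul_assoc, ← mul_assoc y, hxy, mul_assoc, hyy, mul_one, hxx])
      (hc ▸ H6.uni_bsec' hM S hab hfree hu h1)
    refine ⟨c, hc, fun χ hχ => sq_eq_one_of (fun χ hχ => sq_le_one (fun χ _ => deg_pos χ) hc.norm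
      (dot_deg ?_) hχ) hχ fun e => ?_⟩
    · simpa [H8.pReg_one_apply Nat.prime_two] using congrFun (hc.pReg hM h1) 1
    · replace hχ := H8.mem_bfin.1 hχ
      refine S.sub_ne_zero_of_central hM hB hχ hu (hab hu) ?_
      rw [hc.iff χ.2.isClassFunction, inner_irr_vec _ hχ, e, Int.cast_zero]
  obtain ⟨w, hw, w1⟩ := hcol x hx hx1
  have w2 : ∀ χ ∈ bfin B, w χ ^ 2 ≤ 1 := fun χ hχ => (w1 χ hχ).le
  have key : ∀ r s t, Pat (bfin B) w r → Pat (bfin B) w s → Pat (bfin B) w t →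
      dot (bfin B) w r = 0 → dot (bfin B) w s = 0 → dot (bfin B) w t = 0 → dot (bfin B) s r = 0 →
      dot (bfin B) t r = 0 → dot (bfin B) s t = 0 → Rg B r →
      (Rg B s ∧ Rg B t) ∨ (pRegularPart 2 (vec B s) = 0 ∧ pRegularPart 2 (vec B t) = 0) →
      ∃ a, TD B 2 (fun g => IsConj x (pp 2 g)) a ∧ nn B (a 2) = 4 ∧ nn B (a 3) = 4 ∧
        (Rg B (a 2) ↔ Rg B (a 3)) := fun r s t a1 a2 a3 b1 b2 b3 c1 c2 c3 d1 d2 => by
    have n1 := a1.dot_self.trans hw.norm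
    have n2 := a2.dot_self.trans hw.norm
    have n3 := a3.dot_self.trans hw.norm
    refine ⟨![w, r, s, t], ⟨⟨fun χ hχ => ?_, w2, fun i j hij => ?_, hw.norm⟩, n1, ?_, hw.supp,
      hw.pReg hM hx1, d1, fun j => ?_, fun g _ χ hχ e => ?_⟩, n2, n3, ?_⟩
    · simp [Fin.sum_univ_four, a1 χ hχ, a2 χ hχ, a3 χ hχ, w1 χ hχ]
    · fin_cases i <;> fin_cases j <;> first | exact absurd rfl hij | assumption |
        (rw [dot_comm]; assumption)
    · rintro _ (rfl | rfl)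
      exacts [Or.inl n2, Or.inl n3]
    · fin_cases j
      exacts [Or.inr ⟨hw.pReg hM hx1, hw.norm⟩, Or.inl d1, d2.imp And.left fun h => ⟨h.1, n2⟩,
        d2.imp And.right fun h => ⟨h.2, n3⟩]
    · have := w1 χ hχ
      rw [show w χ = 0 from e] at this
      simp at this
    · rcases d2 with h | h
      · exact iff_of_true h.1 h.2
      · exact iff_of_false (fun e => by have := Rg.not_zero e h.1; simp [nn, n2] at this)
          fun e => by have := Rg.not_zero e h.2; simp [nn, n3] at this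
  have hreg : ∀ {r u c}, Col M P e B u c → dot (bfin B) c r = 0 →
      sub 2 u (bsec M 2 P e u) (vec B r) = 0 := fun h1 h2 => by
    rw [h1.iff (vec_cf _), inner_vec_vec, dot_comm, h2, Int.cast_zero]
  by_cases hF : Fus M 2 P e y x ∧ Fus M 2 P e (x * y) x
  · have h1 : ∀ r, dot (bfin B) w r = 0 → Rg B r := fun r hr => rg_of_sub hM hB S fun u hu h1 => by
      rcases hmem u hu with rfl | rfl | rfl | rfl
      exacts [absurd rfl h1, hreg hw hr, hreg (hw.of_fus hM S hu hx hF.1) hr,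
        hreg (hw.of_fus hM S hu hx hF.2) hr]
    obtain ⟨s, a2, b2⟩ := exists_pat0 w1 hw.norm
    obtain ⟨t, a3, b3, c3⟩ := exists_pat w2 hw.norm a2 b2
    obtain ⟨r, a1, b1, c1, c2⟩ := exists_pat3 w2 a2 a3 b2 b3 c3
    exact key r s t a1 a2 a3 b1 b2 b3 c1 c2 c3 (h1 r b1) (Or.inl ⟨h1 s b2, h1 t b3⟩)
  have hn : ∀ u ∈ P, ∀ v ∈ P, u ≠ v → ¬ Fus M 2 P e u v := fun u hu v hv huv h => by
    obtain ⟨t, ht, h⟩ := (S.fus_iff_of_central hM hu hv (hab hu) (hab hv)).1 h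
    have h1 : ∀ u ∈ P, u ≠ 1 → t * u * t⁻¹ ≠ u := fun u' hu' h1 h2 =>
      huv (h ▸ (mem_centralizer_iff_conj.1 (hfree t ht u' hu' h1 h2) u hu).symm)
    have h2 := fun u hu => (Subgroup.mem_normalizer_iff.1 ht.1 u).1 hu
    have h3 := fun u hu => fus_conj hM S.pair (u := u) hu ht
    have h4 := h1 _ hz hz1
    have f1 := h3 x hx
    have f2 := h3 y hy
    rw [← conj_mul] at h4
    rcases hmem _ (h2 x hx) with e1 | e1 | e1 | e1
    · exact hx1 (by simpa using e1)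
    · exact h1 x hx hx1 e1
    all_goals
      rcases hmem _ (h2 y hy) with e2 | e2 | e2 | e2
      · exact hy1 (by simpa using e2)
      on_goal 2 => exact h1 y hy hy1 e2
    · exact h4 (by rw [e1, e2, hxy])
    · exact hF ⟨(e1 ▸ f1).symm, ((e1 ▸ f1).trans (e2 ▸ f2)).symm⟩
    · exact hF ⟨e2 ▸ f2, (e1 ▸ f1).symm⟩
    · exact hne (by simpa using e1.trans e2.symm)
  obtain ⟨s, hs, s1⟩ := hcol y hy hy1
  obtain ⟨t, ht, t1⟩ := hcol _ hz hz1
  have a2 : Pat (bfin B) w s := fun χ hχ => (s1 χ hχ).trans (w1 χ hχ).symm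
  have a3 : Pat (bfin B) w t := fun χ hχ => (t1 χ hχ).trans (w1 χ hχ).symm
  have b2 := hw.orth hM hB S hs hx hy (hn _ hx _ hy hne)
  have b3 := hw.orth hM hB S ht hx hz (hn _ hx _ hz (by simpa using hy1))
  have c3 := hs.orth hM hB S ht hy hz (hn _ hy _ hz (by simpa using hx1))
  obtain ⟨r, a1, b1, c1, c2⟩ := exists_pat3 w2 a2 a3 b2 b3 c3
  refine key r s t a1 a2 a3 b1 b2 b3 c1 c2 c3 (rg_of_sub hM hB S fun u hu h1 => ?_)
    (Or.inr ⟨hs.pReg hM hy1, ht.pReg hM hz1⟩)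
  rcases hmem u hu with rfl | rfl | rfl | rfl
  exacts [absurd rfl h1, hreg hw b1, hreg hs c1, hreg ht c2]

omit hM hB S in
variable (M) in
/-- the statement for dihedral defect groups -/
def DH.{u} (k : ℕ) : Prop := ∀ (G : Type u) [Group G] [Fintype G] (B : Set (IrrCharacter G))
  (P : Subgroup G) (X Y : ZMod (2 ^ k) → G), IsPBlock M B → IsDefectGroup 2 M B P →
    MC P k 0 0 X Y → ∃ a, TD B (2 ^ k) (fun g => 4 ∣ orderOf g) a ∧ nn B (a 2) = 4 ∧ nn B (a 3) = 4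

omit hB S in
theorem cen.{u} {G : Type u} [Group G] [Fintype G] {P : Subgroup G} {e : (Res M)[G]}
    {B : Set (IrrCharacter G)} (hB : IsPBlock M B) (S : MaxP 2 ⊤ ⊤ (eB M B) P e) {l : ℕ}
    {ε f : ZMod (2 ^ (l + 2))} {X Y : ZMod (2 ^ (l + 2)) → G} (h : MC P (l + 2) ε f X Y)
    (hz : X (hh (l + 2)) ∈ Subgroup.center G) (IH : l ≠ 0 → DH.{u} M (l + 1)) :
    ∃ a, TD B (2 ^ (l + 2)) (fun g => 4 ∣ orderOf g) a ∧
      ∀ j, j = 2 ∨ j = 3 → Rg B (a j) → nn B (a j) = 8 := by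
  classical
  haveI := H6.charP_res hM
  have hZ := Subgroup.zpowers_le.2 hz
  haveI : (Subgroup.zpowers (X (hh (l + 2)))).Normal := ⟨fun n hn g => by
    rwa [Subgroup.mem_center_iff.1 (hZ hn) g, mul_inv_cancel_right]⟩
  haveI := Fintype.ofFinite (G ⧸ Subgroup.zpowers (X (hh (l + 2))))
  obtain ⟨c, hc, c1, c2, c3, -⟩ := H8.exists_dom (H6.isPGroup_zpowers hM.1 ⟨1, h.orderOf_z⟩) hZ hM hB
  have hD := (isDefectGroup_iff hM hB).2 S.isDef
  have hd : blockDefect 2 B = l + 3 :=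
    Nat.pow_right_injective le_rfl ((H8.card_defectGroup hM hB hD).symm.trans h.card)
  set π := QuotientGroup.mk' (Subgroup.zpowers (X (hh (l + 2))))
  have hπ : ∀ a, π (X a) = 1 ↔ a = 0 ∨ a = hh (l + 2) := fun a => by
    rw [← MonoidHom.mem_ker, QuotientGroup.ker_mk', h.mem_zpowers_z, h.X_eq_one, h.X_inj]
  have hcard : Nat.card (P.map π) = 2 ^ (l + 1 + 1) := by
    rw [hd, Nat.card_zpowers, h.orderOf_z, pow_succ', ← H8.card_defectGroup hM hc (c2 P hD)] at c3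
    exact (Nat.eq_of_mul_eq_mul_left two_pos c3).symm
  have hY1 : π (Y 0) ≠ 1 := fun e => h.Y_not_mem_zpowers _ _ ((QuotientGroup.eq_one_iff _).1 e)
  have hY2 : π (Y 0) * π (Y 0) = 1 := by rw [← map_mul, h.Y_sq, hπ]; exact h.Y_sq_cases 0
  have hrel : π (Y 0) * π (X 1) * (π (Y 0))⁻¹ = (π (X 1))⁻¹ := by
    rw [← map_inv, ← map_mul, ← map_mul, h.YXY, ← h.XX, map_mul, ← map_inv, h.X_inv,
      (hπ (ε * 1)).2 (by simpa using h.he.imp_right And.right), mul_one]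
  have ho : orderOf (π (X 1)) = 2 ^ (l + 1) := orderOf_eq_prime_pow (by
    rw [← map_pow, h.X_pow, hπ, mul_one]
    push_cast
    exact not_or.2 ⟨H11.qq_ne h.two_le, H11.qq_ne_hh h.two_le⟩) (by
    rw [← map_pow, h.X_pow, hπ, mul_one]
    push_cast
    exact Or.inr rfl)
  obtain ⟨Φ, a, T, n2, n3, h23, hΦ⟩ : ∃ Φ a, TD c (2 ^ (l + 1)) Φ a ∧ nn c (a 2) = 4 ∧
      nn c (a 3) = 4 ∧ (l = 0 → (Rg c (a 2) ↔ Rg c (a 3))) ∧ ∀ g, Φ (π g) → 4 ∣ orderOf g := by
    by_cases hl : l = 0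
    · subst hl
      obtain ⟨e', S'⟩ := exists_maxP le_rfl Subgroup.le_normalizer (blk_eB hc)
        ((isDefectGroup_iff hM hc).1 (c2 P hD))
      have hXX : π (X 1) * π (X 1) = 1 := by rw [← sq]; exact orderOf_dvd_iff_pow_eq_one.1 ho.dvd
      have hYX : π (Y 0) * π (X 1) = π (X 1) * π (Y 0) := by
        rw [← mul_inv_eq_iff_eq_mul, hrel, inv_eq_iff_mul_eq_one, hXX]
      have hX : ∀ a, π (X a) = 1 ∨ π (X a) = π (X 1) := fun a => by
        obtain ⟨b, rfl | rfl⟩ := H11.zparity a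
        · exact Or.inl ((hπ _).2 (H11.hh_mul h.one_le b))
        · right; rw [← h.XX, map_mul, (hπ (2 * b)).2 (H11.hh_mul h.one_le b), one_mul]
      obtain ⟨a, T, n2, n3, h23⟩ := klein hM hc S' (x := π (X 1)) (y := π (Y 0))
        ⟨_, h.X_mem 1, rfl⟩ ⟨_, h.Y_mem 0, rfl⟩ (by
          rintro _ ⟨g, hg, rfl⟩
          obtain ⟨a, rfl | rfl⟩ := (h.mem g).1 hg
          · rcases hX a with e | e <;> simp [e]
          · rw [← zero_add a, ← h.YX, map_mul]
            rcases hX a with e | e <;> simp [e, hYX]) hcard hXX hY2 hYX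
        (fun e => by simp [e] at ho) hY1 fun e => h.Y_not_mem_zpowers (0 + -1) (hh _) (by
          rw [← h.YX, ← QuotientGroup.ker_mk' (Subgroup.zpowers _), MonoidHom.mem_ker, map_mul, ← e,
            ← map_mul, h.XX, add_neg_cancel, h.X_zero, map_one])
      refine ⟨_, a, T, n2, n3, fun _ => h23, fun g hg => ?_⟩
      rw [pp_eq hM.1 (H6.IsPPart.map hM.1 (isPPart_pp hM.1 g) π)] at hg
      obtain ⟨t, ht⟩ := isConj_iff.1 hg
      obtain ⟨t, rfl⟩ := QuotientGroup.mk'_surjective _ t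
      refine dvd_trans ?_ (orderOf_dvd_of_mem_zpowers
        (H6.IsPPart.mem_zpowers hM.1 (isPPart_pp hM.1 g)))
      rcases mk_eq_one h.orderOf_z (g := (t * X 1 * t⁻¹)⁻¹ * pp 2 g) (by
        rw [map_mul, ← ht]; simp [π, mul_assoc]) with e | e <;> rw [inv_mul_eq_iff_eq_mul] at e
      · rw [e, mul_one, H6.orderOf_conj', h.orderOf_X_one]; rfl
      · rw [e, mul_assoc, Subgroup.mem_center_iff.1 hz, ← mul_assoc, mul_assoc t, h.XX,
          H6.orderOf_conj', add_comm]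
        exact (mul_one (2 : ZMod (2 ^ (0 + 2))) ▸ h.orderOf_X_odd 1).symm.dvd
    · obtain ⟨X', Y', h', -⟩ := H6.exists_MC_gens (S := P.map π) (by omega) ⟨_, h.X_mem 1, rfl⟩
        ⟨_, h.Y_mem 0, rfl⟩ ho (orderOf_eq_prime (by rw [sq, hY2]) hY1) hrel (Or.inl hcard)
      obtain ⟨a, T, n2, n3⟩ := IH hl _ c _ X' Y' hc (c2 P hD) h'
      exact ⟨_, a, T, n2, n3, fun e => absurd e hl, fun g hg => hg.trans (orderOf_map_dvd π g)⟩
  obtain ⟨a', T', h8⟩ := q1 hz h.orderOf_z hM hB c1 hd T n2 n3 h23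
    (fun ψ hψ => height_ne hM hB S h hz hψ) (exists_cnt hM hB S h hz rfl)
  exact ⟨a', T'.mono hΦ, h8⟩

end Cfsg.Agent.H7.TB
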