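import Cfsg.Agent.H7.TB11

/-!
Tame blocks: induction from the centralizer of an involution.
-/

set_option autoImplicit false
set_option linter.unusedSectionVars false
set_option linter.style.haveILetI false
set_option warn.classDefReducibility false

namespace Cfsg.Agent.H7.TB

open MonoidAlgebra Cfsg Cfsg.Agent.H3 Cfsg.Agent.H4 Cfsg.Agent.H5
open Cfsg.Agent.H6 (Res locRing redC redA eB fB intAlg chiL blocks Uni dd)
open Cfsg.Agent.H8 (SecData sec sub bspan bfin lift cm)
open Cfsg.Agent.H11 (MC hh qq fr)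
open scoped Pointwise ComplexConjugate

variable {G : Type*} [Group G] [Fintype G] {z : G}

theorem mem_bspan_of_inner {B : Set (IrrCharacter G)} {θ : G → ℂ} (hθ : IsClassFunction G θ)
    (h : ∀ χ : IrrCharacter G, χ ∉ B → classInner θ χ = 0) : θ ∈ bspan B := by
  rw [hθ.eq_sum]
  refine Submodule.sum_mem _ fun χ _ => ?_
  by_cases hχ : χ ∈ B
  · exact Submodule.smul_mem _ _ (H8.mem_bspan_of_mem hχ)
  · rw [h χ hχ, zero_smul]; exact zero_mem _

theorem cent_le {u : G} (h : z ∈ Subgroup.zpowers u) :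
    Subgroup.centralizer ({u} : Set G) ≤ Subgroup.centralizer {z} := by
  rw [← H6.centralizer_zpowers, ← H6.centralizer_zpowers z]
  exact Subgroup.centralizer_le (Subgroup.zpowers_le.2 h)

attribute [local instance] H8.subFintype

/-- supported on the roots of `z` -/
def OnA (z : G) (η : Subgroup.centralizer ({z} : Set G) → ℂ) : Prop :=
  ∀ g : Subgroup.centralizer ({z} : Set G), z ∉ Subgroup.zpowers (g : G) → η g = 0

variable (hz : orderOf z = 2)
include hz

theorem eq_of_invol {t y : G} (h : z ∈ Subgroup.zpowers t) (hy : y ∈ Subgroup.zpowers t)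
    (ho : orderOf y = 2) : y = z := by
  obtain ⟨n, rfl⟩ := mem_zpowers_of_isCyclic inferInstance h hz hy ho
  have h2 : z ^ (2 : ℤ) = 1 := by exact_mod_cast hz ▸ pow_orderOf_eq_one z
  obtain ⟨c, rfl | rfl⟩ := Int.even_or_odd' n <;> simp [zpow_add, zpow_mul, h2] at ho ⊢

theorem mem_zpowers_pp {g : G} : z ∈ Subgroup.zpowers (pp 2 g) ↔ z ∈ Subgroup.zpowers g := by
  have h := isPPart_pp Nat.prime_two g
  have h0 := Subgroup.zpowers_le.2 (H6.IsPPart.mem_zpowers Nat.prime_two h)
  refine ⟨fun e => h0 e, fun e => ?_⟩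
  obtain ⟨y, hy, hc, ⟨n, hn⟩, ho⟩ := h
  obtain ⟨m, rfl⟩ := e
  dsimp only at hz ⊢
  obtain ⟨c, hc'⟩ := Nat.odd_iff.2 (Nat.two_dvd_ne_zero.1 ho)
  have : g ^ m = (g ^ m) ^ orderOf y := by rw [hc', pow_succ, pow_mul, ← hz, pow_orderOf_eq_one]; simp
  rw [this, ← zpow_natCast, ← zpow_mul, mul_comm, zpow_mul, zpow_natCast]
  conv_rhs => rw [← hy, hc.mul_pow, pow_orderOf_eq_one, mul_one]
  exact Subgroup.zpow_mem _ (Subgroup.pow_mem _ (Subgroup.mem_zpowers _) _) _

theorem ti (g : G) (hg : g ∉ Subgroup.centralizer ({z} : Set G)) (t : G)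
    (ht : t ∈ {t | z ∈ Subgroup.zpowers t}) (h : g * t * g⁻¹ ∈ {t | z ∈ Subgroup.zpowers t}) :
    t = 1 := by
  refine absurd (Subgroup.mem_centralizer_singleton_iff.2 (mul_inv_eq_iff_eq_mul.1
    (eq_of_invol hz h ?_ ((H6.orderOf_conj' g z).trans hz)))) hg
  obtain ⟨n, rfl⟩ := ht
  exact ⟨n, conj_zpow⟩

theorem two_dvd_of_mem {g : G} (h : z ∈ Subgroup.zpowers g) : 2 ∣ orderOf g :=
  hz ▸ orderOf_dvd_of_mem_zpowers h

variable {η η' : Subgroup.centralizer ({z} : Set G) → ℂ}

theorem OnA.ind_apply (h : OnA z η) (hη : IsClassFunction _ η)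
    {g : Subgroup.centralizer ({z} : Set G)} (hg : z ∈ Subgroup.zpowers (g : G)) :
    indFun _ η g = η g := indFun_eq_of_TI_set _ _ (ti hz) hη (fun x hx _ => h x hx) g hg fun e => by
  simpa [e] using two_dvd_of_mem hz hg

theorem OnA.inner_ind (h : OnA z η) (h' : OnA z η') (hη : IsClassFunction _ η') :
    classInner (indFun _ η) (indFun _ η') = classInner η η' :=
  inner_indFun_indFun_of_TI_set _ _ (ti hz) hη (fun x hx _ => h x hx) (fun x hx _ => h' x hx)
    (h 1 fun e => by simpa using two_dvd_of_mem hz e)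

theorem OnA.ind_eq_zero (h : OnA z η) {g : G} (hg : ¬ 2 ∣ orderOf g) : indFun _ η g = 0 :=
  indFun_eq_zero_of_forall _ _ fun x _ => h _ fun e =>
    hg (H6.orderOf_conj' x g ▸ two_dvd_of_mem hz e)

variable {M : Ideal AlgInt} [hMm : M.IsMaximal] {P : Subgroup G} {e : (Res M)[G]}
  {B : Set (IrrCharacter G)} (hM : IsPModular 2 M) (hB : IsPBlock M B)
  (S : MaxP 2 ⊤ ⊤ (eB M B) P e) (hzP : z ∈ P)
include hM hB S hzP

theorem OnA.ind_mem (h : OnA z η) (hη : η ∈ bspan (bsec M 2 P e z)) : indFun _ η ∈ bspan B := by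
  refine mem_bspan_of_inner (indFun_isClassFunction _ _) fun χ hχ => ?_
  rw [inner_indFun_left _ _ χ.2.isClassFunction, ← H8.blockPart_of_mem_bspan hη,
    H8.classInner_blockPart_left]
  refine inner_eq_zero_of_disj fun g hg => ?_
  have h1 : z ∈ Subgroup.zpowers (pp 2 (g : G)) := (mem_zpowers_pp hz).2 (by_contra fun e => hg (h g e))
  rw [H6.blockPart_eq_chiL _ (χ.2.isClassFunction.restrict _), ← H6.chiL_incl, map_mul,
    H6.incl_single]
  refine H6.second_main_idem hM (S.bsec_induced hM hB hzP) (isPPart_pp hM.1 _) ?_ hχ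
  exact cent_le h1

theorem OnA.sub_ind (h : OnA z η) (hη : η ∈ bspan (bsec M 2 P e z)) {u : G} (hu : u ∈ P)
    (ho : orderOf u = 2) (hn : ¬ Fus M 2 P e u z) :
    sub 2 u (bsec M 2 P e u) (indFun _ η) = 0 := by
  have hs := S.secData hM hu
  have hs' := S.secData hM hzP
  have hb := (bsec_spec hM S.pair hu).1
  have hb' := (bsec_spec hM S.pair hzP).1
  have hc := isClassFunction_of_bspan hη
  have h1 : (fun c => η (hs'.elt * c)) ∈ bspan (bsec M 2 P e z) :=
    mem_bspan_of_inner (H8.isClassFunction_shift (MonoidHom.id _)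
      (fun c => (Subgroup.mem_center_iff.1 hs'.elt_mem_center c).symm) hc) fun χ hχ => by
      rw [H8.classInner_shift hc hs'.elt_mem_center, ← H8.blockPart_of_mem_bspan hη,
        H8.classInner_blockPart_of_not_mem _ hχ, zero_mul]
  rw [← sub_lift_eq_zero hM hs hs' hb hb' (fun g e1 e2 => hn ⟨g, e1, e2⟩) h1,
    hs.sub_eq hM hb (indFun_isClassFunction _ _), hs.sub_eq hM hb (H8.lift_isClassFunction _)]
  congr 1
  ext y
  by_cases hy : 2 ∣ orderOf y
  · simp [H8.pReg_of_dvd _ hy]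
  simp only [H8.pReg_of_not_dvd _ hy, H8.sec_apply]
  by_cases hc' : IsConj z u
  · obtain ⟨y', h2, h3⟩ := hs'.exists_conj (hs.isPPart hy) hc'
    rw [← (indFun_isClassFunction _ _).of_isConj h3, ← (H8.lift_isClassFunction _).of_isConj h3,
      hs'.lift_apply hM.1 (isClassFunction_of_bspan h1) h2]
    exact h.ind_apply hz hc (g := hs'.elt * y') (H6.IsPPart.mem_zpowers hM.1 (hs'.isPPart h2))
  · rw [hs'.lift_eq_zero hM.1 _ (hs.isPPart hy) hc']
    refine indFun_eq_zero_of_forall _ _ fun x _ => h _ fun e => hc' ?_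
    have := H6.IsPPart.conj (hs.isPPart hy) x
    rw [← eq_of_invol hz e (H6.IsPPart.mem_zpowers hM.1 this) ((H6.orderOf_conj' _ _).trans ho)]
    exact (isConj_iff.2 ⟨x, rfl⟩).symm

omit hz hB in
theorem sub_eq_zero_of_res {θ : G → ℂ} (hθ : IsClassFunction G θ) {u : G} (hu : u ∈ P)
    (hzu : z ∈ Subgroup.zpowers u) (h : ∀ g : Subgroup.centralizer ({z} : Set G),
      IsPPart 2 (g : G) u → blockPart (bsec M 2 P e z) (fun g => θ g) g = 0) :
    sub 2 u (bsec M 2 P e u) θ = 0 := by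
  haveI := H6.charP_res hM
  have hs := S.secData hM hu
  obtain ⟨hb, hp⟩ := bsec_spec hM S.pair hu
  obtain ⟨hb', hp'⟩ := bsec_spec hM S.pair hzP
  have hle := cent_le hzu
  have hN := (PLe.of_le S.pair hp' hp (Subgroup.zpowers_le.2 hzu) |>.nle
    (hp.isPair S.pair) ((le_centralizer_of_isCyclic inferInstance).trans
      ((Subgroup.centralizer_le (Subgroup.zpowers_le.2 hzu)).trans
        (Subgroup.centralizer_le_normalizer _)))).br_absorb
  let ψ : Subgroup.centralizer ({u} : Set G) → ℂ := fun c => blockPart (bsec M 2 P e z)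
    (fun g => θ g) (Subgroup.inclusion hle hs.elt * Subgroup.inclusion hle c)
  have hψ : IsClassFunction _ ψ := H8.isClassFunction_shift (Subgroup.inclusion hle)
    (fun c => Subtype.ext (hs.commute c).eq) (H8.blockPart_isClassFunction _ _)
  have h1 : ∀ a, chiL θ (fb _ (bsec M 2 P e z) * (push ℂ (Subgroup.subtype _) a * single u 1)) =
      chiL ψ a := fun a => by
    induction a using MonoidAlgebra.induction_linear with
    | zero => simp
    | add a b ha hb => simp only [map_add, add_mul, mul_add, ha, hb]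
    | single c r =>
      rw [H6.chiL_single, push_single, single_mul_single, ← smul_eq_mul r,
        ← smul_single, mul_smul_comm, map_smul, smul_eq_mul]
      simp only [ψ]
      rw [H6.blockPart_eq_chiL _ (hθ.restrict _), ← H6.chiL_incl, map_mul (H6.incl ℂ _),
        H6.incl_single]
      congr 4
      exact (hs.commute c).eq.symm
  ext y
  by_cases hy : 2 ∣ orderOf y
  · rw [← H8.pReg_sub', H8.pReg_of_dvd _ hy]; rfl
  have h2 : Subgroup.zpowers (u * y) ≤ Subgroup.centralizer {u} :=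
    Subgroup.zpowers_le.2 (mul_mem hs.mem y.2)
  rw [sub_apply hs hθ _ hy, ← chiL_eq_of_br_eq hM hθ (mul_mem (fb_mem_intAlg hb') (fb_mem_intAlg hb))
    (fb_mem_intAlg hb) ((fb_idem _).mul_of_commute
      ((fb_mem_Fix _).2.commute ((fb_mem_Fix _).1.mono hle)) (fb_idem _)) (fb_idem _)
    (hs.isPPart hy) (((fb_mem_Fix _).2.mono (h2.trans hle)).mul ((fb_mem_Fix _).2.mono h2))
    ((fb_mem_Fix _).2.mono h2) (by
      rw [H6.redA_mul (fb_mem_intAlg hb') (fb_mem_intAlg hb), redA_fb, redA_fb,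
        br_mul_of_supp' _ (hp.isPair S.pair).supp, hN, (hp.isPair S.pair).br_eq])]
  have h3 := h1 (fB (bsec M 2 P e u) * single y 1)
  rw [map_mul (push ℂ _), push_single, mul_assoc, single_mul_single, mul_one, ← H6.blockPart_eq_chiL _ hψ,
    ← H8.pReg_of_not_dvd (blockPart _ ψ) hy, H8.pReg_blockPart hM hb hψ, show pRegularPart 2 ψ = 0 from
      funext fun c => by
        by_cases hc : 2 ∣ orderOf c
        · exact H8.pReg_of_dvd _ hc
        · rw [H8.pReg_of_not_dvd _ hc]; exact h _ (hs.isPPart hc), H8.blockPart_zero] at h3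
  rw [mul_assoc, (hs.commute y).eq]
  exact h3

end Cfsg.Agent.H7.TB
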