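import Cfsg.Agent.H7.TB12

/-!
Tame blocks: small vectors.
-/

set_option autoImplicit false
set_option linter.unusedSectionVars false
set_option linter.style.haveILetI false
set_option warn.classDefReducibility false

namespace Cfsg.Agent.H7.TB

open MonoidAlgebra Cfsg Cfsg.Agent.H3 Cfsg.Agent.H4 Cfsg.Agent.H5
open Cfsg.Agent.H6 (Res locRing redC redA eB fB intAlg chiL blocks Uni dd)
open Cfsg.Agent.H8 (SecData sec sub bspan bfin lift cm)
open Cfsg.Agent.H11 (MC hh qq fr)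
open scoped Pointwise ComplexConjugate

/-- the small vectors of a table -/
structure Sm {I : Type*} (s : Finset I) (a : Fin 4 → I → ℤ) (N : Fin 4 → Prop) {ι : Type*}
    [Fintype ι] (J : ι → Fin 4) (δ : ι → ℤ) (v : ι → I → ℤ) : Prop where
  hδ : ∀ i, δ i = 1 ∨ (δ i = 0 ∧ N (J i))
  ex : ∀ j, N j → ∃ i, J i = j ∧ δ i = 0
  J0 : ∀ i, J i ≠ 0
  inj : ∀ i i', J i = J i' → δ i = 0 → i = i'
  vw : ∀ i, dot s (v i) (a 0) = 2
  vn : ∀ i, dot s (v i) (v i) = 2 + δ i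
  vv : ∀ i i', i ≠ i' → dot s (v i) (v i') = if J i = J i' then 2 else 1
  av : ∀ j, j ≠ 0 → ¬ N j → ∀ i, dot s (a j) (v i) = 0
  norm : ∀ j, dot s (a j) (a j) = 4 + 4 * ∑ i with J i = j, δ i
  span : ∀ n : I → ℂ, ∑ χ ∈ s, (a 0 χ : ℂ) * n χ = 0 → (∀ i, ∑ χ ∈ s, (v i χ : ℂ) * n χ = 0) →
    Rel s a n ∧ ∀ j, N j → FT s a n j = 0

theorem Tab.exists_small.{u} {I : Type u} {s : Finset I} {a : Fin 4 → I → ℤ} (h : Tab s a)
    (N : Fin 4 → Prop) (hN : ∀ j, N j → j ≠ 0 ∧ dot s (a j) (a j) = 4) :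
    ∃ (ι : Type u) (_ : Fintype ι) (J : ι → Fin 4) (δ : ι → ℤ) (v : ι → I → ℤ),
      Sm s a N J δ v := by
  classical
  choose! K K0 K1 K2 using fun χ (hχ : χ ∈ s ∧ a 0 χ = 0) => h.off hχ.1 hχ.2
  let O := {χ // χ ∈ s ∧ a 0 χ = 0}
  haveI : Fintype O := Fintype.subtype (s.filter fun χ => a 0 χ = 0) (by simp)
  let J : O ⊕ {j // N j} → Fin 4 := Sum.elim (fun χ => K χ.1) fun j => j.1
  let δ : O ⊕ {j // N j} → ℤ := Sum.elim (fun _ => 1) fun _ => 0
  let t : O ⊕ {j // N j} → I → ℤ :=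
    Sum.elim (fun χ ψ => if ψ = χ.1 then a (K χ.1) χ.1 else 0) fun _ _ => 0
  let v : O ⊕ {j // N j} → I → ℤ := fun i ψ => (a 0 ψ + a 0 ψ ^ 2 * a (J i) ψ - t i ψ) / 2
  have w3 : ∀ ψ ∈ s, a 0 ψ ^ 3 = a 0 ψ := fun ψ hψ => by
    by_cases e : a 0 ψ = 0
    · simp [e]
    · linear_combination a 0 ψ * h.sq_of_ne hψ e 0
  have wt : ∀ i ψ, a 0 ψ * t i ψ = 0 := by
    rintro (χ | j) ψ
    · by_cases e : ψ = χ.1
      · simp [e, χ.2.2]
      · simp [t, e]
    · simp [t]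
  have hv : ∀ i, ∀ ψ ∈ s, 2 * v i ψ = a 0 ψ + a 0 ψ ^ 2 * a (J i) ψ - t i ψ := fun i ψ hψ => by
    refine Int.mul_ediv_cancel' ?_
    by_cases e : a 0 ψ = 0
    · rcases i with χ | j
      · obtain ⟨c, hc⟩ := h.even_sub χ.2.1 (K χ.1)
        by_cases e' : ψ = χ.1
        · exact ⟨-c, by simp only [t, e', χ.2.2, Sum.elim_inl, if_pos] at hc ⊢; linear_combination -hc⟩
        · simp [t, e, e']
      · simp [t, e]
    · obtain ⟨c, hc⟩ := h.even_sub hψ (J i)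
      exact ⟨c + a 0 ψ, by
        rw [h.sq_of_ne hψ e, (mul_eq_zero.1 (wt i ψ)).resolve_left e]; linear_combination hc⟩
  have hsum : ∀ (R : Type) [CommRing R] (i) (n : I → R), 2 * ∑ χ ∈ s, (v i χ : R) * n χ =
      ∑ χ ∈ s, (a 0 χ : R) * n χ + FT s a n (J i) - ∑ χ ∈ s, (t i χ : R) * n χ := fun R _ i n => by
    rw [FT, Finset.mul_sum, ← Finset.sum_add_distrib, ← Finset.sum_sub_distrib]
    refine Finset.sum_congr rfl fun ψ hψ => ?_
    have := congrArg (Int.cast : ℤ → R) (hv i ψ hψ)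
    push_cast at this ⊢
    linear_combination n ψ * this
  have ht : ∀ (R : Type) [CommRing R] (χ : O) (n : I → R),
      ∑ ψ ∈ s, (t (.inl χ) ψ : R) * n ψ = a (K χ.1) χ.1 * n χ.1 := fun R _ χ n => by
    simp [t, χ.2.1]
  have J0 : ∀ i, J i ≠ 0 := by
    rintro (χ | j)
    exacts [K0 _ χ.2, (hN _ j.2).1]
  have hK : ∀ χ : O, ¬ N (K χ.1) := fun χ e => by
    have h1 := h.sq_eq_of_four (hN _ e).2 χ.2.1
    have h2 := K1 _ χ.2
    rw [← h1, χ.2.2] at h2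
    simp at h2
  have hav : ∀ j i, 2 * dot s (v i) (a j) = (if j = 0 then 4 else 0) +
      (if J i = j then 4 - 4 * δ i else 0) := fun j i => by
    have h1 := hsum ℤ i (a j)
    have h2 : FT s a (a j) (J i) = if J i = j then 4 else 0 := by
      rw [← h.dotT, FT]; exact Finset.sum_congr rfl fun _ _ => by simp [mul_assoc]
    have h3 : ∑ χ ∈ s, a 0 χ * a j χ = if j = 0 then 4 else 0 := by
      split_ifs with e
      exacts [e ▸ h.n0, h.orth 0 j (Ne.symm e)]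
    have h4 : ∑ χ ∈ s, t i χ * a j χ = if J i = j then 4 * δ i else 0 := by
      rcases i with χ | j'
      · have := ht ℤ χ (a j)
        simp only [Int.cast_id] at this
        rw [this]
        split_ifs with e
        · rw [← e]; exact (sq _).symm.trans (K1 _ χ.2)
        · rw [K2 _ χ.2 j (Ne.symm e), mul_zero]
      · simp [t, δ]
    simp only [Int.cast_id] at h1
    rw [dot, h1, h2, h3, h4]
    split_ifs <;> ring
  have hvv : ∀ i i', 4 * dot s (v i) (v i') = 4 + (if J i = J i' then 4 else 0) +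
      if i = i' then 4 * δ i else 0 := fun i i' => by
    have h4 : ∑ χ ∈ s, t i χ * t i' χ = if i = i' then 4 * δ i else 0 := by
      rcases i with χ | j'
      · have := ht ℤ χ (t i')
        simp only [Int.cast_id] at this
        rw [this]
        rcases i' with χ' | j'
        · by_cases e : χ = χ'
          · subst e; simpa [t, δ, ← sq] using K1 _ χ.2
          · simp [t, e, Subtype.coe_injective.ne e]
        · simp [t]
      · simp [t, δ]
    have h0 := h.dotT 0 0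
    have h1 := h.dotT 0 (J i')
    have h2 := h.dotT (J i) 0
    rw [if_neg (J0 _).symm] at h1
    rw [if_neg (J0 _)] at h2
    rw [if_pos rfl] at h0
    rw [← h4, ← h.dotT, dot, Finset.mul_sum]
    conv_rhs => rw [← h0, ← add_zero (Finset.sum s _), ← h1, ← add_zero (_ + _), ← h2]
    simp only [← Finset.sum_add_distrib]
    refine Finset.sum_congr rfl fun ψ hψ => ?_
    have e1 := hv i ψ hψ
    have e2 := hv i' ψ hψ
    have e3 := wt i ψ
    have e4 := wt i' ψ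
    have e5 := w3 ψ hψ
    linear_combination (2 * v i' ψ) * e1 + (a 0 ψ + a 0 ψ ^ 2 * a (J i) ψ - t i ψ) * e2 -
      (1 + a 0 ψ * a (J i') ψ) * e3 - (1 + a 0 ψ * a (J i) ψ) * e4 +
      a 0 ψ * (a (J i) ψ * a (J i') ψ - 1) * e5
  refine ⟨_, inferInstance, J, δ, v, ?_, fun j hj => ⟨.inr ⟨j, hj⟩, rfl, rfl⟩, J0, ?_, fun i => ?_,
    fun i => ?_, fun i i' e => ?_, fun j h0 hj i => ?_, fun j => ?_, fun n h0 h1 => ⟨?_, ?_⟩⟩
  · rintro (χ | j)
    exacts [Or.inl rfl, Or.inr ⟨rfl, j.2⟩]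
  · rintro (χ | j) (χ' | j') e1 e2
    · exact absurd e2 one_ne_zero
    · exact absurd e2 one_ne_zero
    · exact absurd ((show j.1 = K χ'.1 from e1) ▸ j.2) (hK χ')
    · exact congrArg _ (Subtype.ext e1)
  · have := hav 0 i
    rw [if_pos rfl, if_neg (J0 i)] at this
    omega
  · have := hvv i i
    rw [if_pos rfl, if_pos rfl] at this
    omega
  · have := hvv i i'
    rw [if_neg e] at this
    split_ifs at this ⊢ <;> omega
  · have := hav j i
    rw [if_neg h0, dot_comm] at this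
    split_ifs at this with e
    · rcases i with χ | j'
      · change _ = 0 + (4 - 4 * 1) at this
        omega
      · exact absurd (e ▸ j'.2) hj
    · omega
  · have h1 := h.dotT j j
    rw [if_pos rfl] at h1
    rw [Finset.sum_filter, Fintype.sum_sum_type]
    change _ = 4 + 4 * (∑ χ : O, (if K χ.1 = j then (1 : ℤ) else 0) +
      ∑ i : {j // N j}, if i.1 = j then 0 else 0)
    simp only [ite_self, Finset.sum_const_zero, add_zero]
    rw [← Finset.sum_subtype (s.filter fun χ => a 0 χ = 0) (p := fun χ => χ ∈ s ∧ a 0 χ = 0)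
      (by simp) fun χ => if K χ = j then (1 : ℤ) else 0, Finset.sum_filter, Finset.mul_sum]
    conv_rhs => enter [1]; rw [← h1]
    rw [← Finset.sum_add_distrib]
    refine Finset.sum_congr rfl fun χ hχ => ?_
    by_cases e : a 0 χ = 0
    · by_cases e' : K χ = j
      · simpa [e, e', ← sq] using K1 _ ⟨hχ, e⟩
      · simp [e, e', K2 _ ⟨hχ, e⟩ j (Ne.symm e')]
    · simp [e, h.sq_of_ne hχ e]
  · intro χ hχ e j hj
    obtain rfl : j = K χ := by_contra fun hn => hj (K2 _ ⟨hχ, e⟩ j hn)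
    have := hsum ℂ (.inl ⟨χ, hχ, e⟩) n
    rw [h1, h0, ht] at this
    change _ = _ + FT s a n (K χ) - _ at this
    linear_combination this
  · intro j hj
    have := hsum ℂ (.inr ⟨j, hj⟩) n
    rw [h1, h0] at this
    simpa [t, J] using this.symm

section mc
variable {G : Type*} [Group G] [Fintype G] {P : Subgroup G} {k : ℕ} {ε f : ZMod (2 ^ k)}
  {X Y : ZMod (2 ^ k) → G} (h : MC P k ε f X Y)
include h

theorem z_mem {a : ZMod (2 ^ k)} (ha : a ≠ 0) : X (hh k) ∈ Subgroup.zpowers (X a) := by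
  have h1 : orderOf (X a) ∣ 2 ^ k := h.orderOf_X_one ▸ orderOf_dvd_of_mem_zpowers (h.X_mem_zpowers_one a)
  obtain ⟨m, -, hm⟩ := (Nat.dvd_prime_pow Nat.prime_two).1 h1
  have h2 : 2 ∣ orderOf (X a) := hm ▸ dvd_pow_self 2 fun e =>
    ha (h.X_eq_one.1 (orderOf_eq_one_iff.1 (by rw [hm, e, pow_zero])))
  have h3 := orderOf_pow_orderOf_div (orderOf_pos (X a)).ne' h2
  have h4 := Subgroup.npow_mem_zpowers (X a) (orderOf (X a) / 2)
  rw [h.X_pow] at h3 h4
  rwa [h.orderOf_X_two.1 h3] at h4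

theorem tri {u : G} (hu : u ∈ P) :
    u = 1 ∨ X (hh k) ∈ Subgroup.zpowers u ∨ ∃ c, f + ε * c = 0 ∧ u = Y c := by
  obtain ⟨a, rfl | rfl⟩ := (h.mem u).1 hu
  · by_cases e : a = 0
    exacts [Or.inl (h.X_eq_one.2 e), Or.inr (Or.inl (z_mem h e))]
  · rcases h.Y_sq_cases a with e | e
    · exact Or.inr (Or.inr ⟨a, e, rfl⟩)
    · exact Or.inr (Or.inl (by rw [← e, ← h.Y_sq]; exact mul_mem (Subgroup.mem_zpowers _) (Subgroup.mem_zpowers _)))

theorem not_conj_four {c : ZMod (2 ^ k)} (hc : f + ε * c = 0) (g : G) (hg : 4 ∣ orderOf g) :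
    ¬ IsConj (Y c) (pp 2 g) := fun e => by
  obtain ⟨y, hy, hc', -, ho⟩ := isPPart_pp Nat.prime_two g
  have h1 := hc'.orderOf_mul_dvd_mul_orderOf
  rw [hy, ← ord_eq e, h.orderOf_Y_two.2 hc] at h1
  have := hg.trans h1
  omega

end mc

variable {M : Ideal AlgInt} [hMm : M.IsMaximal]

attribute [local instance] H8.subFintype

section
variable {G : Type*} [Group G] [Fintype G] {P : Subgroup G} {e : (Res M)[G]}
  {B : Set (IrrCharacter G)} (hM : IsPModular 2 M) (hB : IsPBlock M B)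
  (S : MaxP 2 ⊤ ⊤ (eB M B) P e)
include hM S

theorem sub_one_eq_zero {θ : G → ℂ} (hθ : IsClassFunction G θ) (h : pRegularPart 2 θ = 0) :
    sub 2 1 (bsec M 2 P e 1) θ = 0 := by
  rw [(S.secData hM P.one_mem).sub_eq hM (bsec_spec hM S.pair P.one_mem).1 hθ,
    show pRegularPart 2 (sec 1 _ θ) = 0 from funext fun y => by
      by_cases hy : 2 ∣ orderOf y
      · exact H8.pReg_of_dvd _ hy
      · rw [H8.pReg_of_not_dvd _ hy, H8.sec_apply, one_mul,
          ← H8.pReg_of_not_dvd (p := 2) θ (by rwa [Subgroup.orderOf_coe]), h]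
        rfl, H8.blockPart_zero]

include hB

theorem on_of_sub {k : ℕ} {ε f : ZMod (2 ^ k)} {X Y : ZMod (2 ^ k) → G} (h : MC P k ε f X Y)
    (hz : X (hh k) ∈ Subgroup.center G) {θ : G → ℂ} (hθ : θ ∈ bspan B)
    (h1 : pRegularPart 2 θ = 0)
    (h2 : ∀ c, f + ε * c = 0 → sub 2 (Y c) (bsec M 2 P e (Y c)) θ = 0) {g : G}
    (hg : X (hh k) ∉ Subgroup.zpowers g) : θ g = 0 := by
  classical
  have hΦ : ∀ u g : G, X (hh k) ∈ Subgroup.zpowers u → X (hh k) ∈ Subgroup.zpowers (g * u * g⁻¹) :=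
    fun u g ⟨n, hn⟩ => ⟨n, by
      dsimp only at hn ⊢
      rw [conj_zpow, hn, Subgroup.mem_center_iff.1 hz, mul_inv_cancel_right]⟩
  have hc := isClassFunction_of_bspan hθ
  rw [← S.ext_bsec hM hB (tr_mem hΦ hM hB hθ) hθ fun u => ?_,
    tr_neg _ (mt (mem_zpowers_pp h.orderOf_z).1 hg)]
  rw [sub_tr hΦ hM (S.secData hM u.2) (bsec_spec hM S.pair u.2).1 hc]
  split_ifs with e
  · rfl
  · obtain ⟨u, hu⟩ := u
    rcases tri h hu with rfl | e' | ⟨c, e', rfl⟩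
    exacts [(sub_one_eq_zero hM S hc h1).symm, absurd e' e, (h2 c e').symm]

end

theorem sv.{u} {G : Type u} [Group G] [Fintype G] {P : Subgroup G} {e : (Res M)[G]}
    {B : Set (IrrCharacter G)} (hM : IsPModular 2 M) (hB : IsPBlock M B)
    (S : MaxP 2 ⊤ ⊤ (eB M B) P e) {l : ℕ}
    {ε f : ZMod (2 ^ (l + 2))} {X Y : ZMod (2 ^ (l + 2)) → G} (h : MC P (l + 2) ε f X Y)
    (hz : X (hh (l + 2)) ∈ Subgroup.center G) (IH : l ≠ 0 → DH.{u} M (l + 1)) :
    ∃ (a : Fin 4 → IrrCharacter G → ℤ) (N : Fin 4 → Prop) (ι : Type u) (_ : Fintype ι)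
      (J : ι → Fin 4) (δ : ι → ℤ) (v : ι → IrrCharacter G → ℤ),
      TD B (2 ^ (l + 2)) (fun g => 4 ∣ orderOf g) a ∧ Sm (bfin B) a N J δ v ∧
      (∀ j, N j → j = 2 ∨ j = 3) ∧
      (∀ g, X (hh (l + 2)) ∉ Subgroup.zpowers g → vec B (a 0) g = 0) ∧
      (∀ i g, X (hh (l + 2)) ∉ Subgroup.zpowers g → vec B (v i) g = 0) ∧
      (∀ n : IrrCharacter G → ℂ, ∑ χ ∈ bfin B, (a 0 χ : ℂ) * n χ = 0 →
        (∀ i, ∑ χ ∈ bfin B, (v i χ : ℂ) * n χ = 0) → ∀ g, X (hh (l + 2)) ∈ Subgroup.zpowers g →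
          ∑ χ ∈ bfin B, n χ * (χ : G → ℂ) g = 0) ∧
      ((∃ c, f + ε * c = 0) → nn B (a 2) = 4 ∨ nn B (a 3) = 4) ∧
      (ε = 0 → f = 0 → nn B (a 2) = 4 ∧ nn B (a 3) = 4) ∧
      ((∀ c, f + ε * c ≠ 0) → ∀ j, j = 2 ∨ j = 3 → ¬ N j → nn B (a j) = 8) ∧
      (ε ≠ 0 → ¬ N 2 → ¬ N 3 → nn B (a 2) = 8 ∨ nn B (a 3) = 8) := by
  classical
  obtain ⟨a, T, h8⟩ := cen hM hB S h hz IH
  have hd : blockDefect 2 B = l + 2 + 1 := Nat.pow_right_injective le_rfl
    ((H8.card_defectGroup hM hB ((isDefectGroup_iff hM hB).2 S.isDef)).symm.trans h.card)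
  let A : ZMod (2 ^ (l + 2)) → Fin 4 → Prop := fun c j => ∃ y, Col M P e B (Y c) y ∧
    ∃ η : ℤ, η * η = 1 ∧ ∀ χ ∈ bfin B, y χ = η * a j χ
  have hA : ∀ c, f + ε * c = 0 → ∃ j, (j = 2 ∨ j = 3) ∧ ¬ Rg B (a j) ∧ A c j := fun c hc => by
    obtain ⟨y, hy⟩ := exists_col_V hM hB S h hc fun e => not_isConj_z h hz c e.isConj.symm
    obtain ⟨j, h1, h2, h3⟩ := T.col hM hB h.two_le rfl hd S (h.Y_mem c) (h.Y_ne_one c)
      (not_conj_four h hc) hy
    exact ⟨j, h1, h2, y, hy, h3⟩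
  have hAv : ∀ {c j}, A c j → ∀ θ, IsClassFunction G θ →
      (sub 2 (Y c) (bsec M 2 P e (Y c)) θ = 0 ↔ classInner θ (vec B (a j)) = 0) := by
    rintro c j ⟨y, hy, η, hη, e⟩ θ hθ
    rw [hy.iff hθ, vec_lin η 0 (a := a j) (a' := 0) fun χ hχ => by simp [e χ hχ]]
    rcases mul_self_eq_one_iff.1 hη with rfl | rfl <;> simp [classInner_neg_right]
  let N : Fin 4 → Prop := fun j => (j = 2 ∨ j = 3) ∧ ¬ Rg B (a j) ∧ ¬ ∃ c, f + ε * c = 0 ∧ A c j
  have n4 : ∀ {j}, ¬ Rg B (a j) → nn B (a j) = 4 := fun hj => ((T.reg _).resolve_left hj).2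
  obtain ⟨ι, _, J, δ, v, sm⟩ := T.tab.exists_small N fun j hj =>
    ⟨by rcases hj.1 with rfl | rfl <;> decide, n4 hj.2.1⟩
  have hon : ∀ n, (∀ j, j ≠ 0 → ¬ N j → dot (bfin B) (a j) n = 0) →
      ∀ g, X (hh (l + 2)) ∉ Subgroup.zpowers g → vec B n g = 0 := fun n hn g hg => by
    refine on_of_sub hM hB S h hz (vec_mem n) (funext fun g => ?_) (fun c hc => ?_) hg
    · by_cases hg : 2 ∣ orderOf g
      · exact H8.pReg_of_dvd _ hg
      rw [H8.pReg_of_not_dvd _ hg, vec_apply]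
      apply mul_left_cancel₀ (by norm_num : (4 : ℂ) ≠ 0)
      rw [T.tab.parseval (T.rel g hg), Pi.zero_apply, mul_zero]
      refine Finset.sum_eq_zero fun j _ => ?_
      by_cases e : Rg B (a j)
      · have := congrArg (Int.cast : ℤ → ℂ) (hn j (fun e' => T.not_rg0 (e' ▸ e)) fun e' => e'.2.1 e)
        rw [dot] at this
        push_cast at this
        rw [this, mul_zero]
      · rw [T.tab.FT_of_four (n4 e), ← vec_apply, ← H8.pReg_of_not_dvd (vec B _) hg, T.not_rg_iff.1 e,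
          Pi.zero_apply, zero_mul]
    · obtain ⟨j, h1, h2, h3⟩ := hA c hc
      rw [hAv h3 _ (vec_cf _), inner_vec_vec, dot_comm, hn j (by rcases h1 with rfl | rfl <;> decide)
        fun e => e.2.2 ⟨c, hc, h3⟩, Int.cast_zero]
  have hne : ∀ {c c' j}, A c j → A c' j → Fus M 2 P e (Y c) (Y c') := by
    rintro c c' j ⟨y, hy, η, hη, e⟩ ⟨y', hy', η', hη', e'⟩
    by_contra hn
    have := hy.orth hM hB S hy' (h.Y_mem _) (h.Y_mem _) hn
    rw [dot_congr e e', dot, Finset.sum_congr rfl fun χ _ => mul_mul_mul_comm _ _ _ _,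
      ← Finset.mul_sum] at this
    have h4 : 4 ≤ ∑ χ ∈ bfin B, a j χ * a j χ := T.four_le j
    rcases mul_self_eq_one_iff.1 hη with rfl | rfl <;>
      rcases mul_self_eq_one_iff.1 hη' with rfl | rfl <;> omega
  refine ⟨a, N, ι, _, J, δ, v, T, sm, fun j hj => hj.1,
    hon _ fun j h0 _ => T.tab.orth j 0 h0, fun i => hon _ fun j h0 hj => sm.av j h0 hj i,
    fun n h0 h1 g hg => ?_, fun ⟨c, hc⟩ => ?_, fun hε hf => ?_, fun hV j hj hN => ?_,
    fun hε h2 h3 => ?_⟩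
  · obtain ⟨r1, r2⟩ := sm.span n h0 h1
    apply mul_left_cancel₀ (by norm_num : (4 : ℂ) ≠ 0)
    rw [Finset.sum_congr rfl fun χ _ => mul_comm _ _, T.tab.parseval r1, mul_zero]
    refine Finset.sum_eq_zero fun j _ => ?_
    by_cases e0 : j = 0
    · rw [e0, T.tab.FT_zero, h0, zero_mul]
    by_cases e1 : N j
    · rw [r2 j e1, zero_mul]
    rw [← vec_apply]
    by_cases e2 : Rg B (a j)
    · rw [← e2, H8.pReg_of_dvd _ (two_dvd_of_mem h.orderOf_z hg), mul_zero]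
    have hj : j = 2 ∨ j = 3 := by
      have : j ≠ 1 := fun e => e2 (e ▸ T.reg1)
      omega
    obtain ⟨c, hc, y, hy, η, hη, e3⟩ : ∃ c, f + ε * c = 0 ∧ A c j := by_contra fun e => e1 ⟨hj, e2, e⟩
    have : vec B y g = 0 := by_contra fun hn => by
      have h1 := hy.supp g hn
      rw [eq_of_invol h.orderOf_z ((mem_zpowers_pp h.orderOf_z).2 hg) (Subgroup.mem_zpowers _)
        ((ord_eq h1).symm.trans (h.orderOf_Y_two.2 hc))] at h1
      exact not_isConj_z h hz c h1.symm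
    rw [vec_lin η 0 (a := a j) (a' := 0) fun χ hχ => by simp [e3 χ hχ]] at this
    rcases mul_self_eq_one_iff.1 hη with rfl | rfl <;> simp at this <;> simp [this]
  · obtain ⟨j, rfl | rfl, h2, -⟩ := hA c hc
    exacts [Or.inl (n4 h2), Or.inr (n4 h2)]
  · obtain ⟨j, h1, h2, h3⟩ := hA 0 (by simp [hf])
    obtain ⟨j', h1', h2', h3'⟩ := hA 1 (by simp [hf, hε])
    have : j ≠ j' := fun e => not_fus_Y hM hB S h hz hε hf (hne h3 (e ▸ h3'))
    rcases h1 with rfl | rfl <;> rcases h1' with rfl | rfl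
    exacts [absurd rfl this, ⟨n4 h2, n4 h2'⟩, ⟨n4 h2', n4 h2⟩, absurd rfl this]
  · exact h8 j hj (by_contra fun e => hN ⟨hj, e, fun ⟨c, hc, _⟩ => hV c hc⟩)
  · by_contra hn
    rw [not_or] at hn
    obtain ⟨c, hc, h2⟩ : ∃ c, f + ε * c = 0 ∧ A c 2 := by_contra fun e =>
      h2 ⟨Or.inl rfl, fun e' => hn.1 (h8 2 (Or.inl rfl) e'), e⟩
    obtain ⟨c', hc', h3⟩ : ∃ c, f + ε * c = 0 ∧ A c 3 := by_contra fun e =>
      h3 ⟨Or.inr rfl, fun e' => hn.2 (h8 3 (Or.inr rfl) e'), e⟩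
    obtain ⟨d, hd | hd⟩ := H11.zparity (c' - c)
    · have h4 : A c 3 := by
        obtain ⟨y, hy, h3⟩ := h3
        refine ⟨y, hy.of_fus hM S (h.Y_mem _) (h.Y_mem _) ?_, h3⟩
        rw [show c' = c + 2 * d by rw [← hd]; ring]
        exact fus_Y hM S h c d
      have := (hAv h2 _ (vec_cf (a 2))).1 ((hAv h4 _ (vec_cf (a 2))).2 (by
        rw [inner_vec_vec, T.tab.orth 2 3 (by decide), Int.cast_zero]))
      rw [inner_vec_vec] at this
      exact T.nn_ne 2 this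
    · exact hε (by linear_combination hc' - hc - ε * hd - d * h.e2)

end Cfsg.Agent.H7.TB
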