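import Cfsg.Agent.H7.TB5
import Cfsg.Agent.H8.Dom

/-!
Tame blocks: passage from a central quotient.
-/

set_option autoImplicit false
set_option linter.unusedSectionVars false
set_option linter.style.haveILetI false
set_option warn.classDefReducibility false

namespace Cfsg.Agent.H7.TB

open MonoidAlgebra Cfsg Cfsg.Agent.H3 Cfsg.Agent.H4 Cfsg.Agent.H5
open Cfsg.Agent.H6 (Res locRing redC redA eB fB intAlg chiL blocks Uni dd)
open Cfsg.Agent.H8 (SecData sec sub bspan bfin lift cm)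
open scoped Pointwise ComplexConjugate

theorem pReg_mem {G : Type*} [Group G] [Fintype G] {M : Ideal AlgInt} {p : ℕ} [Fact p.Prime]
    (hM : IsPModular p M) {B : Set (IrrCharacter G)} (hB : IsPBlock M B) {θ : G → ℂ}
    (hθ : θ ∈ bspan B) : pRegularPart p θ ∈ bspan B := by
  rw [← H8.blockPart_of_mem_bspan hθ, H8.pReg_blockPart hM hB (isClassFunction_of_bspan hθ)]
  exact H8.blockPart_mem_bspan _

variable {G : Type*} [Group G] [Fintype G] {z : G} (hz : z ∈ Subgroup.center G)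
  (hz2 : orderOf z = 2)
include hz hz2

theorem om_eq {ψ : IrrCharacter G} (h : (ψ : G → ℂ) z ≠ (ψ : G → ℂ) 1) :
    (ψ : G → ℂ) z / (ψ : G → ℂ) 1 = -1 :=
  (sq_eq_one_iff.1 (H8.irr_central_pow_orderOf ψ.2 hz (hz2 ▸ pow_orderOf_eq_one z))).resolve_left
    fun e => h ((div_eq_one_iff_eq ψ.2.apply_one_ne_zero).1 e)

theorem two_dvd_mul {g : G} (hg : ¬ 2 ∣ orderOf g) : 2 ∣ orderOf (z * g) := by
  have hc : Commute z g := (Subgroup.mem_center_iff.1 hz g).symm
  rw [hc.orderOf_mul_eq_mul_orderOf_of_coprime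
    (hz2 ▸ (Nat.Prime.coprime_iff_not_dvd Nat.prime_two).2 hg), hz2]
  exact dvd_mul_right _ _

theorem exists_plus {M : Ideal AlgInt} [M.IsMaximal] (hM : IsPModular 2 M)
    {B : Set (IrrCharacter G)} (hB : IsPBlock M B) {ξ : IrrCharacter G} (hξ : ξ ∈ B) :
    ∃ n : IrrCharacter G → ℤ, (∀ ψ : IrrCharacter G, (ψ : G → ℂ) z ≠ (ψ : G → ℂ) 1 → n ψ = 0) ∧
      pRegularPart 2 ξ.1 = pRegularPart 2 (vec B n) := by
  have hg := H8.isGen_rPart (p := 2) ξ.2.isCharacter
  obtain ⟨a, ha, -⟩ := hg.exists_int_norm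
  have e1 : pRegularPart 2 ξ.1 = pRegularPart 2 fun g => ξ.1 (H8.rPart 2 g) := funext fun g => by
    simp only [H8.pReg_eq_ite]
    split_ifs with h
    · rfl
    · rw [H8.rPart_of_not_dvd h]
  refine ⟨a, fun ψ h => ?_, ?_⟩
  · have e3 := H8.classInner_shift hg.isClassFunction hz ψ
    simp only [H8.rPart_central_mul (p := 2) hz ⟨1, by simpa using hz2⟩, ha, om_eq hz hz2 h] at e3
    exact_mod_cast (by linear_combination e3 / 2 : (a ψ : ℂ) = 0)
  · rw [← H8.blockPart_of_mem_bspan (H8.pReg_mem_bspan hM hB hξ), e1,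
      ← H8.pReg_blockPart hM hB hg.isClassFunction, H8.blockPart_eq]
    simp only [ha, vec]

variable [(Subgroup.zpowers z).Normal] [Fintype (G ⧸ Subgroup.zpowers z)]

omit hz in
theorem mk_eq_one {g : G} (h : QuotientGroup.mk' (Subgroup.zpowers z) g = 1) : g = 1 ∨ g = z := by
  obtain ⟨n, rfl⟩ := (QuotientGroup.eq_one_iff g).1 h
  have h2 : z ^ (2 : ℤ) = 1 := by exact_mod_cast hz2 ▸ pow_orderOf_eq_one z
  obtain ⟨c, rfl | rfl⟩ := Int.even_or_odd' n <;> simp [zpow_add, zpow_mul, h2]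

theorem comp_eq_add {f : G ⧸ Subgroup.zpowers z → ℂ} (hf : pRegularPart 2 f = f) :
    (fun g => f (QuotientGroup.mk' _ g)) = pRegularPart 2 (fun g => f (QuotientGroup.mk' _ g)) +
      fun g => pRegularPart 2 (fun g => f (QuotientGroup.mk' _ g)) (z * g) := by
  ext g
  have h1 : QuotientGroup.mk' (Subgroup.zpowers z) z = 1 :=
    (QuotientGroup.eq_one_iff z).2 (Subgroup.mem_zpowers z)
  simp only [Pi.add_apply, H8.pReg_eq_ite, map_mul, h1, one_mul]
  by_cases hg : 2 ∣ orderOf g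
  · rw [if_pos hg, zero_add]
    split_ifs with hg'
    · rw [← hf]
      refine H8.pReg_of_dvd _ (by_contra fun hn => ?_)
      rcases mk_eq_one hz2 (g := g ^ orderOf (QuotientGroup.mk' (Subgroup.zpowers z) g))
        (by rw [map_pow, pow_orderOf_eq_one]) with e | e
      · exact hn (hg.trans (orderOf_dvd_of_pow_eq_one e))
      · refine hn (hg'.trans (orderOf_dvd_of_pow_eq_one ?_))
        obtain ⟨c, hc⟩ := Nat.odd_iff.2 (Nat.two_dvd_ne_zero.1 hn)
        have h2 : z ^ 2 = 1 := hz2 ▸ pow_orderOf_eq_one z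
        rw [Commute.mul_pow (Subgroup.mem_center_iff.1 hz g).symm, e, hc, pow_succ, pow_mul, h2,
          one_pow, one_mul, ← sq, h2]
    · rfl
  · rw [if_neg hg, if_pos (two_dvd_mul hz hz2 hg), add_zero]

theorem q1 {M : Ideal AlgInt} [M.IsMaximal] (hM : IsPModular 2 M)
    {B : Set (IrrCharacter G)} (hB : IsPBlock M B) {c : Set (IrrCharacter (G ⧸ Subgroup.zpowers z))}
    (hc : ∀ χ, χ ∈ c ↔ irrComp _ (QuotientGroup.mk'_surjective _) χ ∈ B) {l : ℕ}
    (hd : blockDefect 2 B = l + 3) {Φ : G ⧸ Subgroup.zpowers z → Prop}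
    {a : Fin 4 → IrrCharacter (G ⧸ Subgroup.zpowers z) → ℤ} (h : TD c (2 ^ (l + 1)) Φ a)
    (h2 : nn c (a 2) = 4) (h3 : nn c (a 3) = 4) (h23 : l = 0 → (Rg c (a 2) ↔ Rg c (a 3)))
    (hh : ∀ ψ ∈ B, (ψ : G → ℂ) z ≠ (ψ : G → ℂ) 1 → blockHeight 2 B (ψ : G → ℂ) ≠ 0)
    [DecidablePred fun ψ : IrrCharacter G => (ψ : G → ℂ) z ≠ (ψ : G → ℂ) 1]
    (hcnt : ∃ r : ℝ, 2 ^ l - 1 ≤ r ∧
      (((bfin B).filter fun ψ : IrrCharacter G => (ψ : G → ℂ) z ≠ (ψ : G → ℂ) 1).card : ℂ) =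
      ∑ ψ ∈ (bfin B).filter fun ψ : IrrCharacter G => (ψ : G → ℂ) z ≠ (ψ : G → ℂ) 1,
        2 * classInner (pRegularPart 2 (ψ : G → ℂ)) ψ + r) :
    ∃ a', TD B (2 ^ (l + 2)) (fun g => Φ (QuotientGroup.mk' _ g)) a' ∧
      ∀ j, j = 2 ∨ j = 3 → Rg B (a' j) → nn B (a' j) = 8 := by
  classical
  set π := QuotientGroup.mk' (Subgroup.zpowers z)
  set ι := irrComp π (QuotientGroup.mk'_surjective _)
  have hπz : π z = 1 := (QuotientGroup.eq_one_iff z).2 (Subgroup.mem_zpowers z)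
  have hι : Function.Injective ι := fun χ χ' e => Subtype.ext (funext fun q => by
    obtain ⟨g, rfl⟩ := QuotientGroup.mk'_surjective _ q
    exact congrFun (congrArg Subtype.val e) g)
  have hιz : ∀ χ, (ι χ : G → ℂ) z = (ι χ : G → ℂ) 1 := fun χ => by
    simp only [ι, irrComp_apply, hπz, map_one]
  have hsurj : ∀ ψ : IrrCharacter G, (ψ : G → ℂ) z = (ψ : G → ℂ) 1 → ∃ χ, ι χ = ψ := fun ψ e => by
    have h0 : Subgroup.zpowers z ≤ charKer ψ.1 :=
      Subgroup.zpowers_le.2 (ψ.2.isCharacter.mem_charKer.2 e)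
    exact ⟨⟨_, ψ.2.deflate h0⟩, Subtype.ext (funext fun g => deflate_mk h0 g)⟩
  have hsum : ∀ {A : Type} [AddCommMonoid A] (F : IrrCharacter G → A),
      (∀ ψ : IrrCharacter G, (ψ : G → ℂ) z ≠ (ψ : G → ℂ) 1 → F ψ = 0) →
      ∑ ψ ∈ bfin B, F ψ = ∑ χ ∈ bfin c, F (ι χ) := fun F hF =>
    (Finset.sum_of_injOn ι hι.injOn (fun χ hχ => H8.mem_bfin.2 ((hc χ).1 (H8.mem_bfin.1 hχ)))
      (fun ψ hψ hn => hF ψ fun e => by
        obtain ⟨χ, rfl⟩ := hsurj ψ e
        exact hn ⟨χ, H8.mem_bfin.2 ((hc χ).2 (H8.mem_bfin.1 hψ)), rfl⟩) fun _ _ => rfl).symm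
  let ap : Fin 4 → IrrCharacter G → ℤ := fun j => Function.extend ι (a j) 0
  have ap1 : ∀ j χ, ap j (ι χ) = a j χ := fun j χ => hι.extend_apply _ _ _
  have ap0 : ∀ j (ψ : IrrCharacter G), (ψ : G → ℂ) z ≠ (ψ : G → ℂ) 1 → ap j ψ = 0 :=
    fun j ψ e => Function.extend_apply' _ _ _ fun ⟨χ, e'⟩ => e (e' ▸ hιz χ)
  have hvec : ∀ j, vec B (ap j) = fun g => vec c (a j) (π g) := fun j => funext fun g => by
    rw [vec_apply, vec_apply, hsum _ fun ψ e => by rw [ap0 j ψ e]; simp]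
    simp only [ap1]
    rfl
  have hdot : ∀ i j, dot (bfin B) (ap i) (ap j) = dot (bfin c) (a i) (a j) := fun i j => by
    rw [dot, hsum _ fun ψ e => by rw [ap0 j ψ e, mul_zero]]
    simp only [ap1]
    rfl
  have hreg : ∀ g : G, ¬ 2 ∣ orderOf g → ¬ 2 ∣ orderOf (π g) := fun g hg e =>
    hg (e.trans (orderOf_map_dvd π g))
  have hplus : ∀ j, Rg c (a j) → ∀ ψ ∈ B, (ψ : G → ℂ) z = (ψ : G → ℂ) 1 →
      2 * classInner (pRegularPart 2 (vec B (ap j))) ψ = ap j ψ := fun j hj ψ hψ e => by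
    have e1 := comp_eq_add hz hz2 hj
    rw [← hvec] at e1
    rw [← inner_vec_irr _ hψ]
    conv_rhs => rw [e1]
    rw [classInner_add_left, H8.classInner_shift (H8.pReg_isClassFunction (vec_cf _)) hz, e,
      div_self ψ.2.apply_one_ne_zero]
    ring
  choose! n n0 n1 using fun ξ hξ => exists_plus hz hz2 hM hB (ξ := ξ) hξ
  have hco : ∀ j, Rg c (a j) → ∀ ψ ∈ B, 2 * classInner (pRegularPart 2 (vec B (ap j))) ψ =
      dot (bfin B) (n ψ) (ap j) := fun j hj ψ hψ => by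
    rw [← H8.classInner_pReg_pReg, n1 ψ hψ, H8.classInner_pReg_pReg, inner_vec_right, dot,
      Finset.mul_sum]
    push_cast
    refine Finset.sum_congr rfl fun χ hχ => ?_
    by_cases e : (χ : G → ℂ) z = (χ : G → ℂ) 1
    · rw [← hplus j hj χ (H8.mem_bfin.1 hχ) e]; ring
    · simp [n0 ψ hψ χ e]
  let a' : Fin 4 → IrrCharacter G → ℤ := fun j ψ =>
    if Rg c (a j) then dot (bfin B) (n ψ) (ap j) else ap j ψ
  have a'p : ∀ j, ∀ ψ ∈ B, (ψ : G → ℂ) z = (ψ : G → ℂ) 1 → a' j ψ = ap j ψ := fun j ψ hψ e => by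
    simp only [a']
    split_ifs with hj
    · exact_mod_cast (hco j hj ψ hψ).symm.trans (hplus j hj ψ hψ e)
    · rfl
  have a'n : ∀ j, ¬ Rg c (a j) → a' j = ap j := fun j hj => funext fun ψ => if_neg hj
  have a'r : ∀ j, Rg c (a j) → vec B (a' j) = (2 : ℂ) • pRegularPart 2 (vec B (ap j)) :=
    fun j hj => by
      have := pReg_mem hM hB (vec_mem (B := B) (ap j))
      rw [← H8.blockPart_of_mem_bspan this, H8.blockPart_eq, vec, Finset.smul_sum]
      refine Finset.sum_congr rfl fun ψ hψ => ?_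
      rw [smul_smul, hco j hj ψ (H8.mem_bfin.1 hψ)]
      simp only [a', if_pos hj]
  have hn0 : ∀ j, ¬ Rg c (a j) → pRegularPart 2 (vec B (a' j)) = 0 := fun j hj => by
    ext g
    by_cases hg : 2 ∣ orderOf g
    · exact H8.pReg_of_dvd _ hg
    · rw [H8.pReg_of_not_dvd _ hg, a'n j hj, hvec]
      have := congrFun (h.not_rg_iff.1 hj) (π g)
      rwa [H8.pReg_of_not_dvd _ (hreg g hg)] at this
  have hrg : ∀ j, Rg c (a j) → Rg B (a' j) := fun j hj => by
    rw [Rg, a'r j hj, H8.pReg_smul, H8.pReg_pReg]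
  have hdp : ∀ i j, dot (bfin B) (a' i) (ap j) = dot (bfin c) (a i) (a j) := fun i j => by
    rw [← hdot]
    refine Finset.sum_congr rfl fun ψ hψ => ?_
    by_cases e : (ψ : G → ℂ) z = (ψ : G → ℂ) 1
    · rw [a'p i ψ (H8.mem_bfin.1 hψ) e]
    · simp [ap0 j ψ e]
  have hd2 : ∀ i j, Rg c (a i) → Rg c (a j) →
      dot (bfin B) (a' i) (a' j) = 2 * dot (bfin c) (a i) (a j) := fun i j hi hj => by
    have := inner_vec_vec (B := B) (a' i) (a' j)
    rw [a'r j hj, classInner_smul_right, ← H8.classInner_pReg_left, hrg i hi, inner_vec_vec,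
      hdp, map_ofNat] at this
    exact_mod_cast this.symm
  have hd1 : ∀ i j, ¬ Rg c (a j) → dot (bfin B) (a' i) (a' j) = dot (bfin c) (a i) (a j) :=
    fun i j hj => by rw [a'n j hj, hdp]
  have hspan : ∀ ψ ∈ B, pRegularPart 2 (ψ : G → ℂ) =
      ∑ j, ((a' j ψ : ℂ) / nn c (a j)) • pRegularPart 2 (vec B (ap j)) := fun ψ hψ => by
    ext g
    simp only [Finset.sum_apply, Pi.smul_apply, smul_eq_mul]
    by_cases hg : 2 ∣ orderOf g
    · simp [H8.pReg_of_dvd _ hg]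
    rw [n1 ψ hψ]
    simp only [H8.pReg_of_not_dvd _ hg]
    rw [vec_apply, hsum _ fun χ e => by rw [n0 ψ hψ χ e]; simp,
      Finset.sum_congr rfl fun χ hχ => by
        have := congrFun (h.pReg_eq (H8.mem_bfin.1 hχ)) (π g)
        simp only [Finset.sum_apply, Pi.smul_apply, smul_eq_mul,
          H8.pReg_of_not_dvd _ (hreg g hg)] at this
        rw [show (ι χ : G → ℂ) g = _ from this, Finset.mul_sum], Finset.sum_comm]
    refine Finset.sum_congr rfl fun j _ => ?_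
    by_cases hj : Rg c (a j)
    · simp only [a', if_pos hj, hvec]
      rw [dot, hsum _ fun χ e => by rw [ap0 j χ e, mul_zero]]
      push_cast
      rw [Finset.sum_div, Finset.sum_mul]
      exact Finset.sum_congr rfl fun χ _ => by rw [ap1]; ring
    · have := congrFun (h.not_rg_iff.1 hj) (π g)
      rw [H8.pReg_of_not_dvd _ (hreg g hg)] at this
      simp [hvec, this]
  have hin : ∀ χ ∈ B, ∀ ψ ∈ B, 2 * classInner (pRegularPart 2 (χ : G → ℂ)) ψ =
      ∑ j, if Rg c (a j) then (a' j χ : ℂ) * a' j ψ / nn c (a j) else 0 := fun χ hχ ψ hψ => by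
    rw [hspan χ hχ, classInner_sum_left, Finset.mul_sum]
    refine Finset.sum_congr rfl fun j _ => ?_
    rw [classInner_smul_left, mul_left_comm]
    split_ifs with hj
    · rw [hco j hj ψ hψ]; simp only [a', if_pos hj]; ring
    · rw [← a'n j hj, hn0 j hj, classInner_zero_left, mul_zero, mul_zero]
  have hev : ∀ ψ ∈ B, (ψ : G → ℂ) z ≠ (ψ : G → ℂ) 1 → ∀ j, Even (a' j ψ) := fun ψ hψ e => by
    have p1 : ∀ j, Even (dot (bfin B) (n ψ) (ap j) - dot (bfin B) (n ψ) (ap 0)) := fun j => by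
      rw [dot, dot, ← Finset.sum_sub_distrib, hsum _ fun χ e => by simp [ap0 _ χ e]]
      refine Finset.even_sum _ fun χ hχ => ?_
      rw [← mul_sub, ap1, ap1]
      exact (h.tab.even_sub hχ j).mul_left _
    suffices p2 : Even (dot (bfin B) (n ψ) (ap 0)) from fun j => by
      simp only [a']
      split_ifs
      · simpa using (p1 j).add p2
      · simp [ap0 j ψ e]
    obtain ⟨χ, hχ, e0⟩ := h.tab.exists_T
    have hχ' := (hc χ).1 (H8.mem_bfin.1 hχ)
    have q1 := (dvd_pow_self _ (hh ψ hψ e)).trans (H8.pow_height_dvd_cm (p := 2) hχ' hψ)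
    have q2 := H8.cm_cast (p := 2) hχ' ψ
    have q3 := hin _ hχ' ψ hψ
    rw [Fin.sum_univ_four, if_neg h.not_rg0, if_pos h.reg1, h.n1, h2, h3] at q3
    simp only [a'p _ _ hχ' (hιz χ), ap1] at q3
    have q4 : cm 2 B (ι χ) ψ = a 1 χ * a' 1 ψ + 2 ^ l *
        ((if Rg c (a 2) then a 2 χ * a' 2 ψ else 0) + if Rg c (a 3) then a 3 χ * a' 3 ψ else 0) := by
      have : (cm 2 B (ι χ) ψ : ℂ) = 2 ^ (l + 2) * (2 * classInner (pRegularPart 2 (ι χ).1) ψ) := by
        rw [q2, hd]; push_cast; ring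
      rw [q3] at this
      have t : (cm 2 B (ι χ) ψ : ℂ) = a 1 χ * a' 1 ψ + 2 ^ l *
          ((if Rg c (a 2) then (a 2 χ : ℂ) * a' 2 ψ else 0) +
            if Rg c (a 3) then (a 3 χ : ℂ) * a' 3 ψ else 0) := by
        rw [this]; split_ifs <;> push_cast <;> field_simp <;> ring
      exact_mod_cast t
    have o := fun j => sq_eq_one_iff.1 (h.tab.sq_of_ne hχ e0 j)
    have r1 := p1 1
    have r2 := p1 2
    have r3 := p1 3
    have hl : (∃ t : ℤ, (2 : ℤ) ^ l = 2 * t) ∨ ((2 : ℤ) ^ l = 1 ∧ (Rg c (a 2) ↔ Rg c (a 3))) := by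
      cases l with
      | zero => exact Or.inr ⟨rfl, h23 rfl⟩
      | succ l => exact Or.inl ⟨2 ^ l, by ring⟩
    rw [q4] at q1
    simp only [a', if_pos h.reg1] at q1
    rw [Int.even_iff] at *
    rcases hl with ⟨t, ht⟩ | ⟨ht, ht'⟩
    · rw [ht, mul_assoc] at q1
      rcases o 1 with o1 | o1 <;> rw [o1] at q1 <;> omega
    · by_cases e2 : Rg c (a 2)
      · simp only [if_pos e2, if_pos (ht'.1 e2), ht] at q1
        rcases o 1 with o1 | o1 <;> rcases o 2 with o2 | o2 <;> rcases o 3 with o3 | o3 <;>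
          rw [o1, o2, o3] at q1 <;> omega
      · simp only [if_neg e2, if_neg (mt ht'.2 e2)] at q1
        rcases o 1 with o1 | o1 <;> rw [o1] at q1 <;> omega
  set sm := (bfin B).filter fun ψ : IrrCharacter G => (ψ : G → ℂ) z ≠ (ψ : G → ℂ) 1
  have hsm : ∀ j, ∑ ψ ∈ sm, a' j ψ * a' j ψ = if Rg c (a j) then nn c (a j) else 0 := fun j => by
    split_ifs with hj
    · have e1 := hd2 j j hj hj
      have e2 := hdp j j
      have : ∑ ψ ∈ sm, a' j ψ * a' j ψ = dot (bfin B) (a' j) (a' j) - dot (bfin B) (a' j) (ap j) := by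
        rw [Finset.sum_filter, dot, dot, ← Finset.sum_sub_distrib]
        refine Finset.sum_congr rfl fun ψ hψ => ?_
        split_ifs with e
        · simp [ap0 j ψ e]
        · simp [a'p j ψ (H8.mem_bfin.1 hψ) (not_not.1 e)]
      rw [this, e1, e2]; ring
    · exact Finset.sum_eq_zero fun ψ hψ => by
        rw [a'n j hj, ap0 j ψ (Finset.mem_filter.1 hψ).2, mul_zero]
  have hrow : ∀ ψ ∈ sm, 4 = ∑ j, a' j ψ ^ 2 := by
    refine (Finset.sum_eq_sum_iff_of_le fun ψ hψ => ?_).1 (le_antisymm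
      (Finset.sum_le_sum fun ψ hψ => ?_) ?_)
    on_goal 3 =>
      obtain ⟨r, hr, e⟩ := hcnt
      rw [Finset.sum_congr rfl fun ψ hψ => hin ψ (H8.mem_bfin.1 (Finset.mem_filter.1 hψ).1) ψ
        (H8.mem_bfin.1 (Finset.mem_filter.1 hψ).1), Finset.sum_comm,
        Finset.sum_congr rfl (g := fun j => if Rg c (a j) then 1 else 0) fun j _ => by
          split_ifs with hj
          · have := hsm j
            rw [if_pos hj] at this
            rw [← Finset.sum_div, div_eq_one_iff_eq (h.nn_ne j), ← this]; push_cast; rfl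
          · simp] at e
      simp only [sq]
      rw [Finset.sum_comm]
      simp only [hsm, Fin.sum_univ_four, if_neg h.not_rg0, if_pos h.reg1, h.n1, h2, h3,
        Finset.sum_const, nsmul_eq_mul] at e ⊢
      have e' := congrArg Complex.re e
      have : ((2 * (2 ^ (l + 1) : ℕ) + (if Rg c (a 2) then 4 else 0) +
          (if Rg c (a 3) then 4 else 0) : ℤ) : ℝ) ≤ (sm.card * 4 : ℤ) := by
        split_ifs at e' ⊢ <;> simp at e' <;> push_cast <;> rw [pow_succ] <;> linarith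
      rw [zero_add]
      exact Int.cast_le.1 this
    all_goals
      obtain ⟨hψ, e⟩ := Finset.mem_filter.1 hψ
      replace hψ := H8.mem_bfin.1 hψ
      obtain ⟨j, hj⟩ : ∃ j, a' j ψ ≠ 0 := by
        by_contra hn
        push Not at hn
        have := congrFun (hspan ψ hψ) 1
        simp only [hn, H8.pReg_one_apply Nat.prime_two] at this
        exact ψ.2.apply_one_ne_zero (by simpa using this)
      obtain ⟨t, ht⟩ := hev ψ hψ e j
      refine le_trans ?_ (Finset.single_le_sum (f := fun j => a' j ψ ^ 2)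
        (fun _ _ => sq_nonneg _) (Finset.mem_univ j))
      have : t ≠ 0 := by omega
      have := sq_pos_of_ne_zero this
      simp only [ht]
      nlinarith
  have T : Tab (bfin B) a' := by
    refine ⟨fun ψ hψ => ?_, fun ψ hψ => ?_, fun i j hij => ?_, by
      rw [hd1 _ _ h.not_rg0, h.tab.n0]⟩
    · by_cases e : (ψ : G → ℂ) z = (ψ : G → ℂ) 1
      · obtain ⟨χ, rfl⟩ := hsurj ψ e
        simp only [a'p _ _ (H8.mem_bfin.1 hψ) e, ap1]
        exact h.tab.row χ (H8.mem_bfin.2 ((hc χ).2 (H8.mem_bfin.1 hψ)))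
      · exact (hrow ψ (Finset.mem_filter.2 ⟨hψ, e⟩)).symm
    · rw [a'n 0 h.not_rg0]
      by_cases e : (ψ : G → ℂ) z = (ψ : G → ℂ) 1
      · obtain ⟨χ, rfl⟩ := hsurj ψ e
        rw [ap1]
        exact h.tab.w1 χ (H8.mem_bfin.2 ((hc χ).2 (H8.mem_bfin.1 hψ)))
      · simp [ap0 0 ψ e]
    · by_cases hj : Rg c (a j)
      · by_cases hi : Rg c (a i)
        · rw [hd2 i j hi hj, h.tab.orth i j hij, mul_zero]
        · rw [dot_comm, hd1 j i hi, h.tab.orth j i hij.symm]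
      · rw [hd1 i j hj, h.tab.orth i j hij]
  have h4 : ∀ j, j = 2 ∨ j = 3 → dot (bfin c) (a j) (a j) = 4 := by
    rintro _ (rfl | rfl)
    exacts [h2, h3]
  refine ⟨a', ⟨T, ?_, fun j hj => ?_, fun g hg => ?_, hn0 0 h.not_rg0, hrg 1 h.reg1, fun j => ?_,
    fun g hg => rel_of_span T (fun j => vec B (ap j) g / nn c (a j)) fun ψ hψ => ?_⟩,
    fun j hj hr => ?_⟩
  · rw [nn, hd2 1 1 h.reg1 h.reg1, ← nn, h.n1]; push_cast; ring
  · by_cases e : Rg c (a j)
    · right; rw [nn, hd2 j j e e, h4 j hj]; rfl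
    · left; rw [nn, hd1 j j e, h4 j hj]
  · rw [a'n 0 h.not_rg0, hvec] at hg
    exact h.supp _ hg
  · by_cases e : Rg c (a j)
    · exact Or.inl (hrg j e)
    · exact Or.inr ⟨hn0 j e, (hd1 j j e).trans ((h.reg j).resolve_left e).2⟩
  · have := congrFun (hspan ψ (H8.mem_bfin.1 hψ)) g
    simp only [Finset.sum_apply, Pi.smul_apply, smul_eq_mul, H8.pReg_of_not_dvd _ hg] at this
    rw [this]
    exact Finset.sum_congr rfl fun j _ => by ring
  · by_cases e : Rg c (a j)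
    · rw [nn, hd2 j j e e, h4 j hj]; rfl
    · have := hr.not_zero (hn0 j e)
      have := T.four_le j
      simp only [nn] at *
      omega

end Cfsg.Agent.H7.TB
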