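import Cfsg.Agent.H7.TB7
import Cfsg.Agent.H7.TB6

/-!
Tame blocks: a block with one Brauer character and at most five ordinary characters.
-/

set_option autoImplicit false
set_option linter.unusedSectionVars false
set_option linter.style.haveILetI false
set_option warn.classDefReducibility false

namespace Cfsg.Agent.H7.TB

open MonoidAlgebra Cfsg Cfsg.Agent.H3 Cfsg.Agent.H4 Cfsg.Agent.H5
open Cfsg.Agent.H6 (Res locRing redC redA eB fB intAlg chiL blocks Uni dd redF liftA)
open Cfsg.Agent.H8 (SecData sec sub bspan bfin lift cm)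
open scoped Pointwise ComplexConjugate

theorem exists_frob {A k : Type*} [Ring A] [Ring k] (h2 : (2 : k) = 0) (μ : A →+ k)
    (h : ∀ a b, μ (a * b) = μ (b * a)) :
    ∃ ν : A →+ k, (∀ a b, ν (a * b) = ν (b * a)) ∧ ∀ a, ν a = μ (a * a) :=
  ⟨AddMonoidHom.mk' (fun a => μ (a * a)) fun a b => by
    simp only [mul_add, add_mul, map_add, h b a]
    rw [add_assoc, ← add_assoc (μ (a * b)), ← two_mul, h2, zero_mul, zero_add],
    fun a b => by
      change μ _ = μ _
      rw [mul_assoc a b, h a]; simp only [mul_assoc], fun _ => rfl⟩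

variable {M : Ideal AlgInt} [hMm : M.IsMaximal] {G : Type*} [Group G] [Fintype G]
  {B : Set (IrrCharacter G)}

theorem not_five (hM : IsPModular 2 M) (hB : IsPBlock M B) {D : Subgroup G}
    (hD : IsDefectGroup 2 M B D) {x : G} (hxD : x ∈ D) (hx : orderOf x = 8)
    (hl : blockRank 2 B = 1) (hk : Nat.card B ≤ 5) : False := by
  classical
  haveI := H6.charP_res hM
  have h2 : (2 : Res M) = 0 := CharP.cast_eq_zero (Res M) 2
  obtain ⟨j, hj⟩ := exists_unique_of_rank hB hM hl
  obtain ⟨J, hJ⟩ := (pim_prim j).exists_locI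
  obtain ⟨s, hs, hS⟩ := isDefectGroup_iff_sylowIn.1 hD
  have hc : Commute x s := H6.mem_centralizer_singleton.1 (hS.le hxD) |>.symm
  have hs1 := H8.not_dvd_orderOf_of_defectClass hM hB hs
  obtain ⟨χ, hχ, h0⟩ := H8.exists_height_zero (p := 2) (H8.block_nonempty hB)
  have hs2 := H8.redC_ne_zero_of_defectClass hM hB hs hχ h0
  obtain ⟨n, a, b, hab⟩ := exists_eB_eq_sum hB hj
  set y : (Res M)[G] := single (x * s) 1 + single s 1
  have hsq : ∀ u v : G, Commute u v → (single (u * v) 1 + single v 1 : (Res M)[G]) *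
      (single (u * v) 1 + single v 1) = single (u ^ 2 * v ^ 2) 1 + single (v ^ 2) 1 :=
    fun u v h => by
      simp only [mul_add, add_mul, single_mul_single, mul_one]
      rw [← sq, h.mul_pow, ← sq, ← mul_assoc, ← h.eq, add_assoc,
        ← add_assoc (single (u * v * v) _), ← single_add, one_add_one_eq_two, h2, single_zero, zero_add]
  have hcor : ∀ t, ∃ w : Cor (Res M) (pim_idem j),
      corVal _ w = pim j * (b t * (y * a t)) * pim j := fun t => exists_corVal (pim_idem j)
    (by rw [← mul_assoc, ← mul_assoc, (pim_idem j).eq]) (by rw [mul_assoc, (pim_idem j).eq])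
  choose w hw using hcor
  obtain ⟨c, hr⟩ := hJ.split (∑ t, w t)
  set r := ∑ t, w t - algebraMap (Res M) _ c
  have key : ∀ m : ℕ, m ≠ 1 → ∃ l : Cor (Res M) (pim_idem j) →ₗ[Res M] Res M,
      (∀ u v, l (u * v) = l (v * u)) ∧
      l (r ^ 2) = (if 4 = m then redC M (χ.1 s) ^ 2 else 0) ∧
      l (r ^ 4) = if 2 = m then redC M (χ.1 s) ^ 4 else 0 := fun m hm => by
    have hΦ : ∀ u g : G, orderOf u = m → orderOf (g * u * g⁻¹) = m := fun u g h => by
      rwa [H6.orderOf_conj']
    set θ := tr 2 (fun u => orderOf u = m) χ.1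
    have θm : θ ∈ bspan B := tr_mem hΦ hM hB (H8.mem_bspan_of_mem hχ)
    have θc := isClassFunction_of_bspan θm
    have θl : ∀ g, θ g ∈ locRing M := fun g => by
      by_cases e : orderOf (pp 2 g) = m
      · rw [show θ g = _ from tr_pos _ e]; exact H8.char_mem χ.2.isGen _
      · rw [show θ g = _ from tr_neg _ e]; exact zero_mem _
    have θr : ∀ g, ¬ 2 ∣ orderOf g → θ g = 0 := fun g hg => tr_neg _ (by
      rw [(H6.IsPPart.eq_one_iff hM.1 (isPPart_pp hM.1 g)).2 hg, orderOf_one]; exact hm.symm)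
    have θv : ∀ i, i ≤ 3 → redC M (θ (x ^ 2 ^ i * s ^ 2 ^ i)) =
        if 2 ^ (3 - i) = m then redC M (χ.1 s) ^ 2 ^ i else 0 := fun i hi => by
      have e1 : orderOf (x ^ 2 ^ i) = 2 ^ (3 - i) := by
        rw [orderOf_pow' _ (by positivity), hx]; interval_cases i <;> rfl
      have e2 := pp_eq hM.1 (g := x ^ 2 ^ i * s ^ 2 ^ i) ⟨_, rfl, hc.pow_pow _ _, ⟨_, e1⟩,
        fun h => hs1 (h.trans (orderOf_pow_dvd _))⟩
      split_ifs with e
      · rw [show θ _ = _ from tr_pos _ (by rw [e2, e1, e]),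
          H8.redC_char_mul hM χ.2.isCharacter (hc.pow_pow _ _) (e1 ▸ pow_orderOf_eq_one _),
          H8.redC_char_pow hM χ.2.isCharacter]
      · rw [show θ _ = _ from tr_neg _ (by rw [e2, e1]; exact e), H6.redC_zero]
    have l1 : ∀ u v, redF M θ (u * v) = redF M θ (v * u) := fun u v => by
      rw [← H6.redA_liftA u, ← H6.redA_liftA v, ← H6.redA_mul (H6.liftA_mem _) (H6.liftA_mem _),
        ← H6.redA_mul (H6.liftA_mem _) (H6.liftA_mem _),
        ← H6.redC_chiL' θl (mul_mem (H6.liftA_mem _) (H6.liftA_mem _)),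
        ← H6.redC_chiL' θl (mul_mem (H6.liftA_mem _) (H6.liftA_mem _)), H6.chiL_mul_comm θc]
    have l2 : ∀ u, redF M θ (eB M B * u) = redF M θ u := fun u => by
      rw [← H6.redA_liftA u, ← redA_fB, ← H6.redA_mul (H6.fB_mem_intAlg hB) (H6.liftA_mem _),
        ← H6.redC_chiL' θl (mul_mem (H6.fB_mem_intAlg hB) (H6.liftA_mem _)),
        ← H6.redC_chiL' θl (H6.liftA_mem _), ← H6.chiL_blockPart B θc,
        H8.blockPart_of_mem_bspan θm]
    have l3 : redF M θ (pim j) = 0 := by
      obtain ⟨z, z1, z2, z3⟩ := exists_lift (pim_idem j)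
      rw [← z3, ← H6.redC_chiL' θl z1, ← dn_redA θc z1 z2, ← dn_pReg hM θc,
        show pRegularPart 2 θ = (0 : ℂ) • θ from funext fun g => by
          by_cases e : 2 ∣ orderOf g
          · simp [H8.pReg_of_dvd _ e]
          · simp [H8.pReg_of_not_dvd _ e, θr g e], dn_smul, zero_mul, H6.redC_zero]
    have l4 : ∀ ν : (Res M)[G] →+ Res M, (∀ a b, ν (a * b) = ν (b * a)) →
        ν (corVal _ r) = ν (eB M B * y) - ν (c • pim j) := fun ν hν => by
      rw [map_sub, map_sub, Algebra.algebraMap_eq_smul_one, map_smul, corVal_one, map_sum, map_sum,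
        hab, Finset.sum_mul, map_sum]
      congr 1
      refine Finset.sum_congr rfl fun t _ => ?_
      rw [hw, hν, ← mul_assoc, (pim_idem j).eq, mul_assoc (a t), mul_assoc (a t), hν (a t)]
      simp only [mul_assoc]
    have l5 : ∀ u v, eB M B * u * (eB M B * v) = eB M B * (u * v) := fun u v => by
      rw [mul_assoc, ← mul_assoc u, ← H6.center_comm (H6.eB_mem_center B), mul_assoc, ← mul_assoc,
        H6.eB_mul_self hB]
    obtain ⟨ν, n1, n2⟩ := exists_frob h2 (redF M θ).toAddMonoidHom l1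
    obtain ⟨ν', n3, n4⟩ := exists_frob h2 ν n1
    have hreg : ∀ i, ¬ 2 ∣ orderOf (s ^ i) := fun i h => hs1 (h.trans (orderOf_pow_dvd _))
    refine ⟨redF M θ ∘ₗ corVal _, fun u v => l1 _ _, ?_, ?_⟩
    · have := l4 ν n1
      rw [n2, n2, n2, l5, hsq x s hc] at this
      simp only [LinearMap.toAddMonoidHom_coe, l2, map_add, H6.redF_single, smul_mul_assoc,
        mul_smul_comm, (pim_idem j).eq, map_smul, l3, smul_zero, θr _ (hreg _), H6.redC_zero,
        sub_zero, add_zero] at this
      rw [sq, LinearMap.comp_apply, corVal_mul, this]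
      exact θv 1 (by omega)
    · have := l4 ν' n3
      rw [n4, n4, n4, n2, n2, n2, l5, l5, hsq x s hc, hsq _ _ (hc.pow_pow _ _)] at this
      simp only [LinearMap.toAddMonoidHom_coe, l2, map_add, H6.redF_single, smul_mul_assoc,
        mul_smul_comm, (pim_idem j).eq, map_smul, l3, smul_zero, ← pow_mul, θr _ (hreg _),
        H6.redC_zero, sub_zero, add_zero] at this
      rw [show r ^ 4 = r * r * (r * r) by noncomm_ring, LinearMap.comp_apply, corVal_mul,
        corVal_mul, this]
      exact θv 2 (by omega)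
  obtain ⟨l₁, t₁, a₁, -⟩ := key 4 (by omega)
  obtain ⟨l₂, t₂, b₂, a₂⟩ := key 2 (by omega)
  have h1 := card_eq_of_dnat hM hB hj (dnat_eq_one_of_comm hB hM hj (hJ.comm_of_five
    ((symF_lcoeff (Res M) G).cor (pim_idem j)) h2 ((finrank_center_cor_le hB hj).trans hk) hr t₁ t₂
    (by rw [a₁, if_pos rfl]; exact pow_ne_zero _ hs2) (by rw [b₂, if_neg (by omega)])
    (by rw [a₂, if_pos rfl]; exact pow_ne_zero _ hs2)))
  have h3 := Nat.le_of_dvd Nat.card_pos (hx ▸ D.orderOf_dvd_natCard hxD)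
  rw [H8.card_defectGroup hM hB hD] at h3
  omega

end Cfsg.Agent.H7.TB
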