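import Cfsg.Agent.H7.TB13
import Cfsg.Agent.H7.TB8

/-!
Tame blocks: the inductive step.
-/

set_option autoImplicit false
set_option linter.unusedSectionVars false
set_option linter.style.haveILetI false
set_option warn.classDefReducibility false

namespace Cfsg.Agent.H7.TB

open MonoidAlgebra Cfsg Cfsg.Agent.H3 Cfsg.Agent.H4 Cfsg.Agent.H5
open Cfsg.Agent.H6 (Res locRing redC redA eB fB intAlg chiL blocks Uni dd)
open Cfsg.Agent.H8 (SecData sec sub bspan bfin lift cm)
open Cfsg.Agent.H11 (MC hh qq fr)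
open scoped Pointwise ComplexConjugate

variable {M : Ideal AlgInt} [hMm : M.IsMaximal]

attribute [local instance] H8.subFintype

section
variable {G : Type*} [Group G] [Fintype G] {P : Subgroup G} {e : (Res M)[G]}
  {B : Set (IrrCharacter G)} {p : ℕ} [Fact p.Prime] (hM : IsPModular p M) (hB : IsPBlock M B)
  (S : MaxP p ⊤ ⊤ (eB M B) P e)
include hM hB S

theorem sum_rank_le {ι : Type*} [Fintype ι] (r : ι → P)
    (hr : ∀ i j, i ≠ j → ¬ Fus M p P e (r i) (r j)) :
    ∑ i, blockRank p (bsec M p P e (r i)) ≤ Nat.card B := by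
  classical
  have h1 : ((Nat.card B : ℝ) : ℂ) = ((∑ u : P, (blockRank p (bsec M p P e u) : ℝ) /
      Nat.card {v : P // Fus M p P e u v} : ℝ) : ℂ) := by
    push_cast; exact S.card_eq_sum hM hB
  replace h1 := Complex.ofReal_injective h1
  let c : ι → Finset P := fun i => Finset.univ.filter fun v => Fus M p P e (r i) v
  have h2 := Finset.sum_le_sum_of_subset_of_nonneg (Finset.subset_univ (Finset.univ.biUnion c))
    (f := fun u : P => (blockRank p (bsec M p P e u) : ℝ) / Nat.card {v : P // Fus M p P e u v})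
    fun _ _ _ => by positivity
  rw [← h1, Finset.sum_biUnion fun i _ j _ hij => Finset.disjoint_left.2 fun v h h' =>
    hr i j hij ((Finset.mem_filter.1 h).2.trans (Finset.mem_filter.1 h').2.symm),
    Finset.sum_congr rfl (g := fun i => (blockRank p (bsec M p P e (r i)) : ℝ)) fun i _ => ?_] at h2
  · exact_mod_cast h2
  have h3 : (c i).card ≠ 0 := Finset.card_ne_zero.2 ⟨r i, by simp [c, Fus.refl]⟩
  rw [Finset.sum_congr rfl (g := fun _ => (blockRank p (bsec M p P e (r i)) : ℝ) / (c i).card)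
    fun u hu => ?_, Finset.sum_const, nsmul_eq_mul, mul_div_cancel₀ _ (by exact_mod_cast h3)]
  replace hu := (Finset.mem_filter.1 hu).2
  rw [← show blockRank p (bsec M p P e (r i)) = blockRank p (bsec M p P e u) from
    Nat.cast_injective (R := ℂ) (S.stable_blockRank hM _ _ hu), Nat.card_eq_fintype_card, Fintype.card_subtype]
  congr 3
  exact Finset.filter_congr fun v _ => ⟨hu.trans, hu.symm.trans⟩

theorem rank_one : blockRank p (bsec M p P e 1) = blockRank p B := by
  haveI := H6.charP_res hM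
  have h1 : eb M _ (bsec M p P e 1) = eB M B := by
    have h2 := S.br_mul_of_ple (bsec_spec hM S.pair P.one_mem).2
    have h3 := ((bsec_spec hM S.pair P.one_mem).2.isPair S.pair).blk
    rw [Subgroup.zpowers_one_eq_bot] at h2 h3
    rw [br_bot] at h2
    rw [CK_bot] at h3
    exact (S.prim.eq_of_mul_ne_zero h3 (isCommSub_Z _ _ S.prim.mem _ h3.mem)
      (by rw [h2]; exact h3.ne_zero)).symm
  have a2 := kl_eb (p := p) (bsec_spec hM S.pair P.one_mem).1
  have a4 : Subgroup.centralizer ({1} : Set G) = ⊤ :=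
    eq_top_iff.2 fun g _ => H6.mem_centralizer_singleton.2 (Commute.one_left g)
  rw [h1, congrArg (kl M p · (eB M B)) a4, kl_eB hB] at a2
  exact (congrArg Prod.snd a2).symm

end

theorem exc {G : Type*} [Group G] [Fintype G] {P : Subgroup G} {e : (Res M)[G]}
    {B : Set (IrrCharacter G)} (hM : IsPModular 2 M) (hB : IsPBlock M B)
    (S : MaxP 2 ⊤ ⊤ (eB M B) P e) {ε f : ZMod (2 ^ 3)} {X Y : ZMod (2 ^ 3) → G}
    (h : MC P 3 ε f X Y) (hk : Nat.card B ≤ 5) : False := by
  have o1 : orderOf (X 0) = 1 := by rw [h.X_zero, orderOf_one]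
  have o2 := h.orderOf_z
  have o3 := h.orderOf_X_four.2 (Or.inl rfl)
  have o4 : orderOf (X 1) = 8 := h.orderOf_X_one
  have o5 : orderOf (X (2 * 2 + 1)) = 8 := h.orderOf_X_odd 2
  have n1 : ¬ Fus M 2 P e (X 1) (X (2 * 2 + 1)) := fun hf => by
    rcases fus_X hM S h (by decide) (h.X_mem _) hf with e | e <;> rw [h.X_inj] at e
    · exact absurd e (by decide)
    · rcases h.he with rfl | ⟨-, rfl⟩ <;> exact absurd e (by decide)
  have h1 := sum_rank_le hM hB S
    (fun i : Fin 5 => ⟨X (![0, hh 3, qq 3, 1, 2 * 2 + 1] i), h.X_mem _⟩) fun i j hij hf => by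
      have := ord_eq hf.isConj
      fin_cases i <;> fin_cases j <;> first | exact hij rfl | exact n1 hf | exact n1 hf.symm |
        simp [o1, o2, o3, o4, o5] at this
  have h2 : ∀ a, 0 < blockRank 2 (bsec M 2 P e (X a)) := fun a =>
    H8.blockRank_pos hM.1 (H8.block_nonempty (bsec_spec hM S.pair (h.X_mem a)).1)
  have h3 : blockRank 2 (bsec M 2 P e (X 0)) = blockRank 2 B := by
    rw [← rank_one hM hB S]
    exact congrArg (fun u => blockRank 2 (bsec M 2 P e u)) h.X_zero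
  simp only [Fin.sum_univ_five] at h1
  change blockRank 2 (bsec M 2 P e (X 0)) + blockRank 2 (bsec M 2 P e (X (hh 3))) +
    blockRank 2 (bsec M 2 P e (X (qq 3))) + blockRank 2 (bsec M 2 P e (X 1)) +
    blockRank 2 (bsec M 2 P e (X (2 * 2 + 1))) ≤ _ at h1
  have := h2 0
  have := h2 (hh 3)
  have := h2 (qq 3)
  have := h2 1
  have := h2 (2 * 2 + 1)
  exact not_five hM hB ((isDefectGroup_iff hM hB).2 S.isDef) (h.X_mem 1) o4 (by omega) hk

theorem mem_zpowers_coe {G : Type*} [Group G] {L : Subgroup G} {x g : L} :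
    x ∈ Subgroup.zpowers g ↔ (x : G) ∈ Subgroup.zpowers (g : G) :=
  ⟨fun ⟨n, h⟩ => ⟨n, by simp [← h]⟩, fun ⟨n, h⟩ => ⟨n, Subtype.ext (by simpa using h)⟩⟩

theorem MC_subgroupOf {G : Type*} [Group G] {P L : Subgroup G} (hPL : P ≤ L) {k : ℕ}
    {ε f : ZMod (2 ^ k)} {X Y : ZMod (2 ^ k) → G} (h : MC P k ε f X Y) :
    MC (P.subgroupOf L) k ε f (fun a => ⟨X a, hPL (h.X_mem a)⟩) fun a => ⟨Y a, hPL (h.Y_mem a)⟩ :=
  ⟨h.two_le, h.he, h.hf, fun a b => Subtype.ext (h.XX a b), fun a b => Subtype.ext (h.YX a b),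
    fun a b => Subtype.ext (h.XY a b), fun a b => Subtype.ext (h.YY a b),
    Subtype.ext_iff.trans h.X_inj, Subtype.ext_iff.trans h.Y_inj,
    fun a b e => h.X_ne_Y a b (congrArg Subtype.val e), fun s => by
      simp only [Subgroup.mem_subgroupOf, h.mem, Subtype.ext_iff]⟩

theorem gen.{u} {G : Type u} [Group G] [Fintype G] {P : Subgroup G} {e : (Res M)[G]}
    {B : Set (IrrCharacter G)} (hM : IsPModular 2 M) (hB : IsPBlock M B)
    (S : MaxP 2 ⊤ ⊤ (eB M B) P e) {l : ℕ}
    {ε f : ZMod (2 ^ (l + 2))} {X Y : ZMod (2 ^ (l + 2)) → G} (h : MC P (l + 2) ε f X Y)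
    (IH : l ≠ 0 → DH.{u} M (l + 1)) :
    ∃ a, TD B (2 ^ (l + 2)) (fun g => 4 ∣ orderOf g) a ∧
      ((∃ c, f + ε * c = 0) → nn B (a 2) = 4 ∨ nn B (a 3) = 4) ∧
      (ε = 0 → f = 0 → nn B (a 2) = 4 ∧ nn B (a 3) = 4) ∧
      ((∀ c, f + ε * c ≠ 0) → ∀ j, j = 2 ∨ j = 3 → Rg B (a j) → nn B (a j) = 8) ∧
      (ε ≠ 0 → Rg B (a 2) → Rg B (a 3) → nn B (a 2) = 8 ∨ nn B (a 3) = 8) := by
  classical
  haveI := H6.charP_res hM
  have hz := h.orderOf_z
  have hzP := h.X_mem (hh (l + 2))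
  have hPL : P ≤ Subgroup.centralizer {X (hh (l + 2))} := fun s hs =>
    Subgroup.mem_centralizer_singleton_iff.2 (h.z_comm hs)
  have hzc : X (hh (l + 2)) ∈ Subgroup.centralizer (P : Set G) := fun s hs => h.z_comm hs
  obtain ⟨hb, hp⟩ := bsec_spec hM S.pair hzP
  obtain ⟨e', S'⟩ := exists_maxP le_rfl Subgroup.le_normalizer (blk_eB hb)
    ((isDefectGroup_iff hM hb).1
      ((isDefectGroup_subgroupOf_iff' hM hb hPL).2 (S.isDef_sec hM hzc hp)))
  obtain ⟨a, N, ι, _, J, δ, v, T, sm, hN, on0, onv, span, l1, l2, l3, l4⟩ :=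
    sv hM hb S' (MC_subgroupOf hPL h) (Subgroup.mem_center_iff.2 fun g =>
      Subtype.ext (Subgroup.mem_centralizer_singleton_iff.1 g.2)) IH
  replace on0 : OnA _ (vec _ (a 0)) := fun g hg => on0 g (mt mem_zpowers_coe.1 hg)
  replace onv : ∀ i, OnA _ (vec _ (v i)) := fun i g hg => onv i g (mt mem_zpowers_coe.1 hg)
  obtain ⟨W, hW⟩ := exists_vec (isGeneralizedCharacter_indFun _ (vec_isGen _))
    (on0.ind_mem hz hM hB S hzP (vec_mem _))
  choose V hV using fun i => exists_vec (isGeneralizedCharacter_indFun _ (vec_isGen _))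
    ((onv i).ind_mem hz hM hB S hzP (vec_mem _))
  have hdot : ∀ {n n' m m'}, OnA _ (vec (bsec M 2 P e (X (hh (l + 2)))) n) →
      OnA _ (vec (bsec M 2 P e (X (hh (l + 2)))) n') → indFun _ (vec _ n) = vec B m →
      indFun _ (vec _ n') = vec B m' → dot (bfin B) m m' = dot (bfin _) n n' :=
    fun h1 h2 h3 h4 => by
      have := h1.inner_ind hz h2 (vec_cf _)
      rw [h3, h4, inner_vec_vec, inner_vec_vec] at this
      exact_mod_cast this
  have W0 : ∀ g, ¬ 2 ∣ orderOf g → vec B W g = 0 := fun g hg => hW ▸ on0.ind_eq_zero hz hg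
  have V0 : ∀ i g, ¬ 2 ∣ orderOf g → vec B (V i) g = 0 := fun i g hg =>
    hV i ▸ (onv i).ind_eq_zero hz hg
  have K : ∀ θ, IsClassFunction G θ → classInner θ (vec B W) = 0 →
      (∀ i, classInner θ (vec B (V i)) = 0) → ∀ u ∈ P, X (hh (l + 2)) ∈ Subgroup.zpowers u →
        sub 2 u (bsec M 2 P e u) θ = 0 := fun θ hθ h1 h2 u hu hzu =>
    sub_eq_zero_of_res hM S hzP hθ hu hzu fun g hg => by
      rw [H8.blockPart_eq, Finset.sum_apply]
      refine span _ ?_ (fun i => ?_) g (mem_zpowers_coe.2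
        (Subgroup.zpowers_le.2 (H6.IsPPart.mem_zpowers hM.1 hg) hzu))
      · rw [← inner_vec_right, ← inner_indFun_right _ _ hθ, hW, h1]
      · rw [← inner_vec_right, ← inner_indFun_right _ _ hθ, hV, h2]
  have hδ1 : ∀ i, J i = 1 → δ i = 1 := fun i e => (sm.hδ i).resolve_right fun e' => by
    have := hN _ e'.2
    rw [e] at this
    exact absurd this (by decide)
  have hcard : 2 ^ l * 2 = 1 + (Finset.univ.filter fun i => J i = 1).card := by
    have h1 := sm.norm 1
    rw [Finset.sum_congr rfl fun i hi => hδ1 i (Finset.mem_filter.1 hi).2, Finset.sum_const,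
      nsmul_eq_mul, mul_one, show dot _ _ _ = _ from T.n1] at h1
    have h2 : (2 : ℤ) ^ (l + 2) = 2 ^ l * 4 := by ring
    push_cast at h1
    zify
    omega
  obtain ⟨i0, h0⟩ : (Finset.univ.filter fun i => J i = 1).Nonempty :=
    Finset.card_pos.1 (by have := Nat.two_pow_pos l; omega)
  rcases q3 (w := W) (v := V) (J := J) (δ := δ) (fun χ _ => deg_pos χ)
    ((hdot on0 on0 hW hW).trans T.tab.n0) (dot_deg (W0 1 (by simp)))
    (fun i => dot_deg (V0 i 1 (by simp))) (fun i => by have := sm.hδ i; omega)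
    (fun i => (hdot (onv i) on0 (hV i) hW).trans (sm.vw i))
    (fun i => (hdot (onv i) (onv i) (hV i) (hV i)).trans (sm.vn i))
    (fun i i' e => (hdot (onv i) (onv i') (hV i) (hV i')).trans (sm.vv i i' e)) sm.J0 sm.inj
    (fun i i' e1 e2 => by_contra fun hn => by
      have h1 := (sm.hδ i).resolve_right fun e => hn (sm.inj i i' e1 e.1)
      have h2 := (sm.hδ i').resolve_right fun e => hn (sm.inj i' i e1.symm e.1).symm
      have h3 := Finset.sum_le_sum_of_subset_of_nonneg (s := {i, i'})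
        (t := Finset.univ.filter fun j => J j = J i) (f := δ)
        (by intro j; simp only [Finset.mem_insert, Finset.mem_singleton]; rintro (rfl | rfl) <;>
          simp [e1]) fun j _ _ => by have := sm.hδ j; omega
      rw [Finset.sum_pair hn] at h3
      have h4 := sm.norm (J i)
      have h5 := T.n23 (J i) (by have := sm.J0 i; omega)
      simp only [nn] at h5
      omega) (Finset.mem_filter.1 h0).2 (by omega)
    (fun χ hχ => by_contra fun hn => by
      replace hχ := H8.mem_bfin.1 hχ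
      simp only [not_or, not_exists, not_not, ne_eq] at hn
      exact S.sub_ne_zero_of_central hM hB hχ hzP hzc (K _ χ.2.isClassFunction
        (by rw [inner_irr_vec _ hχ, hn.1, Int.cast_zero])
        (fun i => by rw [inner_irr_vec _ hχ, hn.2, Int.cast_zero]) _ hzP (Subgroup.mem_zpowers _)))
    with ⟨h1, h2, h3⟩ | ⟨a', rfl, O⟩
  · rw [Finset.filter_true_of_mem fun i _ => h3 i, Finset.card_univ, h2] at hcard
    obtain rfl : l = 1 := Nat.pow_right_injective le_rfl (show 2 ^ l = 2 ^ 1 by omega)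
    exact (exc hM hB S h (H8.card_bfin B ▸ h1)).elim
  have hn : ∀ j, nn B (a' j) = nn _ (a j) := fun j => (O.norm j).trans (sm.norm j).symm
  have hcol : ∀ c, f + ε * c = 0 → ¬ Fus M 2 P e (Y c) (X (hh (l + 2))) → ∃ y, Col M P e B (Y c) y ∧
      ∃ j : Fin 4, (j = 2 ∨ j = 3) ∧ nn B (a' j) = 4 ∧ ∃ η : ℤ, η * η = 1 ∧
        ∀ χ ∈ bfin B, y χ = η * a' j χ := fun c hc hf => by
    obtain ⟨y, hy⟩ := exists_col_V hM hB S h hc hf
    have h1 : ∀ {n m}, OnA _ (vec (bsec M 2 P e (X (hh (l + 2)))) n) →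
        indFun _ (vec _ n) = vec B m → dot (bfin B) m y = 0 := fun h1 h2 => by
      have := (hy.iff (indFun_isClassFunction _ _)).1 (h1.sub_ind hz hM hB S hzP (vec_mem _)
        (h.Y_mem c) (h.orderOf_Y_two.2 hc) hf)
      rw [h2, inner_vec_vec] at this
      exact_mod_cast this
    refine ⟨y, hy, O.tab.ylem (O.rel ℤ y (h1 on0 hW) fun i => h1 (onv i) (hV i)) (h1 on0 hW) hy.norm
      ⟨2 ^ l, by rw [show dot _ _ _ = _ from (hn 1).trans T.n1]; push_cast; ring⟩
      (by simpa only [← hn] using T.n23 2 (Or.inl rfl))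
      (by simpa only [← hn] using T.n23 3 (Or.inr rfl))
      (by simpa only [← hn] using l1 ⟨c, hc⟩) fun h8 => ?_⟩
    rw [show dot _ _ _ = _ from (hn 1).trans T.n1] at h8
    have hl : l = 0 := Nat.pow_right_injective le_rfl (show 2 ^ l = 2 ^ 0 by
      have : 2 ^ (l + 2) = 2 ^ l * 4 := by ring
      omega)
    have hε : ε = 0 := h.he.resolve_right (by omega)
    simpa only [← hn] using l2 hε (by simpa [hε] using hc)
  have hnr : ∀ i, δ i = 0 → pRegularPart 2 (vec B (a' (J i))) = 0 ∧ nn B (a' (J i)) = 4 :=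
    fun i hi => ⟨funext fun g => by
      by_cases hg : 2 ∣ orderOf g
      · exact H8.pReg_of_dvd _ hg
      · rw [H8.pReg_of_not_dvd _ hg, vec_lin 2 (-1) (a := V i) (a' := a' 0) fun χ hχ => by
          rw [O.two i hi χ hχ]; ring]
        simp [W0 g hg, V0 i g hg], by
      rw [nn, O.norm, Finset.sum_eq_zero fun j hj => by
        rw [← sm.inj i j (Finset.mem_filter.1 hj).2.symm hi, hi]]
      rfl⟩
  have hr : ∀ j, j ≠ 0 → Rg B (a' j) ∨
      (j ≠ 1 ∧ pRegularPart 2 (vec B (a' j)) = 0 ∧ nn B (a' j) = 4) := fun j hj => by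
    by_cases e1 : ∃ i, J i = j ∧ δ i = 0
    · obtain ⟨i, rfl, hi⟩ := e1
      exact Or.inr ⟨fun e => by have := hδ1 i e; omega, hnr i hi⟩
    have h1 := K (vec B (a' j)) (vec_cf _)
      (by rw [inner_vec_vec, O.tab.orth j 0 hj, Int.cast_zero]) fun i => by
        rw [inner_vec_vec, O.dot_eq j hj]
        split_ifs with e
        · rw [(sm.hδ i).resolve_right fun e' => e1 ⟨i, e, e'.1⟩]; simp
        · simp
    rw [or_iff_not_imp_right]
    refine fun e2 => rg_of_sub hM hB S fun u hu hu1 => ?_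
    rcases tri h hu with e3 | e3 | ⟨c, hc, rfl⟩
    · exact absurd e3 hu1
    · exact h1 u hu e3
    by_cases hf : Fus M 2 P e (Y c) (X (hh (l + 2)))
    · rw [← classInner_self_eq_zero, show classInner _ _ = _ from
        S.stable_inner_sub hM (vec_cf _) (vec_cf _) ⟨_, hu⟩ ⟨_, hzP⟩ hf]
      exact (classInner_self_eq_zero _).2 (h1 _ hzP (Subgroup.mem_zpowers _))
    obtain ⟨y, hy, j', hj', n4, η, hη, e3⟩ := hcol c hc hf
    have e4 := vec_lin (B := B) η 0 (a := a' j') (a' := 0) (t := y) fun χ hχ => by simp [e3 χ hχ]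
    have hne : j ≠ j' := by
      rintro rfl
      refine e2 ⟨by omega, ?_, n4⟩
      have := hy.pReg hM hu1
      ext g
      replace this := congrFun this g
      by_cases hg : 2 ∣ orderOf g
      · exact H8.pReg_of_dvd _ hg
      rw [H8.pReg_of_not_dvd _ hg] at this ⊢
      rw [e4] at this
      rcases mul_self_eq_one_iff.1 hη with rfl | rfl <;> simpa using this
    rw [hy.iff (vec_cf _), e4, Int.cast_zero, zero_smul, add_zero, classInner_smul_right,
      inner_vec_vec, O.tab.orth j j' hne, Int.cast_zero, mul_zero]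
  have r0 : pRegularPart 2 (vec B (a' 0)) = 0 := funext fun g => by
    by_cases hg : 2 ∣ orderOf g
    · exact H8.pReg_of_dvd _ hg
    · rw [H8.pReg_of_not_dvd _ hg, W0 g hg]; rfl
  have hNr : ∀ j, Rg B (a' j) → ¬ N j := fun j hj e => by
    obtain ⟨i, rfl, hi⟩ := sm.ex j e
    have := hj.not_zero (hnr i hi).1
    have := (hnr i hi).2
    omega
  refine ⟨a', ⟨O.tab, (hn 1).trans T.n1, fun j hj => hn j ▸ T.n23 j hj, fun g hg => ?_, r0,
    (hr 1 (by decide)).resolve_right fun e => e.1 rfl, fun j => ?_, fun g hg => O.rel ℂ _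
      ((vec_apply _ _).symm.trans (W0 g hg)) fun i => (vec_apply _ _).symm.trans (V0 i g hg)⟩,
    fun e => by simpa only [← hn] using l1 e, fun e e' => by simpa only [← hn] using l2 e e',
    fun e j hj e' => (hn j).trans (l3 e j hj (hNr j e')),
    fun e e2 e3 => by simpa only [← hn] using l4 e (hNr 2 e2) (hNr 3 e3)⟩
  · by_contra hn
    refine hg (hW ▸ indFun_eq_zero_of_forall _ _ fun x hx => by_contra fun e => hn ?_)
    have := T.supp _ e
    rwa [← Subgroup.orderOf_coe, H6.orderOf_conj'] at this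
  · by_cases e : j = 0
    · exact e ▸ Or.inr ⟨r0, O.tab.n0⟩
    · exact (hr j e).imp_right And.right

theorem dh.{u} (hM : IsPModular 2 M) (l : ℕ) : DH.{u} M (l + 2) := by
  haveI := H6.charP_res hM
  induction l with
  | zero =>
    intro G _ _ B P X Y hB hD h
    obtain ⟨e, S⟩ := exists_maxP le_rfl Subgroup.le_normalizer (blk_eB hB)
      ((isDefectGroup_iff hM hB).1 hD)
    obtain ⟨a, T, -, h2, -⟩ := gen hM hB S h fun e => absurd rfl e
    exact ⟨a, T, h2 rfl rfl⟩
  | succ l ih =>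
    intro G _ _ B P X Y hB hD h
    obtain ⟨e, S⟩ := exists_maxP le_rfl Subgroup.le_normalizer (blk_eB hB)
      ((isDefectGroup_iff hM hB).1 hD)
    obtain ⟨a, T, -, h2, -⟩ := gen hM hB S h fun _ => ih
    exact ⟨a, T, h2 rfl rfl⟩

theorem main.{u} {G : Type u} [Group G] [Fintype G] {P : Subgroup G} {e : (Res M)[G]}
    {B : Set (IrrCharacter G)} (hM : IsPModular 2 M) (hB : IsPBlock M B)
    (S : MaxP 2 ⊤ ⊤ (eB M B) P e) {k : ℕ}
    {ε f : ZMod (2 ^ k)} {X Y : ZMod (2 ^ k) → G} (h : MC P k ε f X Y) :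
    ∃ a, TD B (2 ^ k) (fun g => 4 ∣ orderOf g) a ∧
      ((∃ c, f + ε * c = 0) → nn B (a 2) = 4 ∨ nn B (a 3) = 4) ∧
      (ε = 0 → f = 0 → nn B (a 2) = 4 ∧ nn B (a 3) = 4) ∧
      ((∀ c, f + ε * c ≠ 0) → ∀ j, j = 2 ∨ j = 3 → Rg B (a j) → nn B (a j) = 8) ∧
      (ε ≠ 0 → Rg B (a 2) → Rg B (a 3) → nn B (a 2) = 8 ∨ nn B (a 3) = 8) := by
  obtain ⟨l, rfl⟩ := Nat.exists_eq_add_of_le' h.two_le
  refine gen hM hB S h fun hl => ?_
  obtain ⟨l, rfl⟩ := Nat.exists_eq_succ_of_ne_zero hl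
  exact dh hM l

end Cfsg.Agent.H7.TB
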