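import Cfsg.Agent.H7.TB14

/-!
Tame blocks: the invariants.
-/

set_option autoImplicit false
set_option linter.unusedSectionVars false
set_option linter.style.haveILetI false
set_option warn.classDefReducibility false

namespace Cfsg.Agent.H7.TB

open MonoidAlgebra Cfsg Cfsg.Agent.H3 Cfsg.Agent.H4 Cfsg.Agent.H5
open Cfsg.Agent.H6 (Res locRing redC redA eB fB intAlg chiL blocks Uni dd)
open Cfsg.Agent.H8 (SecData sec sub bspan bfin lift cm)
open Cfsg.Agent.H11 (MC hh qq fr)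
open scoped Pointwise ComplexConjugate

variable {M : Ideal AlgInt} [hMm : M.IsMaximal] {G : Type*} [Group G] [Fintype G]
  {B : Set (IrrCharacter G)} (hM : IsPModular 2 M) (hB : IsPBlock M B)
include hM hB

namespace TD
variable {k : ℕ} {Φ : G → Prop} {a : Fin 4 → IrrCharacter G → ℤ} (h : TD B (2 ^ k) Φ a)
  (hk : 2 ≤ k) (hd : blockDefect 2 B = k + 1)
include h hk hd

theorem height_cases {χ : IrrCharacter G} (hχ : χ ∈ B) :
    (a 0 χ ≠ 0 ∧ a 1 χ ^ 2 ≠ 4 ∧ blockHeight 2 B (χ : G → ℂ) = 0) ∨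
    (a 0 χ = 0 ∧ a 1 χ ^ 2 = 4 ∧ blockHeight 2 B (χ : G → ℂ) = 1) ∨
    (a 0 χ = 0 ∧ a 1 χ ^ 2 ≠ 4 ∧ blockHeight 2 B (χ : G → ℂ) = k - 1 ∧
      (nn B (a 2) ≠ 4 ∨ nn B (a 3) ≠ 4)) := by
  have hχ' := H8.mem_bfin.2 hχ
  by_cases e : a 0 χ = 0
  · obtain ⟨j, h0, h1, h2⟩ := h.tab.off hχ' e
    have h3 := h.height_off hM hB hk rfl hd hχ h1
    by_cases e' : j = 1
    · subst e'
      exact Or.inr (Or.inl ⟨e, h1, h3⟩)
    · rw [if_neg e'] at h3
      refine Or.inr (Or.inr ⟨e, by rw [h2 1 (Ne.symm e')]; simp, h3, ?_⟩)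
      have h4 : nn B (a j) ≠ 4 := fun e4 => by
        rw [← h.tab.sq_eq_of_four e4 hχ', e] at h1
        simp at h1
      obtain rfl | rfl : j = 2 ∨ j = 3 := by omega
      exacts [Or.inl h4, Or.inr h4]
  · exact Or.inl ⟨e, by rw [h.tab.sq_of_ne hχ' e]; simp, h.height_T hM hB hk rfl hd hχ e⟩

theorem card_zero :
    Nat.card {χ : IrrCharacter G // χ ∈ B ∧ blockHeight 2 B (χ : G → ℂ) = 0} = 4 := by
  rw [← h.card_T]
  refine Nat.card_congr (Equiv.subtypeEquivRight fun χ => and_congr_right fun hχ => ?_)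
  have := h.height_cases hM hB hk hd hχ
  omega

theorem card_one (h3 : 3 ≤ k) :
    Nat.card {χ : IrrCharacter G // χ ∈ B ∧ blockHeight 2 B (χ : G → ℂ) = 1} = 2 ^ (k - 1) - 1 := by
  have h1 := h.card_off 1
  rw [h.n1, ← Nat.card_congr (Equiv.subtypeEquivRight (p := fun χ : IrrCharacter G =>
    χ ∈ B ∧ blockHeight 2 B (χ : G → ℂ) = 1) fun χ => and_congr_right fun hχ => by
      have := h.height_cases hM hB hk hd hχ
      omega)] at h1
  have : 2 ^ k = 2 ^ (k - 1) * 2 := by rw [← pow_succ]; congr 1; omega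
  omega

omit hM hB hd in
theorem card' : 4 * (Nat.card B : ℤ) = 4 + 4 * (2 ^ (k - 1) : ℕ) + nn B (a 2) + nn B (a 3) := by
  have := h.card
  have : 2 ^ k = 2 ^ (k - 1) * 2 := by rw [← pow_succ]; congr 1; omega
  omega

end TD

theorem defect_eq {D : Subgroup G} (hD : IsDefectGroup 2 M B D) {k : ℕ} {ε f : ZMod (2 ^ k)}
    {X Y : ZMod (2 ^ k) → G} (h : MC D k ε f X Y) : blockDefect 2 B = k + 1 :=
  Nat.pow_right_injective le_rfl ((H8.card_defectGroup hM hB hD).symm.trans h.card)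

theorem dihedral {D : Subgroup G} (hD : IsDefectGroup 2 M B D) {k : ℕ}
    {X Y : ZMod (2 ^ k) → G} (h : MC D k 0 0 X Y) :
    Nat.card B = 2 ^ (k - 1) + 3 ∧ 1 ≤ blockRank 2 B ∧ blockRank 2 B ≤ 3 ∧
      Nat.card {χ : IrrCharacter G // χ ∈ B ∧ blockHeight 2 B (χ : G → ℂ) = 0} = 4 ∧
      ∀ χ ∈ B, blockHeight 2 B (χ : G → ℂ) ≤ 1 := by
  haveI := H6.charP_res hM
  obtain ⟨e, S⟩ := exists_maxP le_rfl Subgroup.le_normalizer (blk_eB hB)
    ((isDefectGroup_iff hM hB).1 hD)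
  obtain ⟨a, T, -, h2, -⟩ := main hM hB S h
  have hd := defect_eq hM hB hD h
  have h1 := T.card' h.two_le
  have h3 := T.rank hM hB
  replace h2 := h2 rfl rfl
  refine ⟨by omega, by split_ifs at h3 <;> omega, by split_ifs at h3 <;> omega,
    T.card_zero hM hB h.two_le hd, fun χ hχ => ?_⟩
  have := T.height_cases hM hB h.two_le hd hχ
  omega

theorem semidihedral {D : Subgroup G} (hD : IsDefectGroup 2 M B D) {k : ℕ} (hk : 3 ≤ k)
    {X Y : ZMod (2 ^ k) → G} (h : MC D k (hh k) 0 X Y) :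
    (Nat.card B = 2 ^ (k - 1) + 3 ∨ Nat.card B = 2 ^ (k - 1) + 4) ∧ 1 ≤ blockRank 2 B ∧
      blockRank 2 B ≤ 3 ∧ (blockRank 2 B = 3 → Nat.card B = 2 ^ (k - 1) + 4) ∧
      (blockRank 2 B = 1 → Nat.card B = 2 ^ (k - 1) + 3) ∧
      Nat.card {χ : IrrCharacter G // χ ∈ B ∧ blockHeight 2 B (χ : G → ℂ) = 0} = 4 ∧
      Nat.card {χ : IrrCharacter G // χ ∈ B ∧ blockHeight 2 B (χ : G → ℂ) = 1} = 2 ^ (k - 1) - 1 ∧
      ∀ χ ∈ B, blockHeight 2 B (χ : G → ℂ) = 0 ∨ blockHeight 2 B (χ : G → ℂ) = 1 ∨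
        blockHeight 2 B (χ : G → ℂ) = k - 1 := by
  haveI := H6.charP_res hM
  obtain ⟨e, S⟩ := exists_maxP le_rfl Subgroup.le_normalizer (blk_eB hB)
    ((isDefectGroup_iff hM hB).1 hD)
  obtain ⟨a, T, h1, -, -, h4⟩ := main hM hB S h
  have hd := defect_eq hM hB hD h
  have h2 := T.card' h.two_le
  have h3 := T.rank hM hB
  replace h1 := h1 ⟨0, by simp⟩
  replace h4 := h4 (H11.hh_ne h.one_le)
  have n2 := T.n23 2 (Or.inl rfl)
  have n3 := T.n23 3 (Or.inr rfl)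
  refine ⟨by omega, by split_ifs at h3 <;> omega, by split_ifs at h3 <;> omega, fun e => ?_,
    fun e => ?_, T.card_zero hM hB h.two_le hd, T.card_one hM hB h.two_le hd hk, fun χ hχ => ?_⟩
  · split_ifs at h3 with e2 e3 <;> try omega
    have := h4 e2 e3
    omega
  · split_ifs at h3 with e2 e3 e3 <;> try omega
    have := ((T.reg 2).resolve_left e2).2
    have := ((T.reg 3).resolve_left e3).2
    omega
  · have := T.height_cases hM hB h.two_le hd hχ
    omega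

theorem quaternion {D : Subgroup G} (hD : IsDefectGroup 2 M B D) {k : ℕ}
    {X Y : ZMod (2 ^ k) → G} (h : MC D k 0 (hh k) X Y) :
    1 ≤ blockRank 2 B ∧ blockRank 2 B ≤ 3 ∧ Nat.card B = blockRank 2 B + 2 ^ (k - 1) + 2 ∧
      Nat.card {χ : IrrCharacter G // χ ∈ B ∧ blockHeight 2 B (χ : G → ℂ) = 0} = 4 ∧
      (∀ χ ∈ B, blockHeight 2 B (χ : G → ℂ) = 0 ∨ blockHeight 2 B (χ : G → ℂ) = 1 ∨
        blockHeight 2 B (χ : G → ℂ) = k - 1) ∧ (3 ≤ k →
      Nat.card {χ : IrrCharacter G // χ ∈ B ∧ blockHeight 2 B (χ : G → ℂ) = 1} = 2 ^ (k - 1) - 1) := by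
  haveI := H6.charP_res hM
  obtain ⟨e, S⟩ := exists_maxP le_rfl Subgroup.le_normalizer (blk_eB hB)
    ((isDefectGroup_iff hM hB).1 hD)
  obtain ⟨a, T, -, -, h4, -⟩ := main hM hB S h
  have hd := defect_eq hM hB hD h
  have h2 := T.card' h.two_le
  have h3 := T.rank hM hB
  replace h4 := h4 fun c => by simpa using H11.hh_ne h.one_le
  have n2 := h4 2 (Or.inl rfl)
  have n3 := h4 3 (Or.inr rfl)
  have m2 := fun e => ((T.reg 2).resolve_left e).2
  have m3 := fun e => ((T.reg 3).resolve_left e).2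
  refine ⟨by split_ifs at h3 <;> omega, by split_ifs at h3 <;> omega, ?_,
    T.card_zero hM hB h.two_le hd, fun χ hχ => ?_, T.card_one hM hB h.two_le hd⟩
  · split_ifs at h3 with e2 e3 e3
    · have := n2 e2; have := n3 e3; omega
    · have := n2 e2; have := m3 e3; omega
    · have := m2 e2; have := n3 e3; omega
    · have := m2 e2; have := m3 e3; omega
  · have := T.height_cases hM hB h.two_le hd hχ
    omega

theorem rank_three {D : Subgroup G} (hD : IsDefectGroup 2 M B D) {k : ℕ} {ε : ZMod (2 ^ k)}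
    {X Y : ZMod (2 ^ k) → G} (h : MC D k ε 0 X Y) {c : ZMod (2 ^ k)} (hc : ε * c = 0)
    (hc2 : 2 * c ≠ 0) (hl : blockRank 2 B = 3) :
    Odd (Nat.card (Subgroup.center G)) ∧ ¬ Group.IsSolvable G := by
  haveI := H6.charP_res hM
  obtain ⟨e, S⟩ := exists_maxP le_rfl Subgroup.le_normalizer (blk_eB hB)
    ((isDefectGroup_iff hM hB).1 hD)
  obtain ⟨a, T, -⟩ := main hM hB S h
  have h3 := T.rank hM hB
  have hF : ∀ c, 0 + ε * c = 0 → IsConj (X (hh k)) (Y c) := fun c hc => by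
    refine (Fus.isConj (M := M) (p := 2) (P := D) (e := e) (by_contra fun hn => ?_)).symm
    obtain ⟨y, hy⟩ := exists_col_V hM hB S h hc hn
    obtain ⟨j, rfl | rfl, h2, -⟩ := T.col hM hB h.two_le rfl (defect_eq hM hB hD h) S (h.Y_mem c)
      (h.Y_ne_one c) (not_conj_four h hc) hy <;> rw [if_neg h2] at h3 <;> split_ifs at h3 <;> omega
  have hz1 : X (hh k) ≠ 1 := fun e => H11.hh_ne h.one_le (h.X_eq_one.1 e)
  refine ⟨Nat.not_even_iff_odd.1 fun he => ?_, not_isSolvable_of_mem_derivedSeries hz1 fun n => ?_⟩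
  · obtain ⟨⟨t, ht⟩, ho⟩ := exists_prime_orderOf_dvd_card' 2 he.two_dvd
    rw [← Subgroup.orderOf_coe] at ho
    have h1 : Subgroup.zpowers t ≤ D := IsDef.le_of_normal le_rfl
      (H6.isPGroup_zpowers hM.1 ⟨1, ho⟩) le_top (fun g _ => Subgroup.centralizer_le_normalizer _
        fun x hx => (Subgroup.mem_center_iff.1 (Subgroup.zpowers_le.2 ht hx) g).symm)
      S.prim.mem S.prim.idem S.isDef
    rcases (h.central_iff (h1 (Subgroup.mem_zpowers t))).1 fun s _ =>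
      Subgroup.mem_center_iff.1 ht s with e | e
    · simp [e] at ho
    · exact not_isConj_z h (e ▸ ht) 0 (hF 0 (by simp))
  · induction n with
    | zero => exact Subgroup.mem_top _
    | succ n ih =>
      have hY : ∀ c, 0 + ε * c = 0 → Y c ∈ derivedSeries G n := fun c hc => by
        obtain ⟨g, hg⟩ := isConj_iff.1 (hF c hc)
        exact hg ▸ (derivedSeries_normal G n).conj_mem _ ih g
      have h1 := Subgroup.commutator_mem_commutator (hY 0 (by simp)) (hY c (by simp [hc]))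
      rw [commutatorElement_def, h.Y_inv, h.Y_inv, h.YY, h.XY, h.YY] at h1
      refine Subgroup.zpowers_le.2 h1 (z_mem h fun e => hc2 ?_)
      linear_combination e + (1 - ε) * hc

end Cfsg.Agent.H7.TB
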