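import Cfsg.Agent.H7.TB1

/-!
Integer vector lemmas for tame blocks, second part.
-/

set_option autoImplicit false

namespace Cfsg.Agent.H7.TB

open Finset

variable {I : Type*} {s : Finset I}

theorem sq_cases5 (x : ℤ) (h : x ^ 2 ≤ 16) : (x = 0 ∧ x ^ 2 = 0) ∨ ((x = 1 ∨ x = -1) ∧ x ^ 2 = 1) ∨
    ((x = 2 ∨ x = -2) ∧ x ^ 2 = 4) ∨ ((x = 3 ∨ x = -3) ∧ x ^ 2 = 9) ∨
      ((x = 4 ∨ x = -4) ∧ x ^ 2 = 16) := by
  have h1 : -5 < x := by nlinarith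
  have h2 : x < 5 := by nlinarith
  interval_cases x <;> simp

theorem ylem_aux {n1 n2 n3 G F2 F3 : ℤ} (h : n1 * (2 * G) ^ 2 + n2 * F2 ^ 2 + n3 * F3 ^ 2 = 64)
    (h1 : 8 ∣ n1) (h1' : 4 ≤ n1) (h2 : n2 = 4 ∨ n2 = 8) (h3 : n3 = 4 ∨ n3 = 8)
    (h23 : n2 = 4 ∨ n3 = 4) (h8 : n1 = 8 → n2 = 4 ∧ n3 = 4) (e2 : n2 = 8 → F2 % 2 = 0)
    (e3 : n3 = 8 → F3 % 2 = 0) (hp : (F2 + F3) % 2 = 0)
    (h4 : F2 % 2 = 0 → (2 * G + F2 + F3) % 4 = 0) :
    G = 0 ∧ ((n2 = 4 ∧ (F2 = 4 ∨ F2 = -4) ∧ F3 = 0) ∨ (n3 = 4 ∧ (F3 = 4 ∨ F3 = -4) ∧ F2 = 0)) := by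
  have a1 : 8 * (2 * G) ^ 2 ≤ n1 * (2 * G) ^ 2 :=
    mul_le_mul_of_nonneg_right (by omega) (sq_nonneg _)
  have a2 : 4 * F2 ^ 2 ≤ n2 * F2 ^ 2 := mul_le_mul_of_nonneg_right (by omega) (sq_nonneg _)
  have a3 : 4 * F3 ^ 2 ≤ n3 * F3 ^ 2 := mul_le_mul_of_nonneg_right (by omega) (sq_nonneg _)
  have p1 := sq_nonneg G
  have p2 := sq_nonneg F2
  have p3 := sq_nonneg F3
  have b1 : -2 < G := by nlinarith
  have b2 : G < 2 := by nlinarith
  have hev : F2 % 2 = 0 := by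
    by_contra hn
    obtain ⟨c, rfl⟩ := h1
    obtain rfl : n2 = 4 := by omega
    obtain rfl : n3 = 4 := by omega
    obtain ⟨u, hu⟩ := Int.eight_dvd_sq_sub_one_of_odd (k := F2) (Int.odd_iff.2 (by omega))
    obtain ⟨v, hv⟩ := Int.eight_dvd_sq_sub_one_of_odd (k := F3) (Int.odd_iff.2 (by omega))
    have : 32 * (c * G ^ 2 + u + v) + 8 = 64 := by linear_combination h - 4 * hu - 4 * hv
    omega
  obtain ⟨u, rfl⟩ : ∃ u, F2 = 2 * u := ⟨F2 / 2, by omega⟩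
  obtain ⟨v, rfl⟩ : ∃ v, F3 = 2 * v := ⟨F3 / 2, by omega⟩
  have b3 : -3 < u := by nlinarith
  have b4 : u < 3 := by nlinarith
  have b5 : -3 < v := by nlinarith
  have b6 : v < 3 := by nlinarith
  replace h4 := h4 hev
  clear a1 a2 a3 p1 p2 p3 e2 e3 hp hev
  interval_cases G <;> interval_cases u <;> interval_cases v <;> omega

theorem Tab.ylem {a : Fin 4 → I → ℤ} (h : Tab s a) {y : I → ℤ} (hy : Rel s a y)
    (h0 : dot s (a 0) y = 0) (hn : dot s y y = 4) (h1 : 8 ∣ dot s (a 1) (a 1))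
    (h2 : dot s (a 2) (a 2) = 4 ∨ dot s (a 2) (a 2) = 8)
    (h3 : dot s (a 3) (a 3) = 4 ∨ dot s (a 3) (a 3) = 8)
    (h23 : dot s (a 2) (a 2) = 4 ∨ dot s (a 3) (a 3) = 4)
    (h8 : dot s (a 1) (a 1) = 8 → dot s (a 2) (a 2) = 4 ∧ dot s (a 3) (a 3) = 4) :
    ∃ j : Fin 4, (j = 2 ∨ j = 3) ∧ dot s (a j) (a j) = 4 ∧ ∃ ε : ℤ, ε * ε = 1 ∧
      ∀ χ ∈ s, y χ = ε * a j χ := by
  have hF0 : FT s a y 0 = 0 := by rw [h.FT_zero]; exact h0
  have hev : ∀ j, dot s (a j) (a j) ≠ 4 → FT s a y j % 2 = 0 := fun j hj => by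
    obtain ⟨χ, hχ, e0, e1⟩ := h.exists_off hj
    have := h.even_sub hχ j
    rw [e0, sub_zero] at this
    rw [← hy χ hχ e0 j e1]
    exact Int.even_iff.1 (this.mul_right _)
  have hP := h.parseval hy y
  have hS := h.sum_mul_eq hy
  rw [Fin.sum_univ_four, hF0] at hP
  change 4 * dot s y y = _ at hP
  obtain ⟨G, hG⟩ : ∃ G, FT s a y 1 = 2 * G :=
    ⟨FT s a y 1 / 2, by have := hev 1 (by omega); omega⟩
  obtain ⟨χ, hχ, e0⟩ := h.exists_T
  have hE := h.expandT hχ e0 y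
  rw [Fin.sum_univ_four, hF0, hG] at hE
  have key := ylem_aux (n1 := dot s (a 1) (a 1)) (n2 := dot s (a 2) (a 2))
    (n3 := dot s (a 3) (a 3)) (G := G) (F2 := FT s a y 2) (F3 := FT s a y 3)
    (by
      have t1 := hS 1
      have t2 := hS 2
      have t3 := hS 3
      simp only [Int.cast_id] at t1 t2 t3 hP
      rw [← hG]
      linear_combination -4 * hP + 16 * hn - FT s a y 1 * t1 - FT s a y 2 * t2 - FT s a y 3 * t3)
    h1 (h.four_le 1) h2 h3 h23 h8 (fun e => hev 2 (by omega)) (fun e => hev 3 (by omega))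
    (by
      rcases sq_eq_one_iff.1 (h.sq_of_ne hχ e0 1) with e1 | e1 <;>
      rcases sq_eq_one_iff.1 (h.sq_of_ne hχ e0 2) with e2 | e2 <;>
      rcases sq_eq_one_iff.1 (h.sq_of_ne hχ e0 3) with e3 | e3 <;>
      simp only [e1, e2, e3, Int.cast_id] at hE <;> omega)
    (by
      rcases sq_eq_one_iff.1 (h.sq_of_ne hχ e0 1) with e1 | e1 <;>
      rcases sq_eq_one_iff.1 (h.sq_of_ne hχ e0 2) with e2 | e2 <;>
      rcases sq_eq_one_iff.1 (h.sq_of_ne hχ e0 3) with e3 | e3 <;>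
      simp only [e1, e2, e3, Int.cast_id] at hE <;> omega)
  have hX := fun χ hχ => h.expand hy (χ := χ) hχ
  simp only [Fin.sum_univ_four, hF0, hG, key.1, Int.cast_id] at hX
  rcases key.2 with ⟨n, e | e, e'⟩ | ⟨n, e | e, e'⟩
  · exact ⟨2, Or.inl rfl, n, 1, by norm_num, fun χ hχ => by
      have := hX χ hχ; rw [e, e'] at this; omega⟩
  · exact ⟨2, Or.inl rfl, n, -1, by norm_num, fun χ hχ => by
      have := hX χ hχ; rw [e, e'] at this; omega⟩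
  · exact ⟨3, Or.inr rfl, n, 1, by norm_num, fun χ hχ => by
      have := hX χ hχ; rw [e, e'] at this; omega⟩
  · exact ⟨3, Or.inr rfl, n, -1, by norm_num, fun χ hχ => by
      have := hX χ hχ; rw [e, e'] at this; omega⟩

theorem Tab.ylemT {a : Fin 4 → I → ℤ} (h : Tab s a) {y : I → ℤ}
    (hy : ∀ χ ∈ s, a 0 χ ≠ 0 → y χ ≠ 0) (hn : dot s y y = 4) (h0 : dot s (a 0) y = 0)
    (h1 : dot s (a 1) y = 0) : ∃ j : Fin 4, (j = 2 ∨ j = 3) ∧ ∃ ε : ℤ, ε * ε = 1 ∧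
      dot s (a j) y = 4 * ε ∧ ∀ χ ∈ s, y χ = ε * (a 0 χ ^ 2 * a j χ) := by
  have hle : ∀ χ ∈ s, a 0 χ * a 0 χ ≤ y χ * y χ := fun χ hχ => by
    by_cases e : a 0 χ = 0
    · rw [e]; exact mul_self_nonneg _
    · have := h.w1 χ hχ
      have := mul_self_pos.2 (hy χ hχ e)
      nlinarith
  have heq := (sum_eq_sum_iff_of_le hle).1 (h.n0.trans hn.symm)
  have hoff : ∀ χ ∈ s, a 0 χ = 0 → y χ = 0 := fun χ hχ e => by
    have := heq χ hχ
    rw [e] at this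
    exact mul_self_eq_zero.1 (by omega)
  have hF : ∀ j, FT s a y j = dot s (a j) y := fun j => sum_congr rfl fun χ hχ => by
    by_cases e : a 0 χ = 0
    · simp [hoff χ hχ e]
    · rw [h.sq_of_ne hχ e, one_mul, Int.cast_id]
  have hX : ∀ χ ∈ s, 4 * y χ =
      a 0 χ ^ 2 * (a 2 χ * dot s (a 2) y + a 3 χ * dot s (a 3) y) := fun χ hχ => by
    by_cases e : a 0 χ = 0
    · simp [hoff χ hχ e, e]
    · have := h.expandT hχ e y
      simp only [Fin.sum_univ_four, hF, h0, h1, Int.cast_id] at this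
      rw [h.sq_of_ne hχ e]
      linarith
  have hN : dot s (a 2) y ^ 2 + dot s (a 3) y ^ 2 = 16 := by
    have : 4 * dot s y y = dot s (a 2) y * FT s a y 2 + dot s (a 3) y * FT s a y 3 := by
      rw [FT, FT, mul_sum, mul_sum, ← sum_add_distrib, dot, mul_sum]
      refine sum_congr rfl fun χ hχ => ?_
      simp only [Int.cast_id]
      linear_combination y χ * hX χ hχ
    rw [hF, hF, hn] at this
    linarith
  have c2 := sq_cases5 (dot s (a 2) y) (by nlinarith [sq_nonneg (dot s (a 3) y)])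
  have c3 := sq_cases5 (dot s (a 3) y) (by nlinarith [sq_nonneg (dot s (a 2) y)])
  obtain ⟨e, e'⟩ | ⟨e, e'⟩ | ⟨e, e'⟩ | ⟨e, e'⟩ : (dot s (a 2) y = 4 ∧ dot s (a 3) y = 0) ∨
    (dot s (a 2) y = -4 ∧ dot s (a 3) y = 0) ∨ (dot s (a 3) y = 4 ∧ dot s (a 2) y = 0) ∨
    (dot s (a 3) y = -4 ∧ dot s (a 2) y = 0) := by omega
  · exact ⟨2, Or.inl rfl, 1, by norm_num, by omega, fun χ hχ => by
      have := hX χ hχ; rw [e, e'] at this; linarith⟩
  · exact ⟨2, Or.inl rfl, -1, by norm_num, by omega, fun χ hχ => by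
      have := hX χ hχ; rw [e, e'] at this; linarith⟩
  · exact ⟨3, Or.inr rfl, 1, by norm_num, by omega, fun χ hχ => by
      have := hX χ hχ; rw [e, e'] at this; linarith⟩
  · exact ⟨3, Or.inr rfl, -1, by norm_num, by omega, fun χ hχ => by
      have := hX χ hχ; rw [e, e'] at this; linarith⟩

end Cfsg.Agent.H7.TB
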