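import Cfsg.Agent.H7.TB2

/-!
Integer vector lemmas for tame blocks, third part.
-/

set_option autoImplicit false

namespace Cfsg.Agent.H7.TB

open Finset

variable {I : Type*} {s : Finset I} {w d : I → ℤ}

theorem dot_lin {u u' v : I → ℤ} (x y : ℤ) {t : I → ℤ} (h : ∀ i ∈ s, t i = x * u i + y * u' i) :
    dot s t v = x * dot s u v + y * dot s u' v := by
  simp only [dot, mul_sum, ← sum_add_distrib]
  exact sum_congr rfl fun i hi => by rw [h i hi]; ring

theorem eq_of_dot_eq {u v : I → ℤ} {c : ℤ} (h1 : dot s u u ≤ c) (h2 : dot s v v ≤ c) (ε : ℤ)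
    (hε : ε * ε = 1) : ε * dot s u v ≤ c ∧
      (ε * dot s u v = c → dot s u u = c ∧ ∀ i ∈ s, u i = ε * v i) := by
  have h3 : dot s (fun i => u i - ε * v i) (fun i => u i - ε * v i) =
      dot s u u + dot s v v - 2 * (ε * dot s u v) := by
    simp only [dot, mul_sum, ← sum_add_distrib, ← sum_sub_distrib]
    exact sum_congr rfl fun i _ => by linear_combination (v i * v i) * hε
  have h4 := dot_self_nonneg (s := s) fun i => u i - ε * v i
  refine ⟨by omega, fun h => ⟨by omega, fun i hi => ?_⟩⟩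
  exact sub_eq_zero.1 (eq_zero_of_dot (u := fun i => u i - ε * v i) (by omega) hi)

variable (s w) in
/-- a sign pattern on the support of `w` -/
def Pat (S : I → ℤ) : Prop := ∀ χ ∈ s, S χ ^ 2 = w χ ^ 2

theorem Pat.dot_self {S : I → ℤ} (h : Pat s w S) : dot s S S = dot s w w :=
  sum_congr rfl fun i hi => by rw [← sq, ← sq, h i hi]

theorem Pat.eq_zero {S : I → ℤ} (h : Pat s w S) {χ : I} (hχ : χ ∈ s) (h0 : w χ = 0) : S χ = 0 :=
  pow_eq_zero_iff two_ne_zero |>.1 (by rw [h χ hχ, h0]; rfl)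

theorem sq_eq_one_of (h1 : ∀ χ ∈ s, w χ ^ 2 ≤ 1) {χ : I} (hχ : χ ∈ s) (h0 : w χ ≠ 0) :
    w χ ^ 2 = 1 := le_antisymm (h1 χ hχ) (sq_pos_of_ne_zero h0)

theorem no_five (h1 : ∀ χ ∈ s, w χ ^ 2 ≤ 1) (hw : dot s w w = 4) {S : Fin 4 → I → ℤ}
    (h0 : S 0 = w) (hS : ∀ j, Pat s w (S j)) (ho : ∀ i j, i ≠ j → dot s (S i) (S j) = 0)
    {t : I → ℤ} (ht : Pat s w t) (hto : ∀ j, dot s (S j) t = 0) : False := by
  classical
  have hf : ∀ j (u : I → ℤ), dot (s.filter (w · ≠ 0)) (S j) u = dot s (S j) u := fun j u =>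
    sum_filter_of_ne fun χ hχ h e => h (by rw [(hS j).eq_zero hχ e, zero_mul])
  have T : Tab (s.filter (w · ≠ 0)) S :=
    ⟨fun χ hχ => by
      rw [mem_filter] at hχ
      simp [hS _ χ hχ.1, sq_eq_one_of h1 hχ.1 hχ.2],
    fun χ hχ => h0 ▸ h1 χ (mem_filter.1 hχ).1, fun i j hij => by rw [hf, ho i j hij],
    by rw [hf, h0, hw]⟩
  obtain ⟨χ, hχ, e⟩ := T.exists_T
  have := T.eq_zero (R := ℤ) (f := t) (fun χ hχ e => absurd (h0 ▸ e) (mem_filter.1 hχ).2)
    (fun j => (hf j t).trans (hto j)) hχ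
  have h2 := ht χ (mem_filter.1 hχ).1
  rw [this, sq_eq_one_of h1 (mem_filter.1 hχ).1 (mem_filter.1 hχ).2] at h2
  simp at h2

theorem exists_pat (h1 : ∀ χ ∈ s, w χ ^ 2 ≤ 1) (hw : dot s w w = 4) {S : I → ℤ} (hS : Pat s w S)
    (ho : dot s w S = 0) : ∃ t, Pat s w t ∧ dot s w t = 0 ∧ dot s S t = 0 := by
  classical
  have hc : ∀ χ ∈ s, w χ * S χ = 1 ∨ w χ * S χ = -1 ∨ w χ = 0 := fun χ hχ => by
    by_cases e : w χ = 0
    · exact Or.inr (Or.inr e)
    · have : (w χ * S χ) ^ 2 = 1 := by rw [mul_pow, hS χ hχ, sq_eq_one_of h1 hχ e, mul_one]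
      rcases sq_eq_one_iff.1 this with h | h
      · exact Or.inl h
      · exact Or.inr (Or.inl h)
  have hx : ∀ ε : ℤ, ε * ε = 1 → ∃ χ ∈ s, w χ * S χ = ε := fun ε hε => by
    by_contra hn
    push Not at hn
    have : dot s w w = -ε * dot s w S := by
      rw [dot, dot, mul_sum]
      refine sum_congr rfl fun χ hχ => ?_
      have := hn χ hχ
      by_cases e : w χ = 0
      · simp [e]
      · rw [← sq, sq_eq_one_of h1 hχ e]
        rcases mul_self_eq_one_iff.1 hε with rfl | rfl <;> rcases hc χ hχ with h | h | h <;>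
          simp_all
    rw [ho, hw] at this
    simp at this
  obtain ⟨p, hp, hp'⟩ := hx 1 (by norm_num)
  obtain ⟨q, hq, hq'⟩ := hx (-1) (by norm_num)
  have hne : p ≠ q := by rintro rfl; omega
  have key : ∀ u : I → ℤ, dot s u (fun χ => w χ * (2 * ((if χ = p then 1 else 0) +
      (if χ = q then 1 else 0)) - 1)) = 2 * (u p * w p + u q * w q) - dot s u w := fun u => by
    simp only [dot, mul_sub, mul_add, mul_ite, mul_one, mul_zero, sum_sub_distrib, sum_add_distrib,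
      sum_ite_eq', if_pos hp, if_pos hq]
    ring
  refine ⟨_, fun χ _ => ?_, (key w).trans ?_, (key S).trans ?_⟩
  · by_cases e : χ = p
    · subst e; simp [hne]
    · by_cases e' : χ = q
      · subst e'; simp [e]
      · simp [e, e']
  · rw [hw, ← sq, ← sq, sq_eq_one_of h1 hp (left_ne_zero_of_mul (by omega : w p * S p ≠ 0)),
      sq_eq_one_of h1 hq (left_ne_zero_of_mul (by omega : w q * S q ≠ 0))]
    norm_num
  · rw [dot_comm, ho]
    linarith

theorem exists_pat3 (h1 : ∀ χ ∈ s, w χ ^ 2 ≤ 1) {S t : I → ℤ} (hS : Pat s w S) (ht : Pat s w t)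
    (ho : dot s w S = 0) (ho' : dot s w t = 0) (hst : dot s S t = 0) :
    ∃ u, Pat s w u ∧ dot s w u = 0 ∧ dot s S u = 0 ∧ dot s t u = 0 := by
  have h3 : ∀ χ ∈ s, w χ ^ 2 * w χ = w χ := fun χ hχ => by
    by_cases e : w χ = 0
    · simp [e]
    · rw [sq_eq_one_of h1 hχ e, one_mul]
  refine ⟨fun χ => w χ * S χ * t χ, fun χ hχ => ?_, hst ▸ sum_congr rfl fun χ hχ => ?_,
    ho' ▸ sum_congr rfl fun χ hχ => ?_, ho ▸ sum_congr rfl fun χ hχ => ?_⟩
  · rw [mul_pow, mul_pow, hS χ hχ, ht χ hχ]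
    linear_combination (w χ ^ 3 + w χ) * h3 χ hχ
  · by_cases e : w χ = 0
    · simp [hS.eq_zero hχ e]
    · linear_combination (S χ * t χ) * sq_eq_one_of h1 hχ e
  · linear_combination (w χ * t χ) * hS χ hχ + t χ * h3 χ hχ
  · linear_combination (w χ * S χ) * ht χ hχ + S χ * h3 χ hχ

/-- completion of a partial system of patterns -/
theorem exists_pats (h1 : ∀ χ ∈ s, w χ ^ 2 ≤ 1) (hw : dot s w w = 4) {ι : Type*} (J : ι → Fin 4)
    (P : ι → I → ℤ) (hP : ∀ i, Pat s w (P i)) (ho : ∀ i, dot s w (P i) = 0) (hJ0 : ∀ i, J i ≠ 0)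
    (heq : ∀ i i', J i = J i' → ∀ χ ∈ s, P i χ = P i' χ)
    (hne : ∀ i i', J i ≠ J i' → dot s (P i) (P i') = 0) {i0 : ι} (h0 : J i0 = 1) :
    ∃ S : Fin 4 → I → ℤ, S 0 = w ∧ (∀ j, Pat s w (S j)) ∧
      (∀ i j, i ≠ j → dot s (S i) (S j) = 0) ∧ ∀ i, ∀ χ ∈ s, S (J i) χ = P i χ := by
  obtain ⟨t, u, a1, a2, a3, b1, b2, b3, b4, c1, c2⟩ : ∃ t u, Pat s w t ∧ dot s w t = 0 ∧
      dot s (P i0) t = 0 ∧ Pat s w u ∧ dot s w u = 0 ∧ dot s (P i0) u = 0 ∧ dot s t u = 0 ∧
      (∀ i, J i = 2 → ∀ χ ∈ s, t χ = P i χ) ∧ ∀ i, J i = 3 → ∀ χ ∈ s, u χ = P i χ := by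
    by_cases e2 : ∃ i, J i = 2 <;> by_cases e3 : ∃ i, J i = 3
    · obtain ⟨i, hi⟩ := e2
      obtain ⟨j, hj⟩ := e3
      exact ⟨P i, P j, hP i, ho i, hne _ _ (by rw [h0, hi]; decide), hP j, ho j,
        hne _ _ (by rw [h0, hj]; decide), hne _ _ (by rw [hi, hj]; decide),
        fun l hl => heq _ _ (hi.trans hl.symm), fun l hl => heq _ _ (hj.trans hl.symm)⟩
    · obtain ⟨i, hi⟩ := e2
      have := hne i0 i (by rw [h0, hi]; decide)
      obtain ⟨u, b1, b2, b3, b4⟩ := exists_pat3 h1 (hP i0) (hP i) (ho i0) (ho i) this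
      exact ⟨P i, u, hP i, ho i, this, b1, b2, b3, b4, fun l hl => heq _ _ (hi.trans hl.symm),
        fun l hl => absurd ⟨l, hl⟩ e3⟩
    · obtain ⟨i, hi⟩ := e3
      have := hne i0 i (by rw [h0, hi]; decide)
      obtain ⟨u, b1, b2, b3, b4⟩ := exists_pat3 h1 (hP i0) (hP i) (ho i0) (ho i) this
      exact ⟨u, P i, b1, b2, b3, hP i, ho i, this, (dot_comm _ _).trans b4,
        fun l hl => absurd ⟨l, hl⟩ e2, fun l hl => heq _ _ (hi.trans hl.symm)⟩
    · obtain ⟨t, a1, a2, a3⟩ := exists_pat h1 hw (hP i0) (ho i0)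
      obtain ⟨u, b1, b2, b3, b4⟩ := exists_pat3 h1 (hP i0) a1 (ho i0) a2 a3
      exact ⟨t, u, a1, a2, a3, b1, b2, b3, b4, fun l hl => absurd ⟨l, hl⟩ e2,
        fun l hl => absurd ⟨l, hl⟩ e3⟩
  refine ⟨![w, P i0, t, u], rfl, fun j => ?_, fun i j hij => ?_, fun i χ hχ => ?_⟩
  · fin_cases j
    exacts [fun _ _ => rfl, hP i0, a1, b1]
  · have := ho i0
    fin_cases i <;> fin_cases j <;> simp at hij ⊢ <;> first | assumption | (rwa [dot_comm])
  · have := hJ0 i
    generalize hj : J i = j at this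
    fin_cases j
    · simp at this
    · exact heq _ _ (h0.trans hj.symm) χ hχ
    · exact c1 i hj χ hχ
    · exact c2 i hj χ hχ

/-- the pattern of a small vector -/
def pS (w v : I → ℤ) : I → ℤ := fun χ => 2 * v χ * w χ ^ 2 - w χ

/-- the tail of a small vector -/
def pQ (w v : I → ℤ) : I → ℤ := fun χ => v χ * (1 - w χ ^ 2)

theorem two_mul_eq (v : I → ℤ) (χ : I) : 2 * v χ = pS w v χ + w χ + 2 * pQ w v χ := by
  simp only [pS, pQ]; ring

theorem dot_two (w v t : I → ℤ) :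
    2 * dot s v t = dot s (pS w v) t + dot s w t + 2 * dot s (pQ w v) t := by
  simp only [dot, mul_sum, ← sum_add_distrib]
  exact sum_congr rfl fun χ _ => by linear_combination t χ * two_mul_eq (w := w) v χ

theorem pQ_mul (h1 : ∀ χ ∈ s, w χ ^ 2 ≤ 1) (v : I → ℤ) {S : I → ℤ} (hS : Pat s w S) {χ : I}
    (hχ : χ ∈ s) : S χ * pQ w v χ = 0 := by
  by_cases e : w χ = 0
  · simp [hS.eq_zero hχ e]
  · simp [pQ, sq_eq_one_of h1 hχ e]

theorem dot_pQ (h1 : ∀ χ ∈ s, w χ ^ 2 ≤ 1) (v : I → ℤ) {S : I → ℤ} (hS : Pat s w S) :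
    dot s S (pQ w v) = 0 := sum_eq_zero fun _ hχ => pQ_mul h1 v hS hχ

theorem small (h1 : ∀ χ ∈ s, w χ ^ 2 ≤ 1) (hw : dot s w w = 4) {v : I → ℤ} {δ : ℤ} (hδ : δ ≤ 1)
    (hvw : dot s v w = 2) (hn : dot s v v = 2 + δ) :
    Pat s w (pS w v) ∧ dot s w (pS w v) = 0 ∧ dot s (pQ w v) (pQ w v) = δ := by
  have h2 : ∑ χ ∈ s, ((v χ * w χ) * (v χ * w χ) - v χ * w χ) + dot s (pQ w v) (pQ w v) = δ := by
    have : δ = dot s v v - dot s v w := by omega
    rw [this, dot, dot, dot, ← sum_add_distrib, ← sum_sub_distrib]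
    refine sum_congr rfl fun χ hχ => ?_
    by_cases e : w χ = 0
    · simp [e, pQ]
    · simp only [pQ, sq_eq_one_of h1 hχ e]
      linear_combination (v χ * v χ) * sq_eq_one_of h1 hχ e
  have h3 : ∀ x : ℤ, 0 ≤ x * x - x := fun x => by
    rcases le_or_gt x 0 with h | h <;> nlinarith
  have h4 : ∀ χ ∈ s, (v χ * w χ) * (v χ * w χ) - v χ * w χ = 0 := fun χ hχ => by
    have a1 := single_le_sum (f := fun χ => (v χ * w χ) * (v χ * w χ) - v χ * w χ)
      (fun _ _ => h3 _) hχ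
    have a2 := dot_self_nonneg (s := s) (pQ w v)
    have a3 := h3 (v χ * w χ)
    obtain ⟨c, hc⟩ := Int.even_mul_pred_self (v χ * w χ)
    have a4 : (v χ * w χ) * (v χ * w χ) - v χ * w χ = c + c := by rw [← hc]; ring
    omega
  rw [sum_eq_zero h4, zero_add] at h2
  refine ⟨fun χ hχ => ?_, ?_, h2⟩
  · simp only [pS]
    linear_combination 4 * w χ ^ 2 * h4 χ hχ
  · have := dot_two (s := s) w v w
    rw [hvw, hw, dot_comm (pQ w v), dot_pQ h1 v (fun _ _ => rfl), dot_comm] at this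
    omega

/-- the conclusion of the vector lemma -/
structure Out (s : Finset I) {ι : Type*} [Fintype ι] (J : ι → Fin 4) (δ : ι → ℤ) (v : ι → I → ℤ)
    (a : Fin 4 → I → ℤ) : Prop where
  tab : Tab s a
  norm : ∀ j, dot s (a j) (a j) = 4 + 4 * ∑ i with J i = j, δ i
  dot_eq : ∀ j, j ≠ 0 → ∀ i, dot s (a j) (v i) = if J i = j then 2 * (1 - δ i) else 0
  two : ∀ i, δ i = 0 → ∀ χ ∈ s, a (J i) χ = 2 * v i χ - a 0 χ
  rel : ∀ (R : Type) [CommRing R] (f : I → R), ∑ χ ∈ s, (a 0 χ : R) * f χ = 0 →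
    (∀ i, ∑ χ ∈ s, (v i χ : R) * f χ = 0) → Rel s a f

theorem q3_reg {ι : Type*} [Fintype ι] {J : ι → Fin 4} {δ : ι → ℤ} {v : ι → I → ℤ}
    (h1 : ∀ χ ∈ s, w χ ^ 2 ≤ 1) (hw : dot s w w = 4) (hδ : ∀ i, δ i ≤ 1)
    (hvw : ∀ i, dot s (v i) w = 2) (hn : ∀ i, dot s (v i) (v i) = 2 + δ i) (hJ0 : ∀ i, J i ≠ 0)
    (hinj : ∀ i i', J i = J i' → δ i = 0 → i = i') {i0 : ι} (h0 : J i0 = 1)
    (hcov : ∀ χ ∈ s, w χ ≠ 0 ∨ ∃ i, v i χ ≠ 0)
    (hQ : ∀ i i', i ≠ i' → dot s (pQ w (v i)) (pQ w (v i')) = 0)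
    (heq : ∀ i i', J i = J i' → ∀ χ ∈ s, pS w (v i) χ = pS w (v i') χ)
    (hne : ∀ i i', J i ≠ J i' → dot s (pS w (v i)) (pS w (v i')) = 0) :
    ∃ a, a 0 = w ∧ Out s J δ v a := by
  classical
  have hs := fun i => small h1 hw (hδ i) (hvw i) (hn i)
  obtain ⟨S, S0, SP, So, SJ⟩ := exists_pats h1 hw J (fun i => pS w (v i)) (fun i => (hs i).1)
    (fun i => (hs i).2.1) hJ0 heq hne h0
  set Q := fun i => pQ w (v i) with hQdef
  have hone : ∀ i, ∀ χ ∈ s, Q i χ ≠ 0 → Q i χ * Q i χ = 1 ∧ ∀ ψ ∈ s, ψ ≠ χ → Q i ψ = 0 :=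
    fun i χ hχ h => by
      have a1 := mul_self_pos.2 h
      have a2 := sq_le_dot (Q i) hχ
      have a3 : dot s (Q i) (Q i) = δ i := (hs i).2.2
      have a4 := hδ i
      exact ⟨by omega, fun ψ hψ hne => eq_zero_of_dot_le hχ (by omega) hψ hne⟩
  have hdis : ∀ i, ∀ χ ∈ s, Q i χ ≠ 0 → ∀ i', i' ≠ i → Q i' χ = 0 := fun i χ hχ h i' hi => by
    have := hQ i i' hi.symm
    rw [dot_eq_single hχ (hone i χ hχ h).2] at this
    exact (mul_eq_zero.1 this).resolve_left h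
  have hw0 : ∀ i, ∀ χ ∈ s, Q i χ ≠ 0 → w χ = 0 := fun i χ hχ h =>
    (mul_eq_zero.1 (pQ_mul h1 (v i) (S := w) (fun _ _ => rfl) hχ)).resolve_right h
  let E : Fin 4 → I → ℤ := fun j χ => ∑ i with J i = j, Q i χ
  let a : Fin 4 → I → ℤ := fun j χ => S j χ - 2 * E j χ
  have hE : ∀ i, ∀ χ ∈ s, Q i χ ≠ 0 → ∀ j, E j χ = if J i = j then Q i χ else 0 :=
    fun i χ hχ h j => by
      simp only [E, sum_filter]
      exact sum_eq_single i (fun i' _ hi => by simp [hdis i χ hχ h i' hi]) (by simp)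
  have hET : ∀ χ ∈ s, w χ ≠ 0 → ∀ j, E j χ = 0 := fun χ hχ h j =>
    sum_eq_zero fun i _ => by_contra fun hn => h (hw0 i χ hχ hn)
  have a0 : a 0 = w := by
    ext χ
    simp only [a, E, S0]
    rw [sum_eq_zero fun i hi => absurd (mem_filter.1 hi).2 (hJ0 i)]
    simp
  have hEQ : ∀ j i, dot s (E j) (Q i) = if J i = j then δ i else 0 := fun j i => by
    simp only [dot, E, sum_mul]
    rw [sum_comm, sum_filter, sum_eq_single i (fun i' _ hi => ?_) (by simp)]
    · exact if_congr Iff.rfl (hs i).2.2 rfl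
    · exact ite_eq_right_iff.2 fun _ => hQ i' i hi
  have hSE : ∀ j t, Pat s w t → dot s (E j) t = 0 := fun j t ht => sum_eq_zero fun χ hχ => by
    by_cases e : w χ = 0
    · rw [ht.eq_zero hχ e, mul_zero]
    · rw [hET χ hχ e, zero_mul]
  have ha : ∀ j t, dot s (a j) t = 1 * dot s (S j) t + -2 * dot s (E j) t := fun j t =>
    dot_lin 1 (-2) fun _ _ => by simp only [a]; ring
  have haa : ∀ i j, dot s (a i) (a j) =
      if i = j then 4 + 4 * ∑ l with J l = j, δ l else 0 := fun i j => by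
    have e1 : dot s (E i) (E j) = if i = j then ∑ l with J l = j, δ l else 0 := by
      have : dot s (E i) (E j) = ∑ l with J l = j, dot s (E i) (Q l) := by
        simp only [dot]
        rw [sum_comm]
        exact sum_congr rfl fun χ _ => mul_sum _ _ _
      rw [this]
      split_ifs with h
      · exact sum_congr rfl fun l hl => by rw [hEQ, if_pos ((mem_filter.1 hl).2.trans h.symm)]
      · exact sum_eq_zero fun l hl => by
          rw [hEQ, if_neg fun e => h (e.symm.trans (mem_filter.1 hl).2)]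
    rw [ha, dot_comm (S i), dot_comm (E i), ha, ha, hSE _ _ (SP i), dot_comm (S j) (E i),
      hSE _ _ (SP j), dot_comm (E j), e1]
    split_ifs with h
    · rw [h, (SP j).dot_self, hw]; ring
    · rw [So j i (Ne.symm h)]; ring
  have hoff : ∀ χ ∈ s, w χ = 0 → ∃ i, Q i χ ≠ 0 := fun χ hχ e => by
    obtain ⟨i, hi⟩ := (hcov χ hχ).resolve_left (not_not.2 e)
    exact ⟨i, by simpa [Q, pQ, e] using hi⟩
  refine ⟨a, a0, ⟨fun χ hχ => ?_, a0 ▸ h1, fun i j h => by rw [haa, if_neg h], by rw [a0, hw]⟩,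
    fun j => by rw [haa, if_pos rfl], fun j hj i => ?_, fun i hi χ hχ => ?_,
    fun R _ f f0 fv χ hχ e j hj => ?_⟩
  · by_cases e : w χ = 0
    · obtain ⟨i, hi⟩ := hoff χ hχ e
      simp only [a, hE i χ hχ hi, (SP _).eq_zero hχ e]
      rw [sum_eq_single (J i) (fun j _ hj => by simp [hj.symm]) (by simp), if_pos rfl]
      linear_combination 4 * (hone i χ hχ hi).1
    · simp [a, hET χ hχ e, SP _ χ hχ, sq_eq_one_of h1 hχ e]
  · have e1 := dot_two (s := s) w (v i) (a j)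
    rw [dot_comm (v i), dot_congr (fun χ hχ => (SJ i χ hχ).symm) (fun _ _ => rfl),
      dot_comm (S _), dot_comm w, dot_comm (pQ _ _), ha j (S _), ha j w, ha j (pQ _ _),
      hSE _ _ (SP _), hSE _ w (fun _ _ => rfl), dot_pQ h1 _ (SP j), hEQ, ← S0, So j 0 hj] at e1
    split_ifs at e1 ⊢ with h
    · rw [h, (SP j).dot_self, hw] at e1; omega
    · rw [So j _ (Ne.symm h)] at e1; omega
  · have e1 : Q i χ = 0 := eq_zero_of_dot ((hs i).2.2.trans hi) hχ
    have e2 : E (J i) χ = 0 := sum_eq_zero fun l hl => by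
      rw [← hinj i l (mem_filter.1 hl).2.symm hi, e1]
    have := two_mul_eq (w := w) (v i) χ
    simp only [a0, a, e2, SJ i χ hχ] at e1 ⊢
    rw [show S 0 χ - 2 * E 0 χ = w χ from congrFun a0 χ]
    simp only [Q] at e1
    omega
  · rw [a0] at e f0
    obtain ⟨i, hi⟩ := hoff χ hχ e
    have e1 : a j χ = -2 * if J i = j then Q i χ else 0 := by
      simp only [a, hE i χ hχ hi, (SP _).eq_zero hχ e]; ring
    obtain rfl : J i = j := by_contra fun hn => hj (by rw [e1, if_neg hn, mul_zero])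
    rw [if_pos rfl] at e1
    have e2 : FT s a f (J i) = 2 * ∑ ψ ∈ s, (v i ψ : R) * f ψ - ∑ ψ ∈ s, (w ψ : R) * f ψ -
        2 * ∑ ψ ∈ s, (Q i ψ : R) * f ψ := by
      simp only [FT, mul_sum, ← sum_sub_distrib]
      refine sum_congr rfl fun ψ hψ => ?_
      have e3 : a 0 ψ ^ 2 * a (J i) ψ = 2 * v i ψ - w ψ - 2 * Q i ψ := by
        have := two_mul_eq (w := w) (v i) ψ
        rw [a0, ← SJ i ψ hψ] at *
        by_cases e : w ψ = 0
        · rw [(SP _).eq_zero hψ e] at this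
          rw [e] at this ⊢
          simp only [Q, e] at this ⊢
          omega
        · simp only [a, hET ψ hψ e, sq_eq_one_of h1 hψ e, Q]
          omega
      rw [e3]
      push_cast
      ring
    rw [e2, fv, f0, sum_eq_single_of_mem χ hχ fun ψ hψ hne => by
      rw [(hone i χ hχ hi).2 ψ hψ hne]; simp, e1]
    push_cast
    ring

theorem q3 {ι : Type*} [Fintype ι] {J : ι → Fin 4} {δ : ι → ℤ} {v : ι → I → ℤ}
    (hd : ∀ χ ∈ s, 0 < d χ) (hw : dot s w w = 4) (hwd : dot s w d = 0)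
    (hvd : ∀ i, dot s (v i) d = 0) (hδ : ∀ i, δ i ≤ 1)
    (hvw : ∀ i, dot s (v i) w = 2) (hn : ∀ i, dot s (v i) (v i) = 2 + δ i)
    (hvv : ∀ i i', i ≠ i' → dot s (v i) (v i') = if J i = J i' then 2 else 1) (hJ0 : ∀ i, J i ≠ 0)
    (hinj : ∀ i i', J i = J i' → δ i = 0 → i = i') (hinj' : ∀ i i', J i = J i' → J i ≠ 1 → i = i')
    {i0 : ι} (h0 : J i0 = 1) (hN : #{i | J i = 1} ≠ 2)
    (hcov : ∀ χ ∈ s, w χ ≠ 0 ∨ ∃ i, v i χ ≠ 0) :
    (s.card ≤ 5 ∧ Fintype.card ι = 3 ∧ ∀ i, J i = 1) ∨ ∃ a, a 0 = w ∧ Out s J δ v a := by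
  classical
  have h1 := fun χ hχ => sq_le_one hd hw hwd (i := χ) hχ
  have hs := fun i => small h1 hw (hδ i) (hvw i) (hn i)
  set S := fun i => pS w (v i)
  set Q := fun i => pQ w (v i)
  have hw' : Pat s w w := fun _ _ => rfl
  have hSS : ∀ i i', dot s (S i) (S i') + 4 + 4 * dot s (Q i) (Q i') = 4 * dot s (v i) (v i') :=
    fun i i' => by
      have e1 := dot_two (s := s) w (v i) (v i')
      have e2 := dot_two (s := s) w (v i') (S i)
      have e3 := dot_two (s := s) w (v i') (Q i)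
      rw [(hs i).2.1, dot_comm (pQ w (v i')), dot_pQ h1 _ (hs i).1, dot_comm (v i')] at e2
      rw [dot_pQ h1 _ hw', dot_pQ h1 _ (hs i').1, dot_comm (v i')] at e3
      rw [dot_comm w, hvw] at e1
      rw [dot_comm (S i), dot_comm (Q i)]
      simp only [S, Q] at *
      omega
  have hD : ∀ i, dot s (S i) d = -2 * dot s (Q i) d := fun i => by
    have := dot_two (s := s) w (v i) d
    rw [hvd, hwd] at this
    simp only [S, Q]
    omega
  have hSe := fun i i' ε hε => eq_of_dot_eq (c := 4) ((hs i).1.dot_self.trans hw).le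
    ((hs i').1.dot_self.trans hw).le ε hε
  have hQe := fun i i' ε hε => eq_of_dot_eq (c := 1) ((hs i).2.2.trans_le (hδ i))
    ((hs i').2.2.trans_le (hδ i')) ε hε
  have hK : ∀ i i' (ε : ℤ), ε * ε = 1 → ε * dot s (Q i) (Q i') = 1 →
      -ε * dot s (S i) (S i') ≠ 4 := fun i i' ε hε a1 a2 => by
    obtain ⟨b1, b2⟩ := (hQe i i' ε hε).2 a1
    obtain ⟨-, b3⟩ := (hSe i i' (-ε) (by linarith)).2 a2
    obtain ⟨-, -, -, -, b4⟩ := dot_ne_zero_of_one hd b1
    have c1 := dot_lin (v := d) (u := Q i') (u' := Q i') ε 0 (t := Q i)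
      fun χ hχ => by rw [zero_mul, add_zero]; exact b2 χ hχ
    have c2 := dot_lin (v := d) (u := S i') (u' := S i') (-ε) 0 (t := S i)
      fun χ hχ => by rw [zero_mul, add_zero]; exact b3 χ hχ
    rw [hD, hD] at c2
    exact b4 (by change dot s (Q i) d = 0; linarith)
  have hne : ∀ i i', J i ≠ J i' → dot s (S i) (S i') = 0 ∧ dot s (Q i) (Q i') = 0 :=
    fun i i' h => by
      have a1 := hSS i i'
      rw [hvv i i' (fun e => h (e ▸ rfl)), if_neg h] at a1
      have a2 : _ ≤ _ := (hQe i i' 1 (by norm_num)).1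
      have a3 : _ ≤ _ := (hQe i i' (-1) (by norm_num)).1
      have a4 := hK i i' 1 (by norm_num)
      have a5 := hK i i' (-1) (by norm_num)
      simp only [S, Q] at *
      omega
  have heq : ∀ i i', i ≠ i' → J i = J i' → (dot s (S i) (S i') = 4 ∧ dot s (Q i) (Q i') = 0) ∨
      (dot s (S i) (S i') = 0 ∧ dot s (Q i) (Q i') = 1) := fun i i' hi h => by
    have a1 := hSS i i'
    rw [hvv i i' hi, if_pos h] at a1
    have a2 : _ ≤ _ := (hQe i i' 1 (by norm_num)).1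
    have a3 : _ ≤ _ := (hSe i i' 1 (by norm_num)).1
    simp only [S, Q] at *
    omega
  by_cases hx : ∀ i i', i ≠ i' → J i = J i' → dot s (Q i) (Q i') = 0
  · refine Or.inr (q3_reg h1 hw hδ hvw hn hJ0 hinj h0 hcov (fun i i' hi => ?_)
      (fun i i' h χ hχ => ?_) fun i i' h => (hne i i' h).1)
    · by_cases h : J i = J i'
      exacts [hx i i' hi h, (hne i i' h).2]
    · by_cases hi : i = i'
      · rw [hi]
      · have := heq i i' hi h
        rw [hx i i' hi h] at this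
        simpa using ((hSe i i' 1 (by norm_num)).2 (by simp only [S] at this; omega)).2 χ hχ
  left
  push Not at hx
  obtain ⟨i, i', hi, hJ, hx⟩ := hx
  have hJ1 : J i = 1 := by_contra fun h => hi (hinj' i i' hJ h)
  obtain ⟨a1, a2⟩ := (heq i i' hi hJ).resolve_left fun h => hx h.2
  obtain ⟨b1, b2⟩ := (hQe i i' 1 (by norm_num)).2 (by rw [one_mul]; exact a2)
  simp only [one_mul] at b2
  have hall : ∀ l, J l = 1 → ∀ χ ∈ s, Q l χ = Q i χ := fun l hl => by
    by_cases e : l = i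
    · exact fun _ _ => e ▸ rfl
    by_cases e' : l = i'
    · exact fun χ hχ => e' ▸ (b2 χ hχ).symm
    have c0 : dot s (Q l) (Q i) = dot s (Q l) (Q i') := dot_congr (fun _ _ => rfl) b2
    rcases heq l i e (hl.trans hJ1.symm) with c1 | c1
    · have c2 := (heq l i' e' (hl.trans (hJ1.symm.trans hJ))).resolve_right
        fun h => by omega
      have c3 := ((hSe l i 1 (by norm_num)).2 (by rw [one_mul]; exact c1.1)).2
      simp only [one_mul] at c3
      have := (dot_congr c3 fun _ _ => rfl).symm.trans c2.1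
      exact absurd (this.symm.trans a1) (by norm_num)
    · simpa using ((hQe l i 1 (by norm_num)).2 (by rw [one_mul]; exact c1.2)).2
  have hSo : ∀ l l', l ≠ l' → dot s (S l) (S l') = 0 := fun l l' h => by
    by_cases e : J l = J l'
    · have e1 : J l = 1 := by_contra fun h' => h (hinj' l l' e h')
      have := (dot_congr (hall l e1) (hall l' (e ▸ e1))).trans b1
      exact ((heq l l' h e).resolve_left fun h => by omega).1
    · exact (hne l l' e).1
  obtain ⟨i'', e1, e2, e3⟩ : ∃ l, J l = 1 ∧ l ≠ i ∧ l ≠ i' := by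
    by_contra hn
    push Not at hn
    refine hN ?_
    rw [← card_pair hi]
    congr 1
    ext l
    simp only [mem_filter, mem_univ, true_and, mem_insert, mem_singleton]
    refine ⟨fun h => or_iff_not_imp_left.2 (hn l h), ?_⟩
    rintro (rfl | rfl)
    exacts [hJ1, hJ ▸ hJ1]
  have h3 : ∀ l, l = i ∨ l = i' ∨ l = i'' := fun l => by
    by_contra hn
    push Not at hn
    refine no_five h1 hw (S := ![w, S i, S i', S i'']) rfl (fun j => ?_) (fun j j' hj => ?_)
      (hs l).1 fun j => ?_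
    · fin_cases j
      exacts [hw', (hs _).1, (hs _).1, (hs _).1]
    · have := hSo i i' hi
      have := hSo i i'' e2.symm
      have := hSo i' i'' e3.symm
      have := (hs i).2.1
      have := (hs i').2.1
      have := (hs i'').2.1
      fin_cases j <;> fin_cases j' <;> simp at hj ⊢ <;> first | assumption | (rwa [dot_comm])
    · fin_cases j
      exacts [(hs l).2.1, hSo _ _ hn.1.symm, hSo _ _ hn.2.1.symm, hSo _ _ hn.2.2.symm]
  have hJall : ∀ l, J l = 1 := fun l => by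
    rcases h3 l with rfl | rfl | rfl
    exacts [hJ1, hJ ▸ hJ1, e1]
  refine ⟨?_, ?_, hJall⟩
  · have : (s.card : ℤ) ≤ dot s w w + dot s (Q i) (Q i) := by
      rw [dot, dot, ← sum_add_distrib, card_eq_sum_ones]
      push_cast
      refine sum_le_sum fun χ hχ => ?_
      have := mul_self_nonneg (Q i χ)
      by_cases e : w χ = 0
      · obtain ⟨l, hl⟩ := (hcov χ hχ).resolve_left (not_not.2 e)
        have : Q i χ ≠ 0 := by rw [← hall l (hJall l) χ hχ]; simpa [Q, pQ, e] using hl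
        have := mul_self_pos.2 this
        rw [e]
        omega
      · have := mul_self_pos.2 e
        omega
    simp only [Q] at this
    omega
  · rw [← card_univ, show (univ : Finset ι) = {i, i', i''} from by ext l; simpa using h3 l,
      card_eq_three.2 ⟨_, _, _, hi, e2.symm, e3.symm, rfl⟩]

end Cfsg.Agent.H7.TB
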