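import Cfsg.Agent.H7.TB3
import Cfsg.Agent.H7.Wat
import Cfsg.Agent.H6.Fr8

/-!
Tame blocks: vectors, truncations, columns.
-/

set_option autoImplicit false
set_option linter.unusedSectionVars false
set_option linter.style.haveILetI false
set_option warn.classDefReducibility false

namespace Cfsg.Agent.H7.TB

open MonoidAlgebra Cfsg Cfsg.Agent.H3 Cfsg.Agent.H4 Cfsg.Agent.H5
open Cfsg.Agent.H6 (Res locRing redC redA eB fB intAlg chiL blocks Uni dd)
open Cfsg.Agent.H8 (SecData sec sub bspan bfin lift)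
open scoped Pointwise ComplexConjugate

section vec
variable {G : Type*} [Group G] [Fintype G] {B : Set (IrrCharacter G)}

/-- the generalized character with given coefficients -/
noncomputable def vec (B : Set (IrrCharacter G)) (a : IrrCharacter G → ℤ) : G → ℂ :=
  ∑ χ ∈ bfin B, (a χ : ℂ) • (χ : G → ℂ)

theorem vec_apply (a : IrrCharacter G → ℤ) (g : G) :
    vec B a g = ∑ χ ∈ bfin B, (a χ : ℂ) * (χ : G → ℂ) g := by
  simp [vec, Finset.sum_apply]

theorem vec_mem (a : IrrCharacter G → ℤ) : vec B a ∈ bspan B :=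
  Submodule.sum_mem _ fun _ h => Submodule.smul_mem _ _ (H8.mem_bspan_of_mem (H8.mem_bfin.1 h))

theorem vec_isGen (a : IrrCharacter G → ℤ) : IsGeneralizedCharacter G (vec B a) :=
  isGen_sum _ _ fun χ _ => χ.2.isGen.intCast_smul _

theorem vec_cf (a : IrrCharacter G → ℤ) : IsClassFunction G (vec B a) :=
  (vec_isGen a).isClassFunction

theorem vec_congr {a a' : IrrCharacter G → ℤ} (h : ∀ χ ∈ bfin B, a χ = a' χ) :
    vec B a = vec B a' := Finset.sum_congr rfl fun χ hχ => by rw [h χ hχ]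

theorem vec_lin {a a' t : IrrCharacter G → ℤ} (x y : ℤ)
    (h : ∀ χ ∈ bfin B, t χ = x * a χ + y * a' χ) :
    vec B t = (x : ℂ) • vec B a + (y : ℂ) • vec B a' := by
  simp only [vec, Finset.smul_sum, ← Finset.sum_add_distrib, smul_smul, ← add_smul]
  exact Finset.sum_congr rfl fun χ hχ => by rw [h χ hχ]; push_cast; rfl

theorem inner_vec_left (a : IrrCharacter G → ℤ) (θ : G → ℂ) :
    classInner (vec B a) θ = ∑ χ ∈ bfin B, (a χ : ℂ) * classInner (χ : G → ℂ) θ := by
  simp only [vec, classInner_sum_left, classInner_smul_left]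

theorem inner_vec_right (a : IrrCharacter G → ℤ) (θ : G → ℂ) :
    classInner θ (vec B a) = ∑ χ ∈ bfin B, (a χ : ℂ) * classInner θ (χ : G → ℂ) := by
  simp only [vec, classInner_sum_right, classInner_smul_right, map_intCast]

theorem inner_vec_irr (a : IrrCharacter G → ℤ) {χ : IrrCharacter G} (hχ : χ ∈ B) :
    classInner (vec B a) χ = a χ := by
  classical
  simp [inner_vec_left, irr_classInner, hχ]

theorem inner_irr_vec (a : IrrCharacter G → ℤ) {χ : IrrCharacter G} (hχ : χ ∈ B) :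
    classInner (χ : G → ℂ) (vec B a) = a χ := by
  rw [← classInner_conj_symm, inner_vec_irr a hχ, map_intCast]

theorem inner_vec_vec (a a' : IrrCharacter G → ℤ) :
    classInner (vec B a) (vec B a') = dot (bfin B) a a' := by
  rw [inner_vec_left, dot]
  push_cast
  exact Finset.sum_congr rfl fun χ hχ => by rw [inner_irr_vec _ (H8.mem_bfin.1 hχ)]

theorem exists_vec {θ : G → ℂ} (hθ : IsGeneralizedCharacter G θ) (h : θ ∈ bspan B) :
    ∃ a, θ = vec B a := by
  choose a ha using fun χ : IrrCharacter G => hθ.classInner_int χ.2.isGen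
  refine ⟨a, ?_⟩
  conv_lhs => rw [← H8.blockPart_of_mem_bspan h, H8.blockPart_eq]
  simp only [ha, vec]

/-- the degree vector -/
noncomputable def deg (χ : IrrCharacter G) : ℤ := charDegree (χ : G → ℂ)

theorem deg_pos (χ : IrrCharacter G) : 0 < deg χ :=
  Int.natCast_pos.2 (Nat.pos_of_ne_zero (H8.irr_charDegree_ne_zero χ))

theorem dot_deg {a : IrrCharacter G → ℤ} (h : vec B a 1 = 0) : dot (bfin B) a deg = 0 := by
  rw [vec_apply] at h
  have : ((dot (bfin B) a deg : ℤ) : ℂ) = 0 := by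
    rw [← h, dot]
    push_cast
    exact Finset.sum_congr rfl fun χ _ => by
      rw [deg, Int.cast_natCast, χ.2.isCharacter.charDegree_cast]
  exact_mod_cast this

theorem inner_eq_zero_of_disj {θ ψ : G → ℂ} (h : ∀ g, θ g ≠ 0 → ψ g = 0) : classInner θ ψ = 0 := by
  rw [classInner_def, Finset.sum_eq_zero, mul_zero]
  intro g _
  by_cases e : θ g = 0
  · rw [e, zero_mul]
  · rw [h g e, map_zero, mul_zero]

end vec

section tr
variable {G : Type*} [Group G] [Fintype G] {p : ℕ} [hp : Fact p.Prime]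

open Classical in
/-- truncation to a union of sections -/
noncomputable def tr (p : ℕ) (Φ : G → Prop) (θ : G → ℂ) : G → ℂ :=
  fun g => if Φ (pp p g) then θ g else 0

theorem tr_pos {Φ : G → Prop} (θ : G → ℂ) {g : G} (h : Φ (pp p g)) : tr p Φ θ g = θ g := if_pos h

theorem tr_neg {Φ : G → Prop} (θ : G → ℂ) {g : G} (h : ¬ Φ (pp p g)) : tr p Φ θ g = 0 := if_neg h

variable {Φ : G → Prop} (hΦ : ∀ u g, Φ u → Φ (g * u * g⁻¹)) {θ : G → ℂ}
include hΦ

theorem tr_cf (hθ : IsClassFunction G θ) : IsClassFunction G (tr p Φ θ) := fun g x => by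
  have h := pp_eq hp.out (H6.IsPPart.conj (isPPart_pp hp.out g) x)
  by_cases e : Φ (pp p g)
  · rw [tr_pos _ e, tr_pos _ (h ▸ hΦ _ _ e), hθ]
  · rw [tr_neg _ e, tr_neg]
    rw [h]
    exact fun h' => e (by simpa [mul_assoc] using hΦ _ x⁻¹ h')

variable {M : Ideal AlgInt} [hMm : M.IsMaximal] (hM : IsPModular p M)
include hM

theorem sub_tr {u : G} {C : Subgroup G} [Fintype C] (h : SecData p u C) {b : Set (IrrCharacter C)}
    (hb : IsPBlock M b) (hθ : IsClassFunction G θ) [Decidable (Φ u)] :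
    sub p u b (tr p Φ θ) = if Φ u then sub p u b θ else 0 := by
  have : pRegularPart p (sec u C (tr p Φ θ)) =
      (if Φ u then 1 else 0 : ℂ) • pRegularPart p (sec u C θ) := by
    ext y
    by_cases hy : p ∣ orderOf y
    · simp [H8.pReg_of_dvd _ hy]
    · have := pp_eq hp.out (h.isPPart hy)
      rw [Pi.smul_apply, H8.pReg_of_not_dvd _ hy, H8.pReg_of_not_dvd _ hy, H8.sec_apply,
        H8.sec_apply]
      split_ifs with e
      · rw [tr_pos _ (this.symm ▸ e), one_smul]
      · rw [tr_neg _ (this.symm ▸ e), zero_smul]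
  rw [h.sub_eq hM hb (tr_cf hΦ hθ), this, H8.blockPart_smul, ← h.sub_eq hM hb hθ]
  split_ifs <;> simp

theorem tr_mem {B : Set (IrrCharacter G)} (hB : IsPBlock M B) (hθ : θ ∈ bspan B) :
    tr p Φ θ ∈ bspan B := by
  classical
  refine mem_bspan_of_sub hM hB (tr_cf hΦ (isClassFunction_of_bspan hθ)) fun u hu _ b hb hn => ?_
  rw [sub_tr hΦ hM (H8.secData_centralizer hu) hb (isClassFunction_of_bspan hθ),
    sub_eq_zero_of_mem_bspan hM (H8.secData_centralizer hu) hB hb hn hθ, ite_self]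

omit hΦ in
theorem sub_lift_eq_zero {u v : G} {C C' : Subgroup G} [Fintype C] [Fintype C']
    (hs : SecData p u C) (hs' : SecData p v C') {b : Set (IrrCharacter C)}
    {b' : Set (IrrCharacter C')} (hb : IsPBlock M b) (hb' : IsPBlock M b')
    (hn : ∀ g, g * u * g⁻¹ = v → cj g (eb M C b) ≠ eb M C' b') {f : C' → ℂ} (hf : f ∈ bspan b') :
    sub p u b (lift p v C' f) = 0 := by
  by_cases hc : IsConj u v
  · obtain ⟨g, rfl⟩ := isConj_iff.1 hc
    have hC : MulAut.conj g • C = C' := by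
      rw [hs.eq, hs'.eq, centralizer_singleton_conj]
    ext y
    rw [← sub_cjSet hs hs' hC (H8.lift_isClassFunction f),
      hs'.sub_eq hM (isPBlock_cjSet hC hb) (H8.lift_isClassFunction f),
      hs'.pReg_sec_lift hp.out (isClassFunction_of_bspan hf),
      blockPart_eq_zero_of_ne (isPBlock_cjSet hC hb) hb' (fun e => hn g rfl (by
        rw [← eb_cjSet hC, e])) (H8.pReg_mem_bspan' hM hb' hf)]
    rfl
  · rw [hs.sub_eq hM hb (H8.lift_isClassFunction f)]
    have : pRegularPart p (sec u C (lift p v C' f)) = 0 := by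
      ext y
      by_cases hy : p ∣ orderOf y
      · exact H8.pReg_of_dvd _ hy
      · rw [H8.pReg_of_not_dvd _ hy]
        exact hs'.lift_eq_zero hp.out f (hs.isPPart hy) fun h => hc h.symm
    rw [this, H8.blockPart_zero]

end tr

section col
variable {M : Ideal AlgInt} [hMm : M.IsMaximal] {G : Type*} [Group G] [Fintype G]
  {P : Subgroup G} {e : (Res M)[G]} {B : Set (IrrCharacter G)}

attribute [local instance] H8.subFintype

variable (M P e B) in
/-- an integral column of norm four -/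
structure Col (u : G) (y : IrrCharacter G → ℤ) : Prop where
  norm : dot (bfin B) y y = 4
  inner : ∀ θ ψ, IsClassFunction G θ → IsClassFunction G ψ →
    classInner (sub 2 u (bsec M 2 P e u) θ) (sub 2 u (bsec M 2 P e u) ψ) =
      classInner θ (vec B y) * conj (classInner ψ (vec B y)) / 4
  supp : ∀ g, vec B y g ≠ 0 → IsConj u (pp 2 g)

theorem Col.iff {u : G} {y : IrrCharacter G → ℤ} (h : Col M P e B u y) {θ : G → ℂ}
    (hθ : IsClassFunction G θ) :
    sub 2 u (bsec M 2 P e u) θ = 0 ↔ classInner θ (vec B y) = 0 := by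
  rw [← classInner_self_eq_zero, h.inner θ θ hθ hθ]
  simp

variable (hM : IsPModular 2 M) (hB : IsPBlock M B) (S : MaxP 2 ⊤ ⊤ (eB M B) P e)
include hM S

theorem Col.of_fus {u v : G} {y : IrrCharacter G → ℤ} (h : Col M P e B v y) (hu : u ∈ P)
    (hv : v ∈ P) (hf : Fus M 2 P e u v) : Col M P e B u y :=
  ⟨h.norm, fun θ ψ hθ hψ =>
    (S.stable_inner_sub hM hθ hψ ⟨u, hu⟩ ⟨v, hv⟩ hf).trans (h.inner θ ψ hθ hψ),
    fun g hg => hf.isConj.trans (h.supp g hg)⟩

include hB

theorem exists_col {u : G} (hu : u ∈ P) (h2 : u ^ 2 = 1) (h : Uni 2 (bsec M 2 P e u) 4) :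
    ∃ y, Col M P e B u y := by
  have hs := S.secData hM hu
  have hb := (bsec_spec hM S.pair hu).1
  have : ∀ χ : IrrCharacter G, ∃ n : ℤ, dd u (bsec M 2 P e u) (χ : G → ℂ) = n := fun χ => by
    choose ε hε using fun ξ => (show ∃ n : ℤ, hs.om ξ = n from by
      rcases sq_eq_one_iff.1 (hs.om_pow ξ h2) with e | e
      exacts [⟨1, by simp [e]⟩, ⟨-1, by simp [e]⟩])
    refine ⟨∑ ξ ∈ bfin (bsec M 2 P e u), ε ξ * H8.rm (Subgroup.centralizer {u}) (χ : G → ℂ) ξ.1, ?_⟩
    push_cast
    refine Finset.sum_congr rfl fun ξ _ => ?_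
    have := hs.inner_sec_pow χ.2.isGen 1 ξ
    rwa [pow_one, pow_one, hε] at this
  choose y hy using this
  have e1 := h.lift_eq_sum hM hs (S.bsec_induced hM hB hu)
  simp only [hy, map_intCast] at e1
  change _ = vec B y at e1
  have e2 : ∀ θ, IsClassFunction G θ → dd u (bsec M 2 P e u) θ = classInner θ (vec B y) :=
    fun θ hθ => by rw [h.dd_eq_inner hM hs hb hθ, e1]
  refine ⟨y, ?_, fun θ ψ hθ hψ => ?_, fun g hg => ?_⟩
  · have := h.dd_lift hM hs hb
    rw [e1, e2 _ (vec_cf y), inner_vec_vec] at this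
    exact_mod_cast this
  · rw [h.inner_sub hM hb, e2 θ hθ, e2 ψ hψ]; rfl
  · by_contra hn
    exact hg (by rw [← e1]; exact hs.lift_eq_zero hM.1 _ (isPPart_pp hM.1 g) hn)

theorem Col.orth {u v : G} {y y' : IrrCharacter G → ℤ} (h : Col M P e B u y)
    (h' : Col M P e B v y') (hu : u ∈ P) (hv : v ∈ P) (hf : ¬ Fus M 2 P e u v) :
    dot (bfin B) y y' = 0 := by
  have hs := S.secData hM hu
  have hs' := S.secData hM hv
  have hb := (bsec_spec hM S.pair hu).1
  have hb' := (bsec_spec hM S.pair hv).1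
  set θ := lift 2 u _ (sub 2 u (bsec M 2 P e u) (vec B y))
  have hm := hs.sub_mem_bspan hM hb (vec_cf (B := B) y)
  have h1 : θ ∈ bspan B := hs.lift_mem_bspan hM (S.bsec_induced hM hB hu) hm
  have h2 : ∀ ψ, IsClassFunction G ψ → classInner ψ θ = classInner ψ (vec B y) := fun ψ hψ => by
    rw [← hs.inner_sub_left hM hb hψ hm, h.inner _ _ hψ (vec_cf y), inner_vec_vec, h.norm, map_intCast]
    simp
  have h3 := (h'.iff (isClassFunction_of_bspan h1)).1
    (sub_lift_eq_zero hM hs' hs hb' hb (fun g e1 e2 => hf (Fus.symm ⟨g, e1, e2⟩)) hm)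
  rw [classInner_eq_zero_symm, h2 _ (vec_cf _), inner_vec_vec, dot_comm] at h3
  exact_mod_cast h3

omit S hB in
theorem uni_four {L : Subgroup G} {b : Set (IrrCharacter L)} (hb : IsPBlock M b) {V : Subgroup G}
    (hV : IsDef 2 L (eb M L b) V) {u z : G} (hmem : ∀ g, g ∈ V ↔ g = 1 ∨ g = z ∨ g = u ∨ g = z * u)
    (hc : Nat.card V = 4) (h2 : u * u = 1) (hzu : z * u = u * z)
    (hL : ∀ g ∈ L, g * u * g⁻¹ = u) : Uni 2 b 4 := by
  haveI := H6.charP_res hM
  obtain ⟨e, S⟩ := exists_maxP le_rfl Subgroup.le_normalizer (blk_eb hb) hV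
  have hcen : ∀ t, t * u * t⁻¹ = u → t * z * t⁻¹ = z → t ∈ Subgroup.centralizer (V : Set G) :=
    fun t h1 h2 => mem_centralizer_iff_conj.2 fun q hq => by
      rcases (hmem q).1 hq with rfl | rfl | rfl | rfl
      · simp
      · exact h2
      · exact h1
      · rw [← conj_mul, h1, h2]
  have hab : V ≤ Subgroup.centralizer (V : Set G) := fun t ht => hcen t (hL t (hV.le ht)) (by
    rcases (hmem t).1 ht with rfl | rfl | rfl | rfl
    · simp
    · simp
    · rw [← hzu]; simp
    · rw [mul_assoc z u z, ← hzu, ← mul_assoc]; group)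
  refine hc ▸ H6.uni_of_central hM hab hb S fun t ht => ?_
  have h1 := hL t ht.2.1
  refine H3.mem_of_pow_mem_of_coprime (Nat.coprime_two_left.2 (Nat.not_even_iff_odd.1 fun h =>
    S.not_dvd_of_abelian hab h.two_dvd)) (hcen _ (hL _ (L.pow_mem ht.2.1 2)) ?_)
    (pow_relIndex_mem (fun x hx => ?_) ht)
  · have h3 : t ^ 2 * z * (t ^ 2)⁻¹ = t * (t * z * t⁻¹) * t⁻¹ := by
      simp [sq, mul_assoc]
    rw [h3]
    rcases (hmem _).1 ((Subgroup.mem_normalizer_iff.1 ht.1 z).1 ((hmem z).2 (by simp)))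
      with h | h | h | h
    · rw [h, show z = 1 by simpa using h]; simp
    · rw [h, h]
    · obtain rfl : z = u := by rw [← h1] at h; simpa using h
      rw [h, h]
    · rw [h, ← conj_mul, h, h1, mul_assoc, h2, mul_one]
  · exact CK_top V ▸ mem_normalizer_CK (Subgroup.le_normalizer (Subgroup.mem_top x)) hx.1

end col

end Cfsg.Agent.H7.TB
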