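import Cfsg.Agent.H7.TB4

/-!
Tame blocks: the table of a block and its consequences.
-/

set_option autoImplicit false
set_option linter.unusedSectionVars false
set_option linter.style.haveILetI false
set_option warn.classDefReducibility false

namespace Cfsg.Agent.H7.TB

open MonoidAlgebra Cfsg Cfsg.Agent.H3 Cfsg.Agent.H4 Cfsg.Agent.H5
open Cfsg.Agent.H6 (Res locRing redC redA eB fB intAlg chiL blocks Uni dd)
open Cfsg.Agent.H8 (SecData sec sub bspan bfin lift cm)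
open scoped Pointwise ComplexConjugate

theorem rel_of_span {I R : Type*} [CommRing R] {s : Finset I} {a : Fin 4 → I → ℤ} (h : Tab s a)
    {f : I → R} (c : Fin 4 → R) (hf : ∀ χ ∈ s, f χ = ∑ j, (a j χ : R) * c j) : Rel s a f := by
  intro χ hχ h0 j hj
  obtain ⟨h1, h2⟩ := h.sq_off hχ h0 hj
  have e1 : FT s a f j = ∑ i, ((∑ ψ ∈ s, a 0 ψ ^ 2 * (a j ψ * a i ψ) : ℤ) : R) * c i := by
    rw [FT, Finset.sum_congr rfl fun ψ hψ => by rw [hf ψ hψ, Finset.mul_sum], Finset.sum_comm]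
    refine Finset.sum_congr rfl fun i _ => ?_
    push_cast
    rw [Finset.sum_mul]
    exact Finset.sum_congr rfl fun _ _ => by ring
  rw [e1, hf χ hχ, Finset.sum_eq_single j (fun i _ hi => by rw [h2 i hi]; simp) (by simp),
    ← mul_assoc, ← sq, ← Int.cast_pow, h1]
  simp [h.dotT]

variable {G : Type*} [Group G] [Fintype G] {B : Set (IrrCharacter G)}

/-- the norm of a column -/
noncomputable abbrev nn (B : Set (IrrCharacter G)) (a : IrrCharacter G → ℤ) : ℤ := dot (bfin B) a a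

/-- a column supported on the regular elements -/
def Rg (B : Set (IrrCharacter G)) (a : IrrCharacter G → ℤ) : Prop :=
  pRegularPart 2 (vec B a) = vec B a

theorem Rg.not_zero {a : IrrCharacter G → ℤ} (h : Rg B a) (h0 : pRegularPart 2 (vec B a) = 0) :
    nn B a = 0 := by
  have := inner_vec_vec (B := B) a a
  rw [← h, h0, classInner_zero_left] at this
  exact_mod_cast this.symm

/-- the table of a tame block -/
structure TD (B : Set (IrrCharacter G)) (m : ℕ) (Φ : G → Prop)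
    (a : Fin 4 → IrrCharacter G → ℤ) : Prop where
  tab : Tab (bfin B) a
  n1 : nn B (a 1) = 2 * m
  n23 : ∀ j, j = 2 ∨ j = 3 → nn B (a j) = 4 ∨ nn B (a j) = 8
  supp : ∀ g, vec B (a 0) g ≠ 0 → Φ g
  reg0 : pRegularPart 2 (vec B (a 0)) = 0
  reg1 : Rg B (a 1)
  reg : ∀ j, Rg B (a j) ∨ (pRegularPart 2 (vec B (a j)) = 0 ∧ nn B (a j) = 4)
  rel : ∀ g, ¬ 2 ∣ orderOf g → Rel (bfin B) a fun χ => (χ : G → ℂ) g

namespace TD

variable {m : ℕ} {Φ : G → Prop} {a : Fin 4 → IrrCharacter G → ℤ} (h : TD B m Φ a)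
include h

theorem four_le (j : Fin 4) : 4 ≤ nn B (a j) := h.tab.four_le j

theorem nn_ne (j : Fin 4) : (nn B (a j) : ℂ) ≠ 0 := by
  have := h.four_le j
  exact_mod_cast (by omega : nn B (a j) ≠ 0)

theorem not_rg_iff {j : Fin 4} : ¬ Rg B (a j) ↔ pRegularPart 2 (vec B (a j)) = 0 :=
  ⟨fun h1 => ((h.reg j).resolve_left h1).1, fun h0 h1 => by
    have := h.four_le j
    have := h1.not_zero h0
    omega⟩

theorem not_rg0 : ¬ Rg B (a 0) := h.not_rg_iff.2 h.reg0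

theorem pReg_eq {χ : IrrCharacter G} (hχ : χ ∈ B) : pRegularPart 2 (χ : G → ℂ) =
    ∑ j, ((a j χ : ℂ) / nn B (a j)) • pRegularPart 2 (vec B (a j)) := by
  ext g
  simp only [Finset.sum_apply, Pi.smul_apply, smul_eq_mul]
  by_cases hg : 2 ∣ orderOf g
  · simp [H8.pReg_of_dvd _ hg]
  · simp only [H8.pReg_of_not_dvd _ hg, vec_apply]
    apply mul_left_cancel₀ (by norm_num : (4 : ℂ) ≠ 0)
    rw [h.tab.expand (h.rel g hg) (H8.mem_bfin.2 hχ), Finset.mul_sum]
    refine Finset.sum_congr rfl fun j _ => ?_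
    rw [mul_left_comm, h.tab.sum_mul_eq (h.rel g hg) j]
    field_simp [h.nn_ne j]

open Classical in
theorem inner_pReg {χ ψ : IrrCharacter G} (hχ : χ ∈ B) (hψ : ψ ∈ B) :
    classInner (pRegularPart 2 (χ : G → ℂ)) ψ =
      ∑ j, if Rg B (a j) then (a j χ : ℂ) * a j ψ / nn B (a j) else 0 := by
  rw [h.pReg_eq hχ, classInner_sum_left]
  refine Finset.sum_congr rfl fun j _ => ?_
  split_ifs with e
  · rw [e, classInner_smul_left, inner_vec_irr _ hψ]; ring
  · rw [h.not_rg_iff.1 e, smul_zero, classInner_zero_left]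

theorem inner_eq_zero {θ : G → ℂ} (hθ : ∀ j, Rg B (a j) → classInner θ (vec B (a j)) = 0)
    {χ : IrrCharacter G} (hχ : χ ∈ B) : classInner θ (pRegularPart 2 (χ : G → ℂ)) = 0 := by
  rw [h.pReg_eq hχ, classInner_sum_right]
  refine Finset.sum_eq_zero fun j _ => ?_
  by_cases e : Rg B (a j)
  · rw [e, classInner_smul_right, hθ j e, mul_zero]
  · rw [h.not_rg_iff.1 e, smul_zero, classInner_zero_right]

theorem card : 4 * (Nat.card B : ℤ) = 4 + 2 * m + nn B (a 2) + nn B (a 3) := by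
  rw [← H8.card_bfin, h.tab.card, Fin.sum_univ_four, h.tab.n0, ← h.n1]

theorem card_T : Nat.card {χ : IrrCharacter G // χ ∈ B ∧ a 0 χ ≠ 0} = 4 := by
  classical
  have : ((((bfin B).filter fun χ => a 0 χ ≠ 0).card : ℕ) : ℤ) = 4 := by
    rw [← h.tab.n0, dot, Finset.card_filter]
    push_cast
    refine Finset.sum_congr rfl fun χ hχ => ?_
    split_ifs with e
    · rw [← sq, h.tab.sq_of_ne hχ e]
    · rw [not_not.1 e, mul_zero]
  rw [Nat.card_eq_fintype_card, Fintype.card_of_subtype ((bfin B).filter fun χ => a 0 χ ≠ 0)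
    (by simp)]
  exact_mod_cast this

theorem card_off (j : Fin 4) : 4 * (Nat.card {χ : IrrCharacter G // χ ∈ B ∧ a j χ ^ 2 = 4} : ℤ) + 4 =
    nn B (a j) := by
  classical
  have h1 := h.tab.dotT j j
  rw [if_pos rfl] at h1
  rw [Nat.card_eq_fintype_card, Fintype.card_of_subtype ((bfin B).filter fun χ => a j χ ^ 2 = 4)
    (by simp), Finset.card_filter]
  push_cast
  conv_lhs => rw [Finset.mul_sum]; enter [2]; rw [← h1]
  rw [← Finset.sum_add_distrib]
  refine Finset.sum_congr rfl fun χ hχ => ?_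
  by_cases e : a 0 χ = 0
  · by_cases e' : a j χ = 0
    · simp [e']
    · simp [e, ← sq, (h.tab.sq_off hχ e e').1]
  · simp [← sq, h.tab.sq_of_ne hχ e]

variable {M : Ideal AlgInt} [hMm : M.IsMaximal] (hM : IsPModular 2 M) (hB : IsPBlock M B)
include hM hB

open Classical in
theorem rank : blockRank 2 B =
    1 + (if Rg B (a 2) then 1 else 0) + if Rg B (a 3) then 1 else 0 := by
  have h1 := H8.blockRank_eq_sum hM hB
  rw [Finset.sum_congr rfl fun χ hχ => h.inner_pReg (H8.mem_bfin.1 hχ) (H8.mem_bfin.1 hχ),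
    Finset.sum_comm, Finset.sum_congr rfl (g := fun j => if Rg B (a j) then 1 else 0) fun j _ => by
      split_ifs
      · rw [← Finset.sum_div, div_eq_one_iff_eq (h.nn_ne j), nn, dot]; push_cast; rfl
      · simp, Fin.sum_univ_four, if_neg h.not_rg0, if_pos h.reg1, zero_add] at h1
  exact_mod_cast h1

variable {k : ℕ} (hk : 2 ≤ k) (hm : m = 2 ^ k) (hd : blockDefect 2 B = k + 1)
include hk hm hd

open Classical in
theorem cm_eq {χ ψ : IrrCharacter G} (hχ : χ ∈ B) (hψ : ψ ∈ B) : ∃ c2 c3 : ℤ,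
    (nn B (a 2) = 8 → c2 = 2 ^ (k - 2)) ∧ (nn B (a 3) = 8 → c3 = 2 ^ (k - 2)) ∧
    (∀ χ ∈ B, ∀ ψ ∈ B, cm 2 B χ ψ = a 1 χ * a 1 ψ + c2 * (a 2 χ * a 2 ψ) + c3 * (a 3 χ * a 3 ψ)) := by
  obtain ⟨l, rfl⟩ := Nat.exists_eq_add_of_le' hk
  have key : ∀ j, j = 2 ∨ j = 3 → ∃ c : ℤ, (nn B (a j) = 8 → c = 2 ^ l) ∧ ∀ x y : ℤ,
      ((2 ^ (l + 2 + 1) : ℕ) : ℂ) * (if Rg B (a j) then (x : ℂ) * y / nn B (a j) else 0) =
        c * (x * y) := fun j hj => by
    by_cases e : Rg B (a j)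
    · rcases h.n23 j hj with e' | e'
      · refine ⟨2 ^ (l + 1), fun h => by omega, fun x y => ?_⟩
        rw [if_pos e, e']; push_cast; ring
      · refine ⟨2 ^ l, fun _ => rfl, fun x y => ?_⟩
        rw [if_pos e, e']; push_cast; ring
    · have := ((h.reg j).resolve_left e).2
      exact ⟨0, fun h => by omega, fun x y => by simp [e]⟩
  obtain ⟨c2, a2, b2⟩ := key 2 (Or.inl rfl)
  obtain ⟨c3, a3, b3⟩ := key 3 (Or.inr rfl)
  refine ⟨c2, c3, a2, a3, fun χ hχ ψ hψ => ?_⟩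
  have := H8.cm_cast (p := 2) hχ ψ
  rw [h.inner_pReg hχ hψ, Fin.sum_univ_four, if_neg h.not_rg0, if_pos h.reg1, zero_add, hd,
    mul_add, mul_add, b2, b3, h.n1, hm] at this
  have e : (cm 2 B χ ψ : ℂ) = a 1 χ * a 1 ψ + c2 * (a 2 χ * a 2 ψ) + c3 * (a 3 χ * a 3 ψ) := by
    rw [this]; push_cast; field_simp; ring
  exact_mod_cast e

theorem height_T {χ : IrrCharacter G} (hχ : χ ∈ B) (h0 : a 0 χ ≠ 0) :
    blockHeight 2 B (χ : G → ℂ) = 0 := by
  obtain ⟨c2, c3, a2, a3, hc⟩ := h.cm_eq hM hB hk hm hd hχ hχ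
  obtain ⟨ψ, hψ, hh⟩ := H8.exists_height_zero (p := 2) (H8.block_nonempty hB)
  have h1 := H8.not_dvd_cm_self hM hB hψ hh hψ hh
  have hψ' := H8.mem_bfin.2 hψ
  have hχ' := H8.mem_bfin.2 hχ
  by_contra hn
  refine h1 ?_
  by_cases e : a 0 ψ = 0
  · obtain ⟨x, hx⟩ := h.tab.even_sub hψ' 1
    obtain ⟨y, hy⟩ := h.tab.even_sub hψ' 2
    obtain ⟨z, hz⟩ := h.tab.even_sub hψ' 3
    rw [e, sub_zero] at hx hy hz
    exact ⟨x * (x + x) + c2 * (y * (y + y)) + c3 * (z * (z + z)), by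
      rw [hc ψ hψ ψ hψ, hx, hy, hz]; push_cast; ring⟩
  · have := (dvd_pow_self _ (Nat.succ_ne_zero _)).trans (H8.dvd_cm_of_height_pos hM hB hχ hn hχ)
    rw [hc χ hχ χ hχ] at this
    rw [hc ψ hψ ψ hψ]
    simpa only [← sq, h.tab.sq_of_ne hχ' h0, h.tab.sq_of_ne hψ' e] using this

theorem height_off {χ : IrrCharacter G} (hχ : χ ∈ B) {j : Fin 4} (hj : a j χ ^ 2 = 4) :
    blockHeight 2 B (χ : G → ℂ) = if j = 1 then 1 else k - 1 := by
  obtain ⟨c2, c3, a2, a3, hc⟩ := h.cm_eq hM hB hk hm hd hχ hχ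
  obtain ⟨ψ, hψ', e⟩ := h.tab.exists_T
  have hψ := H8.mem_bfin.1 hψ'
  have hχ' := H8.mem_bfin.2 hχ
  have h0 : a 0 χ = 0 := by_contra fun hn => by
    have := h.tab.sq_of_ne hχ' hn j
    omega
  have hj0 : a j χ ≠ 0 := fun e => by rw [e] at hj; simp at hj
  have hoth := (h.tab.sq_off hχ' h0 hj0).2
  have key : ∀ r : ℕ, cm 2 B ψ χ ^ 2 = (2 ^ r) ^ 2 → blockHeight 2 B (χ : G → ℂ) = r :=
    fun r hr => by
      have h1 := H8.pow_height_dvd_cm (p := 2) hψ hχ
      have h2 := H8.not_dvd_cm_of_height_zero hM hB hψ (h.height_T hM hB hk hm hd hψ e) hχ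
      have h3 : ∀ t : ℕ, (2 : ℤ) ^ t ∣ cm 2 B ψ χ ↔ t ≤ r := fun t => by
        rcases sq_eq_sq_iff_eq_or_eq_neg.1 hr with e | e <;> rw [e]
        · exact pow_dvd_pow_iff (by norm_num) (by decide)
        · rw [dvd_neg]; exact pow_dvd_pow_iff (by norm_num) (by decide)
      simp only [Nat.cast_ofNat, h3] at h1 h2
      omega
  have h8 : j = 2 ∨ j = 3 → nn B (a j) = 8 := fun hj' => (h.n23 j hj').resolve_left fun h4 => by
    have := h.tab.sq_eq_of_four h4 hχ'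
    rw [h0] at this
    exact hj0 (by simpa using this.symm)
  have hs := h.tab.sq_of_ne hψ' e j
  have hk2 : (2 : ℤ) ^ (k - 1) = 2 ^ (k - 2) * 2 := by rw [← pow_succ]; congr 1; omega
  fin_cases j
  · exact absurd h0 hj0
  · simp only [Fin.mk_one] at *
    refine key 1 ?_
    rw [hc ψ hψ χ hχ, hoth 2 (by decide), hoth 3 (by decide)]
    linear_combination a 1 χ ^ 2 * hs + hj
  · simp only [Fin.reduceFinMk] at *
    refine key (k - 1) ?_
    rw [hc ψ hψ χ hχ, hoth 1 (by decide), hoth 3 (by decide), a2 (h8 (Or.inl trivial)), hk2]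
    linear_combination (2 ^ (k - 2)) ^ 2 * (a 2 χ ^ 2 * hs + hj)
  · simp only [Fin.reduceFinMk] at *
    refine key (k - 1) ?_
    rw [hc ψ hψ χ hχ, hoth 1 (by decide), hoth 2 (by decide), a3 (h8 (Or.inr trivial)), hk2]
    linear_combination (2 ^ (k - 2)) ^ 2 * (a 3 χ ^ 2 * hs + hj)

attribute [local instance] H8.subFintype

theorem col {P : Subgroup G} {e : (Res M)[G]} (S : MaxP 2 ⊤ ⊤ (eB M B) P e) {u : G} (hu : u ∈ P)
    (hu1 : u ≠ 1) (hΦ : ∀ g, Φ g → ¬ IsConj u (pp 2 g)) {y : IrrCharacter G → ℤ}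
    (hy : Col M P e B u y) : ∃ j : Fin 4, (j = 2 ∨ j = 3) ∧ ¬ Rg B (a j) ∧ ∃ ε : ℤ, ε * ε = 1 ∧
      ∀ χ ∈ bfin B, y χ = ε * a j χ := by
  have hr : ∀ j, Rg B (a j) → dot (bfin B) (a j) y = 0 := fun j hj => by
    have : classInner (vec B (a j)) (vec B y) = 0 := inner_eq_zero_of_disj fun g hg => by
      by_contra hn
      have h1 := hy.supp g hn
      rw [← hj] at hg
      rw [(H6.IsPPart.eq_one_iff hM.1 (isPPart_pp hM.1 g)).2 fun hd => hg (H8.pReg_of_dvd _ hd)] at h1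
      exact hu1 (isConj_one_left.1 h1)
    rw [inner_vec_vec] at this
    exact_mod_cast this
  have h0 : dot (bfin B) (a 0) y = 0 := by
    have : classInner (vec B (a 0)) (vec B y) = 0 := inner_eq_zero_of_disj fun g hg =>
      by_contra fun hn => hΦ g (h.supp g hg) (hy.supp g hn)
    rw [inner_vec_vec] at this
    exact_mod_cast this
  obtain ⟨j, hj, ε, hε, h1, h2⟩ := h.tab.ylemT (y := y) (fun χ hχ e0 e1 => by
    have hχ' := H8.mem_bfin.1 hχ
    refine S.sub_ne_zero hM hB hχ' (h.height_T hM hB hk hm hd hχ' e0) hu ?_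
    rw [hy.iff χ.2.isClassFunction, inner_irr_vec _ hχ', e1, Int.cast_zero]) hy.norm h0
    (hr 1 h.reg1)
  have h3 : ¬ Rg B (a j) := fun hn => by
    rw [hr j hn] at h1
    rcases mul_self_eq_one_iff.1 hε with rfl | rfl <;> simp at h1
  exact ⟨j, hj, h3, ε, hε, fun χ hχ => by
    rw [h2 χ hχ, h.tab.sq_eq_of_four ((h.reg j).resolve_left h3).2 hχ]⟩

end TD

end Cfsg.Agent.H7.TB
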