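import Cfsg.Agent.H7.RankOne

/-!
Tame blocks: symmetric local algebras with a centre of dimension five.
-/

set_option autoImplicit false
set_option linter.style.haveILetI false

namespace Cfsg.Agent.H7

open Module Polynomial

variable {k R : Type*} [Field k] [Ring R] [Algebra k R]

theorem exists_aeval_inv {r : R} (hr : IsNilpotent r) {u : k[X]} (hu : u.eval 0 ≠ 0) :
    ∃ u', aeval r (u * u') = 1 := by
  obtain ⟨N, hN⟩ := hr
  have h1 : IsCoprime u X := ⟨C (u.eval 0)⁻¹, -(C (u.eval 0)⁻¹ * u.divX), by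
    have := X_mul_divX_add u
    rw [coeff_zero_eq_eval_zero] at this
    have h2 : C (u.eval 0)⁻¹ * C (u.eval 0) = 1 := by rw [← C_mul, inv_mul_cancel₀ hu, C_1]
    linear_combination h2 - C (u.eval 0)⁻¹ * this⟩
  obtain ⟨a, b, e⟩ := h1.pow_right (n := N)
  refine ⟨a, ?_⟩
  have := congrArg (aeval r) e
  rwa [map_add, map_mul _ b, map_pow, aeval_X, hN, mul_zero, add_zero, map_one, mul_comm] at this

theorem SymF.comm_of_twist {s : R →ₗ[k] k} (S : SymF s) (h2 : (2 : k) = 0) {r t : R}
    (hr : IsNilpotent r) (hall : ∀ x, ∃ a b : k[X], x = aeval r a + t * aeval r b)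
    {p p' : k[X]} (hsq : t * t = aeval r (X * p) + t * aeval r (X * p')) {g : k[X]}
    (hg : g.eval 0 ≠ 1) (hrt : r * t = t * aeval r (X * g)) : r * t = t * r := by
  have hc : ∀ a : k[X], aeval r a * t = t * aeval r (a.comp (X * g)) := fun a => by
    rw [aeval_comp]
    induction a using Polynomial.induction_on' with
    | add a b ha hb => simp only [map_add, add_mul, mul_add, ha, hb]
    | monomial n c =>
      have : SemiconjBy t (aeval r (X * g)) r := hrt.symm
      simp only [aeval_monomial, mul_assoc, ← (this.pow_right n).eq]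
      rw [← mul_assoc, ← mul_assoc, Algebra.commutes]
  have l : ∀ a : k[X], r * aeval r a = aeval r (X * a) := fun a => by rw [map_mul, aeval_X]
  have l' : ∀ a : k[X], aeval r a * r = aeval r (X * a) := fun a => by
    rw [mul_comm X, map_mul, aeval_X]
  obtain ⟨u, hu⟩ := exists_aeval_inv hr (u := g - 1) (by simpa [sub_eq_zero] using hg)
  have o1 : ∀ a, s (t * aeval r (X * a)) = 0 := fun a => by
    have e1 : s (r * (t * aeval r (u * a))) = s (t * aeval r (u * a * X)) := by
      rw [S.symm, map_mul _ _ X, aeval_X, mul_assoc]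
    rw [← mul_assoc, hrt, mul_assoc, ← map_mul, ← sub_eq_zero, ← map_sub, ← mul_sub,
      ← map_sub, show X * g * (u * a) - u * a * X = (g - 1) * u * (X * a) by ring,
      map_mul (aeval r), hu, one_mul] at e1
    exact e1
  obtain ⟨v, hv⟩ := exists_aeval_inv hr (u := 1 - g * g.comp (X * g)) (by
    simp only [eval_sub, eval_one, eval_mul, eval_comp, eval_X, zero_mul]
    intro e
    exact hg (by
      have : (g.eval 0 - 1) ^ 2 = 0 := by linear_combination -e + (1 - g.eval 0) * h2
      exact sub_eq_zero.1 (pow_eq_zero_iff two_ne_zero |>.1 this)))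
  have e1 : aeval r (X * p * X * (1 - g * g.comp (X * g))) =
      t * aeval r (X * (p' * ((X * g).comp (X * g) - X * g))) := by
    have e2 : r * (t * t) = t * t * aeval r ((X * g).comp (X * g)) := by
      rw [← mul_assoc, hrt, mul_assoc, hc, mul_assoc]
    rw [hsq, mul_add, ← mul_assoc, hrt, add_mul, mul_assoc, mul_assoc, ← map_mul, ← map_mul,
      ← map_mul] at e2
    rw [l, ← sub_eq_iff_eq_add', add_sub_right_comm, ← map_sub, ← eq_sub_iff_add_eq,
      ← mul_sub, ← map_sub] at e2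
    convert e2 using 3
    · simp only [mul_comp, X_comp]; ring
    · ring
  have o2 : ∀ a, s (aeval r (X * p * X * a)) = 0 := fun a => by
    have := congrArg (fun x => s (x * aeval r (v * a))) e1
    simp only [mul_assoc t, ← map_mul] at this
    rw [mul_assoc X (p' * _), o1, show X * p * X * (1 - g * g.comp (X * g)) * (v * a) =
      (1 - g * g.comp (X * g)) * v * (X * p * X * a) by ring, map_mul (aeval r), hv,
      one_mul] at this
    exact this
  have e0 : t * r = 0 := S.nd _ fun y => by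
    obtain ⟨a, b, rfl⟩ := hall y
    rw [add_mul, map_add, S.symm, mul_assoc t (aeval r b), ← mul_assoc (aeval r b), hc,
      ← mul_assoc, ← mul_assoc, hsq]
    simp only [add_mul, mul_assoc t, ← map_mul, map_add, l, l']
    rw [o1, o1, show X * (X * p * b.comp (X * g)) = X * p * X * b.comp (X * g) by ring, o2]
    simp
  rw [hrt, e0, map_mul, aeval_X, ← mul_assoc, e0, zero_mul]

theorem LocI.pow_le_of_gen {J : Submodule k R} (h : LocI J) {r : R} (hr : r ∈ J)
    {V : ℕ → Submodule k R} (hV : ∀ n, ∀ x ∈ V n, x * r ∈ V (n + 1)) (ha : Antitone V)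
    {U : Submodule k R} (hU : U ≤ V 0 ⊓ J * Submodule.span k {r}) (h2 : J ^ 2 ≤ U ⊔ J ^ 3)
    (n : ℕ) : J ^ (2 + n) ≤ V n := by
  have hJ : Submodule.span k {r} ≤ J := (Submodule.span_singleton_le_iff_mem _ _).2 hr
  have key : ∀ n, J ^ (2 + n) ≤ V n ⊔ J ^ (2 + n + 1) := fun n => by
    induction n with
    | zero => exact h2.trans (sup_le_sup_right (hU.trans inf_le_left) _)
    | succ n ih =>
      rw [show 2 + (n + 1) = n + 1 + 2 by omega, pow_add]
      refine (mul_le_mul_right (h2.trans (sup_le_sup_right (hU.trans inf_le_right) _)) _).trans ?_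
      rw [Submodule.mul_sup, ← pow_add, ← mul_assoc, ← pow_succ, show n + 1 + 1 = 2 + n by omega]
      refine sup_le ((mul_le_mul_left ih _).trans ?_) le_sup_right
      rw [Submodule.sup_mul]
      refine sup_le_sup (fun x hx => ?_) ((mul_le_mul_right hJ _).trans ?_)
      · obtain ⟨y, hy, rfl⟩ := Submodule.mem_mul_span_singleton.1 hx
        exact hV n y hy
      · rw [← pow_succ, show 2 + n + 1 + 1 = n + 1 + 2 + 1 by omega]
  exact h.le_of_forall fun m => by
    rw [add_assoc 2 n]
    exact (key _).trans (sup_le_sup_right (ha (Nat.le_add_right _ _)) _)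

theorem LocI.comm_of_sq_gen {J : Submodule k R} (h : LocI J) {s : R →ₗ[k] k} (S : SymF s)
    (h2 : (2 : k) = 0) {r t : R} (hr : r ∈ J) (ht : t ∈ J)
    (h1 : J ≤ Submodule.span k {r, t} ⊔ J ^ 2)
    (hK : J ^ 2 ≤ Submodule.span k {r * r, r * t - t * r} ⊔ J ^ 3) {α q : k}
    (h3 : r * t - α • (r * r) - q • (t * r) ∈ J ^ 3) : r * t = t * r := by
  have l' : ∀ a : k[X], aeval r a * r = aeval r (X * a) := fun a => by
    rw [mul_comm X, map_mul, aeval_X]
  have hrr : r * r = aeval r (X ^ 2 : k[X]) := by rw [map_pow, aeval_X, sq]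
  have hn : IsNilpotent r := by
    obtain ⟨N, hN⟩ := h.nil
    exact ⟨N, (Submodule.mem_bot k).1 (hN ▸ Submodule.pow_mem_pow _ hr N)⟩
  have gen : ∀ {W : Submodule k R}, J ^ 2 ≤ W → 1 ∈ W → r ∈ W → t ∈ W → ∀ x, x ∈ W :=
    fun {W} a1 a2 a3 a4 x => by
      obtain ⟨c, hc⟩ := h.split x
      have := add_mem (sup_le (Submodule.span_le.2 (by rintro _ (rfl | rfl); exacts [a3, a4])) a1
        (h1 hc)) (W.smul_mem c a2)
      rwa [Algebra.algebraMap_eq_smul_one, sub_add_cancel] at this
  have m1 : ∀ x ∈ J, x * r ∈ J * Submodule.span k {r} := fun x hx =>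
    Submodule.mul_mem_mul hx (Submodule.mem_span_singleton_self r)
  by_cases hq : q = 1
  · let C := LinearMap.range (aeval (R := k) r).toLinearMap
    have hC : J ^ 2 ≤ C := h.pow_le_of_gen hr (V := fun _ => C)
      (by rintro _ _ ⟨a, rfl⟩; exact ⟨_, (l' a).symm⟩) antitone_const
      (U := Submodule.span k {r * r}) ((Submodule.span_singleton_le_iff_mem _ _).2
        ⟨⟨_, hrr.symm⟩, m1 r hr⟩) (hK.trans (sup_le (Submodule.span_le.2 (by
          rintro _ (rfl | rfl)
          · exact Submodule.mem_sup_left (Submodule.mem_span_singleton_self _)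
          · exact Submodule.mem_sup.2 ⟨_, Submodule.smul_mem _ α
              (Submodule.mem_span_singleton_self _), _, h3, by rw [hq]; module⟩)) le_sup_right)) 0
    refine sub_eq_zero.1 (S.nd _ fun y => ?_)
    obtain ⟨_, ⟨a, rfl⟩, _, h4, rfl⟩ := Submodule.mem_sup.1 (gen (W := C ⊔ Submodule.span k {t})
      (le_sup_of_le_left hC) (Submodule.mem_sup_left ⟨1, map_one (aeval r)⟩)
      (Submodule.mem_sup_left ⟨X, aeval_X r⟩)
      (Submodule.mem_sup_right (Submodule.mem_span_singleton_self _)) y)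
    obtain ⟨c, rfl⟩ := Submodule.mem_span_singleton.1 h4
    simp only [AlgHom.toLinearMap_apply, add_mul, mul_sub, map_add, map_sub, smul_mul_assoc,
      map_smul]
    rw [S.symm t (r * t), ← mul_assoc t t, S.symm (t * t), ← mul_assoc, ← mul_assoc, ← mul_assoc,
      S.symm (_ * t) r, ← mul_assoc, l', map_mul (aeval r), aeval_X]
    ring
  let V : ℕ → Submodule k R := fun n =>
    { carrier := {x | ∃ a b : k[X], x = aeval r (X ^ (n + 2) * a) + t * aeval r (X ^ (n + 1) * b)}
      add_mem' := by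
        rintro _ _ ⟨a, b, rfl⟩ ⟨c, d, rfl⟩
        exact ⟨a + c, b + d, by simp only [mul_add, map_add]; abel⟩
      zero_mem' := ⟨0, 0, by simp⟩
      smul_mem' := by
        rintro c _ ⟨a, b, rfl⟩
        exact ⟨c • a, c • b, by simp only [mul_smul_comm, map_smul, smul_add]⟩ }
  have hV : ∀ n, J ^ (2 + n) ≤ V n := h.pow_le_of_gen hr (by
      rintro n _ ⟨a, b, rfl⟩
      exact ⟨a, b, by simp only [add_mul, mul_assoc, l', pow_succ' X (_ + _)]⟩)
    (antitone_nat_of_succ_le (by
      rintro n _ ⟨a, b, rfl⟩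
      exact ⟨X * a, X * b, by simp only [mul_assoc, pow_succ X (_ + _)]⟩))
    (U := Submodule.span k {r * r, t * r}) (Submodule.span_le.2 (by
      rintro _ (rfl | rfl)
      · exact ⟨⟨1, 0, by simp [hrr]⟩, m1 r hr⟩
      · exact ⟨⟨0, 1, by simp⟩, m1 t ht⟩)) (hK.trans (sup_le (Submodule.span_le.2 (by
          rintro _ (rfl | rfl)
          · exact Submodule.mem_sup_left (Submodule.subset_span (Or.inl rfl))
          · exact Submodule.mem_sup.2 ⟨_, Submodule.mem_span_pair.2 ⟨α, q - 1, rfl⟩, _, h3,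
              by module⟩)) le_sup_right))
  obtain ⟨a, b, e⟩ := hV 1 h3
  set g : k[X] := C q + X * b
  obtain ⟨u, hu⟩ := exists_aeval_inv hn (u := g - 1) (by simpa [g, sub_eq_zero] using hq)
  set f : k[X] := C α + X * a
  have hrt : r * t = aeval r (X ^ 2 * f) + t * aeval r (X * g) := by
    rw [sub_sub, sub_eq_iff_eq_add] at e
    rw [e, hrr, ← aeval_X (R := k) r, ← mul_smul_comm, aeval_X, ← map_smul,
      ← aeval_X (R := k) r, aeval_X, mul_add X, mul_add _ (C α), map_add, map_add, mul_add,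
      smul_eq_C_mul, map_mul _ X (C q), aeval_X, aeval_C, ← Algebra.commutes, ← Algebra.smul_def,
      mul_comm (C α), show X ^ 2 * (X * a) = X ^ (1 + 2) * a by ring,
      show X * (X * b) = X ^ (1 + 1) * b by ring]
    abel
  set t' := t + aeval r (X * f * u) with ht'
  have hmem : aeval r (X * f * u) ∈ J := by rw [mul_assoc, ← l']; exact h.left _ _ hr
  have hch : ∀ a b : k[X], aeval r a + t * aeval r b =
      aeval r (a - X * f * u * b) + t' * aeval r b := fun a b => by
    rw [ht', add_mul, ← map_mul, map_sub]; abel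
  obtain ⟨p, p', e'⟩ := hV 0 (show t' * t' ∈ J ^ 2 by
    rw [sq]; exact Submodule.mul_mem_mul (add_mem ht hmem) (add_mem ht hmem))
  have := S.comm_of_twist h2 hn (t := t') (fun x => ?_) (p := X * p - X * f * u * p') (p' := p')
    (by rw [e', hch]; congr 3 <;> ring) (g := g) (by simpa [g] using hq) ?_
  · rw [ht', mul_add, add_mul, l', map_mul _ X, aeval_X] at this
    exact add_right_cancel this
  · let W : Submodule k R := LinearMap.range (aeval (R := k) r).toLinearMap ⊔
      (LinearMap.range (aeval (R := k) r).toLinearMap).map (LinearMap.mulLeft k t)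
    obtain ⟨_, ⟨a, rfl⟩, _, ⟨_, ⟨b, rfl⟩, rfl⟩, rfl⟩ := Submodule.mem_sup.1 (gen (W := W)
      (fun x hx => by
        obtain ⟨a, b, rfl⟩ := hV 0 hx
        exact Submodule.add_mem_sup ⟨_, rfl⟩ ⟨_, ⟨_, rfl⟩, rfl⟩)
      (Submodule.mem_sup_left ⟨1, map_one (aeval r)⟩) (Submodule.mem_sup_left ⟨X, aeval_X r⟩)
      (Submodule.mem_sup_right ⟨1, ⟨1, map_one (aeval r)⟩, mul_one t⟩) x)
    exact ⟨_, _, hch a b⟩
  · have l : ∀ a : k[X], r * aeval r a = aeval r (X * a) := fun a => by rw [map_mul, aeval_X]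
    conv_lhs => rw [ht', mul_add, hrt, l, add_right_comm, ← map_add, hch]
    rw [show X ^ 2 * f + X * (X * f * u) - X * f * u * (X * g) = X ^ 2 * f - X ^ 2 * f *
      ((g - 1) * u) by ring, map_sub, map_mul _ _ ((g - 1) * u), hu, mul_one, sub_self, zero_add]

open MulOpposite in
theorem LocI.comm_of_five [FiniteDimensional k R] [IsAlgClosed k] {J : Submodule k R}
    (h : LocI J) {s : R →ₗ[k] k} (S : SymF s) (h2 : (2 : k) = 0)
    (hZ : finrank k (Subalgebra.center k R) ≤ 5) {r : R} (hr : r ∈ J) {l₁ l₂ : R →ₗ[k] k}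
    (t₁ : ∀ x y, l₁ (x * y) = l₁ (y * x)) (t₂ : ∀ x y, l₂ (x * y) = l₂ (y * x))
    (a₁ : l₁ (r ^ 2) ≠ 0) (b₂ : l₂ (r ^ 2) = 0) (a₂ : l₂ (r ^ 4) ≠ 0) (x y : R) :
    x * y = y * x := by
  by_contra hxy
  haveI : Nontrivial R := ⟨_, _, hxy⟩
  have h12 : J ^ 2 ≤ J := by simpa using h.pow_le one_ne_zero one_le_two
  have hker : ∀ {l : R →ₗ[k] k}, (∀ x y, l (x * y) = l (y * x)) → comK k R ≤ LinearMap.ker l :=
    fun hl => Submodule.span_le.2 (by rintro _ ⟨x, y, rfl⟩; simp [hl x y])
  have hlt : ∀ {U : Submodule k R} {a : R}, a ∉ U →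
      finrank k U < finrank k (Submodule.span k {a} ⊔ U : Submodule k R) := fun ha =>
    Submodule.finrank_lt_finrank_of_lt (lt_of_le_of_ne le_sup_right
      fun e => ha (e ▸ Submodule.mem_sup_left (Submodule.mem_span_singleton_self _)))
  have d1 := hlt fun e => a₁ (hker t₁ e)
  have d2 := hlt fun e => a₂ (sup_le ((Submodule.span_singleton_le_iff_mem _ _).2 b₂) (hker t₂) e)
  have d3 := h.finrank_lt
  have d4 := S.finrank_perp (comK k R)
  rw [S.perp_comK] at d4
  change finrank k (Subalgebra.center k R) + _ = _ at d4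
  have r2 : r ^ 2 ∈ J ^ 2 := Submodule.pow_mem_pow _ hr 2
  have r4 : r ^ 4 ∈ J ^ 3 := h.pow_le three_ne_zero (by omega) (Submodule.pow_mem_pow _ hr 4)
  have hW : Submodule.span k {r ^ 4} ⊔ (Submodule.span k {r ^ 2} ⊔ comK k R) ≤ J ^ 2 :=
    sup_le ((Submodule.span_singleton_le_iff_mem _ _).2 (h.pow_le two_ne_zero (by omega) r4))
      (sup_le ((Submodule.span_singleton_le_iff_mem _ _).2 r2) h.comK_le)
  have d5 := Submodule.finrank_mono hW
  have one : ∀ {a}, a ∈ J → ¬ J ≤ Submodule.span k {a} ⊔ J ^ 2 := fun ha h4 =>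
    hxy (h.comm_of_gen ha ha (by simpa using h4) (Commute.refl _) x y)
  obtain ⟨a, ha, ha'⟩ := SetLike.not_le_iff_exists.1 (one hr)
  have d6 := Submodule.finrank_lt_finrank_of_lt (lt_of_le_of_ne
    (sup_le ((Submodule.span_singleton_le_iff_mem _ _).2 ha) h12) fun e => one ha e.ge)
  have d7 := hlt fun e : a ∈ J ^ 2 => ha' (Submodule.mem_sup_right e)
  have hW' := (Submodule.eq_of_le_of_finrank_le hW (by omega)).ge
  by_cases hr2 : r ∈ J ^ 2
  · obtain ⟨a, ha, b, hb, h1⟩ := exists_pair_of_finrank_le h12 (by omega)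
    refine hxy (h.comm_of_sq_le S ha hb h1 (hW'.trans (sup_le (le_sup_of_le_right
      ((Submodule.span_singleton_le_iff_mem _ _).2 r4)) (sup_le (le_sup_of_le_right
      ((Submodule.span_singleton_le_iff_mem _ _).2 ?_)) le_sup_left))) x y)
    rw [sq, pow_succ]
    exact Submodule.mul_mem_mul hr2 hr
  have d8 := hlt hr2
  have d9 := hlt ha'
  have h1 : J ≤ Submodule.span k {r, a} ⊔ J ^ 2 := by
    rw [Set.pair_comm, Submodule.span_insert, sup_assoc]
    exact (Submodule.eq_of_le_of_finrank_le (sup_le ((Submodule.span_singleton_le_iff_mem _ _).2 ha)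
      (sup_le ((Submodule.span_singleton_le_iff_mem _ _).2 hr) h12)) (by omega)).ge
  have hK : J ^ 2 ≤ Submodule.span k {r * r, r * a - a * r} ⊔ J ^ 3 := by
    rw [Submodule.span_insert, sup_assoc, ← sq r]
    exact hW'.trans (sup_le (le_sup_of_le_right (le_sup_of_le_right
      ((Submodule.span_singleton_le_iff_mem _ _).2 r4)))
      (sup_le_sup_left (h.comK_le_of_gen hr ha h1) _))
  refine hxy (h.comm_of_gen hr ha h1 ?_ x y)
  obtain ⟨_, h4, w, hw, e⟩ := Submodule.mem_sup.1
    (hK (show r * a ∈ J ^ 2 by rw [sq]; exact Submodule.mul_mem_mul hr ha))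
  obtain ⟨α, β, rfl⟩ := Submodule.mem_span_pair.1 h4
  by_cases hβ : β = 1
  · let φ : R →ₗ[k] Rᵐᵒᵖ := ↑(opLinearEquiv k : R ≃ₗ[k] Rᵐᵒᵖ)
    have h' : LocI (J.map φ) := ⟨fun x => (h.split x.unop).imp fun c hc => ⟨_, hc, rfl⟩,
      by rintro a _ ⟨x, hx, rfl⟩; exact ⟨_, h.right a.unop x hx, rfl⟩,
      by rintro a _ ⟨x, hx, rfl⟩; exact ⟨_, h.left a.unop x hx, rfl⟩,
      h.nil.imp fun N hN => by rw [← Submodule.map_op_pow, hN, Submodule.map_bot]⟩
    have S' : SymF (s ∘ₗ (opLinearEquiv k : R ≃ₗ[k] Rᵐᵒᵖ).symm.toLinearMap) :=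
      ⟨fun x y => S.symm _ _, fun x hx => unop_injective (S.nd _ fun y =>
        (S.symm _ _).trans (hx (op y)))⟩
    refine op_injective (h'.comm_of_sq_gen S' h2 (r := op r) (t := op a) ⟨r, hr, rfl⟩ ⟨a, ha, rfl⟩
      ?_ ?_ (α := α) (q := 0) ?_).symm
    · refine (Submodule.map_mono h1).trans ?_
      rw [Submodule.map_sup, Submodule.map_span, Submodule.map_op_pow, Set.image_pair]
      rfl
    · rw [← Submodule.map_op_pow, ← Submodule.map_op_pow]
      refine (Submodule.map_mono hK).trans ?_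
      rw [Submodule.map_sup, Submodule.map_span]
      refine sup_le_sup_right (Submodule.span_le.2 ?_) _
      rintro _ ⟨_, rfl | rfl, rfl⟩
      · exact Submodule.subset_span (Or.inl rfl)
      · exact Submodule.mem_span_pair.2 ⟨0, -1, by simp⟩
    · rw [← Submodule.map_op_pow]
      refine ⟨w, hw, ?_⟩
      rw [show w = a * r - α • (r * r) by rw [hβ] at e; linear_combination (norm := module) e]
      simp
  · have hβ' : 1 - β ≠ 0 := sub_ne_zero.2 (Ne.symm hβ)
    refine h.comm_of_sq_gen S h2 hr ha h1 hK (α := (1 - β)⁻¹ * α) (q := -((1 - β)⁻¹ * β)) ?_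
    convert Submodule.smul_mem _ (1 - β)⁻¹ hw using 1
    rw [show w = (1 - β) • (r * a) - α • (r * r) + β • (a * r) by
      linear_combination (norm := module) e, smul_add, smul_sub, smul_smul, inv_mul_cancel₀ hβ']
    module

end Cfsg.Agent.H7
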