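import Cfsg.Agent.H7.TB8
import Cfsg.Agent.H11.MC2

/-!
Tame blocks: fusion in a defect group of maximal class.
-/

set_option autoImplicit false
set_option linter.unusedSectionVars false
set_option linter.style.haveILetI false
set_option warn.classDefReducibility false

namespace Cfsg.Agent.H7.TB

open MonoidAlgebra Cfsg Cfsg.Agent.H3 Cfsg.Agent.H4 Cfsg.Agent.H5
open Cfsg.Agent.H6 (Res locRing redC redA eB fB intAlg chiL blocks Uni dd)
open Cfsg.Agent.H8 (SecData sec sub bspan bfin lift cm)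
open Cfsg.Agent.H11 (MC hh qq fr)
open scoped Pointwise ComplexConjugate

theorem mem_cent_of_odd {G : Type*} [Group G] [Finite G] {u x : G} {n : ℕ} (hu : orderOf u = 2 ^ n)
    (hx : x ∈ Subgroup.normalizer (Subgroup.zpowers u : Set G)) (ho : ¬ 2 ∣ orderOf x) :
    x ∈ Subgroup.centralizer (Subgroup.zpowers u : Set G) := by
  have h1 : orderOf ((Subgroup.zpowers u).normalizerMonoidHom ⟨x, hx⟩) ∣ 2 ^ n := by
    refine (orderOf_dvd_natCard _).trans ?_
    rw [IsCyclic.card_mulAut, Nat.card_zpowers, hu]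
    cases n with
    | zero => simp
    | succ n => rw [Nat.totient_prime_pow_succ Nat.prime_two]; simp [pow_succ]
  have h2 := orderOf_map_dvd (Subgroup.zpowers u).normalizerMonoidHom ⟨x, hx⟩
  rw [Subgroup.orderOf_mk] at h2
  have h3 := Nat.eq_one_of_dvd_coprimes
    (((Nat.Prime.coprime_iff_not_dvd Nat.prime_two).2 ho).pow_left n) h1 h2
  have h4 : (⟨x, hx⟩ : Subgroup.normalizer (Subgroup.zpowers u : Set G)) ∈
    (Subgroup.zpowers u).normalizerMonoidHom.ker := orderOf_eq_one_iff.1 h3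
  rwa [Subgroup.normalizerMonoidHom_ker] at h4

variable {M : Ideal AlgInt} [hMm : M.IsMaximal] {G : Type*} [Group G] [Fintype G]
  {P : Subgroup G} {e : (Res M)[G]} {B : Set (IrrCharacter G)} {k : ℕ} {ε f : ZMod (2 ^ k)}
  {X Y : ZMod (2 ^ k) → G} (hM : IsPModular 2 M) (hB : IsPBlock M B)
  (S : MaxP 2 ⊤ ⊤ (eB M B) P e) (h : MC P k ε f X Y)

attribute [local instance] H8.subFintype

include h in
theorem four_mul {a : ZMod (2 ^ k)} : 4 * a = 0 ↔ a = 0 ∨ a = hh k ∨ a = qq k ∨ a = -qq k := by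
  refine ⟨fun e => ?_, ?_⟩
  · rcases H11.two_mul_eq_zero h.one_le (a := 2 * a) (by linear_combination e) with e | e
    · rcases H11.two_mul_eq_zero h.one_le e with e | e <;> simp [e]
    · rcases H11.two_mul_eq_hh h.two_le e with e | e <;> simp [e]
  · rintro (rfl | rfl | rfl | rfl)
    · simp
    · linear_combination 2 * h.hh2
    · linear_combination 2 * h.qq2 + h.hh2
    · linear_combination -2 * h.qq2 - h.hh2

include h in
theorem zpowers_eq {a b : ZMod (2 ^ k)} (ho : orderOf (X a) = orderOf (X b)) :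
    Subgroup.zpowers (X a) = Subgroup.zpowers (X b) := by
  by_cases ha : a = 0
  · rw [ha, h.X_zero, orderOf_one, eq_comm, orderOf_eq_one_iff] at ho
    rw [ho, ha, h.X_zero]
  by_cases hb : b = 0
  · rw [hb, h.X_zero, orderOf_one, orderOf_eq_one_iff] at ho
    rw [ho, hb, h.X_zero]
  obtain ⟨i, -, hi, c, rfl⟩ := H11.exists_eq_fr_mul_odd ha
  obtain ⟨j, -, hj, d, rfl⟩ := H11.exists_eq_fr_mul_odd hb
  rw [← Nat.card_zpowers, ← Nat.card_zpowers, h.zpowers_X_odd, h.zpowers_X_odd, Nat.card_zpowers,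
    Nat.card_zpowers, h.orderOf_X_fr hi, h.orderOf_X_fr hj] at ho
  rw [h.zpowers_X_odd, h.zpowers_X_odd, Nat.pow_right_injective le_rfl ho]

include hM S h

theorem conj_of_NS {a : ZMod (2 ^ k)} {g : G}
    (hg : g ∈ NS ⊤ (Subgroup.zpowers (X a)) (eb M _ (bsec M 2 P e (X a)))) :
    g * X a * g⁻¹ = X a ∨ g * X a * g⁻¹ = X (-a + ε * a) := by
  haveI := H6.charP_res hM
  have hp := (bsec_spec hM S.pair (h.X_mem a)).2
  have hf := hp.isPair S.pair
  have hN : P ≤ Subgroup.normalizer (Subgroup.zpowers (X a) : Set G) := fun s hs =>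
    mem_normalizer_of_conj_mem fun x hx => by
      obtain ⟨n, rfl⟩ := hx
      rw [← conj_zpow]
      exact Subgroup.zpow_mem _ (h.conj_X_mem a hs) n
  have hP := (le_inf le_rfl hN).trans (hp.inf_le_NS S.pair le_top)
  obtain ⟨n, hn⟩ := S.orderOf_eq hM (h.X_mem a)
  have h1 := eq_of_not_dvd_of_forall (sup_le (hf.CK_le_NS le_rfl) hP)
    (S.not_dvd_relIndex hf (S.isDef_of_le hp (hf.CK_le_NS le_rfl) le_rfl hP))
    (C := Subgroup.centralizer (Subgroup.zpowers (X a) : Set G))
    (le_sup_of_le_left (inf_le_inf_left _ le_top)) fun x hx ho => mem_cent_of_odd hn hx.1 ho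
  rw [← h1, CK_top] at hg
  obtain ⟨c, hc, u, hu, rfl⟩ := exists_mul_of_mem_sup
    (hN.trans (normalizer_le_normalizer_centralizer _)) hg
  rw [show c * u * X a * (c * u)⁻¹ = c * (u * X a * u⁻¹) * c⁻¹ by group,
    mem_centralizer_iff_conj.1 hc _ (h.conj_X_mem a hu)]
  exact h.conj_X a hu

theorem fus_X {a : ZMod (2 ^ k)} (ha : 4 * a ≠ 0) {v : G} (hv : v ∈ P)
    (hf : Fus M 2 P e (X a) v) : v = X a ∨ v = X (-a + ε * a) := by
  obtain ⟨g, rfl, h2⟩ := hf
  have ho := H6.orderOf_conj' g (X a)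
  obtain ⟨b, hb | hb⟩ := (h.mem _).1 hv
  · have hz := zpowers_eq h (hb ▸ ho : orderOf (X b) = orderOf (X a))
    refine conj_of_NS hM S h ⟨mem_normalizer_iff_conj_smul.2 ?_, trivial, ?_⟩
    · rw [conj_smul_zpowers, hb, hz]
    · have := (bsec_spec hM S.pair (h.X_mem a)).2
      rw [← hz, ← hb] at this
      exact h2.trans (eb_bsec_eq hM S.pair this)
  · refine absurd (h.X_eq_one.1 ?_) ha
    have := h.X_pow a 4
    rw [Nat.cast_ofNat] at this
    rw [← this, ← orderOf_dvd_iff_pow_eq_one, ← ho, hb]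
    rcases h.orderOf_Y b with e | e <;> rw [e]
    norm_num

include hB

theorem sum_om {a : ZMod (2 ^ k)} (ha : 4 * a ≠ 0) (hz : X (hh k) ∈ Subgroup.center G) :
    ∑ ψ ∈ bfin B, (ψ : G → ℂ) (X (hh k)) / (ψ : G → ℂ) 1 *
      classInner (sub 2 (X a) (bsec M 2 P e (X a)) ψ) (sub 2 (X a) (bsec M 2 P e (X a)) ψ) = 0 := by
  have hs := S.secData hM (h.X_mem a)
  have hb := (bsec_spec hM S.pair (h.X_mem a)).1
  have hi := S.bsec_induced hM hB (h.X_mem a)
  have hc := Subgroup.mem_center_iff.1 hz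
  have ha' := mt (four_mul h).2 ha
  have hzp : Subgroup.zpowers (X (hh k) * X a) = Subgroup.zpowers (X a) := by
    obtain ⟨i, -, hi, c, rfl⟩ := H11.exists_eq_fr_mul_odd fun e => ha' (Or.inl e)
    obtain ⟨d, hd⟩ : ∃ d, hh k = fr k i * (2 * d) := by
      obtain ⟨j, rfl⟩ : ∃ j, i = j + 2 := ⟨i - 2, by
        by_contra hn
        have : i = 0 ∨ i = 1 := by omega
        refine ha ?_
        rcases this with rfl | rfl
        · rw [H11.fr_zero]; ring
        · linear_combination 2 * (2 * c + 1) * h.hh2⟩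
      exact ⟨2 ^ j, by
        rw [hh, fr, fr, ← pow_succ', ← pow_add]; congr 1; omega⟩
    rw [h.XX, hd, ← mul_add, show 2 * d + (2 * c + 1) = 2 * (d + c) + 1 by ring, h.zpowers_X_odd,
      h.zpowers_X_odd]
  have hs' : SecData 2 (X (hh k) * X a) (Subgroup.centralizer {X a}) :=
    ⟨S.orderOf_eq hM (P.mul_mem (h.X_mem _) (h.X_mem a)), by
      rw [← H6.centralizer_zpowers, ← hzp, H6.centralizer_zpowers]⟩
  have e1 : ∀ ψ : IrrCharacter G, sub 2 (X (hh k) * X a) (bsec M 2 P e (X a)) ψ =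
      ((ψ : G → ℂ) (X (hh k)) / (ψ : G → ℂ) 1) • sub 2 (X a) (bsec M 2 P e (X a)) ψ := fun ψ => by
    rw [← H8.sub_smul']
    unfold sub
    congr 2
    ext c
    simp only [H8.sec_apply, mul_assoc, H8.irr_central_mul ψ.2 hz, Pi.smul_apply, smul_eq_mul]
  rw [Finset.sum_congr rfl fun ψ _ => by
    rw [← classInner_smul_left, ← e1, H8.inner_eq_sum_bfin
      (hs'.sub_mem_bspan hM hb ψ.2.isClassFunction)], Finset.sum_comm]
  refine Finset.sum_eq_zero fun ξ hξ => ?_
  have hξ' := H8.mem_bspan_of_mem (H8.mem_bfin.1 hξ)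
  rw [Finset.sum_congr rfl fun ψ _ => by
    rw [← classInner_conj_symm (sub _ _ _ _), hs.inner_sub_left hM hb ψ.2.isClassFunction hξ',
      hs'.inner_sub_left hM hb ψ.2.isClassFunction hξ', classInner_conj_symm, mul_comm],
    ← H8.inner_eq_sum_bfin (hs.lift_mem_bspan hM hi hξ'),
    ← hs'.inner_sub_left hM hb (H8.lift_isClassFunction _) hξ',
    sub_lift_eq_zero hM hs' hs hb hb (fun g e1 e2 => ?_) hξ', classInner_zero_left]
  have e3 : g * X a * g⁻¹ = X (hh k + a) := by
    rw [← h.XX]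
    conv_rhs => rw [← e1]
    rw [← mul_assoc g, hc g, ← mul_assoc, ← mul_assoc, ← mul_assoc, h.XX, ← two_mul, h.hh2,
      h.X_zero, one_mul]
  rcases conj_of_NS hM S h (g := g) ⟨mem_normalizer_iff_conj_smul.2 (by
    rw [conj_smul_zpowers, e3, ← h.XX, hzp]), trivial, e2⟩
    with e4 | e4 <;> rw [e3, h.X_inj] at e4
  · exact H11.hh_ne h.one_le (by linear_combination e4)
  · exact ha (by linear_combination 2 * e4 - h.hh2 + a * h.e2)

theorem height_ne (hz : X (hh k) ∈ Subgroup.center G) {ψ : IrrCharacter G} (hψ : ψ ∈ B)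
    (hm : (ψ : G → ℂ) (X (hh k)) ≠ (ψ : G → ℂ) 1) : blockHeight 2 B (ψ : G → ℂ) ≠ 0 := fun h0 => by
  obtain ⟨s, hs, hS⟩ := isDefectGroup_iff_sylowIn.1 ((isDefectGroup_iff hM hB).2 S.isDef)
  have hc : ∀ u ∈ P, Commute u s := fun u hu => (H6.mem_centralizer_singleton.1 (hS.le hu)).symm
  have h1 := ψ.2.isClassFunction (X (qq k) * s) (Y 0)
  rw [← conj_mul, h.YXY, (hc _ (h.Y_mem 0)).eq, mul_inv_cancel_right, h.e_qq,
    show -qq k + 0 = hh k + qq k by linear_combination -h.qq2 - h.hh2 + h.hh2 - h.hh2, ← h.XX, mul_assoc,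
    H8.irr_central_mul ψ.2 hz, om_eq hz h.orderOf_z hm] at h1
  refine H8.redC_ne_zero_of_defectClass hM hB hs hψ h0 ?_
  obtain ⟨n, hn⟩ := S.orderOf_eq hM (h.X_mem (qq k))
  rw [← H8.redC_char_mul hM ψ.2.isCharacter (hc _ (h.X_mem (qq k))) (hn ▸ pow_orderOf_eq_one _),
    show ψ.1 (X (qq k) * s) = 0 by linear_combination -h1 / 2, H6.redC_zero]

open Classical in
theorem exists_cnt (hz : X (hh k) ∈ Subgroup.center G) {sm : Finset (IrrCharacter G)}
    (hsm : sm = (bfin B).filter fun ψ : IrrCharacter G => (ψ : G → ℂ) (X (hh k)) ≠ (ψ : G → ℂ) 1) :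
    ∃ r : ℝ, 2 ^ (k - 2) - 1 ≤ r ∧
      (sm.card : ℂ) = ∑ ψ ∈ sm, 2 * classInner (pRegularPart 2 (ψ : G → ℂ)) ψ + r := by
  set z := X (hh k)
  let Φ : G → Prop := fun u => u ≠ 1 ∧ u ≠ z
  have hc := Subgroup.mem_center_iff.1 hz
  have hΦ : ∀ u g, Φ u → Φ (g * u * g⁻¹) := fun u g h =>
    ⟨by simpa using h.1, fun e => h.2 (by
      rw [mul_inv_eq_iff_eq_mul, ← hc] at e; exact mul_left_cancel e)⟩
  let N : P → ℝ := fun u => ∑ ψ ∈ sm, (classInner (sub 2 (u : G) (bsec M 2 P e u) ψ)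
    (sub 2 (u : G) (bsec M 2 P e u) ψ)).re
  have hN : ∀ u, (N u : ℂ) = ∑ ψ ∈ sm, classInner (sub 2 (u : G) (bsec M 2 P e u) ψ)
      (sub 2 (u : G) (bsec M 2 P e u) ψ) := fun u => by
    simp only [N, Complex.ofReal_sum]
    exact Finset.sum_congr rfl fun ψ _ => by rw [classInner_self_re, classInner_self_eq_ofReal]
  have hzz : z * z = 1 := by rw [← sq, ← h.orderOf_z, pow_orderOf_eq_one]
  refine ⟨∑ u : P, if Φ u then N u / Nat.card {v : P // Fus M 2 P e u v} else 0, ?_, ?_⟩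
  · let ι : ZMod (2 ^ k) ↪ P := ⟨fun a => ⟨X a, h.X_mem a⟩, fun a b e =>
      h.X_inj.1 (congrArg Subtype.val e)⟩
    have h1 : ∀ a ∈ Finset.univ.filter fun a : ZMod (2 ^ k) => 4 * a ≠ 0, (1 / 4 : ℝ) ≤
        if Φ (ι a) then N (ι a) / Nat.card {v : P // Fus M 2 P e (ι a) v} else 0 := fun a ha => by
      replace ha := (Finset.mem_filter.1 ha).2
      have ha' := mt (four_mul h).2 ha
      rw [if_pos ⟨fun e => ha' (Or.inl (h.X_eq_one.1 e)),
        fun e => ha' (Or.inr (Or.inl (h.X_inj.1 e)))⟩]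
      have h2 : Nat.card {v : P // Fus M 2 P e (ι a) v} ≤ 2 :=
        (Set.ncard_le_ncard (t := {ι a, ι (-a + ε * a)}) fun v hv =>
          (fus_X hM S h ha v.2 hv).imp Subtype.ext Subtype.ext).trans
          ((Set.ncard_insert_le _ _).trans (by simp))
      have h3 : 0 < Nat.card {v : P // Fus M 2 P e (ι a) v} :=
        haveI : Nonempty {v : P // Fus M 2 P e (ι a) v} := ⟨⟨_, Fus.refl _⟩⟩
        Nat.card_pos
      have h4 : ((2 * N (ι a) : ℝ) : ℂ) = blockRank 2 (bsec M 2 P e (X a)) := by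
        rw [← (S.secData hM (h.X_mem a)).sum_inner_sub_self hM (S.bsec_induced hM hB (h.X_mem a)),
          ← sub_zero (Finset.sum _ _), ← sum_om hM hB S h ha hz, ← Finset.sum_sub_distrib,
          Complex.ofReal_mul, hN, hsm, Finset.sum_filter, Finset.mul_sum]
        refine Finset.sum_congr rfl fun ψ _ => ?_
        split_ifs with e
        · rw [om_eq hz h.orderOf_z e]; push_cast; ring_nf; rfl
        · rw [not_not.1 e, div_self ψ.2.apply_one_ne_zero]; ring
      have h5 : (1 : ℝ) ≤ 2 * N (ι a) := by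
        rw [show 2 * N (ι a) = blockRank 2 (bsec M 2 P e (X a)) by exact_mod_cast h4]
        exact_mod_cast H8.blockRank_pos hM.1
          (H8.block_nonempty (bsec_spec hM S.pair (h.X_mem a)).1)
      rw [le_div_iff₀ (by exact_mod_cast h3)]
      have : (Nat.card {v : P // Fus M 2 P e (ι a) v} : ℝ) ≤ 2 := by exact_mod_cast h2
      linarith
    refine le_trans ?_ ((Finset.sum_le_sum h1).trans ((Finset.sum_map _ ι fun u : P =>
      if Φ u then N u / Nat.card {v : P // Fus M 2 P e u v} else 0).ge.trans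
        (Finset.sum_le_sum_of_subset_of_nonneg (Finset.subset_univ _) fun u _ _ => ?_)))
    · have h2 := Finset.card_filter_add_card_filter_not (s := Finset.univ)
        fun a : ZMod (2 ^ k) => 4 * a = 0
      have h3 : (Finset.univ.filter fun a : ZMod (2 ^ k) => 4 * a = 0).card ≤ 4 :=
        (Finset.card_le_card (t := {0, hh k, qq k, -qq k}) fun a ha => by
          simpa using (four_mul h).1 (Finset.mem_filter.1 ha).2).trans Finset.card_le_four
      rw [Finset.card_univ, ZMod.card] at h2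
      have h4 : ((2 ^ (k - 2) * 2 ^ 2 : ℕ) : ℝ) ≤
          (4 + (Finset.univ.filter fun a : ZMod (2 ^ k) => ¬ 4 * a = 0).card : ℕ) := by
        rw [← pow_add, Nat.sub_add_cancel h.two_le]
        exact_mod_cast (by omega)
      rw [Finset.sum_const, nsmul_eq_mul]
      push_cast at h4
      linarith
    · split_ifs
      · exact div_nonneg (Finset.sum_nonneg fun _ _ => classInner_self_re_nonneg _) (by positivity)
      · rfl
  · have key : ∀ ψ ∈ sm, (1 : ℂ) = 2 * classInner (pRegularPart 2 (ψ : G → ℂ)) ψ +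
        ∑ u : P, if Φ u then classInner (sub 2 (u : G) (bsec M 2 P e u) ψ)
          (sub 2 (u : G) (bsec M 2 P e u) ψ) / Nat.card {v : P // Fus M 2 P e u v} else 0 := by
      intro ψ hψ
      obtain ⟨h1, h2⟩ := Finset.mem_filter.1 (hsm ▸ hψ)
      have h3 := om_eq hz h.orderOf_z h2
      have h4 : (ψ : G → ℂ) = pRegularPart 2 ψ.1 - (fun g => pRegularPart 2 ψ.1 (z * g)) +
          tr 2 Φ ψ.1 := funext fun g => by
        simp only [Pi.add_apply, Pi.sub_apply, H8.pReg_eq_ite, H8.irr_central_mul ψ.2 hz, h3]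
        have e1 := H6.IsPPart.eq_one_iff hM.1 (isPPart_pp hM.1 g)
        by_cases e2 : 2 ∣ orderOf g
        · by_cases e3 : 2 ∣ orderOf (z * g)
          · rw [if_pos e2, if_pos e3, tr_pos _ ⟨fun e => e1.1 e e2, fun e => by
              obtain ⟨y, rfl, -, -, hy⟩ := e ▸ isPPart_pp hM.1 g
              rw [← mul_assoc, hzz, one_mul] at e3
              exact hy e3⟩]
            simp
          · rw [if_pos e2, if_neg e3, tr_neg _ fun e => e.2 (pp_eq hM.1 ⟨z * g, by
              rw [← mul_assoc, hzz, one_mul], (hc _).symm, ⟨1, h.orderOf_z⟩, e3⟩)]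
            simp
        · rw [if_neg e2, if_pos (two_dvd_mul hz h.orderOf_z e2), tr_neg _ fun e => e.1 (e1.2 e2)]
          simp
      have h5 := irr_classInner ψ ψ
      rw [if_pos rfl] at h5
      rw [← h5]
      conv_lhs => enter [1]; rw [h4]
      rw [classInner_add_left, classInner_sub_left,
        H8.classInner_shift (H8.pReg_isClassFunction ψ.2.isClassFunction) hz, h3,
        S.inner_eq_sum hM hB (tr_mem hΦ hM hB (H8.mem_bspan_of_mem (H8.mem_bfin.1 h1)))
          ψ.2.isClassFunction]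
      congr 1
      · ring
      refine Finset.sum_congr rfl fun u _ => ?_
      rw [sub_tr hΦ hM (S.secData hM u.2) (bsec_spec hM S.pair u.2).1 ψ.2.isClassFunction]
      split_ifs <;> simp [classInner_zero_left]
    rw [Finset.card_eq_sum_ones]
    push_cast
    rw [Finset.sum_congr rfl key, Finset.sum_add_distrib, Finset.sum_comm]
    congr 1
    refine Finset.sum_congr rfl fun u _ => ?_
    split_ifs
    · rw [← Finset.sum_div, ← hN]; push_cast; rfl
    · simp

end Cfsg.Agent.H7.TB
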