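import Cfsg.Agent.H7.Av2
import Cfsg.Agent.H5.Clifford1
import Cfsg.Agent.H9.PLen
import Mathlib.GroupTheory.FiniteAbelian.Duality

/-! Non-vanishing elements of solvable groups (Isaacs, Navarro, Wolf). -/

set_option autoImplicit false

namespace Cfsg.Agent.H7

open Subgroup Cfsg.Agent.H4
open scoped commutatorElement Pointwise

universe u

/-- Vanishing elements. -/
def Van {G : Type*} [Group G] (x : G) : Prop := ∃ χ : G → ℂ, IsIrrCharacter G χ ∧ χ x = 0

theorem Van.of_map {G Q : Type*} [Group G] [Group Q] {π : G →* Q} (hπ : Function.Surjective π)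
    {x : G} (h : Van (π x)) : Van x :=
  let ⟨_, h1, h2⟩ := h
  ⟨_, h1.comp_of_surjective π hπ, h2⟩

theorem van_of_lin {G : Type*} [Group G] [Finite G] (N : Subgroup G) [N.Normal] (l : N →* ℂˣ)
    {x : G} (h : ∀ g : G, ∃ n : N, l (MulAut.conjNormal (g * x * g⁻¹) n) ≠ l n) : Van x := by
  classical
  have := Fintype.ofFinite G
  let E := H5.NEmb.ofNormal N
  have hθ := H4.isIrrCharacter_linear l
  obtain ⟨χ, hχ, h1⟩ := H5.exists_irr_over_hom E.f E.inj hθ
  obtain ⟨ψ, -, h2, -⟩ := E.exists_indFun_eq_of_inertia_le hθ _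
    (E.f_mem_inertia hθ.isCharacter.isClassFunction) le_rfl hχ h1
  refine ⟨χ, hχ, ?_⟩
  rw [← h2, ← H5.indHom_subtype]
  refine H5.indHom_eq_zero_of_not_conj _ _ fun g t ht => ?_
  obtain ⟨n, hn⟩ := h g
  refine hn (Units.ext ?_)
  have := t.2 n
  rw [show (t : G) = g * x * g⁻¹ from ht] at this
  exact this

theorem av_regular {V : Type*} [CommGroup V] [Finite V] {P : Subgroup (MulAut V)}
    (hP : ∀ a ∈ P, ∀ b ∈ P, a * b = b * a) (hcop : (Nat.card P).Coprime (Nat.card V)) :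
    ∃ v, ∀ a ∈ P, a v = v → a = 1 := by
  obtain ⟨_, ⟨v, rfl⟩, hmin⟩ := WellFounded.has_min (wellFounded_lt (α := Subgroup (MulAut V)))
    {S | ∃ v : V, S = P ⊓ MulAction.stabilizer (MulAut V) v} ⟨_, (1 : V), rfl⟩
  refine ⟨v, fun a ha hav => by_contra fun ha1 => ?_⟩
  obtain ⟨S, hS⟩ : ∃ S, S = P ⊓ MulAction.stabilizer (MulAut V) v := ⟨_, rfl⟩
  have hc : (Nat.card S).Coprime (Nat.card V) :=
    hcop.coprime_dvd_left (card_dvd_of_le (hS ▸ inf_le_left))
  obtain ⟨u, hu⟩ : ∃ u, a u ≠ u := by_contra fun h => ha1 (MulEquiv.ext (by simpa using h))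
  have hv : v ∈ avFix S := fun b hb => (hS.le hb).2
  have h1 : avN S (a u * u⁻¹) = 1 := by
    rw [map_mul, map_inv, avN_apply_mem (hS.ge ⟨ha, hav⟩), mul_inv_cancel]
  have h2 : ∀ g ∈ P, g (v * (a u * u⁻¹)) = v * (a u * u⁻¹) → g v = v := fun g hg h => by
    have := avN_conj S g (v * (a u * u⁻¹))
    rw [h, H3.mem_normalizer_iff_conj_smul.mp (centralizer_le_normalizer _
      fun s hs => hP s (hS.le hs).1 g hg), map_mul, h1, mul_one, avN_of_mem hv, map_pow] at this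
    exact av_pow_inj hc this
  refine hmin _ ⟨v * (a u * u⁻¹), rfl⟩ (lt_of_le_of_ne (fun g hg => ⟨hg.1, h2 g hg.1 hg.2⟩)
    fun h => hu (mul_inv_eq_one.mp (av_pow_inj hc ?_)))
  rw [one_pow, ← h1, avN_of_mem]
  intro b hb
  have h3 : b (v * (a u * u⁻¹)) = v * (a u * u⁻¹) := (h.ge (hS.le hb)).2
  rwa [map_mul, hv b hb, mul_right_inj] at h3

variable {p : ℕ} [hp : Fact p.Prime]

theorem inw (n : ℕ) : ∀ (G : Type u) [Group G] [Finite G], Nat.card G = n → Group.IsSolvable G →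
    ∀ x : G, ¬ Van x → ∀ a ∈ zpowers x, (∃ k, a ^ p ^ k = 1) →
      (p ≠ 2 ∨ ∃ K L : Subgroup G, L.Normal ∧ (Nat.card K).Coprime p ∧ ⁅L, L⁆ ≤ K ∧ a ∈ L) →
      a ∈ pCore p G := by
  induction n using Nat.strong_induction_on with
  | _ n ih =>
  intro G _ _ hn hG x hx a hax hap hL
  have step : ∀ (N : Subgroup G) [N.Normal], N ≠ ⊥ → a ∈ H9.opMod p N := fun N _ hN =>
    ih _ (hn ▸ H1.card_quotient_lt hN) (G ⧸ N) rfl inferInstance (QuotientGroup.mk' N x)
      (fun h => hx (h.of_map (QuotientGroup.mk'_surjective N))) _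
      (by rw [← MonoidHom.map_zpowers]; exact mem_map_of_mem _ hax)
      (hap.imp fun k hk => by rw [← map_pow, hk, map_one])
      (hL.imp id fun ⟨K, L, h1, h2, h3, h4⟩ => ⟨K.map (QuotientGroup.mk' N),
        L.map (QuotientGroup.mk' N), h1.map _ (QuotientGroup.mk'_surjective N),
        h2.coprime_dvd_left (card_map_dvd _ _), by rw [← map_commutator]; exact map_mono h3,
        mem_map_of_mem _ h4⟩)
  by_cases hO : pCore p G = ⊥
  swap
  · exact (H9.opMod_eq_pCore (H1.isPGroup_pCore p G)).le (step _ hO)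
  rcases subsingleton_or_nontrivial G with h0 | h0
  · exact Subsingleton.elim 1 a ▸ one_mem _
  obtain ⟨q, hq, hq0⟩ := H1.exists_pCore_ne_bot hG
  have := Fact.mk hq
  have hpq : q ≠ p := fun h => hq0 (h ▸ hO)
  obtain ⟨N, hNdef⟩ : ∃ N, N = pCore q G ⊓ centralizer (pCore q G : Set G) := ⟨_, rfl⟩
  have : N.Normal := hNdef ▸ inferInstance
  have hN0 : N ≠ ⊥ := hNdef ▸ H1.inf_centralizer_ne_bot_of_isPGroup (H1.isPGroup_pCore q G)
    (H1.isPGroup_pCore q G) le_normalizer hq0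
  have hNc : ∀ a ∈ N, ∀ b ∈ N, a * b = b * a := fun a ha b hb =>
    (hNdef.le hb).2 a (hNdef.le ha).1
  have hNp : (Nat.card N).Coprime p := H1.coprime_card_of_isPGroup_of_coprime
    ((H1.isPGroup_pCore q G).to_le (hNdef.le.trans inf_le_left))
    ((Nat.coprime_primes hp.out hq).mpr hpq.symm)
  have hAL := step N hN0
  by_cases hC : a ∈ centralizer (N : Set G)
  · have hA : IsPGroup p (zpowers a) := by
      obtain ⟨k, hk⟩ := hap
      obtain ⟨k, -, hk⟩ := (Nat.dvd_prime_pow hp.out).mp (orderOf_dvd_of_pow_eq_one hk)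
      exact IsPGroup.of_card (by rw [Nat.card_zpowers, hk])
    refine H1.le_pCore_of_le_fittingSubgroup hA ((zpowers_le.mpr (mem_inf.mpr ⟨hAL, hC⟩)).trans
      (H1.le_fittingSubgroup ?_)) (mem_zpowers a)
    have h1 : IsPGroup p ((QuotientGroup.mk' N).comp
        (H9.opMod p N ⊓ centralizer (N : Set G)).subtype).range :=
      (H1.isPGroup_pCore p (G ⧸ N)).to_le (by rintro _ ⟨x, rfl⟩; exact x.2.1)
    have := h1.isNilpotent
    refine Subgroup.isNilpotent_of_ker_le_center ((QuotientGroup.mk' N).comp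
        (H9.opMod p N ⊓ centralizer (N : Set G)).subtype).rangeRestrict fun x hx => ?_
    rw [MonoidHom.ker_rangeRestrict] at hx
    exact mem_center_iff.mpr fun g => Subtype.ext (g.2.2 x ((QuotientGroup.eq_one_iff _).mp hx)).symm
  exfalso
  let _ : CommGroup N := { (inferInstance : Group N) with
    mul_comm := fun a b => Subtype.ext (hNc a a.2 b b.2) }
  have hcard : Nat.card (N →* ℂˣ) = Nat.card N :=
    CommGroup.card_monoidHom_of_hasEnoughRootsOfUnity N ℂ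
  have : Finite (N →* ℂˣ) := Nat.finite_of_card_ne_zero (hcard ▸ Nat.card_pos.ne')
  let φ : G →* MulAut (N →* ℂˣ) :=
    { toFun := fun g =>
        { toFun := fun l => l.comp (MulAut.conjNormal g⁻¹).toMonoidHom
          invFun := fun l => l.comp (MulAut.conjNormal g).toMonoidHom
          left_inv := fun l => by ext; simp
          right_inv := fun l => by ext; simp
          map_mul' := fun a b => rfl }
      map_one' := by ext; simp
      map_mul' := fun a b => by ext; simp }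
  have hφ : ∀ g l n, φ g l n = l (MulAut.conjNormal g⁻¹ n) := fun _ _ _ => rfl
  have hpg : IsPGroup p ((H9.opMod p N).map φ) := by
    rintro ⟨_, x, hx, rfl⟩
    obtain ⟨k, hk⟩ := H9.pow_mem_of_mem_opMod hx
    refine ⟨k, Subtype.ext (MulEquiv.ext fun l => MonoidHom.ext fun v => ?_)⟩
    rw [SubmonoidClass.coe_pow, ← map_pow, hφ]
    refine congrArg l (Subtype.ext ?_)
    rw [MulAut.conjNormal_apply, hNc _ (inv_mem hk) _ v.2]
    simp
  have ha1 : φ a ≠ 1 := fun h1 => hC fun v hv => by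
    by_contra h2
    obtain ⟨l, hl⟩ := CommGroup.exists_apply_ne_one_of_hasEnoughRootsOfUnity N ℂ
      (a := MulAut.conjNormal a⁻¹ ⟨v, hv⟩ * (⟨v, hv⟩ : N)⁻¹) fun h => h2 (by
        have := congrArg Subtype.val (mul_inv_eq_one.mp h)
        rw [MulAut.conjNormal_apply, inv_inv, mul_assoc, inv_mul_eq_iff_eq_mul] at this
        exact this)
    rw [map_mul, ← hφ, h1] at hl
    simp at hl
  obtain ⟨l, hl⟩ : ∃ l, ∀ g, φ (g * a * g⁻¹) l ≠ l := by
    rcases hL with hp2 | ⟨K, L, h1, h2, h3, h4⟩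
    · obtain ⟨l, hl⟩ := av_main hp2 _ (N →* ℂˣ) rfl (hcard ▸ hNp) φ.range ((H9.opMod p N).map φ)
        (map_le_range _ _) (by
          rintro _ ⟨g, rfl⟩
          exact le_normalizer_map φ ⟨g, le_normalizer_of_normal (K := ⊤) (mem_top g), rfl⟩)
        hpg (φ a) ⟨a, hAL, rfl⟩ ha1
      exact ⟨l, fun g => by simpa using hl (φ g) ⟨g, rfl⟩⟩
    · have hpg' := hpg.to_le (map_mono (inf_le_left : H9.opMod p N ⊓ L ≤ _))
      obtain ⟨l, hl⟩ := av_regular (P := (H9.opMod p N ⊓ L).map φ) (fun a ha b hb => by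
        have h5 : ⁅a, b⁆ ∈ (H9.opMod p N ⊓ L).map φ ⊓ K.map φ :=
          ⟨commutator_le_self _ (commutator_mem_commutator ha hb), map_mono h3 (by
            rw [map_commutator]
            exact commutator_mem_commutator (map_mono inf_le_right ha) (map_mono inf_le_right hb))⟩
        rwa [disjoint_iff.mp (disjoint_of_coprime_natCard (H1.coprime_card_of_isPGroup_of_coprime
          hpg' (h2.coprime_dvd_left (card_map_dvd _ _)))), mem_bot,
          commutatorElement_eq_one_iff_mul_comm] at h5)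
        (H1.coprime_card_of_isPGroup_of_coprime hpg' (hcard ▸ hNp))
      refine ⟨l, fun g h => ha1 ?_⟩
      simpa using hl _ ⟨_, mem_inf.mpr ⟨Normal.conj_mem inferInstance a hAL g, h1.conj_mem a h4 g⟩,
        rfl⟩ h
  refine hx (van_of_lin N l fun g => by_contra fun h => hl g ?_)
  push Not at h
  have h1 : l ∈ avFix (zpowers (φ (g * x * g⁻¹)⁻¹)) := mem_avFix_zpowers.mpr
    (MonoidHom.ext fun n => by rw [hφ, inv_inv]; exact h n)
  obtain ⟨k, rfl⟩ := hax
  refine h1 _ ?_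
  rw [← conj_zpow, map_zpow, map_inv, zpowers_inv]
  exact zpow_mem (mem_zpowers _) k

theorem card_le_of_orders {X : Type*} [Group X] [Finite X] (hX : Group.IsSolvable X)
    (hO : pCore p X = ⊥) (h : ∀ x : X, p ∣ orderOf x → x ^ p = 1) {P : Subgroup X}
    (hP : IsPGroup p P) : Nat.card P ≤ p := by
  have hexp : ∀ x ∈ P, x ^ p = 1 := fun x hx => by
    obtain ⟨k, hk⟩ := hP ⟨x, hx⟩
    obtain ⟨k, -, hk⟩ := (Nat.dvd_prime_pow hp.out).mp (orderOf_dvd_of_pow_eq_one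
      (show x ^ p ^ k = 1 from congrArg Subtype.val hk))
    rcases k with _ | k
    · rw [orderOf_eq_one_iff.mp hk, one_pow]
    · exact h x (hk ▸ dvd_pow_self p k.succ_ne_zero)
  by_cases h0 : P = ⊥
  · rw [h0, card_bot]; exact hp.out.one_lt.le
  obtain ⟨⟨z, hzP, hzc⟩, hz1⟩ := ne_bot_iff_exists_ne_one.mp
    (H1.inf_centralizer_ne_bot_of_isPGroup hP hP le_normalizer h0)
  replace hz1 : z ≠ 1 := fun h => hz1 (Subtype.ext h)
  rw [← orderOf_eq_prime (hexp z hzP) hz1, ← Nat.card_zpowers]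
  refine card_le_of_le fun y hy => by_contra fun hyz => ?_
  have : Nontrivial X := ⟨z, 1, hz1⟩
  obtain ⟨q, hq, hq0⟩ := H1.exists_pCore_ne_bot hX
  have := Fact.mk hq
  have hpq : q ≠ p := fun h => hq0 (h ▸ hO)
  have hNp : (Nat.card (pCore q X)).Coprime p := H1.coprime_card_of_isPGroup_of_coprime
    (H1.isPGroup_pCore q X) ((Nat.coprime_primes hp.out hq).mpr hpq.symm)
  have hAP : zpowers y ⊔ zpowers z ≤ P := sup_le (zpowers_le.mpr hy) (zpowers_le.mpr hzP)
  have : IsMulCommutative (zpowers y ⊔ zpowers z : Subgroup X) :=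
    H3.isMulCommutative_sup_zpowers inferInstance fun g hg => hzc g (zpowers_le.mpr hy hg)
  refine hq0 (le_bot_iff.mp (H1.le_of_forall_centralizer_singleton_le (A := zpowers y ⊔ zpowers z)
    (fun hc => hyz (av_le_zpowers hc (fun x hx => hexp x (hAP hx)) (mem_sup_right (mem_zpowers z))
      hz1 (mem_sup_left (mem_zpowers y)))) le_normalizer_of_normal
    (H1.coprime_card_of_isPGroup_of_coprime (hP.to_le hAP) hNp) fun u hu hu1 v hv => ?_))
  have hc : Commute v u := mem_centralizer_singleton_iff.mp hv.2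
  have ho := orderOf_eq_prime (hexp u (hAP hu)) hu1
  have hv1 : (orderOf v).Coprime p := hNp.coprime_dvd_left (Subgroup.orderOf_dvd_natCard _ hv.1)
  have h1 := h (v * u) (by
    rw [hc.orderOf_mul_eq_mul_orderOf_of_coprime (ho ▸ hv1), ho]; exact dvd_mul_left _ _)
  rw [hc.mul_pow, hexp u (hAP hu), mul_one] at h1
  exact orderOf_eq_one_iff.mp (hv1.eq_one_of_dvd (orderOf_dvd_of_pow_eq_one h1))

/-- The hypothesis on vanishing elements passes to `G / O_p(G)`. -/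
theorem van_pow_eq_one {G X : Type*} [Group G] [Finite G] [Group X] {π : G →* X}
    (hπ : Function.Surjective π) {b : ℕ} (h : ∀ g : G, p ∣ orderOf g → Van g → orderOf g = b)
    {t : X} (ht1 : t ≠ 1) (ht : ∃ k, t ^ p ^ k = 1) (htv : Van t) {x : X} (hx : p ∣ orderOf x)
    (hxv : Van x) (hxp : (∃ k, (x ^ p) ^ p ^ k = 1) → x ^ p ≠ 1 → Van (x ^ p)) : x ^ p = 1 := by
  have hd : ∀ y : X, y ≠ 1 → (∃ k, y ^ p ^ k = 1) → p ∣ orderOf y := by
    rintro y hy ⟨k, hk⟩
    obtain ⟨k, -, hk⟩ := (Nat.dvd_prime_pow hp.out).mp (orderOf_dvd_of_pow_eq_one hk)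
    rw [hk]
    exact dvd_pow_self p fun h0 => hy (by rwa [h0, pow_zero, orderOf_eq_one_iff] at hk)
  have h1 := hd t ht1 ht
  obtain ⟨k₀, hk₀⟩ := ht
  obtain ⟨t, ⟨k, hk⟩, rfl⟩ := H9.exists_pElt_lift hπ hk₀
  obtain ⟨g, rfl⟩ := hπ x
  have h2 := h t (h1.trans (orderOf_map_dvd π t)) (htv.of_map hπ)
  have h3 := hx.trans (orderOf_map_dvd π g)
  have h4 := h g h3 (hxv.of_map hπ)
  have h5 : ∃ k, (π g ^ p) ^ p ^ k = 1 := ⟨k, by
    have h5 : g ^ p ^ k = 1 := by
      rw [← orderOf_dvd_iff_pow_eq_one, h4, ← h2, orderOf_dvd_iff_pow_eq_one, hk]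
    rw [← pow_mul, mul_comm, pow_mul, ← map_pow π g, h5, map_one, one_pow]⟩
  by_contra hne
  have h6 := h (g ^ p) ((hd _ hne h5).trans (map_pow π g p ▸ orderOf_map_dvd π _))
    (Van.of_map hπ (map_pow π g p ▸ hxp h5 hne))
  rw [orderOf_pow_of_dvd hp.out.ne_zero h3, ← h4] at h6
  exact (Nat.div_lt_self (orderOf_pos g) hp.out.one_lt).ne h6

theorem card_le_of_van {G : Type*} {X : Type u} [Group G] [Finite G] [Group X] [Finite X]
    {π : G →* X} (hπ : Function.Surjective π) (hX : Group.IsSolvable X) (hO : pCore p X = ⊥) {b : ℕ}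
    (h : ∀ g : G, p ∣ orderOf g → Van g → orderOf g = b) {P : Subgroup X}
    (hP : IsPGroup p P) : Nat.card P ≤ p := by
  have hd : ∀ y : X, y ≠ 1 → (∃ k, y ^ p ^ k = 1) → p ∣ orderOf y := by
    rintro y hy ⟨k, hk⟩
    obtain ⟨k, -, hk⟩ := (Nat.dvd_prime_pow hp.out).mp (orderOf_dvd_of_pow_eq_one hk)
    rw [hk]
    exact dvd_pow_self p fun h0 => hy (by rwa [h0, pow_zero, orderOf_eq_one_iff] at hk)
  have hv : ∀ x : X, p ∣ orderOf x → (p ≠ 2 ∨ ∃ K L : Subgroup X, L.Normal ∧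
      (Nat.card K).Coprime p ∧ ⁅L, L⁆ ≤ K ∧ x ∈ L) → Van x := fun x hx hL => by_contra fun hn => by
    obtain ⟨a, c, ha, -, hap, hc, hxa⟩ := H3.exists_p_part p x
    have := inw _ X rfl hX x hn a ha hap
      (hL.imp id fun ⟨K, L, h1, h2, h3, h4⟩ => ⟨K, L, h1, h2, h3, zpowers_le.mpr h4 ha⟩)
    rw [hO, mem_bot] at this
    rw [hxa, this, one_mul] at hx
    exact hp.out.coprime_iff_not_dvd.mp hc.symm hx
  by_cases h0 : P = ⊥
  · rw [h0, card_bot]; exact hp.out.one_lt.le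
  by_cases hp2 : p ≠ 2
  · obtain ⟨⟨t, ht⟩, ht1⟩ := ne_bot_iff_exists_ne_one.mp h0
    replace ht1 : t ≠ 1 := fun h => ht1 (Subtype.ext h)
    have ht2 : ∃ k, t ^ p ^ k = 1 := (hP ⟨t, ht⟩).imp fun k hk => congrArg Subtype.val hk
    exact card_le_of_orders hX hO (fun x hx => van_pow_eq_one hπ h ht1 ht2
      (hv t (hd t ht1 ht2) (Or.inl hp2)) hx (hv x hx (Or.inl hp2))
      fun h1 h2 => hv _ (hd _ h2 h1) (Or.inl hp2)) hP
  obtain rfl : p = 2 := not_not.mp hp2
  have hX' : IsPSolvable 2 X := H9.isPSolvable_of_isSolvable hX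
  let σ := QuotientGroup.mk' (pPrimeCore 2 X)
  have hσ : Function.Surjective σ := QuotientGroup.mk'_surjective _
  have hσ1 : ∀ x, σ x = 1 ↔ x ∈ pPrimeCore 2 X := QuotientGroup.eq_one_iff
  have hvU : ∀ U : Subgroup (X ⧸ pPrimeCore 2 X), U.Normal → IsMulCommutative U →
      ∀ x, σ x ∈ U → 2 ∣ orderOf x → Van x := fun U hU hc x hx h2 =>
    hv x h2 (Or.inr ⟨_, U.comap σ, hU.comap σ, H1.coprime_card_pPrimeCore 2 X,
      commutator_le.mpr fun a ha b hb => (hσ1 _).mp (by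
        rw [map_commutatorElement, commutatorElement_eq_one_iff_mul_comm]
        exact H9.isMulCommutative_iff'.mp hc _ ha _ hb), hx⟩)
  have htU : ∀ U : Subgroup (X ⧸ pPrimeCore 2 X), U.Normal → IsMulCommutative U → IsPGroup 2 U →
      ∀ u ∈ U, u ≠ 1 → ∃ t : X, t ≠ 1 ∧ (∃ k, t ^ 2 ^ k = 1) ∧ Van t := fun U hU hc h2 u hu hu1 => by
    obtain ⟨k, hk⟩ := h2 ⟨u, hu⟩
    obtain ⟨t, ht, rfl⟩ := H9.exists_pElt_lift hσ (show u ^ 2 ^ k = 1 from congrArg Subtype.val hk)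
    have ht1 : t ≠ 1 := fun h => hu1 (by rw [h, map_one])
    exact ⟨t, ht1, ht, hvU U hU hc t hu (hd t ht1 ht)⟩
  have hsq : ∀ U : Subgroup (X ⧸ pPrimeCore 2 X), U.Normal → IsMulCommutative U → IsPGroup 2 U →
      ∀ x, σ x ∈ U → σ x ≠ 1 → x ^ 2 = 1 := fun U hU hc h2 x hx hx1 => by
    obtain ⟨t, ht1, ht, htv⟩ := htU U hU hc h2 _ hx hx1
    obtain ⟨k, hk⟩ := h2 ⟨_, hx⟩
    obtain ⟨k, -, hk⟩ := (Nat.dvd_prime_pow hp.out).mp (orderOf_dvd_of_pow_eq_one
      (show σ x ^ 2 ^ k = 1 from congrArg Subtype.val hk))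
    have h3 : 2 ∣ orderOf x := (hk ▸ dvd_pow_self 2 fun h0 => hx1 (by
      rwa [h0, pow_zero, orderOf_eq_one_iff] at hk)).trans (orderOf_map_dvd σ x)
    exact van_pow_eq_one hπ h ht1 ht htv h3 (hvU U hU hc x hx h3)
      fun h4 h5 => hvU U hU hc _ (by rw [map_pow]; exact pow_mem hx 2) (hd _ h5 h4)
  have hU2 : ∀ U : Subgroup (X ⧸ pPrimeCore 2 X), U.Normal → IsMulCommutative U → IsPGroup 2 U →
      ∀ u ∈ U, u ≠ 1 → ∀ u' ∈ U, u' ≠ 1 → u = u' := fun U hU hc h2 u hu hu1 u' hu' hu1' => by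
    have hinv : ∀ x, σ x ∈ U → σ x ≠ 1 → ∀ k ∈ pPrimeCore 2 X, x * k * x⁻¹ = k⁻¹ :=
      fun x hx hx1 k hk => by
        have h3 : σ (x * k) = σ x := by rw [map_mul, (hσ1 k).mpr hk, mul_one]
        have h4 := hsq U hU hc h2 _ (h3 ▸ hx) (h3 ▸ hx1)
        have h5 := hsq U hU hc h2 x hx hx1
        rw [sq] at h4 h5
        rw [← eq_inv_of_mul_eq_one_left h5, eq_inv_iff_mul_eq_one, mul_assoc, h4]
    obtain ⟨x, rfl⟩ := hσ u
    obtain ⟨y, rfl⟩ := hσ u'
    have h3 : x⁻¹ * y ∈ pPrimeCore 2 X := H9.centralizer_pPrimeCore_le_of_isPSolvable hX' hO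
      fun k hk => by
        have := (hinv x hu hu1 k hk).trans (hinv y hu' hu1' k hk).symm
        calc k * (x⁻¹ * y) = x⁻¹ * (x * k * x⁻¹) * y := by group
          _ = _ := by rw [this]; group
    rwa [← hσ1, map_mul, map_inv, inv_mul_eq_one] at h3
  have hcen : ∀ U : Subgroup (X ⧸ pPrimeCore 2 X), U.Normal → IsMulCommutative U → IsPGroup 2 U →
      ∀ u ∈ U, ∀ g, g * u = u * g := fun U hU hc h2 u hu g => by
    by_cases hu1 : u = 1
    · simp [hu1]
    · exact mul_inv_eq_iff_eq_mul.mp (hU2 U hU hc h2 _ (hU.conj_mem u hu g) (by simpa using hu1) u hu hu1)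
  have hcard := H9.card_map_of_disjoint (H9.inf_ker_mk'_pPrimeCore hP)
  have : Nontrivial (X ⧸ pPrimeCore 2 X) := by
    by_contra hn
    rw [not_nontrivial_iff_subsingleton] at hn
    exact h0 (card_eq_one.mp (hcard.symm.trans Nat.card_unique))
  have hR := (H9.core_ne_bot_of_isPSolvable (H9.isPSolvable_of_surjective σ hσ hX')).resolve_right
    (not_not.mpr (H1.pPrimeCore_quotient_pPrimeCore 2))
  have hRp := H1.isPGroup_pCore 2 (X ⧸ pPrimeCore 2 X)
  obtain ⟨⟨z, hz⟩, hz1⟩ := ne_bot_iff_exists_ne_one.mp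
    (H1.inf_centralizer_ne_bot_of_isPGroup hRp hRp le_normalizer hR)
  replace hz1 : z ≠ 1 := fun h => hz1 (Subtype.ext h)
  have hZc : IsMulCommutative (pCore 2 (X ⧸ pPrimeCore 2 X) ⊓
      centralizer (pCore 2 (X ⧸ pPrimeCore 2 X) : Set (X ⧸ pPrimeCore 2 X)) : Subgroup _) :=
    H9.isMulCommutative_iff'.mpr fun a ha b hb => hb.2 a ha.1
  have hzc := hcen _ inferInstance hZc hRp.to_inf_left z hz
  have hz2 : orderOf z = 2 := by
    obtain ⟨x, rfl⟩ := hσ z
    exact orderOf_eq_prime (by rw [← map_pow, hsq _ inferInstance hZc hRp.to_inf_left x hz hz1,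
      map_one]) hz1
  obtain ⟨t, ht1, ht, htv⟩ := htU _ inferInstance hZc hRp.to_inf_left z hz hz1
  have hY : IsPGroup 2 (X ⧸ pPrimeCore 2 X) := by
    refine (H9.isPGroup_of_forall_coprime (C := ⊤) fun y _ hy => by_contra fun hy1 => ?_).of_equiv
      topEquiv
    obtain ⟨r, hr, hry⟩ := Nat.exists_prime_and_dvd (mt orderOf_eq_one_iff.mp hy1)
    have := Fact.mk hr
    have hr2 : r.Coprime 2 := hy.coprime_dvd_left hry
    obtain ⟨y₁, hy₁⟩ := exists_prime_orderOf_dvd_card' (G := zpowers y) r (by rwa [Nat.card_zpowers])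
    rw [← orderOf_coe] at hy₁
    have hc : Commute (y₁ : X ⧸ pPrimeCore 2 X) z := hzc _
    obtain ⟨x, hx⟩ := hσ (y₁ * z)
    have ho : orderOf (σ x) = r * 2 := by
      rw [hx, hc.orderOf_mul_eq_mul_orderOf_of_coprime (by rwa [hy₁, hz2]), hy₁, hz2]
    have hn : ∀ k, x ^ 2 ^ k ≠ 1 := fun k hk => hr.one_lt.ne' ((hr2.pow_right k).eq_one_of_dvd
      ((dvd_mul_right r 2).trans (ho ▸ (orderOf_map_dvd σ x).trans (orderOf_dvd_of_pow_eq_one hk))))
    by_cases hxv : Van x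
    · exact hn 1 (van_pow_eq_one hπ h ht1 ht htv ((dvd_mul_left 2 r).trans (ho ▸ orderOf_map_dvd σ x))
        hxv fun ⟨k, hk⟩ => absurd (by rwa [← pow_mul, ← pow_succ'] at hk) (hn (k + 1)))
    obtain ⟨a, c, ha, -, hap, hc', hxa⟩ := H3.exists_p_part r x
    have h3 := H1.pCore_le_pPrimeCore hr2.symm (inw _ X rfl hX x hxv a ha hap
      (Or.inl fun h => by simp [h] at hr2))
    rw [hxa, map_mul, (hσ1 a).mpr h3, one_mul] at ho
    exact hr.coprime_iff_not_dvd.mp hc'.symm ((dvd_mul_right r 2).trans (ho ▸ orderOf_map_dvd σ c))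
  obtain ⟨U, hU, hUc, -, hUC⟩ := H3.exists_selfCentralizing_normal_abelian hY ⊥ inferInstance
  have hall : ∀ y, y ∈ U := fun y => hUC fun u hu => (hcen U hU hUc (hY.to_subgroup U) u hu y).symm
  rw [← hcard]
  refine (card_le_card_group _).trans ((Nat.card_le_card_of_surjective
    (fun b : Bool => if b then z else 1) fun y => ?_).trans (by simp))
  by_cases hy : y = 1
  · exact ⟨false, by simp [hy]⟩
  · exact ⟨true, by simpa using hU2 U hU hUc (hY.to_subgroup U) z (hall z) hz1 y (hall y) hy⟩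

end Cfsg.Agent.H7
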