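import Cfsg.Agent.H5.Brauer1

/-! The permutation character of the special linear group on non-zero vectors. -/

set_option autoImplicit false

open Module
open scoped ComplexConjugate

namespace Cfsg.Agent.H7.WL

open H4

theorem core {G A : Type*} [Group G] [Fintype G] [AddCommGroup A] [Fintype A] [DecidableEq A] (N : A → G → ℂ)
    (h1 : ∀ ψ : AddChar A ℂ, IsGeneralizedCharacter G fun g => (Fintype.card A : ℂ)⁻¹ * ∑ c, ψ c * N c g)
    (h2 : ∀ c c', classInner (N c) (N c') = 1 + if c = c' then (Fintype.card A : ℂ) else 0)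
    (h3 : ∀ c, classInner (N c) (fun _ => 1) = 1) (h4 : ∀ c, c ≠ 0 → N c 1 = 0) (h5 : ∃ m : ℕ, Fintype.card A ≤ m ∧
      N 0 1 = m) : ∃ χ : AddChar A ℂ → G → ℂ, (∀ i, IsIrrCharacter G (χ i)) ∧ Function.Injective χ ∧
      ∀ g, N 0 g = 1 + ∑ i, χ i g := by
  classical
  have hA : (Fintype.card A : ℂ) ≠ 0 := Nat.cast_ne_zero.2 Fintype.card_ne_zero
  let π : AddChar A ℂ → G → ℂ := fun ψ => ∑ c, ((Fintype.card A : ℂ)⁻¹ * ψ c) • N c
  have hπ : ∀ ψ, π ψ = fun g => (Fintype.card A : ℂ)⁻¹ * ∑ c, ψ c * N c g := fun ψ => by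
    ext g; simp [π, Finset.mul_sum, mul_assoc]
  have e1 : ∀ ψ, classInner (π ψ) (fun _ => 1) = if ψ = 0 then 1 else 0 := fun ψ => by
    simp only [π, classInner_sum_left, classInner_smul_left, h3, mul_one, ← Finset.mul_sum, AddChar.sum_eq_ite]
    split_ifs <;> simp
  have e2 : ∀ ψ φ, classInner (π ψ) (π φ) = (if ψ = 0 then 1 else 0) * (if φ = 0 then 1 else 0) +
      if ψ = φ then 1 else 0 := fun ψ φ => by
    simp only [π, classInner_sum_left, classInner_smul_left, classInner_sum_right, classInner_smul_right, h2, mul_add,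
      Finset.sum_add_distrib, mul_ite, mul_zero, Finset.sum_ite_eq, Finset.sum_ite_eq', Finset.mem_univ, if_true, mul_one,
      map_mul, map_inv₀, map_natCast]
    congr 1
    · simp only [← Finset.mul_sum, ← Finset.sum_mul, ← map_sum, AddChar.sum_eq_ite]
      split_ifs <;> simp
    · have := AddChar.sum_eq_ite (ψ - φ)
      simp only [AddChar.sub_apply, AddChar.map_neg_eq_conj, sub_eq_zero] at this
      rw [Finset.sum_congr rfl (g := fun c => (Fintype.card A : ℂ)⁻¹ * (ψ c * conj (φ c))) fun c _ => by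
        field_simp, ← Finset.mul_sum, this]
      split_ifs <;> simp
  let χ : AddChar A ℂ → G → ℂ := fun ψ => π ψ - (if ψ = 0 then 1 else 0 : ℂ) • fun _ => 1
  have e3 : ∀ ψ φ, classInner (χ ψ) (χ φ) = if ψ = φ then 1 else 0 := fun ψ φ => by
    have := e1 φ
    rw [← classInner_conj_symm, ← (starRingEnd ℂ).injective.eq_iff, Complex.conj_conj] at this
    simp only [χ, classInner_sub_left, classInner_sub_right, classInner_smul_left, classInner_smul_right, e1, e2, this,
      classInner_one_one]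
    split_ifs <;> simp
  refine ⟨χ, fun ψ => H4.Cfsg.IsGeneralizedCharacter.isIrr_of_pos ?_ (by rw [e3, if_pos rfl]) ?_, fun ψ φ h => ?_,
    fun g => ?_⟩
  · refine H4.Cfsg.IsGeneralizedCharacter.sub (hπ ψ ▸ h1 ψ) ?_
    split_ifs
    · simpa using isGen_one
    · simpa using isGen_zero
  · obtain ⟨m, hm, hm'⟩ := h5
    have : χ ψ 1 = (((Fintype.card A : ℝ)⁻¹ * m - if ψ = 0 then 1 else 0 : ℝ) : ℂ) := by
      simp only [χ, hπ, Pi.sub_apply]
      rw [Finset.sum_eq_single 0 (fun c _ hc => by rw [h4 c hc, mul_zero]) (by simp), hm']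
      split_ifs <;> simp
    rw [this, Complex.ofReal_re, sub_nonneg]
    have h6 : (1 : ℝ) ≤ (Fintype.card A : ℝ)⁻¹ * m := by
      rw [le_inv_mul_iff₀ (by exact_mod_cast Fintype.card_pos), mul_one]
      exact_mod_cast hm
    split_ifs <;> linarith
  · have := e3 ψ φ
    rw [h, e3, if_pos rfl] at this
    by_contra h6
    simp [h6] at this
  · simp only [χ, hπ, Pi.sub_apply, Finset.sum_sub_distrib, ← Finset.mul_sum]
    rw [Finset.sum_comm]
    simp [← Finset.sum_mul, AddChar.sum_apply_eq_ite]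

open Classical in
theorem sum_orbit {G X : Type*} [Group G] [Fintype G] [MulAction G X] [Fintype X] (x₀ : X) (σ : X → X)
    (h : ∀ x ∈ MulAction.orbit G x₀, σ x ∈ MulAction.orbit G x₀) :
    ∑ x with x ∈ MulAction.orbit G x₀, ∑ g : G, (if g • x = σ x then 1 else 0 : ℂ) = Nat.card G := by
  have h0 : ((Finset.univ.filter (· ∈ MulAction.orbit G x₀)).card : ℂ) ≠ 0 :=
    Nat.cast_ne_zero.2 (Finset.card_pos.2 ⟨x₀, by simp⟩).ne'
  rw [Finset.sum_congr rfl (g := fun _ => ((Finset.univ.filter (· ∈ MulAction.orbit G x₀)).card : ℂ)⁻¹ * Nat.card G),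
    Finset.sum_const, nsmul_eq_mul, ← mul_assoc, mul_inv_cancel₀ h0, one_mul]
  intro x hx
  have hx' := (Finset.mem_filter.1 hx).2
  have h1 := H5.sum_smul_eq (G := G) x fun _ => 1
  rw [H5.sum_smul_eq (G := G) x fun z => if z = σ x then 1 else 0, eq_inv_mul_iff_mul_eq₀ h0]
  simp only [MulAction.orbit_eq_iff.2 hx'] at h1 ⊢
  rw [Finset.sum_ite_eq', if_pos (by simpa using h x hx')]
  simp only [Finset.sum_const, Finset.card_univ, nsmul_eq_mul, mul_one] at h1
  rw [Nat.card_eq_fintype_card (α := G), h1]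
  ring

variable {F : Type*} [Field F] {n : ℕ}

theorem exists_sl (hn : 3 ≤ n) {v w : Fin 2 → Fin n → F} (hv : LinearIndependent F v) (hw : LinearIndependent F w) :
    ∃ g : Matrix.SpecialLinearGroup (Fin n) F, ∀ i, g • v i = w i := by
  obtain ⟨e, he⟩ := Submodule.exists_linearEquiv_restrict_eq
    ((Basis.span hv).equiv (Basis.span hw) (Equiv.refl _))
  have h1 : ∀ i, e (v i) = w i := fun i => by
    have := he (Basis.span hv i)
    rw [Basis.equiv_apply, Basis.span_apply, Basis.span_apply] at this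
    exact this.symm
  have h2 : Submodule.span F (Set.range v) < ⊤ := lt_top_iff_ne_top.2 fun h => by
    have := finrank_span_eq_card hv
    rw [h, finrank_top, finrank_fin_fun, Fintype.card_fin] at this
    omega
  obtain ⟨f, hf, hf'⟩ := Submodule.exists_le_ker_of_lt_top _ h2
  obtain ⟨u, hu⟩ := DFunLike.ne_iff.1 hf
  have hd : LinearMap.det (e : (Fin n → F) →ₗ[F] (Fin n → F)) ≠ 0 := e.isUnit_det'.ne_zero
  refine ⟨⟨LinearMap.toMatrix' (e.toLinearMap ∘ₗ LinearMap.transvection f
    ((((LinearMap.det e.toLinearMap)⁻¹ - 1) * (f u)⁻¹) • u)), ?_⟩, fun i => ?_⟩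
  · rw [LinearMap.det_toMatrix', LinearMap.det_comp, LinearMap.transvection.det, map_smul, smul_eq_mul,
      inv_mul_cancel_right₀ hu, add_sub_cancel, mul_inv_cancel₀ hd]
  · have : f (v i) = 0 := hf' (Submodule.subset_span ⟨i, rfl⟩)
    change Matrix.mulVec _ _ = _
    rw [← Matrix.toLin'_apply, Matrix.toLin'_toMatrix']
    simp [LinearMap.transvection.apply, this, h1]

theorem exists_pair (hn : 3 ≤ n) {v : Fin n → F} (hv : v ≠ 0) : ∃ w, LinearIndependent F ![v, w] :=
  exists_linearIndependent_pair_of_one_lt_finrank (by rw [finrank_fin_fun]; omega) hv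

theorem exists_sl1 (hn : 3 ≤ n) {v w : Fin n → F} (hv : v ≠ 0) (hw : w ≠ 0) :
    ∃ g : Matrix.SpecialLinearGroup (Fin n) F, g • v = w := by
  obtain ⟨v', h1⟩ := exists_pair hn hv
  obtain ⟨w', h2⟩ := exists_pair hn hw
  obtain ⟨g, hg⟩ := exists_sl hn h1 h2
  exact ⟨g, hg 0⟩

variable [Fintype F] [DecidableEq F]

/-- the number of eigenvectors -/
noncomputable def nev (c : Additive Fˣ) (g : Matrix.SpecialLinearGroup (Fin n) F) : ℂ :=
  ∑ v : Fin n → F with v ≠ 0, if g • v = (c.toMul : F) • v then 1 else 0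

theorem sum_nev (hn : 3 ≤ n) (c : Additive Fˣ) :
    ∑ g : Matrix.SpecialLinearGroup (Fin n) F, nev c g = Nat.card (Matrix.SpecialLinearGroup (Fin n) F) := by
  classical
  let v₀ : Fin n → F := fun _ => 1
  have h0 : v₀ ≠ 0 := fun h => one_ne_zero (congrFun h ⟨0, by omega⟩)
  have h1 : ∀ v, v ∈ MulAction.orbit (Matrix.SpecialLinearGroup (Fin n) F) v₀ ↔ v ≠ 0 := fun v =>
    ⟨by rintro ⟨g, rfl⟩; exact (smul_ne_zero_iff_ne g).2 h0, fun h => exists_sl1 hn h0 h⟩
  rw [← sum_orbit v₀ (fun v => (c.toMul : F) • v) fun v hv => (h1 _).2 (smul_ne_zero c.toMul.ne_zero ((h1 v).1 hv))]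
  simp only [nev]
  rw [Finset.sum_comm]
  exact Finset.sum_congr (by ext; simp [h1]) fun v _ => Finset.sum_congr rfl fun g _ => by congr

theorem inner_nev (hn : 3 ≤ n) (c c' : Additive Fˣ) :
    classInner (nev (n := n) c) (nev c') = 1 + if c = c' then (Fintype.card (Additive Fˣ) : ℂ) else 0 := by
  classical
  rw [classInner, inv_mul_eq_iff_eq_mul₀ (H5.card_ne_zero_C _), mul_add, mul_one]
  let v₀ : Fin n → F := fun _ => 1
  have h0 : v₀ ≠ 0 := fun h => one_ne_zero (congrFun h ⟨0, by omega⟩)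
  obtain ⟨w₀, hw⟩ := exists_pair hn h0
  have h1 : ∀ p : (Fin n → F) × (Fin n → F), p ∈ MulAction.orbit (Matrix.SpecialLinearGroup (Fin n) F) (v₀, w₀) ↔
      p.1 ≠ 0 ∧ ∀ a : F, a • p.1 ≠ p.2 := fun p => by
    constructor
    · rintro ⟨g, rfl⟩
      refine ⟨(smul_ne_zero_iff_ne g).2 h0, fun a h => (LinearIndependent.pair_iff' h0).1 hw a ?_⟩
      have h2 : a • g • v₀ = g • w₀ := h
      rwa [← smul_comm g, smul_left_cancel_iff] at h2
    · intro h
      obtain ⟨g, hg⟩ := exists_sl hn hw ((LinearIndependent.pair_iff' h.1).2 h.2)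
      exact ⟨g, Prod.ext (hg 0) (hg 1)⟩
  have h2 := sum_orbit (G := Matrix.SpecialLinearGroup (Fin n) F) (v₀, w₀)
    (fun p => ((c.toMul : F) • p.1, (c'.toMul : F) • p.2)) fun p hp => by
      rw [h1] at hp ⊢
      refine ⟨smul_ne_zero c.toMul.ne_zero hp.1, fun a h => hp.2 ((c'.toMul : F)⁻¹ * a * c.toMul) ?_⟩
      dsimp only at h
      rw [mul_smul, mul_smul, h, inv_smul_smul₀ c'.toMul.ne_zero]
  have h3 : ∀ g : Matrix.SpecialLinearGroup (Fin n) F, nev c g * conj (nev c' g) =
      (∑ p with p ∈ MulAction.orbit (Matrix.SpecialLinearGroup (Fin n) F) (v₀, w₀),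
        if g • p = ((c.toMul : F) • p.1, (c'.toMul : F) • p.2) then 1 else 0) +
      (if c = c' then (Fintype.card (Additive Fˣ) : ℂ) else 0) * nev c g := fun g => by
    simp only [nev, map_sum, apply_ite conj, map_one, map_zero, Finset.sum_filter]
    rw [Finset.sum_mul_sum, Finset.mul_sum, Fintype.sum_prod_type, ← Finset.sum_add_distrib]
    simp only [h1]
    refine Finset.sum_congr rfl fun v _ => ?_
    by_cases hv : v = 0
    · simp [hv]
    by_cases h4 : g • v = (c.toMul : F) • v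
    · simp only [ne_eq, hv, not_false_eq_true, if_true, h4, one_mul, mul_one, true_and, Prod.smul_mk, Prod.mk.injEq]
      rw [← Finset.sum_filter_add_sum_filter_not (p := fun w => ∀ a : F, ¬ a • v = w), Finset.sum_filter]
      congr 1
      · refine Finset.sum_congr rfl fun w _ => ?_
        by_cases h5 : ∀ a : F, ¬ a • v = w
        · rw [if_pos h5, if_pos h5, if_pos fun h => h5 0 (by rw [h, zero_smul])]
        · rw [if_neg h5, if_neg h5]
      · have h5 : (Finset.univ.filter fun w => ¬ ∀ a : F, ¬ a • v = w) = Finset.univ.image fun a : F => a • v := by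
          ext; simp
        rw [h5, Finset.sum_image fun a _ b _ h => smul_left_injective F hv h]
        have h6 : ∀ a : F, (if ¬ a • v = 0 then if g • a • v = (c'.toMul : F) • a • v then (1 : ℂ) else 0 else 0) =
            if c = c' then (if a ≠ 0 then 1 else 0) else 0 := fun a => by
          by_cases ha : a = 0
          · simp [ha]
          rw [if_pos (smul_ne_zero ha hv), if_pos ha, smul_comm g, h4, smul_comm _ a]
          refine if_congr ⟨fun h => ?_, fun h => h ▸ rfl⟩ rfl rfl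
          exact Additive.toMul.injective (Units.ext (smul_left_injective F hv (smul_right_injective _ ha h)))
        simp only [h6]
        split_ifs
        · rw [Finset.sum_boole, Fintype.card_additive, Fintype.card_units, Finset.filter_ne',
            Finset.card_erase_of_mem (Finset.mem_univ _), Finset.card_univ]
        · simp
    · simp [h4]
  rw [Finset.sum_congr rfl fun g _ => h3 g, Finset.sum_add_distrib, Finset.sum_comm, ← Finset.mul_sum, sum_nev hn,
    mul_comm]
  congr 1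
  convert h2

theorem isGen_nev (ψ : AddChar (Additive Fˣ) ℂ) : IsGeneralizedCharacter (Matrix.SpecialLinearGroup (Fin n) F)
    fun g => (Fintype.card (Additive Fˣ) : ℂ)⁻¹ * ∑ c, ψ c * nev c g := by
  classical
  let _ : MulAction (Matrix.SpecialLinearGroup (Fin n) F × Fˣ) {v : Fin n → F // v ≠ 0} :=
    { smul := fun g v => ⟨g.2⁻¹ • g.1 • v.1, (smul_ne_zero_iff_ne _).2 ((smul_ne_zero_iff_ne _).2 v.2)⟩
      one_smul := fun v => Subtype.ext (by change (1 : Fˣ)⁻¹ • (1 : Matrix.SpecialLinearGroup (Fin n) F) • v.1 = _; simp)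
      mul_smul := fun g h v => Subtype.ext (by
        change (g.2 * h.2)⁻¹ • (g.1 * h.1) • v.1 = g.2⁻¹ • g.1 • h.2⁻¹ • h.1 • v.1
        rw [mul_inv, mul_smul, mul_smul, Units.smul_def h.2⁻¹, Units.smul_def h.2⁻¹, smul_comm g.1 ((h.2⁻¹ : Fˣ) : F)]) }
  have h1 := isCharacter_perm (G := Matrix.SpecialLinearGroup (Fin n) F × Fˣ) {v : Fin n → F // v ≠ 0}
  have h2 : ∀ p : Matrix.SpecialLinearGroup (Fin n) F × Fˣ,
      (Nat.card (MulAction.fixedBy {v : Fin n → F // v ≠ 0} p) : ℂ) = nev (Additive.ofMul p.2) p.1 := fun p => by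
    rw [nev, Finset.sum_boole, ← Nat.card_eq_finsetCard]
    congr 1
    have h : ∀ v : {v : Fin n → F // v ≠ 0}, p • v = v ↔ p.1 • v.1 = (p.2 : F) • v.1 := fun v =>
      Subtype.ext_iff.trans inv_smul_eq_iff
    exact Nat.card_congr ⟨fun v => ⟨v.1.1, by simpa using ⟨v.1.2, (h _).1 v.2⟩⟩,
      fun v => ⟨⟨v.1, (Finset.mem_filter.1 (Finset.mem_filter.1 v.2).1).2⟩, (h _).2 (Finset.mem_filter.1 v.2).2⟩,
      fun _ => rfl, fun _ => rfl⟩
  simp only [h2] at h1
  let lam : Matrix.SpecialLinearGroup (Fin n) F × Fˣ →* ℂ :=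
    { toFun := fun p => ψ (Additive.ofMul p.2)
      map_one' := ψ.map_zero_eq_one
      map_mul' := fun _ _ => ψ.map_add_eq_mul _ _ }
  have h3 := H4.Cfsg.IsGeneralizedCharacter.mul (H4.Cfsg.IsCharacter.isGen (isCharacter_linear lam.toHomUnits))
    (H4.Cfsg.IsCharacter.isGen h1)
  refine H4.Cfsg.IsClassFunction.isGen_of_int (fun g h => ?_) fun χ hχ => ?_
  · congr 2
    ext c
    exact congrArg (ψ c * ·) (by simpa using (H4.Cfsg.IsCharacter.isClassFunction h1) (g, c.toMul) (h, 1))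
  · obtain ⟨m, hm⟩ := H4.Cfsg.IsGeneralizedCharacter.classInner_int h3
      (H4.Cfsg.IsGeneralizedCharacter.comp (H4.Cfsg.IsIrrCharacter.isGen hχ) (MonoidHom.fst _ Fˣ))
    refine ⟨m, ?_⟩
    rw [← hm, classInner, classInner, Nat.card_prod, Fintype.sum_prod_type, Nat.cast_mul, mul_inv, mul_assoc,
      Finset.mul_sum, Finset.mul_sum (a := (Nat.card Fˣ : ℂ)⁻¹), Finset.mul_sum]
    refine Finset.sum_congr rfl fun g _ => ?_
    rw [Nat.card_eq_fintype_card (α := Fˣ), Fintype.card_additive, mul_assoc, Finset.sum_mul]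
    congr 2
    exact Fintype.sum_equiv Additive.toMul _ _ fun _ => rfl

theorem main (hn : 3 ≤ n) : ∃ χ : Fin (Fintype.card F - 1) → (Matrix.SpecialLinearGroup (Fin n) F → ℂ),
    (∀ i, IsIrrCharacter (Matrix.SpecialLinearGroup (Fin n) F) (χ i)) ∧ Function.Injective χ ∧
    ∀ g : Matrix.SpecialLinearGroup (Fin n) F,
      (Nat.card {v : Fin n → F // v ≠ 0 ∧ (g : Matrix (Fin n) (Fin n) F).mulVec v = v} : ℂ) = 1 + ∑ i, χ i g := by
  classical
  obtain ⟨χ, h1, h2, h3⟩ := core (nev (F := F) (n := n)) isGen_nev (inner_nev hn)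
    (fun c => by simp [classInner, sum_nev hn]) (fun c hc => Finset.sum_eq_zero fun v hv => if_neg fun h => hc (by
      rw [one_smul] at h
      refine Additive.toMul.injective (Units.ext (smul_left_injective F (Finset.mem_filter.1 hv).2 ?_))
      simpa using h.symm))
    ⟨Fintype.card F ^ n - 1, by
      rw [Fintype.card_additive, Fintype.card_units]
      exact Nat.sub_le_sub_right (Nat.le_self_pow (by omega) _) 1, by
      simp [nev, Finset.filter_ne']⟩
  have e : Fin (Fintype.card F - 1) ≃ AddChar (Additive Fˣ) ℂ := Fintype.equivOfCardEq (by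
    rw [AddChar.card_eq, Fintype.card_additive, Fintype.card_units, Fintype.card_fin])
  refine ⟨χ ∘ e, fun i => h1 _, h2.comp e.injective, fun g => ?_⟩
  rw [show ∑ i, (χ ∘ e) i g = ∑ i, χ i g from e.sum_comp fun i => χ i g, ← h3, nev, Finset.sum_boole,
    ← Nat.card_eq_finsetCard]
  congr 1
  exact Nat.card_congr (Equiv.subtypeEquivRight fun v => by simp [Matrix.SpecialLinearGroup.smul_def])

end Cfsg.Agent.H7.WL
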