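import Cfsg.Agent.H7.KGU2

/-!
Normal forms of nilpotent skew-adjoint maps for symmetric and alternating forms in odd characteristic.
-/

set_option autoImplicit false
set_option linter.dupNamespace false

namespace Cfsg.Agent.H7.WU

open Module Submodule

theorem adjust {α β : Type*} (P : α → Prop) (f : α → ℕ → β) (z : β) (r : ℕ)
    (h : ∀ x j, j < r → P x → ∃ y, P y ∧ f y j = z ∧ ∀ i, j < i → f y i = f x i) {x : α} (hx : P x) :
    ∃ y, P y ∧ ∀ j < r, f y j = z := by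
  suffices ∀ k ≤ r, ∃ y, P y ∧ ∀ j, k ≤ j → j < r → f y j = z from
    (this 0 r.zero_le).imp fun y hy => ⟨hy.1, fun j => hy.2 j j.zero_le⟩
  intro k hk
  induction hk using Nat.decreasingInduction with
  | self => exact ⟨x, hx, fun j h1 h2 => absurd h1 h2.not_ge⟩
  | of_succ k hk ih =>
    obtain ⟨y, h1, h2⟩ := ih
    obtain ⟨y', h3, h4, h5⟩ := h y k hk h1
    refine ⟨y', h3, fun j h6 h7 => ?_⟩
    obtain rfl | h6 := h6.eq_or_lt
    exacts [h4, (h5 j h6).trans (h2 j h6 h7)]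

variable {F V : Type*} [Field F] [AddCommGroup V] [Module F V] {B : V →ₗ[F] V →ₗ[F] F} {ε δ : F}
  {N : End F V}

/-- A skew-adjoint map for an `ε`-symmetric form. -/
structure SK (B : V →ₗ[F] V →ₗ[F] F) (ε : F) (N : End F V) : Prop where
  two : (2 : F) ≠ 0
  eps : ε * ε = 1
  symm : ∀ x y, B y x = ε * B x y
  skew : ∀ x y, B (N x) y = -B x (N y)

theorem pow_pow_apply (N : End F V) (i j : ℕ) (x : V) : (N ^ i) ((N ^ j) x) = (N ^ (i + j)) x := by
  rw [pow_add]; rfl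

theorem SK.pow_left (h : SK B ε N) (i : ℕ) (x y : V) :
    B ((N ^ i) x) y = (-1) ^ i * B x ((N ^ i) y) := by
  induction i generalizing y with
  | zero => simp
  | succ i ih => rw [pow_succ', End.mul_apply, h.skew, ih, pow_succ, ← End.mul_apply, ← pow_succ,
      ← pow_succ']; ring

theorem SK.swap (h : SK B ε N) (i : ℕ) (x y : V) :
    B y ((N ^ i) x) = (-1) ^ i * ε * B x ((N ^ i) y) := by
  rw [h.symm, h.pow_left]; ring

theorem SK.sign (h : SK B ε N) (i : ℕ) : (-1) ^ i * ε = 1 ∨ (-1) ^ i * ε = -1 :=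
  mul_self_eq_one_iff.1 (by rw [mul_mul_mul_comm, h.eps, ← mul_pow]; simp)

theorem SK.self_eq_zero (h : SK B ε N) {i : ℕ} (hi : (-1) ^ i * ε = -1) (x : V) :
    B x ((N ^ i) x) = 0 := by
  have := h.swap i x x
  rw [hi] at this
  exact (mul_eq_zero.1 (by linear_combination this)).resolve_left h.two

variable {W : Submodule F V} {r : ℕ}

theorem pow_mem (hW : ∀ w ∈ W, N w ∈ W) (i : ℕ) {w : V} (hw : w ∈ W) : (N ^ i) w ∈ W :=
  End.pow_apply_mem_of_forall_mem i hW w hw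

theorem pow_eq_zero (hr : ∀ w ∈ W, (N ^ (r + 1)) w = 0) {i : ℕ} (hi : r < i) {w : V} (hw : w ∈ W) :
    (N ^ i) w = 0 := by
  obtain ⟨j, rfl⟩ := Nat.exists_eq_add_of_le' hi
  rw [← pow_pow_apply, hr w hw, map_zero]

theorem SK.exists_iso (h : SK B ε N) (hW : ∀ w ∈ W, N w ∈ W) (hr : ∀ w ∈ W, (N ^ (r + 1)) w = 0)
    {x z : V} (hx : x ∈ W) (hz : z ∈ W) (h0 : B x ((N ^ r) z) ≠ 0) :
    ∃ y, (y ∈ W ∧ (N ^ r) y = (N ^ r) x ∧ ∀ u, (∀ i, B u ((N ^ i) z) = 0) →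
      ∀ i, B u ((N ^ i) y) = B u ((N ^ i) x)) ∧ ∀ j < r, B y ((N ^ j) y) = 0 := by
  refine adjust _ (fun y j => B y ((N ^ j) y)) 0 r (fun y j hj ⟨h1, h2, h3⟩ => ?_)
    ⟨hx, rfl, fun _ _ _ => rfl⟩
  obtain e | e := h.sign j
  swap
  · exact ⟨y, ⟨h1, h2, h3⟩, h.self_eq_zero e y, fun _ _ => rfl⟩
  obtain ⟨d, rfl⟩ := Nat.exists_eq_add_of_lt hj
  have h4 : B y ((N ^ (j + d + 1)) z) = B x ((N ^ (j + d + 1)) z) := by rw [h.swap, h2, ← h.swap]
  refine ⟨y - (B y ((N ^ j) y) / (2 * B x ((N ^ (j + d + 1)) z))) • (N ^ (d + 1)) z,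
    ⟨sub_mem h1 (smul_mem _ _ (pow_mem hW _ hz)), ?_, fun u hu i => ?_⟩, ?_, fun i hi => ?_⟩
  · rw [map_sub, map_smul, pow_pow_apply, pow_eq_zero hr (show j + d + 1 < j + d + 1 + (d + 1) by omega) hz, h2, smul_zero, sub_zero]
  · simp [pow_pow_apply, hu, h3 u hu]
  · have h5 := h.two
    have h6 : (-1) ^ (d + 1) * B z ((N ^ (d + 1 + j)) y) = B x ((N ^ (j + d + 1)) z) := by
      rw [h.swap, show d + 1 + j = j + d + 1 by omega, h4, add_assoc, pow_add _ j]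
      have hsq : (-1 : F) ^ (d + 1) * (-1) ^ (d + 1) = 1 := by rw [← mul_pow]; simp
      generalize (-1 : F) ^ (d + 1) = t at *
      linear_combination t * t * B x ((N ^ (j + (d + 1))) z) * e +
        B x ((N ^ (j + (d + 1))) z) * hsq
    simp only [map_sub, map_smul, LinearMap.sub_apply, LinearMap.smul_apply, smul_eq_mul,
      pow_pow_apply, h.pow_left, ← add_assoc j, h4, h6,
      pow_eq_zero hr (show j + d + 1 < d + 1 + (j + d + 1) by omega) hz, map_zero]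
    field_simp
    ring
  · simp [pow_pow_apply, h.pow_left, pow_eq_zero hr (show j + d + 1 < i + (d + 1) by omega) hz,
      pow_eq_zero hr (show j + d + 1 < d + 1 + i by omega) h1]

open Classical in
/-- The Gram matrix of a block. -/
noncomputable def gr (η c : F) (b b' : Bool) : F :=
  if η = 1 then (if b ∨ b' then 0 else c) else if b = b' then 0 else if b then -1 else 1

theorem SK.exists_aniso (h : SK B ε N) (hW : ∀ w ∈ W, N w ∈ W)
    (hs : ∀ w ∈ W, (∀ w' ∈ W, B w' w = 0) → w = 0) (e : (-1) ^ r * ε = 1) {w : V} (hw : w ∈ W)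
    (h0 : (N ^ r) w ≠ 0) : ∃ y ∈ W, B y ((N ^ r) y) ≠ 0 := by
  by_contra! h1
  refine h0 (hs _ (pow_mem hW r hw) fun w' hw' => ?_)
  have := h1 _ (add_mem hw hw')
  simp only [map_add, LinearMap.add_apply, h1 w hw, h1 w' hw', h.swap r w' w, e] at this
  exact (mul_eq_zero.1 (by linear_combination this)).resolve_left h.two

open Classical in
theorem SK.exists_block [Finite F] (h : SK B ε N) (hδ : ¬ IsSquare δ) (hW : ∀ w ∈ W, N w ∈ W)
    (hs : ∀ w ∈ W, (∀ w' ∈ W, B w' w = 0) → w = 0) (hr : ∀ w ∈ W, (N ^ (r + 1)) w = 0) {w : V}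
    (hw : w ∈ W) (h0 : (N ^ r) w ≠ 0) : ∃ (s : Bool) (x : Bool → V), (∀ b, x b ∈ W) ∧
      (∀ b b' j, B (x b) ((N ^ j) (x b')) =
        if j = r then gr ((-1) ^ r * ε) (if s then δ else 1) b b' else 0) ∧
      (s → (-1) ^ r * ε = 1 ∧ ∀ y ∈ W, B y ((N ^ r) y) ≠ 1) ∧ ((-1) ^ r * ε = 1 → x true = 0) := by
  have hδ0 : δ ≠ 0 := by rintro rfl; simp at hδ
  obtain e | e := h.sign r
  · obtain ⟨s, y, h1, h2, h3⟩ : ∃ (s : Bool), ∃ y ∈ W, B y ((N ^ r) y) = (if s then δ else 1) ∧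
        (s → ∀ y ∈ W, B y ((N ^ r) y) ≠ 1) := by
      by_cases h1 : ∃ y ∈ W, B y ((N ^ r) y) = 1
      · exact ⟨false, by simpa using h1⟩
      obtain ⟨y, hy, h2⟩ := h.exists_aniso hW hs e hw h0
      have h3 : ∀ c : F, c ≠ 0 → IsSquare (c * B y ((N ^ r) y)) → ∃ y ∈ W, B y ((N ^ r) y) = c :=
        fun c hc ⟨t, ht⟩ => ⟨(t / B y ((N ^ r) y)) • y, smul_mem _ _ hy, by
          simp only [map_smul, LinearMap.smul_apply, smul_eq_mul]
          field_simp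
          linear_combination -ht⟩
      obtain ⟨y', h4, h5⟩ := h3 δ hδ0 (by
        rw [← H13.sgn_eq_one_iff, H13.sgn_mul hδ0 h2, H13.sgn_eq_neg_one_iff.2 hδ,
          H13.sgn_eq_neg_one_iff.2 fun e => h1 (h3 1 one_ne_zero (by simpa))]
        simp)
      exact ⟨true, y', h4, h5, fun _ => by simpa using h1⟩
    obtain ⟨x, ⟨h4, h5, -⟩, h6⟩ := h.exists_iso hW hr h1 h1 (by rw [h2]; split_ifs <;> simp [hδ0])
    refine ⟨s, fun b => if b then 0 else x, fun b => by cases b <;> simp [h4], fun b b' j => ?_,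
      fun e' => ⟨e, h3 e'⟩, fun _ => rfl⟩
    cases b <;> cases b' <;> simp [gr, e]
    rcases lt_trichotomy j r with e1 | rfl | e1
    · simp [h6 j e1, e1.ne]
    · rw [if_pos rfl, h5, h.swap, h5, e, h2, one_mul]
    · simp [pow_eq_zero hr e1 h4, e1.ne']
  have e' : (-1) ^ r * ε ≠ 1 := fun e' => h.two (by linear_combination e - e')
  obtain ⟨y, hy, h1⟩ : ∃ y ∈ W, B y ((N ^ r) w) ≠ 0 := by
    by_contra! h1
    exact h0 (hs _ (pow_mem hW r hw) h1)
  obtain ⟨x, ⟨h2, h3, -⟩, h4⟩ := h.exists_iso hW hr hy hw h1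
  have h5 : ∀ j, B x ((N ^ j) x) = 0 := fun j => by
    rcases lt_trichotomy j r with e1 | rfl | e1
    exacts [h4 j e1, h.self_eq_zero e x, by simp [pow_eq_zero hr e1 h2]]
  have h6 : B x ((N ^ r) w) ≠ 0 := by rwa [h.swap, h3, ← h.swap]
  obtain ⟨z, ⟨h7, h8⟩, h9⟩ := adjust (fun z => z ∈ W ∧ B x ((N ^ r) z) = 1)
    (fun z j => B x ((N ^ j) z)) 0 r (fun z j hj ⟨h7, h8⟩ => by
      obtain ⟨d, rfl⟩ := Nat.exists_eq_add_of_lt hj
      refine ⟨z - B x ((N ^ j) z) • (N ^ (d + 1)) z, ⟨sub_mem h7 (smul_mem _ _ (pow_mem hW _ h7)), ?_⟩,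
        ?_, fun i hi => ?_⟩
      · simp [pow_pow_apply, pow_eq_zero hr (show j + d + 1 < j + d + 1 + (d + 1) by omega) h7, h8]
      · simp [pow_pow_apply, ← add_assoc, h8]
      · simp [pow_pow_apply, pow_eq_zero hr (show j + d + 1 < i + (d + 1) by omega) h7])
    (x := (B x ((N ^ r) w))⁻¹ • w) ⟨smul_mem _ _ hw, by simp [h6]⟩
  obtain ⟨z', ⟨h10, h11, h12⟩, h13⟩ := h.exists_iso hW hr h7 h2 (by rw [h.swap, e, h8]; simp)
  have h14 : ∀ j, B x ((N ^ j) z') = if j = r then 1 else 0 := fun j => by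
    rw [h12 x h5]
    rcases lt_trichotomy j r with e1 | rfl | e1
    exacts [by simp [h9 j e1, e1.ne], by simp [h8], by simp [pow_eq_zero hr e1 h7, e1.ne']]
  refine ⟨false, fun b => if b then z' else x, fun b => by cases b <;> assumption, fun b b' j => ?_,
    by simp, fun e => absurd e e'⟩
  cases b <;> cases b' <;> simp [gr, e', h5, h14]
  · rw [h.swap, h14]
    split_ifs with e1 <;> simp [e1, e]
  · rcases lt_trichotomy j r with e1 | rfl | e1
    exacts [h13 j e1, h.self_eq_zero e _, by simp [pow_eq_zero hr e1 h10]]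

open Classical in
/-- A generating family in normal form. -/
structure Fam (B : V →ₗ[F] V →ₗ[F] F) (ε δ : F) (N : End F V) (W : Submodule F V) {ι : Type*}
    (r : ι → ℕ) (s : ι → Bool) (x : ι → Bool → V) : Prop where
  mem : ∀ i b, x i b ∈ W
  gen : W ≤ span F (Set.range fun p : ι × Bool × ℕ => (N ^ p.2.2) (x p.1 p.2.1))
  gram : ∀ i b l b' j, B (x i b) ((N ^ j) (x l b')) =
    if i = l ∧ j = r i then gr ((-1) ^ r i * ε) (if s i then δ else 1) b b' else 0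
  sgn : ∀ i, s i → (-1) ^ r i * ε = 1 ∧ ∀ l, s l → r l = r i → l = i

theorem gr_ne (hδ : δ ≠ 0) (η : F) (s : Bool) : ∃ b, gr η (if s then δ else 1) false b ≠ 0 := by
  by_cases h : η = 1
  · exact ⟨false, by cases s <;> simp [gr, h, hδ]⟩
  · exact ⟨true, by simp [gr, h]⟩

theorem SK.exists_fam [Finite F] [FiniteDimensional F V] (h : SK B ε N) (hδ : ¬ IsSquare δ)
    (h0 : ∃ k, ∀ w ∈ W, (N ^ k) w = 0) (hW : ∀ w ∈ W, N w ∈ W)
    (hs : ∀ w ∈ W, (∀ w' ∈ W, B w' w = 0) → w = 0) :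
    ∃ (ι : Type) (_ : Fintype ι) (r : ι → ℕ) (s : ι → Bool) (x : ι → Bool → V), Fam B ε δ N W r s x := by
  classical
  have hδ0 : δ ≠ 0 := by rintro rfl; simp at hδ
  induction hn : finrank F W using Nat.strong_induction_on generalizing W with
  | _ n ih =>
  rcases e : Nat.find h0 with _ | r
  · exact ⟨Empty, inferInstance, nofun, nofun, nofun, nofun,
      fun w hw => by simp [show w = 0 by simpa [e] using Nat.find_spec h0 w hw], nofun, nofun⟩
  have hr := e ▸ Nat.find_spec h0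
  obtain ⟨w, hw, h1⟩ : ∃ w ∈ W, (N ^ r) w ≠ 0 := by
    simpa using Nat.find_min h0 (e ▸ r.lt_succ_self)
  obtain ⟨s₀, x₀, h2, h3, h4, h5⟩ := h.exists_block hδ hW hs hr hw h1
  let W' : Submodule F V := W ⊓ ⨅ b, ⨅ j, LinearMap.ker (B (x₀ b) ∘ₗ (N ^ j))
  have h6 : ∀ w, w ∈ W' ↔ w ∈ W ∧ ∀ b j, B (x₀ b) ((N ^ j) w) = 0 := fun w => by simp [W']
  have h7 : ∀ w ∈ W, ∃ y, (y ∈ W ∧ w - y ∈ span F (Set.range fun p : Bool × ℕ => (N ^ p.2) (x₀ p.1))) ∧
      ∀ j < r + 1, (fun b => B (x₀ b) ((N ^ j) y)) = 0 := fun w hw => by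
    refine adjust _ (fun y j b => B (x₀ b) ((N ^ j) y)) 0 _ (fun y j hj ⟨h8, h9⟩ => ?_) ⟨hw, by simp⟩
    obtain ⟨d, rfl⟩ := Nat.exists_eq_add_of_le (Nat.le_of_lt_succ hj)
    obtain ⟨t, t', ht⟩ : ∃ t t', ∀ b, B (x₀ b) ((N ^ j) y) =
        t * gr ((-1) ^ (j + d) * ε) (if s₀ then δ else 1) b false +
        t' * gr ((-1) ^ (j + d) * ε) (if s₀ then δ else 1) b true := by
      by_cases e : (-1) ^ (j + d) * ε = 1
      · refine ⟨B (x₀ false) ((N ^ j) y) / (if s₀ then δ else 1), 0, ?_⟩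
        cases s₀ <;> simp [gr, e, h5 e, hδ0]
      · exact ⟨-B (x₀ true) ((N ^ j) y), B (x₀ false) ((N ^ j) y), by simp [gr, e]⟩
    refine ⟨y - (t • (N ^ d) (x₀ false) + t' • (N ^ d) (x₀ true)), ⟨sub_mem h8 (add_mem
      (smul_mem _ _ (pow_mem hW _ (h2 _))) (smul_mem _ _ (pow_mem hW _ (h2 _)))), ?_⟩,
      funext fun b => by simp [pow_pow_apply, h3, ht b],
      fun i hi => funext fun b => by simp [pow_pow_apply, h3, hi.ne']⟩
    rw [← sub_add]
    exact add_mem h9 (add_mem (smul_mem _ _ (subset_span ⟨(false, d), rfl⟩))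
      (smul_mem _ _ (subset_span ⟨(true, d), rfl⟩)))
  replace h7 : ∀ w ∈ W, ∃ y ∈ W', w - y ∈ span F (Set.range fun p : Bool × ℕ => (N ^ p.2) (x₀ p.1)) :=
    fun w hw => (h7 w hw).imp fun y ⟨⟨h8, h9⟩, h10⟩ => ⟨(h6 y).2 ⟨h8, fun b j => by
      rcases lt_or_ge j (r + 1) with e | e
      exacts [congrFun (h10 j e) b, by simp [pow_eq_zero hr e h8]]⟩, h9⟩
  have h8 : ∀ w ∈ W', N w ∈ W' := fun w hw => (h6 _).2 ⟨hW w hw.1, fun b j => by
    rw [← End.mul_apply, ← pow_succ, ((h6 w).1 hw).2]⟩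
  have h9 : ∀ w ∈ W', (∀ w' ∈ W', B w' w = 0) → w = 0 := fun w hw h9 => hs w hw.1 fun w' hw' => by
    obtain ⟨y, h10, h11⟩ := h7 w' hw'
    rw [← sub_add_cancel w' y, map_add, LinearMap.add_apply, h9 y h10, add_zero]
    refine span_le (p := LinearMap.ker (B.flip w)).2 ?_ h11
    rintro _ ⟨p, rfl⟩
    simp [h.pow_left, ((h6 w).1 hw).2]
  obtain ⟨b₀, h10⟩ := gr_ne hδ0 ((-1) ^ r * ε) s₀
  obtain ⟨ι, _, ρ, s, x, H⟩ := ih _ (hn ▸ finrank_lt_finrank_of_lt (lt_of_le_of_ne inf_le_left fun e =>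
    h10 (by simpa [h3] using ((h6 _).1 (e.ge (h2 b₀))).2 false r))) ⟨_, fun w hw => hr w ((h6 w).1 hw).1⟩ h8 h9 rfl
  have h11 : ∀ i, s₀ → ρ i ≠ r := fun i e1 e2 => by
    obtain ⟨e3, e4⟩ := h4 e1
    obtain ⟨b, hb⟩ := gr_ne hδ0 ((-1) ^ ρ i * ε) (s i)
    obtain ⟨y, hy, h11⟩ := h.exists_aniso h8 h9 e3 (H.mem i b) fun e => hb (by
      simpa [e2, e] using (H.gram i false i b r).symm)
    obtain ⟨u, v, huv⟩ := H13.exists_mul_sq_add_mul_sq_eq hδ0 h11 1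
    refine e4 (u • x₀ false + v • y) (add_mem (smul_mem _ _ (h2 _)) (smul_mem _ _ hy.1)) ?_
    simp [h3, gr, e1, e3, ((h6 y).1 hy).2, h.swap r (x₀ false) y]
    linear_combination huv
  refine ⟨Option ι, inferInstance, fun o => o.elim r ρ, fun o => o.elim s₀ s, fun o => o.elim x₀ x,
    ?_, fun w hw => ?_, ?_, ?_⟩
  · rintro (_ | i) b
    exacts [h2 b, (H.mem i b).1]
  · obtain ⟨y, h12, h13⟩ := h7 w hw
    rw [← sub_add_cancel w y]
    refine add_mem (span_mono ?_ h13) (span_mono ?_ (H.gen h12))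
    · rintro _ ⟨p, rfl⟩; exact ⟨(none, p), rfl⟩
    · rintro _ ⟨p, rfl⟩; exact ⟨(some p.1, p.2), rfl⟩
  · rintro (_ | i) b (_ | l) b' j
    · simp only [Option.elim, h3, true_and]
      congr
    · simp [((h6 _).1 (H.mem l b')).2]
    · simp [h.swap j (x₀ b'), ((h6 _).1 (H.mem i b)).2]
    · simp only [Option.elim, H.gram, Option.some.injEq]
      congr
  · rintro (_ | i) e
    · refine ⟨(h4 e).1, ?_⟩
      rintro (_ | l) _ e2
      exacts [rfl, absurd e2 (h11 l e)]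
    · refine ⟨(H.sgn i e).1, ?_⟩
      rintro (_ | l) e1 e2
      exacts [absurd e2.symm (h11 i e1), congrArg some ((H.sgn i e).2 l e1 e2)]

end Cfsg.Agent.H7.WU
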