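import Cfsg.Agent.H7.WU1

/-!
Normal forms of isometries of symmetric and alternating forms in odd characteristic.
-/

set_option autoImplicit false
set_option linter.dupNamespace false

namespace Cfsg.Agent.H7.WU

open Module Submodule

variable {F V : Type*} [Field F] [AddCommGroup V] [Module F V] {B : V →ₗ[F] V →ₗ[F] F} {ε δ : F}
  {a b : End F V}

/-- An isometry `a` with inverse `b` of a non-degenerate `ε`-symmetric form. -/
structure IS (B : V →ₗ[F] V →ₗ[F] F) (ε : F) (a b : End F V) : Prop where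
  two : (2 : F) ≠ 0
  eps : ε * ε = 1
  symm : ∀ x y, B y x = ε * B x y
  sep : ∀ x, (∀ y, B y x = 0) → x = 0
  pres : ∀ x y, B (a x) (a y) = B x y
  ab : a * b = 1
  ba : b * a = 1

theorem IS.ab' (h : IS B ε a b) (x : V) : a (b x) = x := LinearMap.congr_fun h.ab x

theorem IS.ba' (h : IS B ε a b) (x : V) : b (a x) = x := LinearMap.congr_fun h.ba x

theorem IS.sk (h : IS B ε a b) : SK B ε (a - b) := ⟨h.two, h.eps, h.symm, fun x y => by
  have h1 := h.pres x (b y)
  have h2 := h.pres (b x) y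
  simp only [h.ab'] at h1 h2
  simp [h1, h2]⟩

theorem IS.comm (h : IS B ε a b) : Commute a b := h.ab.trans h.ba.symm

theorem orth_of_pow (h : ∀ x y, B (a x) (a y) = B x y) {c d : F} (hc : c * d ≠ 1) (i j : ℕ) (x y : V)
    (hx : ((a - c • 1) ^ i) x = 0) (hy : ((a - d • 1) ^ j) y = 0) : B x y = 0 := by
  induction i generalizing j x y with
  | zero => simp [show x = 0 from hx]
  | succ i ih =>
  induction j generalizing y with
  | zero => simp [show y = 0 from hy]
  | succ j ih' =>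
  rw [pow_succ, End.mul_apply] at hx
  have h1 := ih _ _ _ hx hy
  rw [pow_succ, End.mul_apply] at hy
  have h2 := ih' _ hy
  have h3 := ih _ _ _ hx hy
  simp [h x y] at h1 h2 h3
  exact (mul_eq_zero.1 (by linear_combination h3 + d * h1 + c * h2)).resolve_left (sub_ne_zero.2 hc.symm)

/-- The eigenvalue attached to a label. -/
def sg (F : Type*) [Field F] (t : Bool) : F := if t then -1 else 1

theorem sg_mul_self (t : Bool) : sg F t * sg F t = 1 := by cases t <;> simp [sg]

theorem IS.orth (h : IS B ε a b) {t t' : Bool} (ht : t ≠ t') {x y : V}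
    (hx : x ∈ a.maxGenEigenspace (sg F t)) (hy : y ∈ a.maxGenEigenspace (sg F t')) : B x y = 0 := by
  obtain ⟨i, hx⟩ := (End.mem_maxGenEigenspace _ _ _).1 hx
  obtain ⟨j, hy⟩ := (End.mem_maxGenEigenspace _ _ _).1 hy
  refine orth_of_pow h.pres (fun e => h.two ?_) i j x y hx hy
  cases t <;> cases t' <;> simp [sg] at e ht <;> linear_combination -e

theorem IS.pow_eq (h : IS B ε a b) {c : F} (hc : c * c = 1) (k : ℕ) :
    (a - b) ^ k = b ^ k * ((a - (-c) • 1) ^ k * (a - c • 1) ^ k) := by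
  have h1 : ∀ c : F, Commute b (a - c • 1) := fun c => 
    h.comm.symm.sub_right ((Commute.one_right _).smul_right _)
  have h2 : Commute (a - (-c) • 1) (a - c • 1) := ((Commute.refl a).sub_right
    ((Commute.one_right _).smul_right _)).sub_left ((Commute.one_left _).smul_left _)
  rw [← h2.mul_pow, ← ((h1 _).mul_right (h1 _)).mul_pow]
  congr 1
  simp [mul_sub, sub_mul, mul_add, add_mul, ← mul_assoc, h.ba, smul_smul, hc]
  abel

theorem IS.mem_N (h : IS B ε a b) {c : F} {x : V} (hx : x ∈ a.maxGenEigenspace c) :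
    (a - b) x ∈ a.maxGenEigenspace c :=
  End.mapsTo_maxGenEigenspace_of_comm ((Commute.refl a).sub_right h.comm) c hx

open Classical in
/-- A normal form for the isometry `a`. -/
structure Dec (B : V →ₗ[F] V →ₗ[F] F) (ε δ : F) (a b : End F V) {ι : Type*} (r : ι → ℕ)
    (s t : ι → Bool) (x : ι → Bool → V) (R : Submodule F V) : Prop where
  mem : ∀ i u, x i u ∈ a.maxGenEigenspace (sg F (t i))
  gram : ∀ i u l u' j, B (x i u) (((a - b) ^ j) (x l u')) =
    if i = l ∧ j = r i then gr ((-1) ^ r i * ε) (if s i then δ else 1) u u' else 0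
  sgn : ∀ i, s i → (-1) ^ r i * ε = 1 ∧ ∀ l, s l → r l = r i → t l = t i → l = i
  inv : ∀ y ∈ R, a y ∈ R
  inv' : ∀ y ∈ R, b y ∈ R
  orth : ∀ t, ∀ x ∈ a.maxGenEigenspace (sg F t), ∀ y ∈ R, B x y = 0
  inj : ∀ y ∈ R, a (a y) = y → y = 0
  gen : ⊤ ≤ span F (Set.range fun p : ι × Bool × ℕ => ((a - b) ^ p.2.2) (x p.1 p.2.1)) ⊔ R

open Polynomial in
theorem IS.exists_dec [Finite F] [FiniteDimensional F V] (h : IS B ε a b) (hδ : ¬ IsSquare δ) :
    ∃ (ι : Type) (_ : Fintype ι) (r : ι → ℕ) (s t : ι → Bool) (x : ι → Bool → V) (R : Submodule F V),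
      Dec B ε δ a b r s t x R := by
  have h0 := (a - b).isCompl_iSup_ker_pow_iInf_range_pow
  set R := ⨅ n, LinearMap.range ((a - b) ^ n)
  have h1 : ∀ t, ∀ x ∈ a.maxGenEigenspace (sg F t), ((a - b) ^ finrank F V) x = 0 := fun t x hx => by
    obtain ⟨i, hx⟩ := (End.mem_maxGenEigenspace _ _ _).1 hx
    exact End.ker_pow_le_ker_pow_finrank _ i (by simp [h.pow_eq (sg_mul_self t), hx])
  have h2 : ∀ t, ∀ x ∈ a.maxGenEigenspace (sg F t), ∀ y ∈ R, B x y = 0 := fun t x hx y hy => by
    obtain ⟨y, rfl⟩ := (mem_iInf _).1 hy (finrank F V)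
    simpa [h1 t x hx] using (h.sk.pow_left (finrank F V) x y).symm
  have h3 : ⊤ ≤ (a.maxGenEigenspace (sg F true) ⊔ a.maxGenEigenspace (sg F false)) ⊔ R := by
    refine h0.codisjoint.top_le.trans (sup_le_sup_right (iSup_le fun k => ?_) _)
    refine le_trans ?_ ((sup_ker_aeval_eq_ker_aeval_mul_of_coprime a (p := (X - C (-1)) ^ k)
      (q := (X - C 1) ^ k) (isCoprime_X_sub_C_of_isUnit_sub ?_).pow).ge.trans (sup_le_sup ?_ ?_))
    · intro x hx
      have := congrArg (a ^ k) (LinearMap.mem_ker.1 hx)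
      rw [h.pow_eq (mul_one 1), ← End.mul_apply, ← mul_assoc, ← h.comm.mul_pow, h.ab] at this
      simpa using this
    · exact Ne.isUnit fun e => h.two (by linear_combination -e)
    all_goals exact fun x hx => (End.mem_maxGenEigenspace _ _ _).2 ⟨k, by simpa [sg] using hx⟩
  have h4 := fun t => h.sk.exists_fam hδ ⟨_, h1 t⟩ (fun w => h.mem_N) fun w hw hw' => h.sep w fun y => by
    refine (show _ ≤ LinearMap.ker (B.flip w) from sup_le (sup_le ?_ ?_) fun y hy => ?_) (h3 (mem_top (x := y)))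
    · intro y hy
      cases t
      exacts [h.orth (by simp) hy hw, hw' y hy]
    · intro y hy
      cases t
      exacts [hw' y hy, h.orth (by simp) hy hw]
    · simp [h.symm w, h2 t w hw y hy]
  choose ι _ r s x H using h4
  have h5 : ∀ {c : End F V}, Commute c (a - b) → ∀ y ∈ R, c y ∈ R := fun hc y hy =>
    (mem_iInf _).2 fun k => by
      obtain ⟨y, rfl⟩ := (mem_iInf _).1 hy k
      exact ⟨_, LinearMap.congr_fun (hc.pow_right k).symm.eq y⟩
  refine ⟨Σ t, ι t, inferInstance, fun p => r _ p.2, fun p => s _ p.2, fun p => p.1, fun p => x _ p.2, R,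
    fun p => (H _).mem p.2, ?_, ?_, h5 ((Commute.refl a).sub_right h.comm),
    h5 (h.comm.symm.sub_right (.refl b)), h2, fun y hy e => ?_, h3.trans (sup_le_sup_right ?_ _)⟩
  · rintro ⟨t, i⟩ u ⟨t', l⟩ u' j
    by_cases e : t = t'
    · subst e
      rw [(H t).gram]
      by_cases e : i = l <;> simp [e]
    · rw [h.orth e ((H t).mem i u) (pow_mem (fun w => h.mem_N) j ((H t').mem l u')), if_neg]
      simp [e]
  · rintro ⟨t, i⟩ e
    refine ⟨((H t).sgn i e).1, ?_⟩
    rintro ⟨t', l⟩ e1 e2 rfl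
    rw [((H _).sgn i e).2 l e1 e2]
  · refine disjoint_def.1 h0.disjoint y (mem_iSup_of_mem 1 ?_) hy
    have := h.ba' (a y)
    rw [e] at this
    simp [this]
  · refine sup_le ((H _).gen.trans (span_mono ?_)) ((H _).gen.trans (span_mono ?_))
    all_goals rintro _ ⟨p, rfl⟩; exact ⟨(⟨_, p.1⟩, p.2), rfl⟩

variable {ι : Type*} {r : ι → ℕ} {s t : ι → Bool} {x : ι → Bool → V} {R : Submodule F V}

theorem Dec.pow_mem (h : IS B ε a b) (D : Dec B ε δ a b r s t x R) (i u j) :
    ((a - b) ^ j) (x i u) ∈ a.maxGenEigenspace (sg F (t i)) :=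
  WU.pow_mem (fun _ => h.mem_N) j (D.mem i u)

theorem Dec.pow_mem' (D : Dec B ε δ a b r s t x R) (j : ℕ) {y : V} (hy : y ∈ R) : ((a - b) ^ j) y ∈ R :=
  WU.pow_mem (fun y hy => sub_mem (D.inv y hy) (D.inv' y hy)) j hy

theorem Dec.eq_zero (h : IS B ε a b) (D : Dec B ε δ a b r s t x R) {y : V}
    (h1 : ∀ i u j, B (((a - b) ^ j) (x i u)) y = 0) (h2 : ∀ z ∈ R, B z y = 0) : y = 0 :=
  h.sep y fun z => (show _ ≤ LinearMap.ker (B.flip y) from
    sup_le (span_le.2 (by rintro _ ⟨p, rfl⟩; exact h1 _ _ _)) h2) (D.gen (mem_top (x := z)))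

/-- The index set of the basis attached to a normal form. -/
abbrev JI (ε : F) (r : ι → ℕ) := Σ i : ι, {u : Bool // (-1) ^ r i * ε = 1 → u = false} × Fin (r i + 1)

open Classical in
theorem gr_bar {η c : F} (hc : c ≠ 0) {u u' : Bool} (hu : η = 1 → u = false) (hu' : η = 1 → u' = false) :
    gr η c (if η = 1 then false else !u) u' = 0 ↔ u' ≠ u := by
  by_cases e : η = 1
  · simp [gr, e, hu e, hu' e, hc]
  · cases u <;> cases u' <;> simp [gr, e]

theorem Dec.exists_basis [Finite ι] (h : IS B ε a b) (hδ : δ ≠ 0) (D : Dec B ε δ a b r s t x R)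
    {κ : Type*} [Finite κ] (β : Basis κ F R) : ∃ bs : Basis (JI ε r ⊕ κ) F V,
      ⇑bs = Sum.elim (fun p => ((a - b) ^ p.2.2.1) (x p.1 p.2.1)) fun k => β k := by
  classical
  have := Fintype.ofFinite κ
  have := Fintype.ofFinite (JI ε r)
  refine ⟨.mk (Fintype.linearIndependent_iff.2 fun g hg => ?_) (D.gen.trans (sup_le (span_le.2 ?_)
    fun y hy => ?_)), Basis.coe_mk _ _⟩
  · have h1 : ∀ p, g (.inl p) = 0 := fun ⟨i, u, j⟩ => by
      have h2 : (if s i then δ else 1) ≠ 0 := by split_ifs <;> simp [hδ]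
      have := congrArg (fun y => B (x i (if (-1) ^ r i * ε = 1 then false else !u))
        (((a - b) ^ (r i - j)) y)) hg
      simp only [Fintype.sum_sum_type, map_add, map_sum, map_smul, Sum.elim_inl, Sum.elim_inr,
        pow_pow_apply, D.gram, D.orth _ _ (D.mem _ _) _ (D.pow_mem' _ (β _).2), smul_eq_mul, mul_zero,
        Finset.sum_const_zero, add_zero, map_zero] at this
      rw [Finset.sum_eq_single ⟨i, u, j⟩ _ (by simp), if_pos ⟨rfl, by simp; omega⟩, mul_eq_zero,
        gr_bar h2 u.2 u.2] at this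
      · simpa using this
      · rintro ⟨l, u', j'⟩ - e
        refine mul_eq_zero_of_right _ (ite_eq_right_iff.2 ?_)
        rintro ⟨rfl, e1⟩
        obtain rfl : j' = j := Fin.ext (by simp at e1; omega)
        exact (gr_bar h2 u.2 u'.2).2 fun e2 => e (by rw [Subtype.ext e2])
    rintro (p | k)
    · exact h1 p
    · refine Fintype.linearIndependent_iff.1 β.linearIndependent (fun k => g (.inr k)) ?_ k
      simpa [h1, Subtype.ext_iff] using hg
  · rintro _ ⟨⟨i, u, j⟩, rfl⟩
    by_cases e : ((-1) ^ r i * ε = 1 → u = false) ∧ j < r i + 1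
    · exact subset_span ⟨.inl ⟨i, ⟨u, e.1⟩, ⟨j, e.2⟩⟩, rfl⟩
    refine (congrArg (· ∈ _) (D.eq_zero h (y := ((a - b) ^ j) (x i u)) (fun l u' k => ?_)
      fun z hz => ?_)).mpr (zero_mem _)
    · rw [h.sk.pow_left, pow_pow_apply, D.gram]
      refine mul_eq_zero_of_right _ (ite_eq_right_iff.2 ?_)
      rintro ⟨rfl, e1⟩
      simp only [show j < r l + 1 by omega, and_true, Classical.not_imp] at e
      simp [gr, e]
    · rw [h.symm, D.orth _ _ (D.pow_mem h _ _ _) _ hz, mul_zero]
  · rw [show y = _ from (congrArg Subtype.val (β.sum_repr ⟨y, hy⟩)).symm, coe_sum]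
    exact sum_mem fun k _ => smul_mem _ _ (subset_span ⟨.inr k, rfl⟩)

open Classical in
/-- The dimension of a block. -/
noncomputable def wt (ε : F) (r : ℕ) : ℕ := if (-1) ^ r * ε = 1 then r + 1 else 2 * (r + 1)

theorem Dec.finrank_eq [Fintype ι] [FiniteDimensional F V] (h : IS B ε a b) (hδ : δ ≠ 0)
    (D : Dec B ε δ a b r s t x R) : finrank F V = ∑ i, wt ε (r i) + finrank F R := by
  obtain ⟨bs, -⟩ := D.exists_basis h hδ (finBasis F R)
  rw [finrank_eq_nat_card_basis bs, Nat.card_sum, Nat.card_sigma, Nat.card_fin]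
  congr 1
  refine Finset.sum_congr rfl fun i _ => ?_
  by_cases e : (-1) ^ r i * ε = 1 <;> simp [wt, e]

end Cfsg.Agent.H7.WU
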