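import Cfsg.Agent.H7.WU2

/-!
Isometries with the same normal form are conjugate.
-/

set_option autoImplicit false
set_option linter.dupNamespace false

namespace Cfsg.Agent.H7.WU

open Module Submodule H28

variable {F V V' : Type*} [Field F] [AddCommGroup V] [Module F V] [AddCommGroup V'] [Module F V']
  {B : V →ₗ[F] V →ₗ[F] F} {B' : V' →ₗ[F] V' →ₗ[F] F} {ε δ : F} {a b : End F V} {a' b' : End F V'}

theorem pair_eq_zero {P : V →ₗ[F] V' →ₗ[F] F} (h : ∀ x y, P (a x) y = -P x (a' y)) {c d : F}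
    (hc : c + d ≠ 0) (i j : ℕ) (x : V) (y : V') (hx : ((a - c • 1) ^ i) x = 0)
    (hy : ((a' - d • 1) ^ j) y = 0) : P x y = 0 := by
  induction i generalizing j x y with
  | zero => simp [show x = 0 from hx]
  | succ i ih =>
  induction j generalizing y with
  | zero => simp [show y = 0 from hy]
  | succ j ih' =>
  have h1 := ih _ _ _ (by rwa [pow_succ, End.mul_apply] at hx) hy
  have h2 := ih' _ (by rwa [pow_succ, End.mul_apply] at hy)
  simp [h x y] at h1 h2
  exact (mul_eq_zero.1 (by linear_combination -h1 - h2)).resolve_left hc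

variable {ι : Type*} {r : ι → ℕ} {s s' t : ι → Bool} {x : ι → Bool → V} {x' : ι → Bool → V'}
  {R : Submodule F V} {R' : Submodule F V'}

theorem Dec.nds (h : IS B ε a b) (D : Dec B ε δ a b r s t x R) : H13.NDS (H12.res B R) :=
  ⟨fun _ => rfl, fun y hy => Subtype.ext (D.eq_zero h
    (fun _ _ _ => D.orth _ _ (D.pow_mem h _ _ _) _ y.2) fun z hz => by
      rw [h.symm, show B y z = 0 from hy ⟨z, hz⟩, mul_zero])⟩

variable [Finite F] [FiniteDimensional F V] [FiniteDimensional F V'] [Finite ι]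

theorem Dec.exists_bases (h : IS B ε a b) (h' : IS B' ε a' b') (hδ : δ ≠ 0)
    (D : Dec B ε δ a b r s t x R) (D' : Dec B' ε δ a' b' r s' t x' R')
    (hR : ed (a.restrict D.inv) = ed (a'.restrict D'.inv)) :
    ∃ (φ : R ≃ₗ[F] R') (bs : Basis (JI ε r ⊕ Fin (finrank F R)) F V)
      (bs' : Basis (JI ε r ⊕ Fin (finrank F R)) F V'), (∀ y z : R, B' (φ y) (φ z) = B y z) ∧
      (∀ y, (φ (a.restrict D.inv y) : V') = a' (φ y)) ∧
      (⇑bs = Sum.elim (fun p => ((a - b) ^ p.2.2.1) (x p.1 p.2.1)) fun k => finBasis F R k) ∧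
      (⇑bs' = Sum.elim (fun p => ((a' - b') ^ p.2.2.1) (x' p.1 p.2.1)) fun k => φ (finBasis F R k)) ∧
      ∀ p p', p.elim (fun p => if s' p.1 then δ else 1) (fun _ => 1) * B (bs p) (bs p') =
        p.elim (fun p => if s p.1 then δ else 1) (fun _ => 1) * B' (bs' p) (bs' p') := by
  obtain ⟨φ, h1, h2⟩ := H13.wall_core (D.nds h) (D'.nds h') (fun x y => h.symm x y)
    (fun x y => h'.symm x y) (a := a.restrict D.inv) (b := a'.restrict D'.inv)
    (fun x y => h.pres x y) (fun x y => h'.pres x y) (sim_iff_ed.2 hR)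
    (.inr fun v hv => Subtype.ext (D.inj v v.2 (congrArg Subtype.val hv)))
  obtain ⟨bs, h3⟩ := D.exists_basis h hδ (finBasis F R)
  obtain ⟨bs', h4⟩ := D'.exists_basis h' hδ ((finBasis F R).map φ)
  refine ⟨φ, bs, bs', h1, fun y => congrArg Subtype.val (h2 y), h3, h4, ?_⟩
  rw [h3, h4]
  rintro (p | k) (p' | k')
  · simp only [Sum.elim_inl, h.sk.pow_left, h'.sk.pow_left, pow_pow_apply, D.gram, D'.gram]
    by_cases e : (-1) ^ r p.1 * ε = 1
    · simp only [gr, if_pos e]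
      split_ifs <;> ring
    · simp [mt (D.sgn p.1 · |>.1) e, mt (D'.sgn p.1 · |>.1) e]
  · simp [D.orth _ _ (D.pow_mem h _ _ _) _ (finBasis F R k').2,
      D'.orth _ _ (D'.pow_mem h' _ _ _) _ (φ _).2]
  · simp [h.symm _ (finBasis F R k), h'.symm _ (φ _), D.orth _ _ (D.pow_mem h _ _ _) _ (finBasis F R k).2,
      D'.orth _ _ (D'.pow_mem h' _ _ _) _ (φ _).2]
  · exact congrArg _ (h1 _ _).symm

theorem Dec.exists_iso (h : IS B ε a b) (h' : IS B' ε a' b') (hδ : δ ≠ 0)
    (D : Dec B ε δ a b r s t x R) (D' : Dec B' ε δ a' b' r s t x' R')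
    (hR : ed (a.restrict D.inv) = ed (a'.restrict D'.inv)) :
    ∃ e : V ≃ₗ[F] V', (∀ y z, B' (e y) (e z) = B y z) ∧ ∀ y, e (a y) = a' (e y) := by
  obtain ⟨φ, bs, bs', h1, h2, h3, h4, h5⟩ := D.exists_bases h h' hδ D' hR
  let e := bs.equiv bs' (.refl _)
  have e0 : ∀ y z, B' (e y) (e z) = B y z := fun y z => LinearMap.congr_fun₂
    (LinearMap.ext_basis bs bs (B := B'.compl₁₂ e.toLinearMap e.toLinearMap) (B' := B) fun p p' => by
      simpa [e] using (mul_left_cancel₀ (by rcases p with p | p <;> simp [apply_ite (· = (0 : F)), hδ]) (h5 p p')).symm) y z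
  have e1 : ∀ y : R, e y = φ y := fun y => LinearMap.congr_fun ((finBasis F R).ext
    (f₁ := e.toLinearMap ∘ₗ R.subtype) (f₂ := R'.subtype ∘ₗ φ.toLinearMap) fun k => by
      simpa [h3, h4] using bs.equiv_apply (.inr k) bs' (.refl _)) y
  have e2 : ∀ i u j, e (((a - b) ^ j) (x i u)) = ((a' - b') ^ j) (x' i u) := fun i u j => by
    refine sub_eq_zero.1 (h'.sep _ fun y => LinearMap.congr_fun (bs'.ext (f₁ := B'.flip _) (f₂ := 0)
      fun p => ?_) y)
    rw [LinearMap.flip_apply, map_sub, ← show e (bs p) = bs' p from bs.equiv_apply _ _ _, e0,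
      show e (bs p) = bs' p from bs.equiv_apply _ _ _, h3, h4]
    rcases p with p | k
    · simp [h.sk.pow_left, h'.sk.pow_left, pow_pow_apply, D.gram, D'.gram]
    · simp [h.symm _ (finBasis F R k), h'.symm _ (φ _), D'.orth _ _ (D'.pow_mem h' _ _ _) _ (φ _).2,
        D.orth _ _ (D.pow_mem h _ _ _) _ (finBasis F R k).2]
  have e3 : ∀ y ∈ R, e (a y) = a' (e y) := fun y hy => by
    rw [e1 ⟨y, hy⟩, ← h2, ← e1]; rfl
  have e4 : ∀ {f g : V →ₗ[F] V'}, (∀ i u j, f (((a - b) ^ j) (x i u)) = g (((a - b) ^ j) (x i u))) →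
      (∀ y ∈ R, f y = g y) → ∀ y, f y = g y := fun h1 h2 y =>
    (show _ ≤ LinearMap.eqLocus _ _ from
      sup_le (span_le.2 (by rintro _ ⟨p, rfl⟩; exact h1 _ _ _)) h2) (D.gen (mem_top (x := y)))
  have e5 := e4 (f := e.toLinearMap ∘ₗ (a - b)) (g := (a' - b') ∘ₗ e.toLinearMap) (fun i u j => by
    simp only [LinearMap.comp_apply, LinearEquiv.coe_coe, e2, ← End.mul_apply, ← pow_succ'])
    fun y hy => by
      have := e3 _ (D.inv' y hy)
      rw [h.ab'] at this
      simp [e3 y hy, this, h'.ba']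
  refine ⟨e, e0, e4 (f := e.toLinearMap ∘ₗ a) (g := a' ∘ₗ e.toLinearMap) (fun i u j => ?_) e3⟩
  have e6 := End.mapsTo_maxGenEigenspace_of_comm (.refl a) _ (D.pow_mem h i u j)
  have e7 := End.mapsTo_maxGenEigenspace_of_comm (.refl a') _ (D'.pow_mem h' i u j)
  refine sub_eq_zero.1 (D'.eq_zero h' (fun l u' k => ?_) fun z hz => ?_)
  · by_cases e8 : t l = t i
    · obtain ⟨m, hm⟩ := (End.mem_maxGenEigenspace _ _ _).1 (D.pow_mem h i u j)
      obtain ⟨m', hm'⟩ := (End.mem_maxGenEigenspace _ _ _).1 (D'.pow_mem h' l u' k)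
      refine pair_eq_zero (P := B'.flip ∘ₗ (e.toLinearMap ∘ₗ a - a' ∘ₗ e.toLinearMap)) (fun y z => ?_)
        (by rw [e8, ← two_mul]; cases t i <;> simp [sg, h.two]) _ _ _ _ hm hm'
      have := congrArg (B' z) (e5 (a y))
      have e9 := h'.pres z (b' (e (a y)))
      simp [h.ba', h'.ab', h'.pres] at this e9 ⊢
      linear_combination this + e9
    · simp only [LinearMap.comp_apply, LinearEquiv.coe_coe, map_sub]
      rw [e2, h'.orth e8 (D'.pow_mem h' _ _ _) e7, ← e2, e0, h.orth e8 (D.pow_mem h _ _ _) e6, sub_zero]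
  · obtain ⟨z, rfl⟩ : ∃ y : R, φ y = z := (φ.surjective ⟨z, hz⟩).imp fun _ => congrArg Subtype.val
    simp only [LinearMap.comp_apply, LinearEquiv.coe_coe, map_sub]
    rw [e2, h'.symm (a' _), D'.orth _ _ e7 _ hz, ← e1, e0, h.symm, D.orth _ _ e6 _ z.2, sub_self]

open Classical in
theorem Dec.even [Fintype ι] {B : V →ₗ[F] V →ₗ[F] F} {a b a' b' : End F V} {x x' : ι → Bool → V}
    {R R' : Submodule F V} (h : IS B 1 a b) (h' : IS B 1 a' b') (hδ : ¬ IsSquare δ)
    (D : Dec B 1 δ a b r s t x R) (D' : Dec B 1 δ a' b' r s' t x' R')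
    (hR : ed (a.restrict D.inv) = ed (a'.restrict D'.inv)) :
    Even ((Finset.univ.filter (s ·)).card + (Finset.univ.filter (s' ·)).card) := by
  have hδ0 : δ ≠ 0 := by rintro rfl; simp at hδ
  obtain ⟨φ, bs, bs', -, -, -, -, h5⟩ := D.exists_bases h h' hδ0 D' hR
  have h0 : ∀ (s : ι → Bool) (p : JI (1 : F) r ⊕ Fin (finrank F R)),
      p.elim (fun p => if s p.1 then δ else 1) (fun _ => 1) ≠ 0 := by
    rintro s (p | p) <;> simp [apply_ite (· = (0 : F)), hδ0]
  have h1 : ∀ s : ι → Bool, (∀ i, s i → (-1 : F) ^ r i * 1 = 1) → H13.sgn (∏ p : JI (1 : F) r ⊕ Fin (finrank F R),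
      p.elim (fun p => if s p.1 then δ else 1) fun _ => 1) = (-1) ^ (Finset.univ.filter (s ·)).card := by
    intro s hs
    rw [H13.sgn_prod _ _ fun p _ => h0 s p, Fintype.prod_sum_type, Fintype.prod_sigma,
      ← Finset.prod_const, Finset.prod_filter]
    simp only [Sum.elim_inr, H13.sgn_one, Finset.prod_const_one, mul_one, Sum.elim_inl]
    refine Finset.prod_congr rfl fun i _ => ?_
    split_ifs with e
    · have := hs i e
      rw [mul_one, neg_one_pow_eq_one_iff_even fun e => h.two (by linear_combination -e)] at this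
      simp [H13.sgn_eq_neg_one_iff.2 hδ, this, this.add_one.neg_one_pow]
    · simp [H13.sgn_one]
  have h2 : B.Nondegenerate := ⟨fun x hx => h.sep x fun y => by rw [h.symm, hx, mul_zero], h.sep⟩
  obtain ⟨c, h3, h4⟩ := H13.gdet_basis_change B bs bs'
  have h6 := H13.gdet_ne_zero h2 bs
  have h7 := congrArg (fun M => H13.sgn (Matrix.det (Matrix.of M))) (funext₂ h5)
  have h8 := fun s => Finset.prod_ne_zero_iff.2 fun p (_ : p ∈ Finset.univ) => h0 s p
  erw [Matrix.det_mul_column _ (.of fun p p' => B (bs p) (bs p')),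
    Matrix.det_mul_column _ (.of fun p p' => B (bs' p) (bs' p')), H13.sgn_mul (h8 _) h6,
    H13.sgn_mul (h8 _) (H13.gdet_ne_zero h2 bs'), h4, H13.sgn_sq_mul h3 h6, mul_left_inj,
    h1 _ fun i e => (D.sgn i e).1, h1 _ fun i e => (D'.sgn i e).1] at h7
  rw [← neg_one_pow_eq_one_iff_even (R := ℤˣ) (by decide), pow_add, h7, Int.units_mul_self]

end Cfsg.Agent.H7.WU
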