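import Cfsg.Agent.H7.WU3

/-!
The invariants of an isometry.
-/

set_option autoImplicit false
set_option linter.dupNamespace false

namespace Cfsg.Agent.H7.WU

open Module Submodule H28 Finset Polynomial KG

variable {F V V' : Type*} [Field F] [AddCommGroup V] [Module F V] [AddCommGroup V'] [Module F V']
  {B : V →ₗ[F] V →ₗ[F] F} {B' : V' →ₗ[F] V' →ₗ[F] F} {ε δ : F} {a b : End F V} {a' b' : End F V'}

theorem exists_equiv_of_map_eq {ι κ P : Type*} [Fintype ι] [Fintype κ] {x : ι → P} {y : κ → P}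
    (h : univ.val.map x = univ.val.map y) : ∃ e : ι ≃ κ, ∀ i, x i = y (e i) := by
  classical
  refine ⟨.ofFiberEquiv fun c => Fintype.equivOfCardEq ?_, fun i => (Equiv.ofFiberEquiv_map _ i).symm⟩
  have := congrArg (Multiset.count c) h
  rw [Multiset.count_map, Multiset.count_map] at this
  rw [Fintype.card_subtype, Fintype.card_subtype]
  simpa [eq_comm, Finset.card, Finset.filter] using this

section
variable {ι : Type*} {r : ι → ℕ} {s t : ι → Bool} {x : ι → Bool → V} {R : Submodule F V}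

theorem Dec.reindex (D : Dec B ε δ a b r s t x R) {κ : Type*} (σ : κ ≃ ι) :
    Dec B ε δ a b (r ∘ σ) (s ∘ σ) (t ∘ σ) (x ∘ σ) R :=
  ⟨fun _ => D.mem _, fun i u l u' j => by
    rw [Function.comp, Function.comp, D.gram]
    by_cases e : i = l <;> simp [e], fun i e => ⟨(D.sgn _ e).1, fun l e1 e2 e3 =>
      σ.injective ((D.sgn _ e).2 _ e1 e2 e3)⟩, D.inv, D.inv', D.orth, D.inj,
    D.gen.trans (sup_le_sup_right (span_mono (by
      rintro _ ⟨p, rfl⟩; exact ⟨(σ.symm p.1, p.2), by simp⟩)) _)⟩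

theorem Dec.image_val [Fintype ι] (D : Dec B ε δ a b r s t x R) :
    ((univ.filter (s ·)).image fun i => (r i, t i)).val =
      (univ.filter (s ·)).val.map fun i => (r i, t i) :=
  image_val_of_injOn fun i hi l hl e => ((D.sgn i (by simpa using hi)).2 l (by simpa using hl)
    (congrArg Prod.fst e).symm (congrArg Prod.snd e).symm).symm

theorem Dec.map_eq [Fintype ι] (D : Dec B ε δ a b r s t x R) :
    (univ.val.map fun i => ((r i, t i), s i)) =
      ((univ.filter (s ·)).image fun i => (r i, t i)).val.map (·, true) + ((univ.val.map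
        fun i => (r i, t i)) - ((univ.filter (s ·)).image fun i => (r i, t i)).val).map (·, false) := by
  rw [D.image_val, ← Multiset.filter_add_not (s ·) univ.val, Multiset.map_add, Multiset.map_add,
    filter_val, add_tsub_cancel_left, Multiset.map_map, Multiset.map_map]
  congr 1 <;> exact Multiset.map_congr rfl fun i hi => by simpa using (Multiset.mem_filter.1 hi).2

end

variable [FiniteDimensional F V] [FiniteDimensional F V']

/-- The type of the invariants. -/
abbrev Dat (F : Type*) [Field F] := Multiset (ℕ × Bool) × Finset (ℕ × Bool) × Multiset (PP F)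

/-- The invariants of the isometry `a`. -/
def Has (B : V →ₗ[F] V →ₗ[F] F) (ε δ : F) (a b : End F V) (d : Dat F) : Prop :=
  ∃ (ι : Type) (_ : Fintype ι) (r : ι → ℕ) (s t : ι → Bool) (x : ι → Bool → V) (R : Submodule F V)
    (D : Dec B ε δ a b r s t x R), d = (univ.val.map fun i => (r i, t i),
      (univ.filter (s ·)).image fun i => (r i, t i), ed (a.restrict D.inv))

/-- The conditions on the invariants. -/
structure Valid (e n : ℕ) (d : Dat F) : Prop where
  mem : ∀ p ∈ d.2.1, p.1 % 2 = e ∧ p ∈ d.1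
  eval : ∀ t, ∀ x ∈ d.2.2, x.f.eval (sg F t) ≠ 0
  rev : ∀ k, (gseq d.2.2 k).reverse = gseq d.2.2 k
  sum : (d.1.map fun p => if p.1 % 2 = e then p.1 + 1 else 2 * (p.1 + 1)).sum +
    (d.2.2.map fun x => x.k * x.f.natDegree).sum = n

theorem eval_gseq_ne {M : Multiset (PP F)} {c : F} (h : ∀ x ∈ M, x.f.eval c ≠ 0) (k : ℕ) :
    (gseq M k).eval c ≠ 0 := by
  rw [gseq, eval_multiset_prod, Multiset.map_map]
  exact Multiset.prod_ne_zero fun e => by
    obtain ⟨x, hx, e⟩ := Multiset.mem_map.1 e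
    exact h x (Multiset.mem_filter.1 hx).1 e

theorem eval_reverse {u : F} (hu : u * u = 1) (g : F[X]) : g.reverse.eval u = g.eval u * u ^ g.natDegree := by
  simpa [reverse] using aeval_reflect hu hu _ g le_rfl

theorem reverse_eq_of_dl {g : F[X]} (h1 : g.eval 1 ≠ 0) (h : dl (.id F) g = g) : g.reverse = g := by
  have h3 := congrArg (eval 1) h
  rw [dl_apply, Polynomial.map_id] at h h3
  simp [eval_reverse, h1] at h3
  simpa [h3] using h

variable [Finite F] {d : Dat F}

theorem IS.exists_has (h : IS B ε a b) (hδ : ¬ IsSquare δ) : ∃ d, Has B ε δ a b d := by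
  obtain ⟨ι, _, r, s, t, x, R, D⟩ := h.exists_dec hδ
  exact ⟨_, ι, ‹_›, r, s, t, x, R, D, rfl⟩

theorem Has.exists_iso (h : IS B ε a b) (h' : IS B' ε a' b') (hδ : δ ≠ 0) (H : Has B ε δ a b d)
    (H' : Has B' ε δ a' b' d) :
    ∃ e : V ≃ₗ[F] V', (∀ y z, B' (e y) (e z) = B y z) ∧ ∀ y, e (a y) = a' (e y) := by
  obtain ⟨ι, _, r, s, t, x, R, D, rfl⟩ := H
  obtain ⟨ι', _, r', s', t', x', R', D', e⟩ := H'
  simp only [Prod.mk.injEq] at e
  obtain ⟨σ, hσ⟩ := exists_equiv_of_map_eq (D.map_eq.trans (by rw [e.1, e.2.1, D'.map_eq]))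
  simp only [Prod.mk.injEq] at hσ
  obtain rfl : r = r' ∘ σ := funext fun i => (hσ i).1.1
  obtain rfl : t = t' ∘ σ := funext fun i => (hσ i).1.2
  obtain rfl : s = s' ∘ σ := funext fun i => (hσ i).2
  exact D.exists_iso h h' hδ (D'.reindex σ) e.2.2

theorem Has.even {B : V →ₗ[F] V →ₗ[F] F} {a b a' b' : End F V} (h : IS B 1 a b) (h' : IS B 1 a' b')
    (hδ : ¬ IsSquare δ) {d' : Dat F} (H : Has B 1 δ a b d) (H' : Has B 1 δ a' b' d')
    (h1 : d.1 = d'.1) (h2 : d.2.2 = d'.2.2) : Even (#d.2.1 + #d'.2.1) := by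
  obtain ⟨ι, _, r, s, t, x, R, D, rfl⟩ := H
  obtain ⟨ι', _, r', s', t', x', R', D', rfl⟩ := H'
  obtain ⟨σ, hσ⟩ := exists_equiv_of_map_eq h1
  simp only [Prod.mk.injEq] at hσ
  obtain rfl : r = r' ∘ σ := funext fun i => (hσ i).1
  obtain rfl : t = t' ∘ σ := funext fun i => (hσ i).2
  have := D.even h h' hδ (D'.reindex σ) h2
  rw [card_equiv (s := univ.filter ((s' ∘ σ) ·)) (t := univ.filter (s' ·)) σ (by simp)] at this
  simpa only [Finset.card, D.image_val, D'.image_val, Multiset.card_map] using this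

theorem ed_dual (D : H13.NDS B) (h : Pres B a) : (ed a).map (dual (σ := .id F) fun _ => rfl) = ed a := by
  let β := finBasis F V
  have h1 := LinearMap.BilinForm.toMatrix_comp β β B a a
  rw [show LinearMap.BilinForm.comp B a a = B from LinearMap.ext₂ h] at h1
  obtain ⟨G, hG⟩ : IsUnit (LinearMap.BilinForm.toMatrix β B) := (Matrix.isUnit_iff_isUnit_det _).2
    ((LinearMap.BilinForm.nondegenerate_iff_det_ne_zero β).1
      (LinearMap.BilinForm.Nondegenerate.ofSeparatingLeft D.sep)).isUnit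
  rw [← med_toMatrix β, ← med_dual _ (A' := G.1 * LinearMap.toMatrix β β a * G⁻¹.1), eq_comm,
    ← isConj_iff_med]
  · exact ⟨G, by simp [SemiconjBy]⟩
  · rw [mul_eq_one_comm, ← mul_assoc, ← mul_assoc, Units.mul_inv_eq_iff_eq_mul, one_mul, hG]
    exact h1.symm

theorem Has.valid (h : IS B ε a b) (hδ : δ ≠ 0) {e : ℕ} (he : ∀ r, (-1) ^ r * ε = 1 ↔ r % 2 = e)
    (H : Has B ε δ a b d) : Valid e (finrank F V) d := by
  obtain ⟨ι, _, r, s, t, x, R, D, rfl⟩ := H
  have h1 : ∀ c, (∀ v, a.restrict D.inv v = c • v → v = 0) → ∀ x ∈ ed (a.restrict D.inv), x.f.eval c ≠ 0 :=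
    fun c hc x hx e => by
      obtain ⟨v, h2, h3⟩ := ((End.hasEigenvalue_iff_isRoot_charpoly _ c).2 (IsRoot.dvd e
        ((irreducible_dvd_charpoly_iff _ x.monic x.irred).2 ⟨x, hx, rfl⟩))).exists_hasEigenvector
      exact h3 (hc v (End.mem_eigenspace_iff.1 h2))
  have h2 := fun t => h1 (sg F t) fun v hv => Subtype.ext (D.inj v v.2 (by
    have : a v = sg F t • v := congrArg Subtype.val hv
    rw [this, map_smul, this, smul_smul, sg_mul_self, one_smul]))
  have h3 := h1 0 fun v hv => Subtype.ext (by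
    rw [← h.ba' v, show a v = 0 by simpa using congrArg Subtype.val hv, map_zero]; rfl)
  refine ⟨fun p hp => ?_, h2, fun k => reverse_eq_of_dl (eval_gseq_ne (h2 false) k) ?_, ?_⟩
  · obtain ⟨i, hi, rfl⟩ := mem_image.1 hp
    exact ⟨(he _).1 (D.sgn i (mem_filter.1 hi).2).1, Multiset.mem_map_of_mem _ (mem_univ i)⟩
  · rw [← gseq_dual (fun _ => rfl) fun x hx e => h3 x hx (by simp [e]),
      ed_dual (D.nds h) fun x y => h.pres x y]
  · rw [D.finrank_eq h hδ, finrank_eq_sum_ed (a.restrict D.inv), Multiset.map_map]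
    simp [wt, he]

end Cfsg.Agent.H7.WU
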