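import Cfsg.Agent.H7.WU4
import Cfsg.Agent.S2385

/-!
Counting the invariants of isometries.
-/

set_option autoImplicit false
set_option linter.dupNamespace false

namespace Cfsg.Agent.H7.WU

open H28 Finset Polynomial KG

theorem encard_le_coeff {ι E α : Type*} (s : Finset ι) (w : ι → ℕ) (hw : ∀ i, 0 < w i)
    (A : ι → ℕ → Finset E) (n : ℕ) (T : Set α) (g : α → ι → E) (d : α → ι → ℕ)
    (hg : ∀ x ∈ T, ∀ i ∈ s, g x i ∈ A i (d x i)) (hd : ∀ x ∈ T, ∑ i ∈ s, w i * d x i = n)
    (inj : ∀ x ∈ T, ∀ y ∈ T, (∀ i ∈ s, g x i = g y i ∧ d x i = d y i) → x = y) :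
    T.encard ≤ (PowerSeries.coeff n
      (∏ i ∈ s, PowerSeries.mk fun m => if w i ∣ m then #(A i (m / w i)) else 0) : ℕ) := by
  classical
  refine (Set.encard_le_encard_of_injOn (t := SetLike.coe ((finsuppAntidiag s n).sigma fun l =>
    s.pi fun i => if w i ∣ l i then A i (l i / w i) else ∅)) (f := fun x =>
      ⟨.onFinset s (fun i => if i ∈ s then w i * d x i else 0) (by simp +contextual), fun i _ => g x i⟩)
    (fun x hx => ?_) fun x hx y hy e => inj x hx y hy fun i hi => ?_).trans_eq ?_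
  · simp only [mem_coe, mem_sigma, mem_finsuppAntidiag, mem_pi]
    refine ⟨⟨by simpa using hd x hx, Finsupp.support_onFinset_subset⟩, fun i hi => ?_⟩
    simpa [hi, Nat.mul_div_cancel_left _ (hw i)] using hg x hx i hi
  · simp only [Sigma.mk.injEq, heq_eq_eq] at e
    exact ⟨congrFun₂ e.2 i hi, by simpa [hi, (hw i).ne'] using DFunLike.congr_fun e.1 i⟩
  · rw [Set.encard_coe_eq_coe_finsetCard, card_sigma, PowerSeries.coeff_prod]
    simp [apply_ite Finset.card]

variable {F : Type*} [Field F]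

theorem eq_of_mul_pow {g g' : F[X]} {c : F} {i j : ℕ} (h : g.eval c ≠ 0) (h' : g'.eval c ≠ 0)
    (e : g * (X - C c) ^ i = g' * (X - C c) ^ j) : i = j ∧ g = g' := by
  have h1 : ∀ {g : F[X]} (i : ℕ), g.eval c ≠ 0 → (g * (X - C c) ^ i).rootMultiplicity c = i := fun i h => by
    rw [rootMultiplicity_mul (mul_ne_zero (by rintro rfl; simp at h) ((monic_X_sub_C c).pow i).ne_zero),
      rootMultiplicity_X_sub_C_pow, rootMultiplicity_eq_zero h, zero_add]
  obtain rfl : i = j := by rw [← h1 i h, e, h1 j h']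
  exact ⟨rfl, mul_right_cancel₀ ((monic_X_sub_C c).pow i).ne_zero e⟩

theorem reverse_sq {c : F} (hc : c * c = 1) (k : ℕ) :
    ((X - C c) ^ (2 * k)).reverse = (X - C c) ^ (2 * k) := by
  induction k with
  | zero => simpa using reverse_C (1 : F)
  | succ k ih =>
    rw [mul_add, pow_add, reverse_mul_of_domain, ih, mul_one, sq, reverse_mul_of_domain, sub_eq_add_neg,
      ← C_neg, reverse_add_C]
    simp only [natDegree_X, pow_one, show (X : F[X]).reverse = 1 by simpa using (reverse_X_mul (1 : F[X])).trans (reverse_C 1),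
      C_neg]
    linear_combination (X - C c) ^ (2 * k) * (X ^ 2 - 1) * (by rw [← C_mul, hc, C_1] : C c * C c = 1)

theorem sum_gseq {M : Multiset (PP F)} {K : ℕ} (h : (M.map fun x => x.k * x.f.natDegree).sum ≤ K) :
    (∀ x ∈ M, x.k ∈ Ico 1 (K + 1)) ∧ ∑ j ∈ range K, (j + 1) * (gseq M (j + 1)).natDegree =
      (M.map fun x => x.k * x.f.natDegree).sum := by
  have h1 : ∀ x ∈ M, x.k ∈ Ico 1 (K + 1) := fun x hx => mem_Ico.2 ⟨x.pos, Nat.lt_succ_of_le
    ((Nat.le_mul_of_pos_right _ x.natDegree_f_pos).trans ((Multiset.le_sum_of_mem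
      (Multiset.mem_map_of_mem (fun x : PP F => x.k * x.f.natDegree) hx)).trans h))⟩
  have := congrArg natDegree (prod_gseq h1)
  rw [natDegree_prod_of_monic _ _ fun k _ => (gseq_monic _ _).pow _, natDegree_prod_poly] at this
  refine ⟨h1, ?_⟩
  rw [← this, range_eq_Ico, ← sum_Ico_add' _ 0 K 1]
  simp

variable [Fintype F]

open Classical in
/-- Palindromic polynomials. -/
noncomputable def pal (F : Type*) [Field F] [Fintype F] (d : ℕ) : Finset F[X] :=
  {g ∈ mon F (2 * d) | g.reverse = g}

theorem mem_pal {d : ℕ} {g : F[X]} : g ∈ pal F d ↔ (g.Monic ∧ g.natDegree = 2 * d) ∧ g.reverse = g := by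
  simp only [pal, mem_filter, mem_mon, and_assoc]
  refine and_congr_right fun h => and_congr_right fun _ => and_iff_right_of_imp fun e => ?_
  rw [← e, coeff_zero_reverse, h.leadingCoeff]
  simp

theorem card_pal (d : ℕ) : #(pal F d) = Fintype.card F ^ d := by
  have := (H13.card_monic _ _).trans (S2385.card_pal (F := F) d)
  rw [Nat.card_fun, Nat.card_fin, Nat.card_eq_fintype_card (α := F)] at this
  rw [← this, Nat.subtype_card _ fun g => mem_pal.trans (and_congr_right fun h => ?_)]
  rw [ext_iff_natDegree_le (reverse_natDegree_le _) le_rfl, funext_iff, h.2]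
  simp only [coeff_reverse, h.2, Even.neg_pow (even_two_mul d), one_pow, one_mul, RingHom.id_apply]
  exact ⟨fun H i => by simpa [revAt_le (Nat.le_of_lt_succ i.2)] using H i (Nat.le_of_lt_succ i.2),
    fun H i hi => by simpa [revAt_le hi] using H ⟨i, Nat.lt_succ_of_le hi⟩⟩

/-- The series `1 / (1 - q X ^ k)`. -/
noncomputable def ga (q k : ℕ) : PowerSeries ℕ := PowerSeries.mk fun m => if k ∣ m then q ^ (m / k) else 0

open Classical in
/-- The series `1 + X ^ (j + 1)` or `1`. -/
noncomputable def gb (β : Prop) (e j : ℕ) : PowerSeries ℕ :=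
  if β ∧ j % 2 = e then 1 + PowerSeries.X ^ (j + 1) else 1

open Classical in
theorem encard_valid_le (h2 : (2 : F) ≠ 0) (e : ℕ) (β : Prop) {n K : ℕ} (hK : n ≤ K) :
    {d : Dat F | Valid e n d ∧ (β ∨ ∀ p ∈ d.1, p.1 % 2 ≠ e)}.encard ≤ (PowerSeries.coeff n
      ((∏ j ∈ range K, ga (Fintype.card F) (2 * (j + 1))) * (∏ j ∈ range K, gb β e j) ^ 4) : ℕ) := by
  let c : Dat F → ℕ → Bool → ℕ := fun d j t => (d.1 - d.2.1.val).count (j, t)
  let μ : Dat F → ℕ → Bool → ℕ := fun d j t => if j % 2 = e then c d j t / 2 else c d j t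
  let ν : Dat F → ℕ × Bool × Bool → ℕ := fun d p => if p.2.2 then if (p.1, p.2.1) ∈ d.2.1 then 1 else 0
    else if p.1 % 2 = e then c d p.1 p.2.1 % 2 else 0
  have h0 : ∀ d : Dat F, Valid e n d → ∀ j t, d.1.count (j, t) = c d j t + ν d (j, t, true) :=
    fun d hd j t => by
      have := congrArg (Multiset.count (j, t)) (tsub_add_cancel_of_le ((val_le_iff_val_subset (a := d.2.1)).2
        fun p hp => (hd.mem p hp).2))
      simpa [c, ν, Multiset.count_eq_of_nodup d.2.1.nodup] using this.symm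
  have h1 : ∀ d : Dat F, Valid e n d → ∀ p ∈ d.1, p ∈ range K ×ˢ univ := fun d hd p hp => by
    have := Multiset.le_sum_of_mem (Multiset.mem_map_of_mem
      (fun p : ℕ × Bool => if p.1 % 2 = e then p.1 + 1 else 2 * (p.1 + 1)) hp)
    have := hd.sum
    simp only [mem_product, mem_range, mem_univ, and_true]
    split_ifs at * <;> omega
  have h3 : ∀ d : Dat F, Valid e n d → _ := fun d hd => sum_gseq (M := d.2.2) (K := K) (by
    have := hd.sum; omega)
  have h4 : ∀ d : Dat F, Valid e n d → ∀ k, 2 * ((gseq d.2.2 k).natDegree / 2) = (gseq d.2.2 k).natDegree :=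
    fun d hd k => Nat.two_mul_div_two_of_even (by
      have := eval_reverse (u := -1) (by simp) (gseq d.2.2 k)
      rw [hd.rev, eq_comm, mul_eq_left₀ (eval_gseq_ne (c := -1) (hd.eval true) k)] at this
      exact (neg_one_pow_eq_one_iff_even fun e => h2 (by linear_combination -e)).1 this)
  refine (encard_le_coeff ((range K).disjSum (range K ×ˢ univ)) (Sum.elim (fun j => 2 * (j + 1)) (·.1 + 1))
    (by rintro (j | p) <;> simp) (Sum.elim (fun _ => pal F) fun p d =>
      if d = 0 ∨ (β ∧ p.1 % 2 = e) ∧ d = 1 then {1} else ∅) n _ (fun d => Sum.elim (fun j =>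
      gseq d.2.2 (j + 1) * (X - C (-1)) ^ (2 * μ d j true) * (X - C 1) ^ (2 * μ d j false)) fun _ => 1)
    (fun d => Sum.elim (fun j => (gseq d.2.2 (j + 1)).natDegree / 2 + μ d j true + μ d j false) (ν d))
    ?_ ?_ ?_).trans_eq ?_
  · rintro d ⟨hd, hβ⟩ (j | ⟨j, t, u⟩) -
    · have m1 := gseq_monic d.2.2 (j + 1)
      have m2 := fun c k => (monic_X_sub_C (c : F)).pow k
      refine mem_pal.2 ⟨⟨(m1.mul (m2 _ _)).mul (m2 _ _), ?_⟩, ?_⟩
      · simp only [Sum.elim_inl, (m1.mul (m2 _ _)).natDegree_mul (m2 _ _), m1.natDegree_mul (m2 _ _),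
          natDegree_pow, natDegree_X_sub_C, mul_add, h4 d hd, mul_one]
      · simp only [Sum.elim_inl, reverse_mul_of_domain, hd.rev, reverse_sq (mul_one (1 : F)),
          reverse_sq (c := (-1 : F)) (by simp)]
    · rw [Sum.elim_inr, Sum.elim_inr, Sum.elim_inr, if_pos]
      · simp
      by_cases e1 : j % 2 = e
      · have := h0 d hd j t
        by_cases e2 : β
        · simp only [ν, e1, e2]
          split_ifs <;> simp
          omega
        · rw [Multiset.count_eq_zero.2 fun h => hβ.resolve_left e2 _ h e1] at this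
          left
          cases u
          · simp [ν, show c d j t = 0 by omega]
          · omega
      · cases u <;> simp [ν, e1, mt (hd.mem (j, t) · |>.1) e1]
  · rintro d ⟨hd, -⟩
    rw [← hd.sum, ← (h3 d hd).2, sum_multiset_map_count, sum_subset (fun p hp => h1 d hd p
      (Multiset.mem_toFinset.1 hp)) (by simp +contextual), sum_disjSum, sum_product, sum_product,
      ← sum_add_distrib, ← sum_add_distrib]
    refine sum_congr rfl fun j _ => ?_
    simp only [Sum.elim_inl, Sum.elim_inr, Fintype.sum_prod_type, Fintype.sum_bool, h0 d hd, μ,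
      smul_eq_mul]
    by_cases e1 : j % 2 = e
    · simp only [if_pos e1, show ∀ t, ν d (j, t, false) = c d j t % 2 by simp [ν, e1]]
      have := h4 d hd (j + 1)
      have := Nat.div_add_mod (c d j true) 2
      have := Nat.div_add_mod (c d j false) 2
      nlinarith
    · have := h4 d hd (j + 1)
      simp [ν, e1, mt (hd.mem (j, _) · |>.1) e1]
      nlinarith
  · rintro d ⟨hd, -⟩ d' ⟨hd', -⟩ H
    have e1 := fun j hj => eq_of_mul_pow (by simp [eval_gseq_ne (c := 1) (hd.eval false), one_add_one_eq_two, h2])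
      (by simp [eval_gseq_ne (c := 1) (hd'.eval false), one_add_one_eq_two, h2]) (H (.inl j) (inl_mem_disjSum.2 hj)).1
    have e2 := fun j hj => eq_of_mul_pow (eval_gseq_ne (hd.eval true) _)
      (eval_gseq_ne (hd'.eval true) _) (e1 j hj).2
    have e3 : ∀ j ∈ range K, ∀ t u, ν d (j, t, u) = ν d' (j, t, u) := fun j hj t u =>
      (H (.inr (j, t, u)) (by simpa using hj)).2
    have e4 : ∀ j ∈ range K, ∀ t, c d j t = c d' j t := fun j hj t => by
      have e4 : 2 * μ d j t = 2 * μ d' j t := by cases t; exacts [(e1 j hj).1, (e2 j hj).1]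
      have := e3 j hj t false
      by_cases e5 : j % 2 = e
      · simp only [μ, ν, if_pos e5, Bool.false_eq_true, if_false] at e4 this
        omega
      · simpa [μ, e5] using e4
    refine Prod.ext (Multiset.ext' fun ⟨j, t⟩ => ?_) (Prod.ext (Finset.ext fun ⟨j, t⟩ => ?_)
      (gseq_injective (funext fun k => ?_)))
    · by_cases hj : j ∈ range K
      · rw [h0 d hd, h0 d' hd', e4 j hj, e3 j hj]
      · rw [Multiset.count_eq_zero.2 fun h => hj (mem_product.1 (h1 d hd _ h)).1,
          Multiset.count_eq_zero.2 fun h => hj (mem_product.1 (h1 d' hd' _ h)).1]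
    · by_cases hj : j ∈ range K
      · have := e3 j hj t true
        by_cases e5 : (j, t) ∈ d.2.1 <;> simpa [ν, e5] using this
      · exact iff_of_false (fun h => hj (mem_product.1 (h1 d hd _ (hd.mem _ h).2)).1)
          fun h => hj (mem_product.1 (h1 d' hd' _ (hd'.mem _ h).2)).1
    · by_cases hk : k ∈ Ico 1 (K + 1)
      · obtain ⟨k, rfl⟩ := Nat.exists_eq_add_of_le' (mem_Ico.1 hk).1
        exact (e2 k (by simpa using hk)).2
      · have : ∀ d : Dat F, Valid e n d → gseq d.2.2 k = 1 := fun d hd => not_not.1 fun h => by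
          obtain ⟨x, hx, rfl⟩ := exists_of_gseq_ne h
          exact hk ((h3 d hd).1 x hx)
        rw [this d hd, this d' hd']
  · rw [prod_disjSum, prod_product, ← prod_pow]
    simp only [Sum.elim_inl, Sum.elim_inr, card_pal, prod_const, ga]
    congr 4
    refine funext fun j => (prod_const _).trans (congrArg₂ (fun (x : PowerSeries ℕ) (y : ℕ) => x ^ y)
      (PowerSeries.ext fun m => ?_) (by simp : #(univ : Finset (Bool × Bool)) = 4))
    rw [PowerSeries.coeff_mk, gb]
    by_cases e1 : j + 1 ∣ m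
    · obtain ⟨m, rfl⟩ := e1
      by_cases e2 : β ∧ j % 2 = e <;> rcases m with _ | _ | m <;>
        simp [e2, PowerSeries.coeff_one, PowerSeries.coeff_X_pow]
    · have e2 : m ≠ 0 := by rintro rfl; simp at e1
      have e3 : m ≠ j + 1 := by rintro rfl; simp at e1
      refine (if_neg e1).trans ?_
      by_cases e4 : β ∧ j % 2 = e <;> simp [e2, e3, e4, PowerSeries.coeff_one, PowerSeries.coeff_X_pow]

end Cfsg.Agent.H7.WU
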