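import Cfsg.Agent.H7.WU5

/-!
Numerical bounds for the class number generating functions.
-/

set_option autoImplicit false
set_option linter.dupNamespace false

namespace Cfsg.Agent.H7.WU

open Finset PowerSeries

/-- A bound for the coefficients of given parity. -/
def Bd (q : ℕ) (R : ℕ⟦X⟧) (ρ : ℕ) (a : ℝ) : Prop := ∀ i, (coeff (2 * i + ρ) R : ℕ) ≤ a * (q : ℝ) ^ i

variable {q ρ σ : ℕ} {R : ℕ⟦X⟧} {a a' b : ℝ}

theorem Bd.mono (h : Bd q R ρ a) (ha : a ≤ a') : Bd q R ρ a' := fun i =>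
  (h i).trans (mul_le_mul_of_nonneg_right ha (by positivity))

theorem Bd.nonneg (h : Bd q R ρ a) : 0 ≤ a := by simpa using (Nat.cast_nonneg _).trans (h 0)

theorem pow_le_third (hq : 3 ≤ q) (i l : ℕ) : (q : ℝ) ^ i ≤ (1 / 3) ^ l * q ^ (i + l) := by
  rw [pow_add, mul_left_comm, ← mul_pow]
  exact le_mul_of_one_le_right (by positivity) (one_le_pow₀ (by
    have : (3 : ℝ) ≤ q := by exact_mod_cast hq
    linarith))

theorem Bd.step (hq : 3 ≤ q) (h : Bd q R ρ a) (h' : Bd q R σ b) (hσ : σ < 2) {k l : ℕ}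
    (hk : k + σ = 2 * l + ρ) : Bd q (R * (1 + X ^ k)) ρ (a + b * (1 / 3) ^ l) := fun i => by
  rw [mul_add, mul_one, map_add, coeff_mul_X_pow', add_mul, Nat.cast_add]
  refine add_le_add (h i) ?_
  have := h'.nonneg
  split_ifs with e
  · obtain ⟨i, rfl⟩ := Nat.exists_eq_add_of_le' (show l ≤ i by omega)
    rw [show 2 * (i + l) + ρ - k = 2 * i + σ by omega, mul_assoc]
    exact (h' i).trans (mul_le_mul_of_nonneg_left (pow_le_third hq i l) this)
  · simp only [Nat.cast_zero]; positivity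

theorem ga_eq (q : ℕ) {k : ℕ} (hk : k ≠ 0) : ga q k = 1 + X ^ k * (C q * ga q k) := by
  ext m
  simp only [ga, map_add, coeff_X_pow_mul', coeff_C_mul, coeff_mk, coeff_one]
  by_cases h : k ∣ m
  · obtain ⟨j, rfl⟩ := h
    rcases j with _ | j
    · simp [hk]
    · simp [hk, Nat.mul_div_cancel_left _ (Nat.pos_of_ne_zero hk), pow_succ',
        show k * (j + 1) - k = k * j by simp [mul_add], Nat.le_mul_of_pos_right]
  · rw [if_neg h, if_neg (by rintro rfl; simp at h)]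
    by_cases h1 : k ≤ m
    · rw [if_pos h1, if_neg (mt (Nat.dvd_sub_iff_left h1 dvd_rfl).1 h)]; simp
    · simp [h1]

theorem Bd.step_ga (hq : 3 ≤ q) (h : Bd q R ρ a) (hρ : ρ < 2) {j : ℕ} (ha : a + a' * (1 / 3) ^ j ≤ a')
    (h0 : 0 ≤ a') : Bd q (R * ga q (2 * (j + 1))) ρ a' := fun i => by
  induction i using Nat.strong_induction_on with
  | _ i ih =>
  rw [ga_eq q (by omega), mul_add, mul_one, mul_left_comm, mul_left_comm R, map_add, coeff_X_pow_mul',
    Nat.cast_add]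
  refine (add_le_add (h i) ?_).trans ((add_mul _ _ _).ge.trans (mul_le_mul_of_nonneg_right ha (by positivity)))
  split_ifs with e
  · obtain ⟨i, rfl⟩ := Nat.exists_eq_add_of_le' (show j + 1 ≤ i by omega)
    rw [show 2 * (i + (j + 1)) + ρ - 2 * (j + 1) = 2 * i + ρ by omega, coeff_C_mul, Nat.cast_mul,
      mul_assoc, show i + (j + 1) = i + 1 + j by omega]
    refine (mul_le_mul_of_nonneg_left (ih i (by omega)) q.cast_nonneg).trans ?_
    rw [mul_left_comm, ← pow_succ']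
    exact mul_le_mul_of_nonneg_left (pow_le_third hq _ j) h0
  · simp only [Nat.cast_zero]; positivity

theorem Bd.prod_ga (hq : 3 ≤ q) (h : Bd q (ga q 2) ρ a) (hρ : ρ < 2) (K : ℕ) :
    Bd q (∏ j ∈ range (K + 3), ga q (2 * (j + 1))) ρ (1.787 * a) := by
  have := h.nonneg
  suffices Bd q (∏ j ∈ range (K + 3), ga q (2 * (j + 1))) ρ (1.787 * a * (1 - (1 / 3) ^ (K + 2) / 2)) from
    this.mono (mul_le_of_le_one_right (by positivity) (sub_le_self _ (by positivity)))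
  induction K with
  | zero =>
    simp only [zero_add, prod_range_succ, prod_range_zero, one_mul, mul_one]
    exact (h.step_ga hq hρ (j := 1) (a' := 3 / 2 * a) (by linarith) (by positivity)).step_ga hq hρ (j := 2)
      (by linarith) (by positivity)
  | succ K ih =>
    have h1 : (0 : ℝ) < (1 / 3) ^ (K + 3) := by positivity
    have h2 : (1 / 3 : ℝ) ^ (K + 3) ≤ 1 := pow_le_one₀ (by norm_num) (by norm_num)
    rw [show K + 1 + 3 = K + 3 + 1 from rfl, prod_range_succ, ← show K + 3 = K + 1 + 2 from rfl]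
    rw [show (1 / 3 : ℝ) ^ (K + 2) = 3 * (1 / 3) ^ (K + 3) by ring] at ih
    refine ih.step_ga hq hρ ?_ (mul_nonneg (by positivity) (by linarith))
    nlinarith [mul_nonneg this (mul_pos h1 h1).le]

theorem bd_ga : Bd q (ga q 2) 0 1 ∧ Bd q (ga q 2) 1 0 :=
  ⟨fun i => by simp [ga], fun i => by simp [ga, Nat.dvd_add_right]⟩

theorem Bd.pass_one (hq : 3 ≤ q) (h : Bd q R 0 a) (L : ℕ) :
    Bd q (R * ∏ j ∈ range (2 * (L + 3)), gb True 1 j) 0 (1.5654 * a) := by
  have := h.nonneg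
  have h1 : ∀ L, ∏ j ∈ range (2 * (L + 1)), gb True 1 j =
      (∏ j ∈ range (2 * L), gb True 1 j) * (1 + X ^ (2 * (L + 1))) := fun L => by
    simp [mul_add, prod_range_succ, gb, add_assoc]
  suffices Bd q (R * ∏ j ∈ range (2 * (L + 3)), gb True 1 j) 0 (1.5654 * a * (1 - (1 / 3) ^ (L + 3) / 2)) from
    this.mono (mul_le_of_le_one_right (by positivity) (sub_le_self _ (by positivity)))
  induction L with
  | zero =>
    rw [show 0 + 3 = 0 + 1 + 1 + 1 from rfl, h1, h1, h1, mul_zero, prod_range_zero, one_mul, ← mul_assoc,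
      ← mul_assoc]
    have h2 := h.step hq h two_pos (k := 2 * (0 + 1)) (l := 0 + 1) rfl
    have h3 := h2.step hq h2 two_pos (k := 2 * (0 + 1 + 1)) (l := 0 + 1 + 1) rfl
    exact (h3.step hq h3 two_pos (k := 2 * (0 + 1 + 1 + 1)) (l := 0 + 1 + 1 + 1) rfl).mono (by linarith)
  | succ L ih =>
    rw [show L + 1 + 3 = L + 3 + 1 from rfl, h1, ← mul_assoc]
    refine (ih.step hq ih two_pos (k := 2 * (L + 3 + 1)) (l := L + 3 + 1) rfl).mono ?_
    rw [pow_succ _ (L + 3)]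
    have h1 : (0 : ℝ) < (1 / 3) ^ (L + 3) := by positivity
    nlinarith [mul_nonneg this (mul_pos h1 h1).le]

theorem Bd.pass_zero (hq : 3 ≤ q) (h : Bd q R 0 a) (h' : Bd q R 1 b) (L : ℕ) :
    Bd q (R * ∏ j ∈ range (2 * (L + 2)), gb True 0 j) 0 (1.1963 * a + 1.5328 * b / 3) ∧
    Bd q (R * ∏ j ∈ range (2 * (L + 2)), gb True 0 j) 1 (1.5328 * a + 1.1963 * b) := by
  have := h.nonneg
  have := h'.nonneg
  have h1 : ∀ L, ∏ j ∈ range (2 * (L + 1)), gb True 0 j =
      (∏ j ∈ range (2 * L), gb True 0 j) * (1 + X ^ (2 * L + 1)) := fun L => by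
    simp [mul_add, prod_range_succ, gb]
  have h2 : ∀ {R a b} l, Bd q R 0 a → Bd q R 1 b → Bd q (R * (1 + X ^ (2 * l + 1))) 0
      (a + b * (1 / 3) ^ (l + 1)) ∧ Bd q (R * (1 + X ^ (2 * l + 1))) 1 (b + a * (1 / 3) ^ l) :=
    fun l h h' => ⟨h.step hq h' one_lt_two rfl, h'.step hq h two_pos rfl⟩
  suffices Bd q (R * ∏ j ∈ range (2 * (L + 2)), gb True 0 j) 0
      ((1.1963 - 0.7664 * (1 / 3) ^ (L + 2)) * a + (1.5328 - 1.79445 * (1 / 3) ^ (L + 2)) * b / 3) ∧
    Bd q (R * ∏ j ∈ range (2 * (L + 2)), gb True 0 j) 1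
      ((1.5328 - 1.79445 * (1 / 3) ^ (L + 2)) * a + (1.1963 - 0.7664 * (1 / 3) ^ (L + 2)) * b) by
    have h1 : (0 : ℝ) < (1 / 3) ^ (L + 2) := by positivity
    exact ⟨this.1.mono (by nlinarith), this.2.mono (by nlinarith)⟩
  induction L with
  | zero =>
    rw [show 0 + 2 = 0 + 1 + 1 from rfl, h1, h1, mul_zero, prod_range_zero, one_mul, ← mul_assoc]
    have h3 := h2 0 h h'
    have h4 := h2 (0 + 1) h3.1 h3.2
    exact ⟨h4.1.mono (by linarith), h4.2.mono (by linarith)⟩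
  | succ L ih =>
    rw [show L + 1 + 2 = L + 2 + 1 from rfl, h1, ← mul_assoc]
    have h3 := h2 (L + 2) ih.1 ih.2
    rw [pow_succ _ (L + 2)] at h3 ⊢
    have h1 : (0 : ℝ) < (1 / 3) ^ (L + 2) := by positivity
    have h4 := mul_nonneg h.nonneg (mul_pos h1 h1).le
    have h5 := mul_nonneg h'.nonneg (mul_pos h1 h1).le
    exact ⟨h3.1.mono (by nlinarith), h3.2.mono (by nlinarith)⟩

theorem coeff_sp_le (hq : 3 ≤ q) (L n : ℕ) : 5 * coeff (2 * n) ((∏ j ∈ range (2 * (L + 3)),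
    ga q (2 * (j + 1))) * (∏ j ∈ range (2 * (L + 3)), gb True 1 j) ^ 4) ≤ 54 * q ^ n := by
  have := (((((bd_ga.1.prod_ga hq two_pos (2 * L + 3)).pass_one hq L).pass_one hq L).pass_one
    hq L).pass_one hq L).mono (a' := 54 / 5) (by norm_num) n
  rw [← Nat.cast_le (α := ℝ), pow_succ _ 3, pow_succ _ 2, sq, ← mul_assoc, ← mul_assoc, ← mul_assoc]
  push_cast
  exact (mul_le_mul_of_nonneg_left this (by norm_num)).trans_eq (by ring)

theorem coeff_o_le (hq : 3 ≤ q) (L n : ℕ) : coeff (2 * n) ((∏ j ∈ range (2 * (L + 2)),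
    ga q (2 * (j + 1))) * (∏ j ∈ range (2 * (L + 2)), gb True 0 j) ^ 4) + coeff (2 * n) ((∏ j ∈ range
    (2 * (L + 2)), ga q (2 * (j + 1))) * (∏ j ∈ range (2 * (L + 2)), gb False 0 j) ^ 4) ≤ 19 * q ^ n := by
  have h0 := bd_ga.1.prod_ga hq two_pos (2 * L + 1)
  have h1 := h0.pass_zero hq (bd_ga.2.prod_ga hq one_lt_two (2 * L + 1)) L
  have h2 := h1.1.pass_zero hq h1.2 L
  have h3 := h2.1.pass_zero hq h2.2 L
  have h4 := (h3.1.pass_zero hq h3.2 L).1.mono (a' := 17) (by norm_num) n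
  have h5 := h0.mono (a' := 2) (by norm_num) n
  rw [← Nat.cast_le (α := ℝ), pow_succ _ 3, pow_succ _ 2, sq, ← mul_assoc, ← mul_assoc, ← mul_assoc,
    prod_eq_one (f := gb False 0) fun j _ => by simp [gb], one_pow, mul_one]
  push_cast
  exact (add_le_add h4 h5).trans_eq (by ring)

end Cfsg.Agent.H7.WU
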