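import Cfsg.Agent.H7.WU6
import Cfsg.Agent.H13.Wall3

/-!
Class numbers of symplectic and orthogonal groups in odd characteristic.
-/

set_option autoImplicit false
set_option linter.dupNamespace false

namespace Cfsg.Agent.H7.WU

open Module H28 Finset Polynomial KG QuadraticMap H13

universe u

variable {F : Type u} {V W : Type*} [Field F] [AddCommGroup V] [Module F V] [AddCommGroup W] [Module F W]
  [FiniteDimensional F V] [FiniteDimensional F W] [Fintype F] {G : Type*} [Group G] {ρ : G →* End F V}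

theorem card_le_encard {B : V →ₗ[F] V →ₗ[F] F} {N : V → F} {ε δ : F} (h : Rl (σ := .id F) ρ B N)
    (hN : ∀ g : V ≃ₗ[F] V, (∀ x y, B (g x) (g y) = B x y) → ∀ x, N (g x) = N x)
    (hI : ∀ g, IS B ε (ρ g) (ρ g⁻¹)) (hδ : ¬ IsSquare δ) :
    (Nat.card (ConjClasses G) : ℕ∞) ≤ {d | ∃ g, Has B ε δ (ρ g) (ρ g⁻¹) d}.encard := by
  choose d hd using fun g => (hI g).exists_has hδ
  refine ENat.natCast_toNat_le_self _ |>.trans ((Set.encard_univ _).ge.trans (Set.encard_le_encard_of_injOn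
    (f := fun c => d c.out) (fun c _ => ⟨_, hd _⟩) fun c _ c' _ e => ?_))
  obtain ⟨g, h1, h2⟩ := (hd c.out).exists_iso (hI _) (hI _) (by rintro rfl; simp at hδ) ((show d c'.out = d c.out from e.symm) ▸ hd c'.out)
  exact Quotient.out_equiv_out.1 (h.isConj h1 (hN g h1) h2)

omit [FiniteDimensional F V] [Fintype F] in
theorem is_of_rl {B : V →ₗ[F] V →ₗ[F] F} {N : V → F} {ε : F} (h : Rl (σ := .id F) ρ B N) (h2 : (2 : F) ≠ 0)
    (h3 : ε * ε = 1) (h4 : ∀ x y, B y x = ε * B x y) (h5 : ∀ x, (∀ y, B x y = 0) → x = 0) (g : G) :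
    IS B ε (ρ g) (ρ g⁻¹) :=
  ⟨h2, h3, h4, fun x hx => h5 x fun y => by rw [h4, hx, mul_zero], h.pres g, by simp [← map_mul],
    by simp [← map_mul]⟩

theorem three_le (h2 : (2 : F) ≠ 0) : 3 ≤ Fintype.card F := by
  have := Fintype.one_lt_card (α := F)
  have := Nat.odd_iff.1 (odd_card_of_two_ne_zero h2)
  omega

theorem card_sp_le (h2 : (2 : F) ≠ 0) (n : ℕ) :
    5 * Nat.card (ConjClasses (Matrix.symplecticGroup (Fin n) F)) ≤ 54 * Fintype.card F ^ n := by
  obtain ⟨δ, hδ⟩ := FiniteField.exists_nonsquare (ringChar_ne_two_of_two_ne_zero h2)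
  have hI := is_of_rl (ε := -1) (rl_sp (ι := Fin n)) h2 (by simp) (by simpa using H12.sd_spB.skew)
    H12.sd_spB.sep
  refine (Nat.mul_le_mul_left _ (Nat.cast_le.1 ((card_le_encard rl_sp (fun _ _ _ => rfl) hI hδ).trans
    ((Set.encard_le_encard ?_).trans (encard_valid_le h2 1 True (n := 2 * n) (by omega)))))).trans
      (coeff_sp_le (three_le h2) n n)
  rintro d ⟨g, hg⟩
  refine ⟨?_, .inl trivial⟩
  simpa [two_mul] using hg.valid (hI g) (by rintro rfl; simp at hδ) (e := 1) fun r => by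
    rw [← pow_succ, neg_one_pow_eq_one_iff_even fun e => h2 (by linear_combination -e), Nat.even_iff]
    omega

variable {Q : QuadraticForm F V} {R : QuadraticForm F W}

theorem card_O_le (h2 : (2 : F) ≠ 0) (hQ : ND Q) (h : Rl (σ := .id F) ρ (polarBilin Q) Q) {n : ℕ}
    (hn : finrank F V = 2 * n) : 2 * Nat.card (ConjClasses G) ≤ 19 * Fintype.card F ^ n := by
  classical
  obtain ⟨δ, hδ⟩ := FiniteField.exists_nonsquare (ringChar_ne_two_of_two_ne_zero h2)
  have hI := is_of_rl (ε := 1) h h2 (by simp) (fun x y => by simp [polar_comm Q x]) hQ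
  have h1 := card_le_encard h (fun g hg x => mul_left_cancel₀ h2 (by simpa using hg x x)) hI hδ
  set A := {d | ∃ g, Has (polarBilin Q) 1 δ (ρ g) (ρ g⁻¹) d}
  have h3 : ∀ d ∈ A, Valid 0 (2 * n) d := fun d ⟨g, hg⟩ =>
    hn ▸ hg.valid (hI g) (by rintro rfl; simp at hδ) fun r => by
      rw [mul_one, neg_one_pow_eq_one_iff_even fun e => h2 (by linear_combination -e), Nat.even_iff]
  let J : Set (Dat F) := {d | ∀ p ∈ d.1, p.1 % 2 ≠ 0}
  let p (m : Multiset (ℕ × Bool)) := Classical.epsilon fun p => p.1 % 2 = 0 ∧ p ∈ m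
  let φ (d : Dat F) : Dat F := (d.1, symmDiff d.2.1 {p d.1}, d.2.2)
  have h4 : Function.Injective φ := fun d d' e => by
    simp only [φ, Prod.mk.injEq] at e
    exact Prod.ext e.1 (Prod.ext (symmDiff_left_injective _ (e.1 ▸ e.2.1)) e.2.2)
  have h5 : Disjoint A (φ '' (A \ J)) := Set.disjoint_left.2 (by
    rintro _ ⟨g, hg⟩ ⟨d, ⟨⟨g', hg'⟩, -⟩, rfl⟩
    have := hg.even (hI g) (hI g') hδ hg' rfl rfl
    dsimp only [φ] at this
    by_cases e : p d.1 ∈ d.2.1
    · rw [symmDiff_of_ge (singleton_subset_iff.2 e), sdiff_singleton_eq_erase, ← card_erase_add_one e,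
        Nat.even_iff] at this
      omega
    · rw [(disjoint_singleton_right.2 e).symmDiff_eq_sup, sup_eq_union,
        card_union_of_disjoint (disjoint_singleton_right.2 e), card_singleton, Nat.even_iff] at this
      omega)
  have h6 := (encard_valid_le h2 0 True (n := 2 * n) (K := 2 * (n + 2)) (by omega)).trans'
    (Set.encard_le_encard (s := A ∪ φ '' (A \ J)) ?_)
  have h7 := (encard_valid_le h2 0 False (n := 2 * n) (K := 2 * (n + 2)) (by omega)).trans'
    (Set.encard_le_encard (s := A ∩ J) fun d hd => ⟨h3 d hd.1, .inr hd.2⟩)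
  · rw [Set.encard_union_eq h5, h4.encard_image] at h6
    refine le_trans (Nat.cast_le (α := ℕ∞).1 ?_) (coeff_o_le (three_le h2) n n)
    rw [two_mul, Nat.cast_add, Nat.cast_add]
    refine (add_le_add h1 h1).trans (le_trans ?_ (add_le_add h6 h7))
    rw [add_assoc, Set.encard_sdiff_add_encard_inter]
  · rintro _ (hd | ⟨d, ⟨hd, hd'⟩, rfl⟩)
    · exact ⟨h3 _ hd, .inl trivial⟩
    refine ⟨⟨fun x hx => ?_, (h3 d hd).eval, (h3 d hd).rev, (h3 d hd).sum⟩, .inl trivial⟩
    rcases mem_symmDiff.1 hx with hx | hx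
    · exact (h3 d hd).mem x hx.1
    · rw [mem_singleton.1 hx.1]
      exact Classical.epsilon_spec (p := fun p : ℕ × Bool => p.1 % 2 = 0 ∧ p ∈ d.1) (by
        by_contra! e
        exact hd' fun p hp e' => e p e' hp)

/-- The polynomial `g` is the characteristic polynomial of an isometry. -/
def Re (Q : QuadraticForm F V) (g : F[X]) : Prop := ∃ a : End F V, (∀ x, Q (a x) = Q x) ∧ a.charpoly = g

omit [Fintype F] in
theorem Re.of_equiv {g : F[X]} (h : Re R g) (e : W ≃ₗ[F] V) (he : ∀ x, Q (e x) = R x) : Re Q g := by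
  obtain ⟨a, h1, rfl⟩ := h
  refine ⟨e.conj a, fun x => ?_, e.charpoly_conj a⟩
  obtain ⟨x, rfl⟩ := e.surjective x
  simp [LinearEquiv.conj_apply, he, h1]

theorem exists_re_of_ne {m : ℕ} {g : F[X]} (hg : g ∈ pal F m) (h : g.eval 1 * g.eval (-1) ≠ 0) :
    ∃ R : QuadraticForm F (Fin m ⊕ Fin m → F), ND R ∧ Re R g ∧ disc R = sgn (g.eval 1 * g.eval (-1)) *
      sgn (gdet (H12.spB (Fin m) F) (Pi.basisFun F _)) := by
  obtain ⟨⟨hm, hd⟩, hr⟩ := mem_pal.1 hg
  have h0 : g.coeff 0 = 1 := by rw [← hr, coeff_zero_reverse, hm.leadingCoeff]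
  have h1 : dl (.id F) g = g := by simp [dl_apply, h0, hr]
  obtain ⟨M, h2, rfl⟩ := exists_isSS_prod_eq hm
  have h3 : ∀ x ∈ M, x.f ≠ X := fun x hx e => by
    have := X_dvd_iff.1 ((e ▸ x.f_dvd_poly).trans (Multiset.dvd_prod (Multiset.mem_map_of_mem _ hx)))
    simp [h0] at this
  have h4 : IsSS (M.map (dual (σ := .id F) fun _ => rfl)) := by
    rw [IsSS, Multiset.forall_mem_map_iff]; exact h2
  obtain ⟨A, C, rfl, h5, h6⟩ := exists_nds (n := Fin m ⊕ Fin m) _ h3 (h4.eq_of_prod_eq h2 (by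
    rw [← h1, h4.map_poly, h2.map_poly, map_multiset_prod, Multiset.map_map, Multiset.map_map]
    exact congrArg _ (Multiset.map_congr rfl fun x hx => dual_f _ (h3 x hx))))
    (by rw [← natDegree_prod_poly, hd]; simp [two_mul])
  rw [med, ← charpoly_eq_prod_ed] at *
  generalize Matrix.toLin' A = a at *
  rw [LinearMap.eval_charpoly, LinearMap.eval_charpoly, ← map_mul] at h ⊢
  have h7 : ∀ v, a (a v) = v → v = 0 := fun v hv => by
    refine (LinearMap.ker_eq_bot'.1 (LinearMap.isUnit_iff_ker_eq_bot _ |>.1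
      ((LinearMap.isUnit_iff_isUnit_det _).2 h.isUnit))) v ?_
    simp [hv]
    abel
  obtain ⟨B, h8, h9⟩ := h5.exists_sd h6 (.inr h7)
  obtain ⟨e, he⟩ := h8.exists_equiv_sp (m := m) (by simp [two_mul])
  have D := h8.wittData.nds
  let R := LinearMap.BilinMap.toQuadraticMap ((B : _ →ₗ[F] _ →ₗ[F] F) ∘ₗ a)
  have h10 : polarBilin R = LinearMap.BilinForm.compLeft B (a - D.adj a) := LinearMap.ext₂ fun x y => by
    simp [R, LinearMap.BilinMap.polar_toQuadraticMap, D.adj_apply, h8.skew (a y), sub_eq_add_neg]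
  have h11 : LinearMap.det (a - D.adj a) = LinearMap.det ((algebraMap F _ 1 - a) * (algebraMap F _ (-1) - a)) := by
    rw [← mul_one (LinearMap.det _), show (algebraMap F _ 1 - a) * (algebraMap F _ (-1) - a) = a * a - 1 from
      LinearMap.ext fun v => by simp; abel, ← D.adj_mul_self h9, ← sub_mul, map_mul]
    simp [LinearMap.det_eq_sign_charpoly_coeff a, h0, ← two_mul]
  have h12 : gdet (polarBilin R) ((Pi.basisFun F _).map e.symm) = LinearMap.det (a - D.adj a) *
      gdet (H12.spB (Fin m) F) (Pi.basisFun F _) := by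
    rw [gdet_eq_toMatrix, h10, LinearMap.BilinForm.toMatrix_compLeft, Matrix.det_mul, Matrix.det_transpose,
      LinearMap.det_toMatrix, ← gdet_eq_toMatrix]
    simp [gdet, ← he]
  have h13 := gdet_ne_zero (LinearMap.BilinForm.Nondegenerate.ofSeparatingLeft (H12.sd_spB (l := Fin m) (F := F)).sep)
    (Pi.basisFun F _)
  have h14 : ND R := (nondegenerate_of_gdet_ne_zero _ (h12.trans_ne (mul_ne_zero (h11 ▸ h) h13))).1
  exact ⟨R, h14, ⟨a, fun v => h9 (a v) v, rfl⟩, by
    rw [h14.disc_eq ((Pi.basisFun F _).map e.symm), h12, h11, sgn_mul h h13]⟩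

theorem exists_of_root (h2 : (2 : F) ≠ 0) {m : ℕ} {g : F[X]} (hg : g ∈ pal F (m + 1)) {c : F}
    (hc : c * c = 1) (h : g.eval c = 0) : ∃ g' ∈ pal F m, g = g' * (X - C c) ^ (2 * 1) := by
  obtain ⟨⟨hm, hd⟩, hr⟩ := mem_pal.1 hg
  have h0 := monic_X_sub_C c
  obtain ⟨g, rfl⟩ := dvd_iff_isRoot.2 h
  rw [h0.natDegree_mul (h0.of_mul_monic_left hm), natDegree_X_sub_C] at hd
  have h1 : (X - C c).reverse = -C c * (X - C c) := by
    rw [sub_eq_add_neg, ← C_neg, reverse_add_C, show (X : F[X]).reverse = 1 by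
      simpa using (reverse_X_mul (1 : F[X])).trans (reverse_C 1)]
    simp only [natDegree_X, pow_one, C_neg]
    linear_combination -(by rw [← C_mul, hc, C_1] : C c * C c = 1)
  have h3 := hr
  rw [reverse_mul_of_domain, h1, mul_comm (-C c), mul_assoc, mul_right_inj' h0.ne_zero] at h3
  have h4 := congrArg (eval c) h3
  simp only [eval_mul, eval_neg, eval_C, eval_reverse hc, show g.natDegree = 2 * m + 1 by omega, pow_succ,
    pow_mul, pow_zero, one_mul, hc, one_pow] at h4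
  obtain ⟨g, rfl⟩ := dvd_iff_isRoot.2 (show IsRoot g c from (mul_eq_zero.1
    (by linear_combination -h4 - g.eval c * hc)).resolve_left h2)
  rw [← mul_assoc, ← _root_.sq, mul_comm] at hm hr ⊢
  refine ⟨g, mem_pal.2 ⟨⟨(h0.pow 2).of_mul_monic_right hm, ?_⟩, ?_⟩, rfl⟩
  · rw [h0.natDegree_mul ((h0.pow 2).of_mul_monic_right hm), natDegree_X_sub_C] at hd
    omega
  · rwa [reverse_mul_of_domain, reverse_sq hc 1, mul_left_inj' (h0.pow 2).ne_zero] at hr

theorem re_of_root (h2 : (2 : F) ≠ 0) (hQ : ND Q) {m : ℕ} (hV : finrank F V = 2 * (m + 1))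
    (ih : ∀ g ∈ pal F m, ∃ R : QuadraticForm F (Fin m ⊕ Fin m → F), ND R ∧ Re R g) {g : F[X]}
    (hg : g ∈ pal F (m + 1)) (h : g.eval 1 * g.eval (-1) = 0) : Re Q g := by
  obtain ⟨c, hc, h⟩ : ∃ c : F, c * c = 1 ∧ g.eval c = 0 :=
    (mul_eq_zero.1 h).elim (⟨1, by simp, ·⟩) (⟨-1, by simp, ·⟩)
  obtain ⟨g, hg', rfl⟩ := exists_of_root h2 hg hc h
  obtain ⟨R, hR, a, ha, rfl⟩ := ih g hg'
  obtain ⟨U, _, _, _, S, e, he⟩ := hR.exists_compl hQ (k := m) (by simp [two_mul]) hV m.lt_succ_self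
  refine Re.of_equiv ⟨a.prodMap (c • 1), fun x => by simp [ha, QuadraticMap.map_smul, hc], ?_⟩ e he
  have := e.finrank_eq
  have h3 := LinearMap.charpoly_sub_smul (0 : End F U) (-c)
  simp [hV] at this h3
  rw [LinearMap.charpoly_prodMap, h3, show finrank F U = 2 * 1 by omega, sub_eq_add_neg]

theorem exists_re (h2 : (2 : F) ≠ 0) (m : ℕ) :
    ∀ g ∈ pal F m, ∃ R : QuadraticForm F (Fin m ⊕ Fin m → F), ND R ∧ Re R g := by
  induction m with
  | zero => exact fun g hg => (exists_re_of_ne hg (by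
      simp [(mem_pal.1 hg).1.1.natDegree_eq_zero.1 (mem_pal.1 hg).1.2])).imp fun _ h => ⟨h.1, h.2.1⟩
  | succ m ih =>
    intro g hg
    by_cases h : g.eval 1 * g.eval (-1) = 0
    · exact ⟨_, nd_QPlus, re_of_root h2 nd_QPlus (by simp [two_mul]) ih hg h⟩
    · exact (exists_re_of_ne hg h).imp fun _ h => ⟨h.1, h.2.1⟩

theorem le_card_O (h2 : (2 : F) ≠ 0) (hQ : ND Q) (h : Rl (σ := .id F) ρ (polarBilin Q) Q) {n : ℕ}
    (hn : finrank F V = 2 * (n + 2)) : Fintype.card F ^ (n + 2) ≤ 2 * Nat.card (ConjClasses G) := by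
  classical
  obtain ⟨δ, hδ⟩ := FiniteField.exists_nonsquare (ringChar_ne_two_of_two_ne_zero h2)
  have hδ0 : δ ≠ 0 := by rintro rfl; simp at hδ
  have h4 : (4 : F) ≠ 0 := fun e => h2 (pow_eq_zero_iff two_ne_zero |>.1 (by linear_combination e))
  have h1 : #{g ∈ pal F (n + 2) | Re Q g} ≤ Nat.card (ConjClasses G) := by
    have : Finite V := Module.finite_of_finite F
    have : Finite (End F V) := Finite.of_injective _ DFunLike.coe_injective
    have := Finite.of_injective _ h.inj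
    choose x hx using fun g : {g ∈ pal F (n + 2) | Re Q g} => show ∃ x, (ρ x).charpoly = g by
      obtain ⟨a, ha, e⟩ := (mem_filter.1 g.2).2
      obtain ⟨x, rfl⟩ := (h.range a).2 ⟨polar_map ha, ha⟩
      exact ⟨x, e⟩
    rw [← Nat.card_eq_finsetCard]
    exact Nat.card_le_card_of_injective (fun g => ConjClasses.mk (x g)) fun g g' e => Subtype.ext (by
      rw [← hx, ← hx, (sim_of_isConj ρ (ConjClasses.mk_eq_mk_iff_isConj.1 e)).charpoly_eq])
  have h3 : ∀ g ∈ pal F (n + 2), g.eval 1 * g.eval (-1) ≠ 0 → sgn (g.eval 1 * g.eval (-1)) *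
      sgn (gdet (H12.spB (Fin (n + 2)) F) (Pi.basisFun F _)) = disc Q → Re Q g := fun g hg e e' => by
    obtain ⟨R, h3, h4, h5⟩ := exists_re_of_ne hg e
    obtain ⟨e, he⟩ := h3.equiv_of_isPlus_iff hQ (by simp [two_mul]) hn (by
      rw [h3.isPlus_iff_disc h2 (m := n + 2) (by simp [two_mul]), hQ.isPlus_iff_disc h2 hn, h5, e'])
    exact h4.of_equiv e he
  let φ (g : F[X]) := g + C ((δ - 1) * g.eval 1 / 4) * (X ^ (n + 1) + C 2 * X ^ (n + 2) + X ^ (n + 3))
  have h5 : ∀ g, (φ g).eval 1 = δ * g.eval 1 := fun g => by simp [φ]; field_simp; ring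
  have h6 : ∀ g, (φ g).eval (-1) = g.eval (-1) := fun g => by simp [φ, pow_succ]; right; ring
  rw [← card_pal, ← card_filter_add_card_filter_not (Re Q), two_mul]
  refine add_le_add h1 (le_trans (card_le_card_of_injOn φ (fun g hg => ?_) fun g _ g' _ e => ?_) h1)
  · obtain ⟨hg, h7⟩ := mem_filter.1 hg
    obtain ⟨⟨hm, hd⟩, hr⟩ := mem_pal.1 hg
    have h8 : g.eval 1 * g.eval (-1) ≠ 0 := fun e => h7 (re_of_root h2 hQ hn (exists_re h2 _) hg e)
    have h9 : (C ((δ - 1) * g.eval 1 / 4) * (X ^ (n + 1) + C 2 * X ^ (n + 2) + X ^ (n + 3))).natDegree <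
        g.natDegree := lt_of_le_of_lt (b := n + 3) (by compute_degree) (by omega)
    have h10 : φ g ∈ pal F (n + 2) := mem_pal.2 ⟨⟨hm.add_of_left (degree_lt_degree h9),
      (natDegree_add_eq_left_of_natDegree_lt h9).trans hd⟩, by
        rw [reverse, natDegree_add_eq_left_of_natDegree_lt h9, reflect_add, ← reverse, hr, hd]
        simp only [reflect_C_mul, reflect_add, reflect_monomial, revAt_le (show n + 1 ≤ 2 * (n + 2) by omega),
          revAt_le (show n + 2 ≤ 2 * (n + 2) by omega), revAt_le (show n + 3 ≤ 2 * (n + 2) by omega), φ,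
          show 2 * (n + 2) - (n + 1) = n + 3 by omega, show 2 * (n + 2) - (n + 2) = n + 2 by omega,
          show 2 * (n + 2) - (n + 3) = n + 1 by omega]
        ring⟩
    refine mem_filter.2 ⟨h10, h3 _ h10 (by rw [h5, h6, mul_assoc]; exact mul_ne_zero hδ0 h8) ?_⟩
    rw [h5, h6, mul_assoc, sgn_mul hδ0 h8, sgn_eq_neg_one_iff.2 hδ, mul_assoc, neg_one_mul,
      neg_eq_iff_eq_neg, ← Int.units_ne_iff_eq_neg]
    exact mt (h3 g hg h8) h7
  · have := mul_left_cancel₀ hδ0 ((h5 g).symm.trans ((congrArg _ e).trans (h5 g')))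
    simpa [φ, this] using e

end Cfsg.Agent.H7.WU
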