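import Cfsg.Agent.H7.WU7

/-!
Class numbers of subgroups of index four; further power series bounds.
-/

set_option autoImplicit false
set_option linter.dupNamespace false

namespace Cfsg.Agent.H7.WU

open Finset

section Group
variable {G : Type*} [Group G] [Finite G]

theorem card_comm_le (S : G → Prop) : Nat.card {p : G × G // Commute p.1 p.2 ∧ S p.1} ≤
    Nat.card {c : ConjClasses G // ∃ x, ConjClasses.mk x = c ∧ S x} * Nat.card G := by
  choose g hg using fun x : G => isConj_iff.1 (Quotient.mk_out (s := IsConj.setoid G) x)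
  rw [← Nat.card_prod]
  refine Nat.card_le_card_of_injective (fun p => (⟨_, p.1.1, rfl, p.2.2⟩, p.1.2 * g p.1.1)) ?_
  rintro ⟨⟨x, y⟩, h, _⟩ ⟨⟨x', y'⟩, h', _⟩ e
  simp only [Prod.mk.injEq, Subtype.mk.injEq] at e ⊢
  have h1 : ∀ {x y : G}, Commute x y → y * g x * (ConjClasses.mk x).out * (y * g x)⁻¹ = x := fun {x y} h => by
    rw [mul_inv_rev, mul_assoc y, mul_assoc y, ← mul_assoc _ _ y⁻¹]
    exact (congrArg (fun t => y * (t * y⁻¹)) (hg x)).trans (by rw [← mul_assoc, ← h.eq, mul_inv_cancel_right])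
  obtain rfl : x = x' := (h1 h).symm.trans (by rw [e.1, e.2, h1 h'])
  exact ⟨rfl, mul_right_cancel e.2⟩

theorem card_ker_le (χ θ : G →* ℤˣ) {z : G} (hz : ∀ g, Commute z g) (h1 : χ z = -1) (h2 : θ z = 1) :
    4 * Nat.card (ConjClasses (χ.prod θ).ker) ≤ Nat.card (ConjClasses G) +
      3 * Nat.card {c : ConjClasses G // ∃ x, ConjClasses.mk x = c ∧ ∀ y, Commute x y → θ y = 1} := by
  classical
  have := Fintype.ofFinite G
  let P (s t : ℤˣ) : Finset (G × G) := {p | Commute p.1 p.2 ∧ θ p.1 = s ∧ θ p.2 = t}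
  have a1 : #(P 1 (-1)) ≤ #(P (-1) 1) := card_le_card_of_injOn Prod.swap
    (fun p hp => by simp [P] at hp ⊢; exact ⟨hp.1.symm, hp.2.symm⟩) Prod.swap_injective.injOn
  have a2 : #(P (-1) 1) ≤ #(P (-1) (-1)) := card_le_card_of_injOn (fun p => (p.1, p.1 * p.2))
    (fun p hp => by simp [P] at hp ⊢; simp [hp]) fun p _ q _ e => by
      simp only [Prod.mk.injEq] at e
      exact Prod.ext e.1 (mul_left_cancel (e.2.trans (by rw [e.1])))
  have a3 := card_comm_le fun _ : G => True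
  rw [Nat.subtype_card _ fun _ => mem_filter_univ _, Nat.card_congr (Equiv.subtypeUnivEquiv fun c =>
    (ConjClasses.mk_surjective c).imp fun _ h => ⟨h, trivial⟩), card_eq_sum_card_fiberwise (t := univ)
    (f := fun p => (θ p.1, θ p.2)) (by simp), Fintype.sum_prod_type, UnitsInt.univ] at a3
  simp only [sum_pair (show (1 : ℤˣ) ≠ -1 by decide), filter_filter, and_true, Prod.mk.injEq] at a3
  change #(P 1 1) + #(P 1 (-1)) + (#(P (-1) 1) + #(P (-1) (-1))) ≤ _ at a3
  have a4 := card_comm_le fun x : G => ∀ y, Commute x y → θ y = 1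
  rw [Nat.subtype_card _ fun _ => mem_filter_univ _] at a4
  have a5 : #{p ∈ P 1 1 | ¬ ∀ y, Commute p.1 y → θ y = 1} ≤ #(P 1 (-1)) := by
    have : ∀ x : G, ∃ y, (¬ ∀ y, Commute x y → θ y = 1) → Commute x y ∧ θ y = -1 := fun x => by
      by_cases h : ∀ y, Commute x y → θ y = 1
      · exact ⟨1, (absurd h ·)⟩
      · push Not at h
        exact h.imp fun y hy _ => ⟨hy.1, Int.units_ne_iff_eq_neg.1 hy.2⟩
    choose w hw using this
    refine card_le_card_of_injOn (fun p => (p.1, p.2 * w p.1)) (fun p hp => ?_) fun p _ q _ e => ?_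
    · simp only [P, coe_filter, mem_filter, mem_univ, true_and, Set.mem_ofPred_eq] at hp ⊢
      simp [hp.1, hw _ hp.2]
    · simp only [Prod.mk.injEq] at e
      exact Prod.ext e.1 (mul_right_cancel (e.2.trans (by rw [e.1])))
  have a6 := card_filter_add_card_filter_not (s := P 1 1) fun p => ∀ y, Commute p.1 y → θ y = 1
  have a7 : #{p ∈ P 1 1 | ∀ y, Commute p.1 y → θ y = 1} ≤ _ := (card_le_card fun p hp => by
    simp only [P, mem_filter, mem_univ, true_and] at hp ⊢; exact ⟨hp.1.1, hp.2⟩).trans a4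
  have a8 : 4 * (Nat.card (ConjClasses (χ.prod θ).ker) * Nat.card (χ.prod θ).ker) ≤ #(P 1 1) := by
    have h3 : ∀ x : (χ.prod θ).ker, χ x = 1 ∧ θ x = 1 := fun x => Prod.mk.inj x.2
    rw [← card_comm_eq_card_conjClasses_mul_card, show 4 = Nat.card (Fin 2 × Fin 2) by simp,
      ← Nat.card_prod, ← Nat.card_eq_finsetCard]
    refine Nat.card_le_card_of_injective (fun p => ⟨(z ^ p.1.1.1 * p.2.1.1, z ^ p.1.2.1 * p.2.1.2), by
      simpa [P, h2, h3] using ((hz _).pow_left _).mul_left (((hz _).pow_left _).symm.mul_right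
        (p.2.2.map (Subgroup.subtype _)))⟩) fun p q e => ?_
    have h4 : ∀ (i j : Fin 2) (x y : (χ.prod θ).ker), z ^ i.1 * x = z ^ j.1 * y → i = j ∧ x = y :=
      fun i j x y e => by
        obtain rfl : i = j := by
          have := congrArg χ e
          simp only [map_mul, map_pow, h1, h3, mul_one] at this
          clear e
          revert i j; decide
        exact ⟨rfl, Subtype.ext (mul_left_cancel e)⟩
    simp only [Subtype.mk.injEq, Prod.mk.injEq] at e
    exact Prod.ext (Prod.ext (h4 _ _ _ _ e.1).1 (h4 _ _ _ _ e.2).1)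
      (Subtype.ext (Prod.ext (h4 _ _ _ _ e.1).2 (h4 _ _ _ _ e.2).2))
  have a9 : Nat.card G ≤ 4 * Nat.card (χ.prod θ).ker := by
    rw [← (χ.prod θ).ker.index_mul_card, Subgroup.index_ker]
    exact Nat.mul_le_mul_right _ ((Subgroup.card_le_card_group _).trans (by simp))
  refine Nat.le_of_mul_le_mul_right ?_ (Nat.card_pos (α := G))
  have := Nat.mul_le_mul_left (4 * Nat.card (ConjClasses (χ.prod θ).ker)) a9
  nlinarith

end Group

open PowerSeries

variable {q ρ : ℕ} {R S : ℕ⟦X⟧} {a a' b : ℝ}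

theorem Bd.add (h : Bd q R ρ a) (h' : Bd q S ρ b) : Bd q (R + S) ρ (a + b) := fun i => by
  rw [map_add, Nat.cast_add, add_mul]
  exact add_le_add (h i) (h' i)

theorem Bd.mul_X (hq : 3 ≤ q) (h : Bd q R 0 a) (h' : Bd q R 1 b) :
    Bd q (R * X) 0 (b / 3) ∧ Bd q (R * X) 1 a := by
  refine ⟨fun i => ?_, fun i => by simpa using h i⟩
  have := h'.nonneg
  rcases i with _ | i
  · simp; positivity
  · rw [show 2 * (i + 1) + 0 = 2 * i + 1 + 1 from rfl, coeff_succ_mul_X]
    exact (h' i).trans ((mul_le_mul_of_nonneg_left (pow_le_third hq i 1) this).trans_eq (by ring))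

/-- The series `1 + X ∏ (1 + X ^ (2 l + 3))`. -/
noncomputable def gh (K : ℕ) : ℕ⟦X⟧ := 1 + (∏ l ∈ range K, (1 + X ^ (2 * (l + 1) + 1))) * X

theorem Bd.pass_h (hq : 3 ≤ q) (h : Bd q R 0 a) (h' : Bd q R 1 b) (K : ℕ) :
    Bd q (R * gh K) 0 (13 / 11 * a + 4 / 11 * b) ∧ Bd q (R * gh K) 1 (12 / 11 * a + 13 / 11 * b) := by
  have := h.nonneg
  have := h'.nonneg
  have h1 : Bd q (R * ∏ l ∈ range K, (1 + X ^ (2 * (l + 1) + 1))) 0
      ((12 / 11 - 3 / 11 * (1 / 3) ^ (K + 1)) * a + (6 / 11 - 18 / 11 * (1 / 3) ^ (K + 1)) * b / 3) ∧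
      Bd q (R * ∏ l ∈ range K, (1 + X ^ (2 * (l + 1) + 1))) 1
      ((6 / 11 - 18 / 11 * (1 / 3) ^ (K + 1)) * a + (12 / 11 - 3 / 11 * (1 / 3) ^ (K + 1)) * b) := by
    induction K with
    | zero => rw [prod_range_zero, mul_one]; exact ⟨h.mono (by linarith), h'.mono (by linarith)⟩
    | succ K ih =>
      rw [prod_range_succ, ← mul_assoc]
      have h2 := ih.1.step hq ih.2 one_lt_two (k := 2 * (K + 1) + 1) (l := K + 1 + 1) rfl
      have h3 := ih.2.step hq ih.1 two_pos (k := 2 * (K + 1) + 1) (l := K + 1) rfl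
      rw [pow_succ _ (K + 1)] at h2 ⊢
      have h1 : (0 : ℝ) < (1 / 3) ^ (K + 1) := by positivity
      have h4 := mul_nonneg h.nonneg (mul_pos h1 h1).le
      have h5 := mul_nonneg h'.nonneg (mul_pos h1 h1).le
      exact ⟨h2.mono (by nlinarith), h3.mono (by nlinarith)⟩
  have h2 := h1.1.mul_X hq h1.2
  have h3 : (0 : ℝ) < (1 / 3) ^ (K + 1) := by positivity
  rw [gh, mul_add, mul_one, ← mul_assoc]
  exact ⟨(h.add h2.1).mono (by nlinarith), (h'.add h2.2).mono (by nlinarith)⟩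

theorem coeff_odd_le (hq : 3 ≤ q) (L n : ℕ) : 5 * (coeff (2 * n + 1) ((∏ j ∈ range (2 * (L + 2)),
    ga q (2 * (j + 1))) * (∏ j ∈ range (2 * (L + 2)), gb True 0 j) ^ 4) + 6 * coeff (2 * n + 1) ((∏ j ∈
    range (2 * (L + 2)), ga q (2 * (j + 1))) * gh (2 * (L + 2)) ^ 2)) ≤ 292 * q ^ n := by
  have h0 := bd_ga.1.prod_ga hq two_pos (2 * L + 1)
  have h0' := bd_ga.2.prod_ga hq one_lt_two (2 * L + 1)
  have h1 := h0.pass_zero hq h0' L
  have h2 := h1.1.pass_zero hq h1.2 L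
  have h3 := h2.1.pass_zero hq h2.2 L
  have h4 := (h3.1.pass_zero hq h3.2 L).2.mono (a' := 30) (by norm_num) n
  have h5 := h0.pass_h hq h0' (2 * (L + 2))
  have h6 := (h5.1.pass_h hq h5.2 (2 * (L + 2))).2.mono (a' := 4.7) (by norm_num) n
  rw [← Nat.cast_le (α := ℝ), pow_succ _ 3, pow_succ _ 2, sq, sq, ← mul_assoc, ← mul_assoc, ← mul_assoc,
    ← mul_assoc]
  push_cast
  have := add_le_add h4 (mul_le_mul_of_nonneg_left h6 (by norm_num : (0 : ℝ) ≤ 6))
  exact (mul_le_mul_of_nonneg_left this (by norm_num)).trans (by nlinarith [show (0 : ℝ) ≤ q ^ n by positivity])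

end Cfsg.Agent.H7.WU
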