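import Cfsg.Agent.H7.WV1

/-!
Counting the invariants of isometries with small centralizers.
-/

set_option autoImplicit false
set_option linter.dupNamespace false

namespace Cfsg.Agent.H7.WU

open H28 Finset Polynomial KG

/-- The weight of an optional set. -/
def wo (o : Option (Finset ℕ)) : ℕ := o.elim 0 fun S => ∑ j ∈ S, (j + 1) + 1

theorem mk_wo (K : ℕ) : (PowerSeries.mk fun m =>
    #{o ∈ insertNone ((range K).image fun l => 2 * (l + 1)).powerset | wo o = m}) = gh K := by
  have : gh K = ∑ o ∈ insertNone ((range K).image fun l => 2 * (l + 1)).powerset, PowerSeries.X ^ wo o := by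
    rw [sum_insertNone, gh, ← prod_image (s := range K) (g := fun l => 2 * (l + 1))
      (f := fun j => 1 + PowerSeries.X ^ (j + 1)) fun _ _ _ _ e => by simpa using e, prod_one_add, sum_mul]
    simp only [prod_pow_eq_pow_sum, ← pow_succ]
    rfl
  ext m
  simp only [this, PowerSeries.coeff_X_pow, map_sum, PowerSeries.coeff_mk, card_filter, eq_comm]

variable {F : Type*} [Field F] [Fintype F]

open Classical in
theorem encard_split_le (h2 : (2 : F) ≠ 0) (f : ℕ → Prop) {n K : ℕ} (hK : n < K) :
    {d : Dat F | Valid 0 n d ∧ (∀ p, p.1 % 2 = 0 → d.1.count p ≤ 1) ∧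
      ∀ p, p ∈ d.2.1 ↔ p ∈ d.1 ∧ p.1 % 2 = 0 ∧ f p.1}.encard ≤ (PowerSeries.coeff n
      ((∏ j ∈ range K, ga (Fintype.card F) (2 * (j + 1))) * gh K ^ 2) : ℕ) := by
  let L : Dat F → Bool → Finset ℕ := fun d t => {j ∈ range K | j % 2 = 0 ∧ (j, t) ∈ d.1}
  let μ : Dat F → ℕ → Bool → ℕ := fun d j t =>
    if j % 2 = 0 then if j = 0 then sInf (L d t : Set ℕ) / 2 else 0 else d.1.count (j, t)
  let o : Dat F → Bool → Option (Finset ℕ) := fun d t =>
    if (L d t).Nonempty then some ((L d t).erase (sInf (L d t : Set ℕ))) else none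
  have h0 : ∀ d t, 2 * μ d 0 t = sInf (L d t : Set ℕ) := fun d t => by
    by_cases h : (L d t).Nonempty
    · have := (mem_filter.1 (Nat.sInf_mem (s := (L d t : Set ℕ)) h)).2.1
      simp only [μ, if_true]
      omega
    · simp [μ, not_nonempty_iff_eq_empty.1 h]
  have h1 : ∀ d : Dat F, Valid 0 n d → ∀ p ∈ d.1, p ∈ range K ×ˢ univ := fun d hd p hp => by
    have := Multiset.le_sum_of_mem (Multiset.mem_map_of_mem
      (fun p : ℕ × Bool => if p.1 % 2 = 0 then p.1 + 1 else 2 * (p.1 + 1)) hp)
    have := hd.sum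
    simp only [mem_product, mem_range, mem_univ, and_true]
    split_ifs at * <;> omega
  have h3 : ∀ d : Dat F, Valid 0 n d → _ := fun d hd => sum_gseq (M := d.2.2) (K := K) (by
    have := hd.sum; omega)
  have h4 : ∀ d : Dat F, Valid 0 n d → ∀ k, 2 * ((gseq d.2.2 k).natDegree / 2) = (gseq d.2.2 k).natDegree :=
    fun d hd k => Nat.two_mul_div_two_of_even (by
      have := eval_reverse (u := -1) (by simp) (gseq d.2.2 k)
      rw [hd.rev, eq_comm, mul_eq_left₀ (eval_gseq_ne (c := -1) (hd.eval true) k)] at this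
      exact (neg_one_pow_eq_one_iff_even fun e => h2 (by linear_combination -e)).1 this)
  have h5 : ∀ d : Dat F, (∀ p, p.1 % 2 = 0 → d.1.count p ≤ 1) → ∀ j t, d.1.count (j, t) =
      if j % 2 = 0 then if (j, t) ∈ d.1 then 1 else 0 else μ d j t := fun d hd j t => by
    split_ifs with e1 e2
    exacts [(hd _ e1).antisymm (Multiset.one_le_count_iff_mem.2 e2), Multiset.count_eq_zero.2 e2,
      (if_neg e1).symm]
  refine (encard_le_coeff ((range K).disjSum univ) (Sum.elim (fun j => 2 * (j + 1)) fun _ : Bool => 1)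
    (by rintro (j | p) <;> simp) (Sum.elim (fun _ d => pal F d ×ˢ {none}) fun _ m => {1} ×ˢ
      {o ∈ insertNone ((range K).image fun l => 2 * (l + 1)).powerset | wo o = m}) n _
    (fun d => Sum.elim (fun j => (gseq d.2.2 (j + 1) * (X - C (-1)) ^ (2 * μ d j true) *
      (X - C 1) ^ (2 * μ d j false), none)) fun t => (1, o d t))
    (fun d => Sum.elim (fun j => (gseq d.2.2 (j + 1)).natDegree / 2 + μ d j true + μ d j false)
      fun t => wo (o d t)) ?_ ?_ ?_).trans_eq ?_
  · rintro d ⟨hd, -⟩ (j | t) -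
    · have m1 := gseq_monic d.2.2 (j + 1)
      have m2 := fun c k => (monic_X_sub_C (c : F)).pow k
      refine mem_product.2 ⟨mem_pal.2 ⟨⟨(m1.mul (m2 _ _)).mul (m2 _ _), ?_⟩, ?_⟩, by simp⟩
      · simp only [Sum.elim_inl, (m1.mul (m2 _ _)).natDegree_mul (m2 _ _), m1.natDegree_mul (m2 _ _),
          natDegree_pow, natDegree_X_sub_C, mul_add, h4 d hd, mul_one]
      · simp only [Sum.elim_inl, reverse_mul_of_domain, hd.rev, reverse_sq (mul_one (1 : F)),
          reverse_sq (c := (-1 : F)) (by simp)]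
    · refine mem_product.2 ⟨by simp, mem_filter.2 ⟨mem_insertNone.2 fun S hS => ?_, rfl⟩⟩
      simp only [Sum.elim_inr, o, Option.mem_def, Option.ite_none_right_eq_some, Option.some.injEq] at hS
      refine mem_powerset.2 fun j hj => ?_
      rw [← hS.2, mem_erase] at hj
      have := Nat.sInf_le (s := (L d t : Set ℕ)) hj.2
      simp only [L, mem_filter, mem_range] at hj this
      exact mem_image.2 ⟨j / 2 - 1, mem_range.2 (by omega), by omega⟩
  · rintro d ⟨hd, hc, -⟩
    have h6 : ∀ t, ∑ j ∈ range K, d.1.count (j, t) * (if j % 2 = 0 then j + 1 else 2 * (j + 1)) =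
        ∑ j ∈ range K, 2 * (j + 1) * μ d j t + wo (o d t) := fun t => by
      have h6 : ∑ j ∈ L d t, (j + 1) = 2 * μ d 0 t + wo (o d t) := by
        by_cases h : (L d t).Nonempty
        · rw [← add_sum_erase _ _ (Nat.sInf_mem (s := (L d t : Set ℕ)) h), h0]
          simp [o, h, wo]
          ring
        · simp [h0, o, wo, not_nonempty_iff_eq_empty.1 h]
      rw [sum_filter, ← sum_ite_eq_of_mem' (range K) 0 (fun _ => 2 * μ d 0 t) (mem_range.2 (by omega))] at h6
      refine add_right_cancel (b := ∑ j ∈ range K, if j = 0 then 2 * μ d 0 t else 0) ?_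
      rw [add_assoc, add_comm (wo _), ← h6, ← sum_add_distrib, ← sum_add_distrib]
      refine sum_congr rfl fun j _ => ?_
      rw [h5 d hc]
      by_cases e : j % 2 = 0
      · by_cases e' : j = 0
        · subst e'; simp [add_comm]
        · simp [e, e', μ]
      · simp [e, mul_comm, show j ≠ 0 by omega]
    rw [← hd.sum, ← (h3 d hd).2, sum_multiset_map_count, sum_subset (fun p hp => h1 d hd p
      (Multiset.mem_toFinset.1 hp)) (by simp +contextual), sum_disjSum, sum_product_right]
    simp only [Sum.elim_inl, Sum.elim_inr, Fintype.sum_bool, smul_eq_mul, h6]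
    simp only [mul_add _ (_ + _), mul_add _ (_ / 2), sum_add_distrib, mul_comm 2 (_ + 1), mul_assoc, h4 d hd]
    ring
  · rintro d ⟨hd, hc, hz⟩ d' ⟨hd', hc', hz'⟩ H
    have e1 := fun j hj => eq_of_mul_pow (by simp [eval_gseq_ne (c := 1) (hd.eval false), one_add_one_eq_two, h2])
      (by simp [eval_gseq_ne (c := 1) (hd'.eval false), one_add_one_eq_two, h2])
      (congrArg Prod.fst (H (.inl j) (inl_mem_disjSum.2 hj)).1)
    have e2 := fun j hj => eq_of_mul_pow (eval_gseq_ne (hd.eval true) _)
      (eval_gseq_ne (hd'.eval true) _) (e1 j hj).2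
    have e3 : ∀ j ∈ range K, ∀ t, 2 * μ d j t = 2 * μ d' j t := fun j hj t => by
      cases t; exacts [(e1 j hj).1, (e2 j hj).1]
    have e4 : ∀ t, L d t = L d' t := fun t => by
      have e4 := e3 0 (mem_range.2 (by omega)) t
      have e5 : o d t = o d' t := congrArg Prod.snd (H (.inr t) (by simp)).1
      rw [h0, h0] at e4
      by_cases h : (L d t).Nonempty <;> by_cases h' : (L d' t).Nonempty <;> simp [o, h, h'] at e5
      · rw [← insert_erase (Nat.sInf_mem (s := (L d t : Set ℕ)) h), e5, e4,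
          insert_erase (Nat.sInf_mem (s := (L d' t : Set ℕ)) h')]
      · rw [not_nonempty_iff_eq_empty.1 h, not_nonempty_iff_eq_empty.1 h']
    have e5 : d.1 = d'.1 := Multiset.ext' fun ⟨j, t⟩ => by
      by_cases hj : j ∈ range K
      · rw [h5 d hc, h5 d' hc', Nat.eq_of_mul_eq_mul_left two_pos (e3 j hj t)]
        refine if_ctx_congr Iff.rfl (fun e => if_congr ?_ rfl rfl) fun _ => rfl
        simpa [L, e, mem_range.1 hj] using Finset.ext_iff.1 (e4 t) j
      · rw [Multiset.count_eq_zero.2 fun h => hj (mem_product.1 (h1 d hd _ h)).1,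
          Multiset.count_eq_zero.2 fun h => hj (mem_product.1 (h1 d' hd' _ h)).1]
    refine Prod.ext e5 (Prod.ext (Finset.ext fun p => by rw [hz, hz', e5])
      (gseq_injective (funext fun k => ?_)))
    by_cases hk : k ∈ Ico 1 (K + 1)
    · obtain ⟨k, rfl⟩ := Nat.exists_eq_add_of_le' (mem_Ico.1 hk).1
      exact (e2 k (by simpa using hk)).2
    · have : ∀ d : Dat F, Valid 0 n d → gseq d.2.2 k = 1 := fun d hd => not_not.1 fun h => by
        obtain ⟨x, hx, rfl⟩ := exists_of_gseq_ne h
        exact hk ((h3 d hd).1 x hx)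
      rw [this d hd, this d' hd']
  · rw [prod_disjSum, ← mk_wo]
    simp [card_pal, ga]

end Cfsg.Agent.H7.WU
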