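import Cfsg.Agent.H7.WV2
import Cfsg.Agent.H13.Low
import Cfsg.Agent.S4200

/-!
Class numbers of the groups `Ω` in odd dimension.
-/

set_option autoImplicit false
set_option linter.dupNamespace false

namespace Cfsg.Agent.H7.WU

open Module H28 Finset Polynomial KG QuadraticMap H13 Submodule

universe u

variable {F : Type u} {V W : Type*} [Field F] [AddCommGroup V] [Module F V] [AddCommGroup W] [Module F W]

/-- The Gram determinant of a block. -/
def kp (F : Type*) [Field F] (r : ℕ) : F :=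
  (Matrix.of fun i j : Fin (r + 1) => if i.1 + j.1 = r then (-1 : F) ^ i.1 else 0).det

theorem kp_ne (r : ℕ) : kp F r ≠ 0 := by
  rw [kp, show (Matrix.of fun i j : Fin (r + 1) => if i.1 + j.1 = r then (-1 : F) ^ i.1 else 0) =
    (Matrix.diagonal fun i => (-1 : F) ^ i.1).submatrix id Fin.revPerm from Matrix.ext fun i j => by
      simp only [Matrix.of_apply, Matrix.submatrix_apply, Matrix.diagonal_apply, id, Fin.ext_iff,
        Fin.revPerm_apply, Fin.val_rev]
      exact if_congr (by omega) rfl rfl, Matrix.det_permute', Matrix.det_diagonal]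
  exact mul_ne_zero (by rcases Int.units_eq_one_or (Equiv.Perm.sign (Fin.revPerm (n := r + 1))) with h | h <;>
    simp [h])
    (prod_ne_zero_iff.2 (by simp))

variable {δ : F} {a b : End F V} {ι : Type*} {r : ι → ℕ} {s t : ι → Bool} {x : ι → Bool → V}
  {R : Submodule F V}

theorem Dec.pow_eq_zero {B : V →ₗ[F] V →ₗ[F] F} {ε : F} (h : IS B ε a b) (D : Dec B ε δ a b r s t x R)
    (i u) : ((a - b) ^ (r i + 1)) (x i u) = 0 :=
  D.eq_zero h (fun l u' k => by
    rw [h.sk.pow_left, pow_pow_apply, D.gram, if_neg, mul_zero]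
    rintro ⟨rfl, e⟩; omega) fun z hz => by rw [h.symm, D.orth _ _ (D.pow_mem h _ _ _) _ hz, mul_zero]

variable [FiniteDimensional F V] [FiniteDimensional F W] [Fintype F] {Q : QuadraticForm F V}

theorem Dec.exists_refl (hQ : ND Q) (hG : Good Q) (h : IS (polarBilin Q) 1 a b)
    (D : Dec (polarBilin Q) 1 δ a b r s t x R) {t₀ : Bool} {y : V} (hy : y ∈ a.maxGenEigenspace (sg F t₀))
    {k : ℕ} {c : F} (hc : c ≠ 0) (h1 : ∀ j, polarBilin Q y (((a - b) ^ j) y) = if j = k then c else 0)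
    (h2 : ((a - b) ^ (k + 1)) y = 0) : ∃ σ : OG Q, (∀ v, σ.1 (a v) = a (σ.1 v)) ∧
      dickson hQ hG σ = (-1) ^ (k + 1) ∧
      spinor hQ hG σ = H13.sgn (2 : F) ^ (k + 1) * (H13.sgn c ^ (k + 1) * H13.sgn (kp F k)) := by
  let v (j : Fin (k + 1)) := ((a - b) ^ j.1) y
  have h3 : gdet (polarBilin Q) v = c ^ (k + 1) * kp F k := by
    refine Eq.trans ?_ ((Matrix.det_smul _ c).trans (by rw [Fintype.card_fin, kp]))
    rw [gdet]
    congr 1
    ext i j
    simp [-polarBilin_apply_apply, v, h.sk.pow_left, pow_pow_apply, h1, mul_comm c]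
  have h4 := h3.trans_ne (mul_ne_zero (pow_ne_zero _ hc) (kp_ne k))
  have h5 : LinearIndependent F v := Fintype.linearIndependent_iff.2 fun g hg =>
    congrFun (Matrix.eq_zero_of_mulVec_eq_zero h4 (funext fun i => by
      simpa [-polarBilin_apply_apply, Matrix.mulVec, dotProduct, mul_comm] using
        congrArg (polarBilin Q (v i)) hg))
  set U := span F (Set.range v)
  have h6 : gdet (polarBilin (Q.restrict U)) (Basis.span h5) = gdet (polarBilin Q) v := by
    simp [gdet, polar_restrict, Basis.span_apply]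
  have hU : ND (Q.restrict U) := (nondegenerate_of_gdet_ne_zero _ (h6.trans_ne h4)).1
  have hU' := hQ.isCompl hU
  have h7 : finrank F U = k + 1 := by simpa using finrank_eq_card_basis (Basis.span h5)
  have h8 : U ≤ a.maxGenEigenspace (sg F t₀) := span_le.2 (by
    rintro _ ⟨j, rfl⟩; exact WU.pow_mem (fun _ => h.mem_N) _ hy)
  have h9 : ∀ w ∈ U, (a - b) w ∈ U := fun w hw => (span_le (p := U.comap (a - b))).2 (by
    rintro _ ⟨j, rfl⟩
    change (a - b) (((a - b) ^ j.1) y) ∈ U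
    rw [← End.mul_apply, ← pow_succ']
    rcases (Nat.succ_le_of_lt j.2).eq_or_lt with e | e
    exacts [by rw [show j.1 + 1 = k + 1 from e, h2]; exact zero_mem _, subset_span ⟨⟨_, e⟩, rfl⟩]) hw
  let σ := extOG hU' (negOne _)
  have e1 : ∀ w ∈ U, σ.1 w = -w := fun w hw => extOG_apply_mem hU' _ ⟨w, hw⟩
  have e2 : ∀ z, (∀ w ∈ U, polarBilin Q w z = 0) → σ.1 z = z := fun z hz => extOG_apply_perp hU' _ hz
  have e3 : ∀ w, σ.1 ((a - b) w) = (a - b) (σ.1 w) := fun w => by
    obtain ⟨w, z, rfl⟩ := exists_add_of_isCompl hU' w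
    rw [map_add, map_add, map_add, e1 _ w.2, e1 _ (h9 _ w.2), e2 _ z.2, e2 _ fun u hu => by
      rw [← neg_eq_zero, ← h.sk.skew]; exact z.2 _ (h9 u hu), map_add, map_neg]
  have e4 : ∀ w ∈ a.maxGenEigenspace (sg F t₀), σ.1 w ∈ a.maxGenEigenspace (sg F t₀) := fun w hw => by
    obtain ⟨w, z, rfl⟩ := exists_add_of_isCompl hU' w
    rw [map_add, e1 _ w.2, e2 _ z.2]
    exact add_mem (neg_mem (h8 w.2)) ((Submodule.add_mem_iff_right _ (h8 w.2)).1 hw)
  have e5 := fun c => End.mapsTo_maxGenEigenspace_of_comm (.refl a) c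
  refine ⟨σ, fun w => (show _ ≤ LinearMap.eqLocus (σ.1.toLinearMap ∘ₗ a) (a ∘ₗ σ.1.toLinearMap) from
    sup_le (span_le.2 ?_) fun z hz => ?_) (D.gen (mem_top (x := w))), ?_, ?_⟩
  · rintro _ ⟨⟨i, u, j⟩, rfl⟩
    have e6 := D.pow_mem h i u j
    change σ.1 (a (((a - b) ^ j) (x i u))) = a (σ.1 (((a - b) ^ j) (x i u)))
    by_cases e : t₀ = t i
    swap
    · rw [e2 _ fun w hw => h.orth e (h8 hw) e6, e2 _ fun w hw => h.orth e (h8 hw) (e5 _ e6)]
    subst e
    have e7 := sub_mem (e4 _ (e5 _ e6)) (e5 _ (e4 _ e6))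
    refine sub_eq_zero.1 (D.eq_zero h (fun l u' k => ?_) fun z hz => by
      rw [h.symm, D.orth _ _ e7 _ hz, mul_zero])
    by_cases e8 : t l = t i
    swap
    · exact h.orth e8 (D.pow_mem h _ _ _) e7
    obtain ⟨m, hm⟩ := (End.mem_maxGenEigenspace _ _ _).1 e6
    obtain ⟨m', hm'⟩ := (End.mem_maxGenEigenspace _ _ _).1 (D.pow_mem h l u' k)
    refine pair_eq_zero (P := (polarBilin Q).flip ∘ₗ (σ.1.toLinearMap ∘ₗ a - a ∘ₗ σ.1.toLinearMap))
      (fun y z => ?_) (by rw [e8, ← two_mul]; cases t i <;> simp [sg, h.two]) _ _ _ _ hm hm'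
    have := congrArg (polarBilin Q z) (e3 (a y))
    have e9 := h.pres z (b (σ.1 (a y)))
    simp [-polarBilin_apply_apply, h.ba', h.ab', h.pres] at this e9 ⊢
    linear_combination this + e9
  · change σ.1 (a z) = a (σ.1 z)
    rw [e2 _ fun w hw => D.orth _ _ (h8 hw) _ hz, e2 _ fun w hw => D.orth _ _ (h8 hw) _ (D.inv z hz)]
  · rw [dickson_extOG hQ hG hU' hU (good_of_two_ne_zero h.two), hU.dickson_negOne _ h.two, h7]
  · rw [spinor_extOG hQ hG hU' hU (good_of_two_ne_zero h.two), hU.spinor_negOne _ h.two, h7,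
      hU.disc_eq (Basis.span h5), h6, h3, sgn_mul (pow_ne_zero _ hc) (kp_ne k), sgn_pow hc]

variable {G : Type*} [Group G] {ρ : G →* End F V}

theorem card_le_encard' {B : V →ₗ[F] V →ₗ[F] F} {N : V → F} {ε : F} (h : Rl (σ := .id F) ρ B N)
    (hN : ∀ g : V ≃ₗ[F] V, (∀ x y, B (g x) (g y) = B x y) → ∀ x, N (g x) = N x)
    (hI : ∀ g, IS B ε (ρ g) (ρ g⁻¹)) (hδ : ¬ IsSquare δ) (P : G → Prop) :
    (Nat.card {c : ConjClasses G // ∃ g, ConjClasses.mk g = c ∧ P g} : ℕ∞) ≤
      {d | ∃ g, P g ∧ Has B ε δ (ρ g) (ρ g⁻¹) d}.encard := by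
  choose d hd using fun g => (hI g).exists_has hδ
  refine ENat.natCast_toNat_le_self _ |>.trans ((Set.encard_univ _).ge.trans (Set.encard_le_encard_of_injOn
    (f := fun c => d c.2.choose) (fun c _ => ⟨_, c.2.choose_spec.2, hd _⟩) fun c _ c' _ e => ?_))
  obtain ⟨g, h1, h2⟩ := (hd c.2.choose).exists_iso (hI _) (hI _) (by rintro rfl; simp at hδ)
    ((show d c'.2.choose = d c.2.choose from e.symm) ▸ hd c'.2.choose)
  exact Subtype.ext (c.2.choose_spec.1.symm.trans ((ConjClasses.mk_eq_mk_iff_isConj.2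
    (h.isConj h1 (hN g h1) h2)).trans c'.2.choose_spec.1))

theorem card_O_odd_le (h2 : (2 : F) ≠ 0) (hQ : ND Q) (h : Rl (σ := .id F) ρ (polarBilin Q) Q) {n K : ℕ}
    (hn : finrank F V = 2 * n + 1) (hK : 2 * n + 1 ≤ K) :
    2 * Nat.card (ConjClasses G) ≤ PowerSeries.coeff (2 * n + 1)
      ((∏ j ∈ range K, ga (Fintype.card F) (2 * (j + 1))) * (∏ j ∈ range K, gb True 0 j) ^ 4) := by
  classical
  obtain ⟨δ, hδ⟩ := FiniteField.exists_nonsquare (ringChar_ne_two_of_two_ne_zero h2)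
  have hI := is_of_rl (ε := 1) h h2 (by simp) (fun x y => by simp [polar_comm Q x]) hQ
  have h1 := card_le_encard h (fun g hg x => mul_left_cancel₀ h2 (by simpa using hg x x)) hI hδ
  set A := {d | ∃ g, Has (polarBilin Q) 1 δ (ρ g) (ρ g⁻¹) d}
  have h3 : ∀ d ∈ A, Valid 0 (2 * n + 1) d := fun d ⟨g, hg⟩ =>
    hn ▸ hg.valid (hI g) (by rintro rfl; simp at hδ) fun r => by
      rw [mul_one, neg_one_pow_eq_one_iff_even fun e => h2 (by linear_combination -e), Nat.even_iff]
  let p (m : Multiset (ℕ × Bool)) := Classical.epsilon fun p => p.1 % 2 = 0 ∧ p ∈ m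
  let φ (d : Dat F) : Dat F := (d.1, symmDiff d.2.1 {p d.1}, d.2.2)
  have h4 : Function.Injective φ := fun d d' e => by
    simp only [φ, Prod.mk.injEq] at e
    exact Prod.ext e.1 (Prod.ext (symmDiff_left_injective _ (e.1 ▸ e.2.1)) e.2.2)
  have h5 : Disjoint A (φ '' A) := Set.disjoint_left.2 (by
    rintro _ ⟨g, hg⟩ ⟨d, ⟨g', hg'⟩, rfl⟩
    have := hg.even (hI g) (hI g') hδ hg' rfl rfl
    dsimp only [φ] at this
    by_cases e : p d.1 ∈ d.2.1
    · rw [symmDiff_of_ge (singleton_subset_iff.2 e), sdiff_singleton_eq_erase, ← card_erase_add_one e,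
        Nat.even_iff] at this
      omega
    · rw [(disjoint_singleton_right.2 e).symmDiff_eq_sup, sup_eq_union,
        card_union_of_disjoint (disjoint_singleton_right.2 e), card_singleton, Nat.even_iff] at this
      omega)
  have h6 := (encard_valid_le h2 0 True hK).trans' (Set.encard_le_encard (s := A ∪ φ '' A) ?_)
  · rw [Set.encard_union_eq h5, h4.encard_image] at h6
    rw [← Nat.cast_le (α := ℕ∞), two_mul, Nat.cast_add]
    exact (add_le_add h1 h1).trans h6
  · rintro _ (hd | ⟨d, hd, rfl⟩)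
    · exact ⟨h3 _ hd, .inl trivial⟩
    refine ⟨⟨fun x hx => ?_, (h3 d hd).eval, (h3 d hd).rev, (h3 d hd).sum⟩, .inl trivial⟩
    rcases mem_symmDiff.1 hx with hx | hx
    · exact (h3 d hd).mem x hx.1
    rw [mem_singleton.1 hx.1]
    refine Classical.epsilon_spec (p := fun p : ℕ × Bool => p.1 % 2 = 0 ∧ p ∈ d.1) ?_
    by_contra! e
    have h7 := (h3 d hd).sum
    refine (Nat.not_even_iff_odd.2 ⟨n, rfl⟩) (h7 ▸ Even.add (even_iff_two_dvd.2 (Multiset.dvd_sum ?_)) ?_)
    · simp only [Multiset.forall_mem_map_iff]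
      exact fun x hx => by simp [mt (e x · hx) id]
    · rw [← (sum_gseq le_rfl).2]
      refine even_sum _ fun k _ => Even.mul_left ?_ _
      have := eval_reverse (u := -1) (by simp) (gseq d.2.2 (k + 1))
      rw [(h3 d hd).rev, eq_comm, mul_eq_left₀ (eval_gseq_ne (c := -1) ((h3 d hd).eval true) _)] at this
      exact (neg_one_pow_eq_one_iff_even fun e => h2 (by linear_combination -e)).1 this

/-- The isometry group as endomorphisms. -/
def tO (Q : QuadraticForm F V) : OG Q →* End F V :=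
  LinearEquiv.automorphismGroup.toLinearMapMonoidHom.comp (OG Q).subtype

theorem rl_tO (hQ : ND Q) : Rl (σ := .id F) (tO Q) (polarBilin Q) Q :=
  rl_of_equiv (isIsom_OG Q) (wittData_quad Q hQ).nds (.refl _) fun _ _ => rfl

theorem card_Om_le (h2 : (2 : F) ≠ 0) (hQ : ND Q) {n : ℕ} (hn : finrank F V = 2 * n + 1) :
    10 * Nat.card (ConjClasses (Om Q)) ≤ 73 * Fintype.card F ^ n := by
  classical
  have : Finite V := Module.finite_of_finite F
  have : Finite (End F V) := Finite.of_injective _ DFunLike.coe_injective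
  have h := rl_tO hQ
  have := Finite.of_injective _ h.inj
  have hG : Good Q := good_of_two_ne_zero h2
  obtain ⟨δ, hδ⟩ := FiniteField.exists_nonsquare (ringChar_ne_two_of_two_ne_zero h2)
  have hδ0 : δ ≠ 0 := by rintro rfl; simp at hδ
  have hI := is_of_rl (ε := 1) h h2 (by simp) (fun x y => by simp [polar_comm Q x]) hQ
  have h1 : dickson hQ hG (negOne Q) = -1 := by simp [hQ.dickson_negOne hG h2, hn, pow_succ]
  obtain ⟨k, hk⟩ : ∃ k : ℕ, (spinor hQ hG * dickson hQ hG ^ k) (negOne Q) = 1 := by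
    rcases Int.units_eq_one_or (spinor hQ hG (negOne Q)) with e | e
    exacts [⟨0, by simp [e]⟩, ⟨1, by simp [e, h1]⟩]
  have h3 := card_ker_le _ _ (fun g => Subtype.ext (LinearEquiv.ext fun v => (g.1.map_neg v).symm)) h1 hk
  rw [show ((dickson hQ hG).prod (spinor hQ hG * dickson hQ hG ^ k)).ker = Om Q from Subgroup.ext fun g => by
    simp +contextual [hQ.mem_commutator_iff hG]] at h3
  let τ (r : ℕ) (c : F) := sgn (2 : F) ^ (r + 1) * (sgn c ^ (r + 1) * sgn (kp F r)) * ((-1) ^ (r + 1)) ^ k = 1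
  have h4 : ∀ r, r % 2 = 0 → τ r 1 → ¬ τ r δ := fun r hr e e' => by
    simp only [τ, sgn_one, sgn_eq_neg_one_iff.2 hδ, (Nat.even_iff.2 hr).add_one.neg_one_pow] at e e'
    simpa using e.trans e'.symm
  have he : ∀ r, (-1 : F) ^ r * 1 = 1 ↔ r % 2 = 0 := fun r => by
    rw [mul_one, neg_one_pow_eq_one_iff_even fun e => h2 (by linear_combination -e), Nat.even_iff]
  have h5 := Nat.cast_le.1 ((card_le_encard' h (fun g hg x => mul_left_cancel₀ h2 (by simpa using hg x x))
    hI hδ fun x => ∀ y, Commute x y → (spinor hQ hG * dickson hQ hG ^ k) y = 1).trans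
    ((encard_split_le h2 (τ · δ) (n := 2 * n + 1) (K := 2 * (n + 2)) (by omega)).trans'
      (Set.encard_le_encard ?_)))
  · have := card_O_odd_le h2 hQ h hn (K := 2 * (n + 2)) (by omega)
    have := coeff_odd_le (three_le h2) n n
    omega
  rintro d ⟨g, hg, H⟩
  refine ⟨hn ▸ H.valid (hI g) hδ0 he, ?_⟩
  obtain ⟨ι, _, r, s, t, x, R, D, rfl⟩ := H
  have h6 : ∀ {t₀ y j c}, y ∈ (tO Q g).maxGenEigenspace (sg F t₀) → c ≠ 0 → (∀ i, polarBilin Q y
      (((tO Q g - tO Q g⁻¹) ^ i) y) = if i = j then c else 0) → ((tO Q g - tO Q g⁻¹) ^ (j + 1)) y = 0 →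
      τ j c := fun hy hc e1 e2 => by
    obtain ⟨σ, e3, e4, e5⟩ := D.exists_refl hQ hG (hI g) hy hc e1 e2
    simpa [e4, e5] using hg σ (Subtype.ext (LinearEquiv.ext fun v => (e3 v).symm))
  have h7 : ∀ i, r i % 2 = 0 → τ (r i) (if s i then δ else 1) := fun i hi =>
    h6 (D.mem i false) (by split_ifs <;> simp [hδ0]) (fun j => by simp [-polarBilin_apply_apply, D.gram,
      gr, (he _).2 hi]) (D.pow_eq_zero (hI g) i false)
  have h8 : ∀ i, r i % 2 = 0 → (s i ↔ τ (r i) δ) := fun i hi =>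
    ⟨fun e => by simpa [e] using h7 i hi, fun e => by_contra fun e' => h4 _ hi (by simpa [e'] using h7 i hi) e⟩
  refine ⟨fun p hp => ?_, fun p => ?_⟩
  · rw [Multiset.count_map]
    refine (card_le_one (s := univ.filter fun a => p = (r a, t a))).2 fun i hi l hl => by_contra fun e => ?_
    obtain rfl := (mem_filter.1 hi).2
    obtain ⟨e1, e2⟩ := Prod.mk.inj (mem_filter.1 hl).2
    by_cases e3 : s i
    · exact e ((D.sgn i e3).2 l ((h8 l (e1 ▸ hp)).2 (e1 ▸ (h8 i hp).1 e3)) e1.symm e2.symm).symm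
    have e4 := mt (h8 i hp).2 e3
    have e5 := mt (h8 l (e1 ▸ hp)).1 (e1 ▸ e4)
    obtain ⟨u, v, huv⟩ := exists_mul_sq_add_mul_sq_eq one_ne_zero one_ne_zero δ
    refine e4 (h6 (add_mem (smul_mem _ u (D.mem i false)) (smul_mem _ v (e2 ▸ D.mem l false))) hδ0
      (fun j => ?_) (by simp [D.pow_eq_zero (hI g), e1 ▸ D.pow_eq_zero (hI g) l false]))
    simp [-polarBilin_apply_apply, D.gram, gr, (he _).2 hp, e, Ne.symm e, e3, e5, ← e1]
    split_ifs <;> simp [← huv, _root_.sq]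
  · simp only [mem_image, mem_filter, mem_univ, true_and, Multiset.mem_map, mem_val]
    refine ⟨?_, ?_⟩
    · rintro ⟨i, e, rfl⟩
      exact ⟨⟨i, rfl⟩, (he _).1 (D.sgn i e).1, (h8 i ((he _).1 (D.sgn i e).1)).1 e⟩
    · rintro ⟨⟨i, rfl⟩, e1, e2⟩
      exact ⟨i, (h8 i e1).2 e2, rfl⟩

theorem le_card_Om (h2 : (2 : F) ≠ 0) (hQ : ND Q) {n : ℕ} (hn : finrank F V = 2 * n + 1) :
    Fintype.card F ^ n ≤ 2 * Nat.card (ConjClasses (Om Q)) := by
  classical
  have : Finite V := Module.finite_of_finite F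
  have : Finite (End F V) := Finite.of_injective _ DFunLike.coe_injective
  have h := rl_tO hQ
  have := Finite.of_injective _ h.inj
  have h1 : (Om Q).index ≤ 4 := by
    rw [Om, hQ.commutator_eq (good_of_two_ne_zero h2), Subgroup.index_ker]
    exact (Subgroup.card_le_card_group _).trans (by simp)
  have h3 := (S4200.result (Om Q)).2.1.trans (Nat.mul_le_mul_right _ h1)
  obtain ⟨e, c, hc, he⟩ := hQ.equiv_QOdd hn
  choose x hx using fun p : pal F n × Bool => show ∃ x, (tO Q x).charpoly = p.1.1 * (X - C (sg F p.2)) by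
    obtain ⟨R, hR, a, ha, e'⟩ := exists_re h2 n _ p.1.2
    obtain ⟨e', c', hc', he'⟩ := (hR.prod (R := QOdd 0 F) (nd_QOdd h2)).equiv_QOdd (m := n) (by simp [two_mul])
    obtain ⟨x, hx⟩ := h.exists_sim_quad (e'.trans e.symm) (c := c' / c) (R := R.prod (QOdd 0 F))
      (fun x => by rw [eq_comm, div_mul_eq_mul_div, div_eq_iff hc, ← he', mul_comm, ← he]; simp)
      (a := a.prodMap (sg F p.2 • 1)) fun x => by simp [ha, QuadraticMap.map_smul, sg_mul_self]
    have h3 := LinearMap.charpoly_sub_smul (0 : End F (Unit ⊕ (Fin 0 ⊕ Fin 0) → F)) (-sg F p.2)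
    rw [show ∀ c : F, (0 - -c • 1 : End F (Unit ⊕ (Fin 0 ⊕ Fin 0) → F)) = c • 1 from
      fun c => LinearMap.ext fun v => by simp] at h3
    simp at h3
    exact ⟨x, by rw [← hx.charpoly_eq, LinearMap.charpoly_prodMap, h3, ‹a.charpoly = _›, sub_eq_add_neg]⟩
  have h4 := Nat.card_le_card_of_injective (fun g => ConjClasses.mk (x g)) fun p p' e => by
    have h4 := (sim_of_isConj (tO Q) (ConjClasses.mk_eq_mk_iff_isConj.1 e)).charpoly_eq
    rw [hx, hx] at h4
    have h5 : ∀ g : pal F n, g.1.eval 0 = 1 := fun g => by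
      rw [← coeff_zero_eq_eval_zero, ← (mem_pal.1 g.2).2, coeff_zero_reverse, (mem_pal.1 g.2).1.1.leadingCoeff]
    have h6 : p.2 = p'.2 := by
      have := congrArg (eval 0) h4
      revert this
      cases p.2 <;> cases p'.2 <;> simp [h5, sg, eq_neg_iff_add_eq_zero, neg_eq_iff_add_eq_zero,
        one_add_one_eq_two, h2]
    rw [h6, mul_left_inj' (X_sub_C_ne_zero _)] at h4
    exact Prod.ext (Subtype.ext h4) h6
  simp [card_pal] at h4 h3 ⊢
  omega

end Cfsg.Agent.H7.WU
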