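import Cfsg.Agent.H7.LS2
import Cfsg.Agent.H12.SCount
import Cfsg.Agent.H4.Rep1

/-!
The Weil representation of a finite symplectic group in odd characteristic.
-/

set_option autoImplicit false
set_option linter.dupNamespace false

namespace Cfsg.Agent.H7.LS

open Finset Module Cfsg.Agent.H12

theorem det_restrict_ne {W : Type*} [AddCommGroup W] [Module ℂ W] [FiniteDimensional ℂ W]
    {T : End ℂ W} (hT : IsUnit T) {A : Submodule ℂ W} (h : ∀ x ∈ A, T x ∈ A) :
    LinearMap.det (T.restrict h) ≠ 0 := fun e => by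
  obtain ⟨x, hx, h0⟩ := (Submodule.ne_bot_iff _).1 (LinearMap.det_eq_zero_iff_ker_ne_bot.1 e)
  refine h0 (Subtype.ext (((End.isUnit_iff T).1 hT).1 ?_))
  simpa using congrArg Subtype.val (LinearMap.mem_ker.1 hx)

/-- Normalising a projective representation by comparing two determinants. -/
theorem exists_normalize {G W : Type*} [Group G] [AddCommGroup W] [Module ℂ W]
    [FiniteDimensional ℂ W] {A C : Submodule ℂ W} (hd : finrank ℂ A = finrank ℂ C + 1)
    (R : G → End ℂ W → Prop) (ex : ∀ g, ∃ T, IsUnit T ∧ R g T)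
    (uniq : ∀ g T T', IsUnit T → R g T → R g T' → ∃ c : ℂ, T' = c • T)
    (mul : ∀ g h T S, R g T → R h S → R (g * h) (T * S)) (one : R 1 1)
    (smul : ∀ g T (c : ℂ), R g T → R g (c • T))
    (hA : ∀ g T, IsUnit T → R g T → ∀ x ∈ A, T x ∈ A)
    (hC : ∀ g T, IsUnit T → R g T → ∀ x ∈ C, T x ∈ C) :
    ∃ ρ : G →* End ℂ W, ∀ g, R g (ρ g) := by
  let Q : G → End ℂ W → Prop := fun g T => ∃ (h1 : IsUnit T) (h2 : R g T),
    LinearMap.det (T.restrict (hA g T h1 h2)) = LinearMap.det (T.restrict (hC g T h1 h2))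
  have hsm : ∀ (T : End ℂ W) (c : ℂ) (A : Submodule ℂ W) (h : ∀ x ∈ A, T x ∈ A)
      (h' : ∀ x ∈ A, (c • T) x ∈ A), LinearMap.det ((c • T).restrict h') =
        c ^ finrank ℂ A * LinearMap.det (T.restrict h) := fun T c A h h' => by
    rw [← LinearMap.det_smul]; rfl
  have hu : ∀ g T T', Q g T → Q g T' → T' = T := by
    rintro g T T' ⟨h1, h2, h3⟩ ⟨h4, h5, h6⟩
    obtain ⟨c, rfl⟩ := uniq g T T' h1 h2 h5
    have h7 := det_restrict_ne h4 (hA g _ h4 h5)
    rw [hsm T c A (hA g T h1 h2)] at h6 h7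
    have hc : c ≠ 0 := by rintro rfl; simp [hd] at h7
    rw [hsm T c C (hC g T h1 h2), h3, hd, pow_succ,
      mul_left_inj' (det_restrict_ne h1 _), mul_eq_left₀ (pow_ne_zero _ hc)] at h6
    rw [h6, one_smul]
  have hex : ∀ g, ∃ T, Q g T := fun g => by
    obtain ⟨T, h1, h2⟩ := ex g
    have h3 := det_restrict_ne h1 (hA g _ h1 h2)
    have h4 := det_restrict_ne h1 (hC g _ h1 h2)
    set c := LinearMap.det (T.restrict (hC g T h1 h2)) / LinearMap.det (T.restrict (hA g T h1 h2))
      with hc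
    refine ⟨c • T, (Units.mk0 c (div_ne_zero h4 h3) • h1.unit).isUnit, smul g T c h2, ?_⟩
    rw [hsm T c A (hA g T h1 h2), hsm T c C (hC g T h1 h2), hd, pow_succ, mul_assoc, hc,
      div_mul_cancel₀ _ h3]
  choose ρ hρ using hex
  refine ⟨⟨⟨ρ, hu 1 _ _ ⟨isUnit_one, one, ?_⟩ (hρ 1)⟩, fun g h => hu (g * h) _ _ ?_ (hρ _)⟩,
    fun g => (hρ g).2.1⟩
  · exact (LinearMap.det_id (A := ℂ) (M := A)).trans (LinearMap.det_id (A := ℂ) (M := C)).symm
  · obtain ⟨h1, h2, h3⟩ := hρ g
    obtain ⟨h4, h5, h6⟩ := hρ h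
    refine ⟨h1.mul h4, mul _ _ _ _ h2 h5, ?_⟩
    calc _ = LinearMap.det ((ρ g).restrict (hA g _ h1 h2) * (ρ h).restrict (hA h _ h4 h5)) := rfl
      _ = LinearMap.det ((ρ g).restrict (hC g _ h1 h2) * (ρ h).restrict (hC h _ h4 h5)) := by
        rw [map_mul, map_mul, h3, h6]
      _ = _ := rfl

variable {F l : Type*} [Field F] [Fintype l] (ψ : AddChar F ℂ)

/-- The Heisenberg operators. -/
def om (v : l ⊕ l → F) : End ℂ ((l → F) → ℂ) where
  toFun f x := ψ (∑ i, (2 * x i + v (.inl i)) * v (.inr i)) * f fun i => x i + v (.inl i)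
  map_add' f g := by ext x; simp [mul_add]
  map_smul' c f := by ext x; simp [mul_left_comm]

theorem om_apply (v : l ⊕ l → F) (f : (l → F) → ℂ) (x : l → F) : om ψ v f x =
    ψ (∑ i, (2 * x i + v (.inl i)) * v (.inr i)) * f fun i => x i + v (.inl i) := rfl

theorem om_zero : om ψ (0 : l ⊕ l → F) = 1 := by
  refine LinearMap.ext fun f => funext fun x => ?_
  simp [om_apply]

/-- The parity operator. -/
def par (l F : Type*) [Field F] : End ℂ ((l → F) → ℂ) := LinearMap.funLeft ℂ ℂ fun x => -x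

omit [Fintype l] in
theorem par_apply (f : (l → F) → ℂ) (x : l → F) : par l F f x = f (-x) := rfl

omit [Fintype l] in
theorem par_mul_par : par l F * par l F = 1 := by
  refine LinearMap.ext fun f => funext fun x => ?_
  simp [par_apply]

theorem par_mul_om (v : l ⊕ l → F) : par l F * om ψ v = om ψ (-v) * par l F := by
  refine LinearMap.ext fun f => funext fun x => ?_
  simp only [End.mul_apply, par_apply, om_apply, Pi.neg_apply]
  congr 2
  · exact sum_congr rfl fun i _ => by ring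
  · ext i; simp [add_comm]

variable [DecidableEq l]

theorem om_mul (u v : l ⊕ l → F) : om ψ u * om ψ v = ψ (spB l F v u) • om ψ (u + v) := by
  refine LinearMap.ext fun f => funext fun x => ?_
  simp only [End.mul_apply, om_apply, LinearMap.smul_apply, Pi.smul_apply, smul_eq_mul,
    ← mul_assoc, ← AddChar.map_add_eq_mul, spB_apply', ← sum_add_distrib, Pi.add_apply, add_assoc]
  congr 2
  exact sum_congr rfl fun i _ => by ring

theorem om_mul_neg (u : l ⊕ l → F) : om ψ u * om ψ (-u) = 1 := by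
  rw [om_mul, add_neg_cancel, om_zero, map_neg, LinearMap.neg_apply, sd_spB.self_eq_zero rfl]
  simp

variable [Fintype F] {ψ} (hψ : ψ ≠ 1) (h2 : (2 : F) ≠ 0)
include hψ h2

theorem exists_basis_om : ∃ b : Basis (l ⊕ l → F) ℂ (End ℂ ((l → F) → ℂ)), ∀ v, b v = om ψ v := by
  classical
  have hli : LinearIndependent ℂ (om (l := l) ψ) := by
    rw [Fintype.linearIndependent_iff]
    intro c hc v
    have := eq_zero_of_sum (fun u => LinearMap.mulLeftRight ℂ (om ψ u, om ψ (-u)))
      (l := fun v u => ψ (2 * spB l F v u)) (fun v v' e => by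
        refine sub_eq_zero.1 (sd_spB.sep _ fun y => ?_)
        rw [map_sub, LinearMap.sub_apply, sub_eq_zero]
        refine mul_left_cancel₀ h2 (eq_of_char hψ fun t => ?_)
        simpa [mul_left_comm] using congrFun e (t • y)) univ (fun v => c v • om ψ v)
      (fun v u => by
        rw [map_smul, LinearMap.mulLeftRight_apply, om_mul, smul_mul_assoc, om_mul,
          smul_smul (ψ _), ← AddChar.map_add_eq_mul, add_neg_cancel_comm, smul_comm]
        congr 3
        simp only [map_neg, LinearMap.neg_apply, map_add, sd_spB.self_eq_zero rfl, sd_spB.skew v u,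
          RingHom.id_apply]
        ring) hc v (mem_univ v)
    refine (smul_eq_zero.1 this).resolve_right fun e => ?_
    exact one_ne_zero (by rw [← om_mul_neg ψ v, e, zero_mul])
  exact ⟨basisOfLinearIndependentOfCardEqFinrank' _ hli (by simp [finrank_linearMap, pow_add]),
    fun v => by simp⟩

theorem exists_intertwiner (g : UG (spB l F)) :
    ∃ T : End ℂ ((l → F) → ℂ), IsUnit T ∧ ∀ v, T * om ψ v = om ψ (g.1 v) * T := by
  obtain ⟨b, hb⟩ := exists_basis_om (l := l) hψ h2
  have h1 : ∀ v, b.equiv b g.1.toEquiv (om ψ v) = om ψ (g.1 v) := fun v => by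
    rw [← hb, Basis.equiv_apply, hb]; rfl
  obtain ⟨T, hT⟩ := (AlgEquiv.ofLinearEquiv (b.equiv b g.1.toEquiv)
    (by rw [← om_zero ψ, h1, map_zero]) ((b.equiv b g.1.toEquiv).toLinearMap.map_mul_iff.2
      (b.ext fun u => b.ext fun v => by simp [hb, h1, om_mul, UG_map]))).eq_linearEquivConjAlgEquiv
  refine ⟨T, (End.isUnit_iff _).2 T.bijective, fun v => ?_⟩
  have := DFunLike.congr_fun hT (om ψ v)
  rw [AlgEquiv.ofLinearEquiv_apply, h1] at this
  rw [this]
  ext1 x
  simp [LinearEquiv.conjAlgEquiv_apply]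

theorem scalar_of_comm {S : End ℂ ((l → F) → ℂ)} (h : ∀ v, S * om ψ v = om ψ v * S) :
    ∃ c : ℂ, S = c • 1 := by
  obtain ⟨b, hb⟩ := exists_basis_om (l := l) hψ h2
  have : LinearMap.mulLeft ℂ S = LinearMap.mulRight ℂ S := b.ext fun v => by simp [hb, h]
  obtain ⟨c, _, hc⟩ := End.mem_center_iff.1 (Semigroup.mem_center_iff.2 fun T =>
    (LinearMap.congr_fun this T).symm)
  exact ⟨c, hc⟩

omit hψ in
theorem trace_par : LinearMap.trace ℂ _ (par l F) = 1 := by
  classical
  rw [LinearMap.trace_eq_matrix_trace ℂ (Pi.basisFun ℂ _), Matrix.trace, sum_eq_single 0]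
  · simp [LinearMap.toMatrix_apply, par_apply]
  · intro x _ hx
    have : -x ≠ x := fun e => hx (by
      rw [neg_eq_iff_add_eq_zero, ← two_smul F] at e
      exact (smul_eq_zero.1 e).resolve_left h2)
    simp [LinearMap.toMatrix_apply, par_apply, this]
  · simp

omit hψ in
theorem finrank_par (ε : ℂ) (hε : ε * ε = 1) : 2 * (finrank ℂ ((par l F).eigenspace ε) : ℂ) =
    Fintype.card F ^ Fintype.card l + ε := by
  have : LinearMap.IsProj ((par l F).eigenspace ε) ((2 : ℂ)⁻¹ • (1 + ε • par l F)) :=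
    ⟨fun f => End.mem_eigenspace_iff.2 (by
      ext x
      simp only [par_apply, LinearMap.smul_apply, LinearMap.add_apply, End.one_apply, Pi.smul_apply,
        Pi.add_apply, neg_neg, smul_eq_mul]
      linear_combination (-2⁻¹ * f (-x)) * hε), fun f hf => by
      rw [LinearMap.smul_apply, LinearMap.add_apply, LinearMap.smul_apply,
        End.mem_eigenspace_iff.1 hf, smul_smul, hε, one_smul, End.one_apply, ← two_smul ℂ,
        smul_smul]
      simp⟩
  rw [← this.trace, map_smul, map_add, map_smul, trace_par h2]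
  simp

theorem exists_weil : ∃ ρ : UG (spB l F) →* End ℂ ((l → F) → ℂ),
    (∀ g v, ρ g * om ψ v = om ψ (g.1 v) * ρ g) ∧ ∀ g, par l F * ρ g = ρ g * par l F := by
  have uniq : ∀ (g : UG (spB l F)) (T T' : End ℂ ((l → F) → ℂ)), IsUnit T →
      (∀ v, T * om ψ v = om ψ (g.1 v) * T) → (∀ v, T' * om ψ v = om ψ (g.1 v) * T') →
      ∃ c : ℂ, T' = c • T := by
    rintro g _ T' ⟨T, rfl⟩ h h'
    obtain ⟨c, hc⟩ := scalar_of_comm hψ h2 (S := T⁻¹.1 * T') fun v => by
      rw [mul_assoc, h', Units.inv_mul_eq_iff_eq_mul, ← mul_assoc, ← mul_assoc, h,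
        Units.mul_inv_cancel_right]
    exact ⟨c, by rwa [Units.inv_mul_eq_iff_eq_mul, mul_smul_comm, mul_one] at hc⟩
  have hpar : ∀ (g : UG (spB l F)) (T : End ℂ ((l → F) → ℂ)), IsUnit T →
      (∀ v, T * om ψ v = om ψ (g.1 v) * T) → par l F * T = T * par l F := by
    rintro g _ ⟨T, rfl⟩ h
    obtain ⟨c, hc⟩ := uniq g T (par l F * T * par l F) T.isUnit h fun v => by
      rw [mul_assoc, par_mul_om, ← mul_assoc, mul_assoc (par l F), h, ← mul_assoc, par_mul_om,
        map_neg, neg_neg]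
      simp only [mul_assoc]
    have h1 : par l F * T = c • (T * par l F) := by
      rw [← smul_mul_assoc, ← hc, mul_assoc _ (par l F), par_mul_par, mul_one]
    have h3 : LinearMap.trace ℂ _ (par l F * T.1 * T⁻¹.1) = c := by
      rw [h1, smul_mul_assoc, map_smul, LinearMap.trace_mul_comm, Units.inv_mul_cancel_left,
        trace_par h2, smul_eq_mul, mul_one]
    rw [Units.mul_inv_cancel_right, trace_par h2] at h3
    rw [h1, ← h3, one_smul]
  have hmap : ∀ (ε : ℂ) (g : UG (spB l F)) (T : End ℂ ((l → F) → ℂ)), IsUnit T →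
      (∀ v, T * om ψ v = om ψ (g.1 v) * T) → ∀ x ∈ (par l F).eigenspace ε,
      T x ∈ (par l F).eigenspace ε := fun ε g T h1 h x hx => by
    rw [End.mem_eigenspace_iff] at hx ⊢
    rw [← End.mul_apply, hpar g T h1 h, End.mul_apply, hx, map_smul]
  obtain ⟨ρ, hρ⟩ := exists_normalize (A := (par l F).eigenspace 1) (C := (par l F).eigenspace (-1))
    (by
      have h3 := finrank_par (l := l) h2 1 (by simp)
      have h4 := finrank_par (l := l) h2 (-1) (by simp)
      exact_mod_cast (show (finrank ℂ ((par l F).eigenspace 1) : ℂ) =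
        finrank ℂ ((par l F).eigenspace (-1)) + 1 by linear_combination (h3 - h4) / 2))
    (fun (g : UG (spB l F)) T => ∀ v, T * om ψ v = om ψ (g.1 v) * T) (exists_intertwiner hψ h2) uniq
    (fun g h T S hT hS v => by rw [mul_assoc, hS, ← mul_assoc, hT, mul_assoc]; rfl)
    (fun v => by simp) (fun g T c h v => by rw [smul_mul_assoc, h, mul_smul_comm])
    (hmap 1) (hmap (-1))
  exact ⟨ρ, hρ, fun g => hpar g _ ((Group.isUnit g).map ρ) (hρ g)⟩

/-- A non-trivial representation of degree `(q ^ n - 1) / 2`. -/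
theorem exists_weil_neg [Nontrivial l] : ∃ (M : Submodule ℂ ((l → F) → ℂ))
    (ρ : UG (spB l F) →* End ℂ M), ρ ≠ 1 ∧
      2 * finrank ℂ M + 1 = Fintype.card F ^ Fintype.card l := by
  classical
  obtain ⟨ρ, h3, h4⟩ := exists_weil (l := l) hψ h2
  let W : Subrepresentation ρ := ⟨(par l F).eigenspace (-1), fun g x hx => by
    rw [End.mem_eigenspace_iff] at hx ⊢
    rw [← End.mul_apply, h4, End.mul_apply, hx, map_smul]⟩
  refine ⟨_, W.toRepresentation, fun h => ?_, by
    exact_mod_cast (show 2 * (finrank ℂ ((par l F).eigenspace (-1)) : ℂ) + 1 =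
      Fintype.card F ^ Fintype.card l by linear_combination finrank_par (l := l) h2 (-1) (by simp))⟩
  have h5 : ∀ g, ∀ f ∈ (par l F).eigenspace (-1), ρ g f = f := fun g f hf =>
    congrArg Subtype.val (LinearMap.congr_fun (DFunLike.congr_fun h g) ⟨f, hf⟩)
  obtain ⟨i, j, hij⟩ := exists_pair_ne l
  obtain ⟨t, ht⟩ := AddChar.ne_one_iff.1 hψ
  have ht0 : t / 2 ≠ 0 := div_ne_zero (by rintro rfl; simp at ht) h2
  obtain ⟨g, hg⟩ := (sd_spB (l := l) (F := F)).witt_one (x := Pi.single (.inr i) (t / 2))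
    (y := Pi.single (.inr j) 1) (by simpa using ht0) (by simp)
    (by rw [sd_spB.self_eq_zero rfl, sd_spB.self_eq_zero rfl])
  set x : l → F := Pi.single i 1 with hx
  have hx' : -x ≠ x := fun e => h2 (by have := congrFun e i; simp [hx] at this; linear_combination -this)
  set f : (l → F) → ℂ := Pi.single x 1 - Pi.single (-x) 1 with hf
  have hf1 : f ∈ (par l F).eigenspace (-1) := End.mem_eigenspace_iff.2 (by
    ext y
    simp [par_apply, hf, Pi.single_apply, neg_eq_iff_eq_neg])
  have h6 : ∀ v, (om ψ v + om ψ (-v)) f ∈ (par l F).eigenspace (-1) := fun v => by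
    rw [End.mem_eigenspace_iff, ← End.mul_apply, mul_add, par_mul_om, par_mul_om, neg_neg, add_comm,
      ← add_mul, End.mul_apply, End.mem_eigenspace_iff.1 hf1, map_smul]
  have h7 := h5 g _ (h6 (Pi.single (.inr i) (t / 2)))
  rw [← End.mul_apply, mul_add, h3, h3, ← add_mul, End.mul_apply, h5 g f hf1, map_neg, hg] at h7
  have h8 := congrFun h7 x
  simp [om_apply, hf, hx', hx'.symm, Pi.single_apply] at h8
  rw [show 2 * x i * (t / 2) = t by simp [hx, mul_div_cancel₀ _ h2],
    show x j = 0 by simp [hx, hij.symm], mul_zero, neg_zero, AddChar.map_zero_eq_one] at h8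
  have h9 : ψ t * ψ (-t) = 1 := by rw [← AddChar.map_add_eq_mul]; simp
  exact ht (sub_eq_zero.1 (pow_eq_zero_iff (two_ne_zero (α := ℕ)) |>.1 (by
    linear_combination (-ψ t) * h8 - h9)))

omit hψ h2 [Fintype l] [DecidableEq l] [Fintype F] in
theorem isIrreducible_of_bound {G M : Type*} [Group G] [Finite G] [AddCommGroup M] [Module ℂ M]
    [FiniteDimensional ℂ M] (ρ : Representation ℂ G M) (hρ : (ρ : G →* End ℂ M) ≠ 1)
    (h : ∀ W : Subrepresentation ρ, (W.toRepresentation : G →* End ℂ W.toSubmodule) ≠ 1 →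
      finrank ℂ M ≤ finrank ℂ W.toSubmodule) : ρ.IsIrreducible := by
  have key : ∀ W : Subrepresentation ρ, W ≠ ⊤ → ∀ g, ∀ x ∈ W.toSubmodule, ρ g x = x := by
    intro W hW g x hx
    by_contra e
    refine hW (Subrepresentation.toSubmodule_injective (Submodule.eq_top_of_finrank_eq
      (le_antisymm (Submodule.finrank_le _) (h W fun e' => e ?_))))
    exact congrArg Subtype.val (LinearMap.congr_fun (DFunLike.congr_fun e' g) ⟨x, hx⟩)
  have : Nontrivial (Subrepresentation ρ) := ⟨⊥, ⊤, fun e => hρ (MonoidHom.ext fun g =>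
    LinearMap.ext fun x => by
      have : x ∈ (⊥ : Subrepresentation ρ).toSubmodule := e ▸ trivial
      rw [show x = 0 from this]; simp)⟩
  have : NeZero (Nat.card G : ℂ) := ⟨by exact_mod_cast Nat.card_pos.ne'⟩
  refine ⟨fun W => ?_⟩
  by_contra! H
  obtain ⟨W', hW⟩ := exists_isCompl W
  have h1 : W' ≠ ⊤ := by rintro rfl; exact H.1 (eq_bot_of_isCompl_top hW)
  refine hρ (MonoidHom.ext fun g => LinearMap.ext fun x => ?_)
  have : x ∈ W.toSubmodule ⊔ W'.toSubmodule := by
    rw [← Subrepresentation.toSubmodule_sup, hW.sup_eq_top]; trivial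
  obtain ⟨y, hy, z, hz, rfl⟩ := Submodule.mem_sup.1 this
  rw [map_add, key W H.2 g y hy, key W' h1 g z hz]; rfl

end Cfsg.Agent.H7.LS
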